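import Groth.Agent.RG11.StdShrink

/-!
# Reduction of the shrinking theorem to a Noetherian base
-/

universe u

set_option linter.style.haveILetI false

namespace Groth.Agent.RG11

open Polynomial TensorProduct

variable {n : ℕ}

/-- All scalar coefficients of a polynomial in `W n R`. -/
noncomputable def coeffsW {R : Type u} [CommRing R] (F : W n R) : Finset R :=
  open Classical in F.support.biUnion fun i => (F.coeff i).coeffs

theorem mem_range_mapW {R₀ R : Type u} [CommRing R₀] [CommRing R] (φ : R₀ →+* R) (F : W n R)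
    (h : (coeffsW F : Set R) ⊆ Set.range φ) : ∃ F₀ : W n R₀, mapW φ F₀ = F := by
  classical
  refine (Polynomial.mem_map_range (MvPolynomial.map φ)).2 fun i => ?_
  by_cases hi : i ∈ F.support
  · refine MvPolynomial.mem_range_map_iff_coeffs_subset.2 (subset_trans ?_ h)
    exact fun c hc => Finset.mem_biUnion.2 ⟨i, hi, hc⟩
  · rw [Polynomial.notMem_support_iff.1 hi]
    exact zero_mem _

theorem mapW_injective {R₀ R : Type u} [CommRing R₀] [CommRing R] (φ : R₀ →+* R) (hφ : Function.Injective φ) :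
    Function.Injective (mapW (n := n) φ) :=
  Polynomial.map_injective _ (MvPolynomial.map_injective φ hφ)

/-- Clearing denominators of a polynomial over `κ(p)`. -/
theorem exists_lift_mul {R : Type u} [CommRing R] (p : Ideal R) [p.IsPrime]
    (a : MvPolynomial (Fin n) p.ResidueField) :
    ∃ (s : R) (α : MvPolynomial (Fin n) R), s ∉ p ∧
      MvPolynomial.map (algebraMap R p.ResidueField) α = MvPolynomial.C (algebraMap R p.ResidueField s) * a := by
  induction a using MvPolynomial.induction_on with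
  | C c =>
    obtain ⟨r, s, hs, rfl⟩ := IsFractionRing.div_surjective (R ⧸ p) c
    obtain ⟨r, rfl⟩ := Ideal.Quotient.mk_surjective r
    obtain ⟨s, rfl⟩ := Ideal.Quotient.mk_surjective s
    have hs' : s ∉ p := fun h => nonZeroDivisors.ne_zero hs (Ideal.Quotient.eq_zero_iff_mem.2 h)
    refine ⟨s, MvPolynomial.C r, hs', ?_⟩
    rw [MvPolynomial.map_C, ← map_mul, Ideal.algebraMap_quotient_residueField_mk,
      Ideal.algebraMap_quotient_residueField_mk,
      mul_div_cancel₀ _ (fun h => hs' (Ideal.algebraMap_residueField_eq_zero.1 h))]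
  | add a b ha hb =>
    obtain ⟨s, α, hs, hα⟩ := ha
    obtain ⟨t, β, ht, hβ⟩ := hb
    refine ⟨s * t, MvPolynomial.C t * α + MvPolynomial.C s * β, Ideal.IsPrime.mul_notMem ‹_› hs ht, ?_⟩
    simp only [map_add, map_mul, MvPolynomial.map_C, hα, hβ]
    ring
  | mul_X a i ha =>
    obtain ⟨s, α, hs, hα⟩ := ha
    exact ⟨s, α * MvPolynomial.X i, hs, by simp only [map_mul, MvPolynomial.map_X, hα]; ring⟩

/-- Purely transcendental extensions have no finite constant extensions. -/
theorem isDomain_tensor_adjoin {k L K : Type u} [Field k] [Field L] [Algebra k L] [Field K] [Algebra k K]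
    {ι : Type} [Finite ι] (v : ι → L) (hv : AlgebraicIndependent k v) :
    IsDomain (↥(IntermediateField.adjoin k (Set.range v)) ⊗[k] K) := by
  haveI : IsDomain (K ⊗[k] MvPolynomial ι k) :=
    (MvPolynomial.scalarRTensorAlgEquiv (R := k) (N := K) (σ := ι)).toRingEquiv.injective.isDomain
      (MvPolynomial.scalarRTensorAlgEquiv (R := k) (N := K) (σ := ι)).toRingEquiv.toRingHom
  haveI : IsDomain (MvPolynomial ι k ⊗[k] K) :=
    (Algebra.TensorProduct.comm k (MvPolynomial ι k) K).toRingEquiv.injective.isDomain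
      (Algebra.TensorProduct.comm k (MvPolynomial ι k) K).toRingEquiv.toRingHom
  haveI := isDomain_tensor_fraction k (MvPolynomial ι k) (FractionRing (MvPolynomial ι k)) K
  let e := Algebra.TensorProduct.congr hv.aevalEquivField (AlgEquiv.refl (R := k) (A₁ := K))
  exact e.symm.toRingEquiv.injective.isDomain e.symm.toRingEquiv.toRingHom

/-- Transport of geometrically integral fibres along an isomorphism. -/
theorem geomIntegralFibres_of_equiv {R S S' : Type u} [CommRing R] [CommRing S] [CommRing S'] [Algebra R S]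
    [Algebra R S'] (e : S ≃ₐ[R] S') (h : FlatCA.GeomIntegralFibres R S) : FlatCA.GeomIntegralFibres R S' := by
  rw [geomIntegralFibres_iff] at h ⊢
  intro K _ _
  haveI := h K
  let e' := Algebra.TensorProduct.congr (AlgEquiv.refl (R := R) (A₁ := K)) e.symm
  exact e'.toRingEquiv.injective.isDomain e'.toRingEquiv.toRingHom

theorem ext_pair {T : Type u} [CommRing T] {P P' : StandardEtalePair T} (hf : P.f = P'.f) (hg : P.g = P'.g) :
    P = P' := by
  obtain ⟨f, _, g, _⟩ := P
  obtain ⟨f', _, g', _⟩ := P'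
  simp only at hf hg
  subst hf hg
  rfl

/-- Base change of the Noetherian solution to a larger base. -/
theorem std_shrink_baseChange {R₀ R : Type u} [CommRing R₀] [CommRing R] [Algebra R₀ R]
    (Q₀ : StandardEtalePair (MvPolynomial (Fin n) R₀)) (Q : StandardEtalePair (MvPolynomial (Fin n) R))
    (hQ : mapPair Q₀ (algebraMap R₀ R) = Q) (p : Ideal R) [p.IsPrime]
    (L : Type u) [Field L] [Algebra p.ResidueField L] (u : Fin n → L) (x : L)
    (R₁ : Type u) [CommRing R₁] [Algebra R₀ R₁] [Algebra.Etale R₀ R₁] (θ₁ : R₁ →+* p.ResidueField)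
    (hθ₁ : θ₁.comp (algebraMap R₀ R₁) = (algebraMap R p.ResidueField).comp (algebraMap R₀ R)) (G₁ : W n R₁)
    (hG : evW ((algebraMap p.ResidueField L).comp θ₁) u x G₁ ≠ 0)
    (hgeom : FlatCA.GeomIntegralFibres R₁ (mulPair (mapPair Q₀ (algebraMap R₀ R₁)) G₁).Ring)
    [Module.Projective R₁ (mulPair (mapPair Q₀ (algebraMap R₀ R₁)) G₁).Ring] :
    ∃ (R' : Type u) (_ : CommRing R') (_ : Algebra R R') (θ : R' →ₐ[R] p.ResidueField) (G : W n R'),
      Algebra.Etale R R' ∧
      evW ((algebraMap p.ResidueField L).comp θ.toRingHom) u x G ≠ 0 ∧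
      FlatCA.GeomIntegralFibres R' (mulPair (mapPair Q (algebraMap R R')) G).Ring ∧
      Module.Projective R' (mulPair (mapPair Q (algebraMap R R')) G).Ring := by
  let R' := R ⊗[R₀] R₁
  let iR : R₁ →+* R' := (Algebra.TensorProduct.includeRight : R₁ →ₐ[R₀] R ⊗[R₀] R₁).toRingHom
  letI : Algebra R₀ p.ResidueField := ((algebraMap R p.ResidueField).comp (algebraMap R₀ R)).toAlgebra
  haveI : IsScalarTower R₀ R p.ResidueField := IsScalarTower.of_algebraMap_eq fun _ => rfl
  let θ₁a : R₁ →ₐ[R₀] p.ResidueField := { θ₁ with commutes' := RingHom.congr_fun hθ₁ }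
  let θ : R' →ₐ[R] p.ResidueField :=
    Algebra.TensorProduct.lift (Algebra.ofId R p.ResidueField) θ₁a fun _ _ => .all _ _
  have hθ : θ.toRingHom.comp iR = θ₁ := RingHom.ext fun a => by
    show Algebra.TensorProduct.lift (Algebra.ofId R p.ResidueField) θ₁a (fun _ _ => .all _ _) (1 ⊗ₜ[R₀] a) = θ₁ a
    rw [Algebra.TensorProduct.lift_tmul, map_one, one_mul]
    rfl
  refine ⟨R', inferInstance, inferInstance, θ, mapW iR G₁, inferInstance, ?_, ?_⟩
  · rw [evW_mapW, RingHom.comp_assoc, hθ]
    exact hG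
  letI : Algebra R₁ R' := iR.toAlgebra
  haveI : IsScalarTower R₀ R₁ R' := IsScalarTower.of_algebraMap_eq fun a =>
    ((Algebra.TensorProduct.includeRight : R₁ →ₐ[R₀] R ⊗[R₀] R₁).commutes a).symm
  obtain ⟨e⟩ := nonempty_baseEquiv (A := R') (mulPair (mapPair Q₀ (algebraMap R₀ R₁)) G₁)
  have hcomp : (algebraMap R₁ R').comp (algebraMap R₀ R₁) = (algebraMap R R').comp (algebraMap R₀ R) := by
    rw [← IsScalarTower.algebraMap_eq, IsScalarTower.algebraMap_eq R₀ R R']
  have hpair : mapPair (mulPair (mapPair Q₀ (algebraMap R₀ R₁)) G₁) (algebraMap R₁ R') =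
      mulPair (mapPair Q (algebraMap R R')) (mapW iR G₁) := by
    subst hQ
    refine ext_pair ?_ ?_
    · show mapW (algebraMap R₁ R') (mapW (algebraMap R₀ R₁) Q₀.f) =
        mapW (algebraMap R R') (mapW (algebraMap R₀ R) Q₀.f)
      rw [mapW_comp, mapW_comp, hcomp]
    · show mapW (algebraMap R₁ R') (mapW (algebraMap R₀ R₁) Q₀.g * G₁) =
        mapW (algebraMap R R') (mapW (algebraMap R₀ R) Q₀.g) * mapW iR G₁
      rw [map_mul, mapW_comp, mapW_comp, hcomp]
      rfl
  rw [← hpair]
  exact ⟨geomIntegralFibres_of_equiv e (geomIntegralFibres_baseChange hgeom R'),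
    Module.Projective.of_equiv e.toLinearEquiv⟩

/-- A point with purely transcendental residue field over `p` has, after an étale neighbourhood of `p`,
a standard étale neighbourhood with geometrically integral fibres, projective over the base. -/
theorem exists_std_shrink {R : Type u} [CommRing R] (Q : StandardEtalePair (MvPolynomial (Fin n) R))
    (p : Ideal R) [p.IsPrime]
    (L : Type u) [Field L] [Algebra p.ResidueField L] [Algebra R L] [IsScalarTower R p.ResidueField L]
    (u : Fin n → L) (x : L) (S : Set (Fin n)) (hu : AlgebraicIndependent p.ResidueField fun i : S => u i)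
    (hu0 : ∀ i ∉ S, u i = 0)
    (hx : ∃ a b : MvPolynomial (Fin n) p.ResidueField,
      MvPolynomial.aeval u b ≠ 0 ∧ x * MvPolynomial.aeval u b = MvPolynomial.aeval u a)
    (hf : evW (algebraMap R L) u x Q.f = 0) (hg : evW (algebraMap R L) u x Q.g ≠ 0) :
    ∃ (R' : Type u) (_ : CommRing R') (_ : Algebra R R') (θ : R' →ₐ[R] p.ResidueField) (G : W n R'),
      Algebra.Etale R R' ∧
      evW ((algebraMap p.ResidueField L).comp θ.toRingHom) u x G ≠ 0 ∧
      FlatCA.GeomIntegralFibres R' (mulPair (mapPair Q (algebraMap R R')) G).Ring ∧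
      Module.Projective R' (mulPair (mapPair Q (algebraMap R R')) G).Ring := by
  classical
  obtain ⟨p₁, p₂, m, e⟩ := Q.cond
  obtain ⟨a, b, hb0, hxab⟩ := hx
  obtain ⟨sa, α, hsa, hα⟩ := exists_lift_mul p a
  obtain ⟨sb, β, hsb, hβ⟩ := exists_lift_mul p b
  let co : Finset R := coeffsW Q.f ∪ coeffsW Q.g ∪ coeffsW p₁ ∪ coeffsW p₂ ∪ α.coeffs ∪ β.coeffs ∪ {sa, sb}
  let R₀ := Algebra.adjoin ℤ (co : Set R)
  haveI : Algebra.FiniteType ℤ R₀ :=
    R₀.fg_iff_finiteType.1 (Subalgebra.fg_adjoin_finset co)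
  haveI : IsNoetherianRing R₀ := Algebra.FiniteType.isNoetherianRing ℤ R₀
  have hmem : ∀ c ∈ co, c ∈ Set.range (algebraMap R₀ R) := fun c hc => ⟨⟨c, Algebra.subset_adjoin hc⟩, rfl⟩
  have hinj : Function.Injective (algebraMap R₀ R) := Subtype.val_injective
  obtain ⟨f₀, hf₀⟩ := mem_range_mapW (algebraMap R₀ R) Q.f fun c hc => hmem c (by simp [co, Finset.mem_coe.1 hc])
  obtain ⟨g₀, hg₀⟩ := mem_range_mapW (algebraMap R₀ R) Q.g fun c hc => hmem c (by simp [co, Finset.mem_coe.1 hc])
  obtain ⟨q₁, hq₁⟩ := mem_range_mapW (algebraMap R₀ R) p₁ fun c hc => hmem c (by simp [co, Finset.mem_coe.1 hc])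
  obtain ⟨q₂, hq₂⟩ := mem_range_mapW (algebraMap R₀ R) p₂ fun c hc => hmem c (by simp [co, Finset.mem_coe.1 hc])
  obtain ⟨α₀, hα₀⟩ := MvPolynomial.mem_range_map_iff_coeffs_subset.2
    (fun c hc => hmem c (by simp [co, Finset.mem_coe.1 hc]) : (α.coeffs : Set R) ⊆ Set.range (algebraMap R₀ R))
  obtain ⟨β₀, hβ₀⟩ := MvPolynomial.mem_range_map_iff_coeffs_subset.2
    (fun c hc => hmem c (by simp [co, Finset.mem_coe.1 hc]) : (β.coeffs : Set R) ⊆ Set.range (algebraMap R₀ R))
  obtain ⟨sa₀, hsa₀⟩ := hmem sa (by simp [co])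
  obtain ⟨sb₀, hsb₀⟩ := hmem sb (by simp [co])
  let Q₀ : StandardEtalePair (MvPolynomial (Fin n) R₀) :=
    { f := f₀
      monic_f := Polynomial.monic_of_injective (MvPolynomial.map_injective _ hinj) (by
        rw [show f₀.map (MvPolynomial.map (algebraMap R₀ R)) = Q.f from hf₀]; exact Q.monic_f)
      g := g₀
      cond := ⟨q₁, q₂, m, mapW_injective _ hinj (by
        rw [map_add, map_mul, map_mul, map_pow, hf₀, hg₀, hq₁, hq₂, ← e]
        congr 2
        show (derivative f₀).map (MvPolynomial.map (algebraMap R₀ R)) = derivative Q.f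
        rw [← Polynomial.derivative_map, show f₀.map (MvPolynomial.map (algebraMap R₀ R)) = Q.f from hf₀])⟩ }
  let p₀ := p.comap (algebraMap R₀ R)
  let κι : p₀.ResidueField →+* p.ResidueField := Ideal.ResidueField.map p₀ p (algebraMap R₀ R) rfl
  letI : Algebra p₀.ResidueField L := ((algebraMap p.ResidueField L).comp κι).toAlgebra
  have hκι : ∀ c : R₀, κι (algebraMap R₀ p₀.ResidueField c) = algebraMap R p.ResidueField (algebraMap R₀ R c) :=
    fun c => Ideal.ResidueField.map_algebraMap _ _ _ _ c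
  haveI : IsScalarTower R₀ p₀.ResidueField L := IsScalarTower.of_algebraMap_eq fun c => by
    show algebraMap R L (algebraMap R₀ R c) = algebraMap p.ResidueField L (κι (algebraMap R₀ p₀.ResidueField c))
    rw [hκι]
    exact IsScalarTower.algebraMap_apply R p.ResidueField L _
  letI : Algebra p₀.ResidueField p.ResidueField := κι.toAlgebra
  haveI : IsScalarTower p₀.ResidueField p.ResidueField L := IsScalarTower.of_algebraMap_eq fun _ => rfl
  have hu' : AlgebraicIndependent p₀.ResidueField fun i : S => u i :=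
    hu.restrictScalars κι.injective
  let L₀ := IntermediateField.adjoin p₀.ResidueField (Set.range fun i : S => u i)
  have huL : ∀ i, u i ∈ L₀ := fun i => by
    by_cases hi : i ∈ S
    · exact IntermediateField.subset_adjoin _ _ ⟨⟨i, hi⟩, rfl⟩
    · rw [hu0 i hi]; exact zero_mem _
  have hevL : ∀ F : MvPolynomial (Fin n) R₀, MvPolynomial.eval₂ (algebraMap R₀ L) u F ∈ L₀ := fun F => by
    induction F using MvPolynomial.induction_on with
    | C c =>
      rw [MvPolynomial.eval₂_C, IsScalarTower.algebraMap_apply R₀ p₀.ResidueField L]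
      exact L₀.algebraMap_mem _
    | add F G hF hG => rw [MvPolynomial.eval₂_add]; exact add_mem hF hG
    | mul_X F i hF => rw [MvPolynomial.eval₂_mul, MvPolynomial.eval₂_X]; exact mul_mem hF (huL i)
  have hev : ∀ (c : MvPolynomial (Fin n) p.ResidueField) (s : R) (γ : MvPolynomial (Fin n) R)
      (γ₀ : MvPolynomial (Fin n) R₀),
      MvPolynomial.map (algebraMap R p.ResidueField) γ = MvPolynomial.C (algebraMap R p.ResidueField s) * c →
      MvPolynomial.map (algebraMap R₀ R) γ₀ = γ →
      MvPolynomial.eval₂ (algebraMap R₀ L) u γ₀ = algebraMap R L s * MvPolynomial.aeval u c := by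
    intro c s γ γ₀ hγ hγ₀
    have h1 := congrArg (MvPolynomial.aeval (R := p.ResidueField) u) hγ
    rw [map_mul, MvPolynomial.aeval_C, ← IsScalarTower.algebraMap_apply, MvPolynomial.aeval_map_algebraMap,
      ← hγ₀, MvPolynomial.aeval_def, MvPolynomial.eval₂_map] at h1
    exact h1
  have ha' := hev a sa α α₀ hα hα₀
  have hb' := hev b sb β β₀ hβ hβ₀
  have hs0 : ∀ s : R, s ∉ p → algebraMap R L s ≠ 0 := fun s hs => by
    rw [IsScalarTower.algebraMap_apply R p.ResidueField L]
    exact (_root_.map_ne_zero _).2 fun h => hs (Ideal.algebraMap_residueField_eq_zero.1 h)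
  have hsL : ∀ (s : R) (s₀ : R₀), algebraMap R₀ R s₀ = s → algebraMap R L s ∈ L₀ := fun s s₀ hs => by
    have := hevL (MvPolynomial.C s₀)
    rw [MvPolynomial.eval₂_C] at this
    rw [← hs]
    exact this
  have hxL : x ∈ L₀ := by
    have hx' : x = MvPolynomial.eval₂ (algebraMap R₀ L) u α₀ * algebraMap R L sb /
        (MvPolynomial.eval₂ (algebraMap R₀ L) u β₀ * algebraMap R L sa) := by
      rw [eq_div_iff (mul_ne_zero (hb'.symm ▸ mul_ne_zero (hs0 sb hsb) hb0) (hs0 sa hsa)), ha', hb']
      linear_combination (algebraMap R L sa * algebraMap R L sb) * hxab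
    rw [hx']
    exact div_mem (mul_mem (hevL α₀) (hsL sb sb₀ hsb₀)) (mul_mem (hevL β₀) (hsL sa sa₀ hsa₀))
  have hval : L₀.val.toRingHom.comp (algebraMap R₀ L₀) = algebraMap R₀ L :=
    RingHom.ext fun c => rfl
  let u₀ : Fin n → L₀ := fun i => ⟨u i, huL i⟩
  let x₀ : L₀ := ⟨x, hxL⟩
  have htr : ∀ F : W n R₀, L₀.val.toRingHom (evW (algebraMap R₀ L₀) u₀ x₀ F) =
      evW (algebraMap R L) u x (mapW (algebraMap R₀ R) F) := fun F => by
    rw [evW_mapW]
    rw [map_evW, hval]
    rfl
  obtain ⟨R₁, _, _, θ₁, G₁, het, hG₁, hgeom, hproj⟩ := exists_std_shrink_noeth Q₀ p₀ L₀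
    (fun K _ _ _ => isDomain_tensor_adjoin _ hu') u₀ x₀
    (L₀.val.toRingHom.injective (by rw [map_zero, htr, hf₀]; exact hf))
    (fun h => hg (by rw [← hg₀, ← htr, h, map_zero]))
  haveI := het
  haveI := hproj
  refine std_shrink_baseChange Q₀ Q (ext_pair hf₀ hg₀) p L u x R₁ (κι.comp θ₁.toRingHom)
    (RingHom.ext fun c => (congrArg κι (θ₁.commutes c)).trans (hκι c)) G₁ ?_ hgeom
  intro h
  refine hG₁ (L₀.val.toRingHom.injective ?_)
  rw [map_zero]
  rw [map_evW, ← h]
  rfl

end Groth.Agent.RG11
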