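import Groth.Agent.RG11.SepModel
import Groth.Agent.RG11.StdGeneral
import Groth.Agent.FlatMisc.SpreadGeomRed

/-!
# Geometric integrality of the generic fibre spreads out
-/

universe u

set_option linter.style.haveILetI false

namespace Groth.Agent.RG11

open TensorProduct

/-- Clearing denominators in `W n`. -/
theorem exists_clearW {n : ℕ} {R A : Type u} [CommRing R] [CommRing A] [Algebra R A] (M : Submonoid R)
    [IsLocalization M A] (F : W n A) : ∃ (m : R) (F₀ : W n R), m ∈ M ∧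
      mapW (algebraMap R A) F₀ = Polynomial.C (MvPolynomial.C (algebraMap R A m)) * F := by
  have hP : ∀ a : MvPolynomial (Fin n) A, ∃ (m : R) (α : MvPolynomial (Fin n) R), m ∈ M ∧
      MvPolynomial.map (algebraMap R A) α = MvPolynomial.C (algebraMap R A m) * a := fun a => by
    induction a using MvPolynomial.induction_on with
    | C c =>
      obtain ⟨⟨α, m⟩, e⟩ := IsLocalization.surj M c
      exact ⟨m, MvPolynomial.C α, m.2, by rw [MvPolynomial.map_C, ← MvPolynomial.C_mul, mul_comm, e]⟩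
    | add a b ha hb =>
      obtain ⟨r, α, hr, e⟩ := ha
      obtain ⟨s, β, hs, e'⟩ := hb
      exact ⟨r * s, MvPolynomial.C s * α + MvPolynomial.C r * β, M.mul_mem hr hs, by
        rw [map_add, map_mul, map_mul, MvPolynomial.map_C, MvPolynomial.map_C, e, e', map_mul, MvPolynomial.C_mul]
        ring⟩
    | mul_X a i ha =>
      obtain ⟨r, α, hr, e⟩ := ha
      exact ⟨r, α * MvPolynomial.X i, hr, by rw [map_mul, MvPolynomial.map_X, e, mul_assoc]⟩
  induction F using Polynomial.induction_on' with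
  | add a b ha hb =>
    obtain ⟨r, α, hr, e⟩ := ha
    obtain ⟨s, β, hs, e'⟩ := hb
    refine ⟨r * s, Polynomial.C (MvPolynomial.C s) * α + Polynomial.C (MvPolynomial.C r) * β, M.mul_mem hr hs, ?_⟩
    rw [map_add, map_mul, map_mul, e, e', map_mul, MvPolynomial.C_mul, Polynomial.C_mul]
    simp only [mapW, Polynomial.coe_mapRingHom, Polynomial.map_C, MvPolynomial.map_C]
    ring
  | monomial k a =>
    obtain ⟨m, α, hm, e⟩ := hP a
    refine ⟨m, Polynomial.monomial k α, hm, ?_⟩
    simp only [mapW, Polynomial.coe_mapRingHom, Polynomial.map_monomial, e, Polynomial.C_mul_monomial]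

/-- Multiplying the second polynomial by a unit does not change a standard étale algebra. -/
theorem nonempty_equiv_of_unit {T : Type u} [CommRing T] (P P' : StandardEtalePair T) (hf : P.f = P'.f) (c : T)
    (hc : IsUnit c) (hg : P'.g = Polynomial.C c * P.g) : Nonempty (P.Ring ≃ₐ[T] P'.Ring) := by
  have h₁ : P.HasMap P'.X := ⟨by rw [hf]; exact P'.hasMap_X.1, by
    have := P'.hasMap_X.2
    rw [hg, map_mul] at this
    exact isUnit_of_mul_isUnit_right this⟩
  have h₂ : P'.HasMap P.X := ⟨by rw [← hf]; exact P.hasMap_X.1, by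
    rw [hg, map_mul, Polynomial.aeval_C]
    exact (hc.map _).mul P.hasMap_X.2⟩
  exact ⟨AlgEquiv.ofAlgHom (P.lift P'.X h₁) (P'.lift P.X h₂)
    (StandardEtalePair.hom_ext (by simp [StandardEtalePair.lift_X]))
    (StandardEtalePair.hom_ext (by simp [StandardEtalePair.lift_X]))⟩

section CommonLocalization

variable {R₀ D L : Type u} [CommRing R₀] [CommRing D] [Field L] [Algebra R₀ D] [Algebra R₀ L]

/-- The image of a principal localisation in a field. -/
theorem exists_away_range (ι : D →ₐ[R₀] L) (hι : Function.Injective ι) (c : D) (hc : c ≠ 0) :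
    ∃ j : Localization.Away c →ₐ[R₀] L, Function.Injective j ∧
      (∀ d, j (algebraMap D (Localization.Away c) d) = ι d) ∧
      j.range = Algebra.adjoin R₀ (Set.range ι ∪ {(ι c)⁻¹}) := by
  have hu : IsUnit (ι c) := isUnit_iff_ne_zero.2 fun h => hc (hι (h.trans (map_zero ι).symm))
  let j : Localization.Away c →ₐ[R₀] L := IsLocalization.Away.liftAlgHom c (f := ι) hu
  have hj : ∀ d, j (algebraMap D (Localization.Away c) d) = ι d := fun d =>
    IsLocalization.Away.lift_eq c (g := ι.toRingHom) hu d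
  have hmk : ∀ (z : Localization.Away c), ∃ (d : D) (k : ℕ), j z = ι d * (ι c)⁻¹ ^ k := fun z => by
    obtain ⟨⟨d, ⟨_, k, rfl⟩⟩, hz⟩ := IsLocalization.surj (Submonoid.powers c) z
    refine ⟨d, k, ?_⟩
    have := congrArg j hz
    simp only [map_mul, hj, map_pow] at this
    rw [← this, inv_pow, mul_assoc, mul_inv_cancel₀ (pow_ne_zero _ hu.ne_zero), mul_one]
  refine ⟨j, fun a b hab => ?_, hj, le_antisymm ?_ (Algebra.adjoin_le ?_)⟩
  · obtain ⟨⟨d, ⟨_, k, rfl⟩⟩, hz⟩ := IsLocalization.surj (Submonoid.powers c) (a - b)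
    have h0 := congrArg j hz
    simp only [map_mul, map_sub, hab, sub_self, zero_mul, hj] at h0
    have hd : d = 0 := hι (h0.symm.trans (map_zero ι).symm)
    rw [show ((d, _) : D × _).1 = d from rfl, hd, map_zero] at hz
    exact sub_eq_zero.1 ((IsLocalization.map_units (Localization.Away c) (⟨c ^ k, k, rfl⟩ : Submonoid.powers c)).mul_left_eq_zero.1 hz)
  · rintro _ ⟨z, rfl⟩
    obtain ⟨d, k, e⟩ := hmk z
    show j z ∈ _
    rw [e]
    exact mul_mem (Algebra.subset_adjoin (Or.inl ⟨d, rfl⟩))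
      (pow_mem (Algebra.subset_adjoin (R := R₀) (show (ι c)⁻¹ ∈ Set.range ι ∪ {(ι c)⁻¹} from Or.inr rfl)) k)
  · rintro _ (⟨d, rfl⟩ | rfl)
    · exact ⟨_, hj d⟩
    · exact ⟨IsLocalization.Away.invSelf c, eq_inv_of_mul_eq_one_right (by
        show ι c * j (IsLocalization.Away.invSelf c) = 1
        rw [← hj, ← map_mul, IsLocalization.Away.mul_invSelf, map_one])⟩

/-- A finitely generated subalgebra of the fraction field lies in a principal localisation. -/
theorem exists_le_adjoin_inv [IsDomain D] (ι : D →ₐ[R₀] L) (hι : Function.Injective ι)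
    (hfr : ∀ z : L, ∃ a b : D, b ≠ 0 ∧ z * ι b = ι a) (S : Subalgebra R₀ L) (hS : S.FG) :
    ∃ c : D, c ≠ 0 ∧ S ≤ Algebra.adjoin R₀ (Set.range ι ∪ {(ι c)⁻¹}) := by
  classical
  obtain ⟨s, rfl⟩ := hS
  choose a b hb hab using hfr
  refine ⟨∏ z ∈ s, b z, Finset.prod_ne_zero_iff.2 fun z _ => hb z, Algebra.adjoin_le fun z hz => ?_⟩
  have hne : ι (∏ z ∈ s, b z) ≠ 0 := fun h =>
    Finset.prod_ne_zero_iff.2 (fun z _ => hb z) (hι (h.trans (map_zero ι).symm))
  have : z = ι (a z * ∏ w ∈ s.erase z, b w) * (ι (∏ z ∈ s, b z))⁻¹ := by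
    rw [eq_mul_inv_iff_mul_eq₀ hne, ← Finset.mul_prod_erase s b hz, map_mul, ← mul_assoc, hab, map_mul]
  rw [this]
  exact mul_mem (Algebra.subset_adjoin (Or.inl ⟨_, rfl⟩)) (Algebra.subset_adjoin (Or.inr rfl))

/-- Two finitely generated algebras with the same fraction field have a common principal localisation. -/
theorem exists_common_localization [IsDomain D] [Algebra.FiniteType R₀ D] {B : Type u} [CommRing B] [IsDomain B]
    [Algebra R₀ B] [Algebra.FiniteType R₀ B]
    (ιD : D →ₐ[R₀] L) (hιD : Function.Injective ιD) (hD : ∀ z : L, ∃ a b : D, b ≠ 0 ∧ z * ιD b = ιD a)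
    (ιB : B →ₐ[R₀] L) (hιB : Function.Injective ιB) (hB : ∀ z : L, ∃ a b : B, b ≠ 0 ∧ z * ιB b = ιB a) :
    ∃ (c : D) (b : B), c ≠ 0 ∧ b ≠ 0 ∧ Nonempty (Localization.Away c ≃ₐ[R₀] Localization.Away b) := by
  obtain ⟨c₀, hc₀, hle⟩ := exists_le_adjoin_inv ιD hιD hD ιB.range
    (by rw [← Algebra.map_top]; exact (Algebra.FiniteType.out (R := R₀) (A := B)).map ιB)
  obtain ⟨j₀, -, hj, hj₀⟩ := exists_away_range ιD hιD c₀ hc₀
  obtain ⟨b, hb, hle'⟩ := exists_le_adjoin_inv ιB hιB hB j₀.range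
    (by rw [← Algebra.map_top]; exact (Algebra.FiniteType.out (R := R₀) (A := Localization.Away c₀)).map j₀)
  have hne : ∀ {d : D}, d ≠ 0 → ιD d ≠ 0 := fun hd h => hd (hιD (h.trans (map_zero ιD).symm))
  have hneB : ιB b ≠ 0 := fun h => hb (hιB (h.trans (map_zero ιB).symm))
  rw [hj₀] at hle'
  obtain ⟨z, hz⟩ : ιB b ∈ j₀.range := hj₀.symm ▸ hle ⟨b, rfl⟩
  obtain ⟨⟨n, ⟨_, k, rfl⟩⟩, hn⟩ := IsLocalization.surj (Submonoid.powers c₀) z
  have hn' : ιB b * ιD c₀ ^ k = ιD n := by
    have := congrArg j₀ hn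
    simp only [map_mul, hj, map_pow] at this
    rw [← hz]; exact this
  have hn0 : n ≠ 0 := fun h => mul_ne_zero hneB (pow_ne_zero k (hne hc₀)) (by rw [hn', h, map_zero])
  obtain ⟨jD, hjDi, -, hjD⟩ := exists_away_range ιD hιD (c₀ * n) (mul_ne_zero hc₀ hn0)
  obtain ⟨jB, hjBi, -, hjB⟩ := exists_away_range ιB hιB b hb
  set SB := Algebra.adjoin R₀ (Set.range ιB ∪ {(ιB b)⁻¹})
  set SD := Algebra.adjoin R₀ (Set.range ιD ∪ {(ιD (c₀ * n))⁻¹})
  have hinvn : (ιD n)⁻¹ = ιD c₀ * (ιD (c₀ * n))⁻¹ := by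
    rw [map_mul, mul_inv, mul_inv_cancel_left₀ (hne hc₀)]
  have hsub : Algebra.adjoin R₀ (Set.range ιD ∪ {(ιD c₀)⁻¹}) ≤ SD := by
    refine Algebra.adjoin_le ?_
    rintro _ (⟨d, rfl⟩ | rfl)
    · exact Algebra.subset_adjoin (Or.inl ⟨d, rfl⟩)
    · rw [show (ιD c₀)⁻¹ = ιD n * (ιD (c₀ * n))⁻¹ by
        rw [map_mul, mul_inv, mul_left_comm, mul_inv_cancel₀ (hne hn0), mul_one]]
      exact mul_mem (Algebra.subset_adjoin (Or.inl ⟨n, rfl⟩)) (Algebra.subset_adjoin (Or.inr rfl))
  have heq : SD = SB := by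
    refine le_antisymm (Algebra.adjoin_le ?_) (Algebra.adjoin_le ?_)
    · rintro _ (⟨d, rfl⟩ | rfl)
      · exact hle' (Algebra.subset_adjoin (Or.inl ⟨d, rfl⟩))
      · have hc₀' : (ιD c₀)⁻¹ ∈ SB := hle' (Algebra.subset_adjoin (Or.inr rfl))
        rw [map_mul, ← hn', mul_inv, mul_inv, ← inv_pow]
        exact mul_mem hc₀' (mul_mem (Algebra.subset_adjoin (Or.inr rfl)) (pow_mem hc₀' k))
    · rintro _ (⟨d, rfl⟩ | rfl)
      · exact hsub (hle ⟨d, rfl⟩)
      · rw [show (ιB b)⁻¹ = ιD c₀ ^ k * (ιD n)⁻¹ by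
          rw [← hn', mul_inv, mul_left_comm, mul_inv_cancel₀ (pow_ne_zero k (hne hc₀)), mul_one], hinvn]
        exact mul_mem (pow_mem (Algebra.subset_adjoin (R := R₀)
            (show ιD c₀ ∈ Set.range ιD ∪ {(ιD (c₀ * n))⁻¹} from Or.inl ⟨c₀, rfl⟩)) k)
          (mul_mem (Algebra.subset_adjoin (Or.inl ⟨c₀, rfl⟩)) (Algebra.subset_adjoin (Or.inr rfl)))
  exact ⟨c₀ * n, b, mul_ne_zero hc₀ hn0, hb,
    ⟨((AlgEquiv.ofInjective jD hjDi).trans (Subalgebra.equivOfEq _ _ (by rw [hjD, hjB]; exact heq))).trans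
      (AlgEquiv.ofInjective jB hjBi).symm⟩⟩

end CommonLocalization

/-- The tensor product with a field of a localisation of a domain. -/
theorem isDomain_tensor_away {R₀ B : Type u} [CommRing R₀] [CommRing B] [Algebra R₀ B] (M : Type u) [Field M]
    [Algebra R₀ M] [IsDomain (M ⊗[R₀] B)] (b : B) (hb : ((1 : M) ⊗ₜ[R₀] b : M ⊗[R₀] B) ≠ 0) :
    IsDomain (M ⊗[R₀] Localization.Away b) := by
  haveI : IsDomain (Localization.Away ((1 : M) ⊗ₜ[R₀] b : M ⊗[R₀] B)) :=
    IsLocalization.isDomain_localization (powers_le_nonZeroDivisors_of_noZeroDivisors hb)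
  exact (IsLocalization.Away.tensorProductEquivTMulRight R₀ M b (Localization.Away b)).toRingEquiv.injective.isDomain
    (IsLocalization.Away.tensorProductEquivTMulRight R₀ M b (Localization.Away b)).toRingEquiv.toRingHom

/-- A finite family in the fraction field has a common denominator. -/
theorem exists_common_den {R K : Type u} [CommRing R] [Field K] [Algebra R K] [IsDomain R] [IsFractionRing R K]
    (S : Finset K) : ∃ f : R, f ≠ 0 ∧ ∀ z ∈ S, algebraMap R K f * z ∈ (algebraMap R K).range := by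
  classical
  induction S using Finset.induction_on with
  | empty => exact ⟨1, one_ne_zero, fun z hz => absurd hz (Finset.notMem_empty z)⟩
  | insert z S hzS ih =>
    obtain ⟨c, hc, hcS⟩ := ih
    obtain ⟨⟨a, b⟩, hab⟩ := IsLocalization.surj (nonZeroDivisors R) z
    refine ⟨b * c, mul_ne_zero (nonZeroDivisors.ne_zero b.2) hc, fun w hw => ?_⟩
    rcases Finset.mem_insert.1 hw with rfl | hw
    · exact ⟨c * a, by rw [map_mul, map_mul, ← hab]; ring⟩
    · obtain ⟨d, hd⟩ := hcS w hw
      exact ⟨b * d, by rw [map_mul, map_mul, hd, mul_assoc]⟩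

/-- A point of a finite type algebra with values in the fraction field is defined over a principal open. -/
theorem exists_away_point {R K A : Type u} [CommRing R] [IsDomain R] [Field K] [Algebra R K] [IsFractionRing R K]
    [CommRing A] [Algebra R A] [Algebra.FiniteType R A] (θ : A →ₐ[R] K) :
    ∃ (f : R) (ι : Localization.Away f →ₐ[R] K) (χ : A →ₐ[R] Localization.Away f), f ≠ 0 ∧
      Function.Injective ι ∧ ι.comp χ = θ := by
  classical
  obtain ⟨s, hs⟩ := Algebra.FiniteType.out (R := R) (A := A)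
  obtain ⟨f, hf, hfs⟩ := exists_common_den (R := R) (s.image θ)
  obtain ⟨ι, hι, hιd, hrange⟩ := exists_away_range (Algebra.ofId R K) (IsFractionRing.injective R K) f hf
  have hle : ∀ a, θ a ∈ ι.range := by
    rw [hrange]
    intro a
    have : a ∈ (Algebra.adjoin R (Set.range (Algebra.ofId R K) ∪ {((Algebra.ofId R K) f)⁻¹})).comap θ := by
      refine (Algebra.adjoin_le ?_ : Algebra.adjoin R (s : Set A) ≤ _) (hs ▸ Algebra.mem_top)
      intro g hg
      obtain ⟨d, hd⟩ := hfs (θ g) (Finset.mem_image_of_mem _ hg)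
      show θ g ∈ Algebra.adjoin R (Set.range (Algebra.ofId R K) ∪ {((Algebra.ofId R K) f)⁻¹})
      rw [show θ g = algebraMap R K d * (algebraMap R K f)⁻¹ by
        rw [hd, mul_comm (algebraMap R K f), mul_assoc,
          mul_inv_cancel₀ (by rwa [map_ne_zero_iff _ (IsFractionRing.injective R K)]), mul_one]]
      exact mul_mem (Algebra.subset_adjoin (Or.inl ⟨d, rfl⟩)) (Algebra.subset_adjoin (Or.inr rfl))
    exact this
  exact ⟨f, ι, (AlgEquiv.ofInjective ι hι).symm.toAlgHom.comp (θ.codRestrict ι.range hle), hf, hι,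
    AlgHom.ext fun a => congrArg Subtype.val ((AlgEquiv.ofInjective ι hι).apply_symm_apply ⟨θ a, hle a⟩)⟩

set_option maxHeartbeats 1000000 in
/-- Spreading out geometric integrality, for a domain. -/
theorem exists_spread_domain {R₀ B : Type u} [CommRing R₀] [IsDomain R₀] [IsNoetherianRing R₀] [CommRing B]
    [IsDomain B] [Algebra R₀ B] [Algebra.FiniteType R₀ B] (hinj : Function.Injective (algebraMap R₀ B))
    (h : ∀ (M : Type u) [Field M] [Algebra R₀ M], Function.Injective (algebraMap R₀ M) → IsDomain (M ⊗[R₀] B)) :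
    ∃ f : R₀, f ≠ 0 ∧ ∀ (M : Type u) [Field M] [Algebra R₀ M], algebraMap R₀ M f ≠ 0 → IsDomain (M ⊗[R₀] B) := by
  classical
  let κ := (⊥ : Ideal R₀).ResidueField
  have hκi : Function.Injective (algebraMap R₀ κ) := by
    rw [injective_iff_map_eq_zero]
    exact fun a ha => Ideal.mem_bot.1 (Ideal.algebraMap_residueField_eq_zero.1 ha)
  haveI : FaithfulSMul R₀ κ := (faithfulSMul_iff_algebraMap_injective R₀ κ).2 hκi
  haveI : IsFractionRing R₀ κ := IsFractionRing.of_field R₀ κ fun z => by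
    obtain ⟨a, b, hb, rfl⟩ := IsFractionRing.div_surjective (R₀ ⧸ (⊥ : Ideal R₀)) z
    obtain ⟨a, rfl⟩ := Ideal.Quotient.mk_surjective a
    obtain ⟨b, rfl⟩ := Ideal.Quotient.mk_surjective b
    exact ⟨a, b, by rw [Ideal.algebraMap_quotient_residueField_mk, Ideal.algebraMap_quotient_residueField_mk]⟩
  let L := FractionRing B
  have hBL : Function.Injective (algebraMap B L) := IsFractionRing.injective B L
  have hL : Function.Injective (algebraMap R₀ L) := by
    rw [IsScalarTower.algebraMap_eq R₀ B L]; exact hBL.comp hinj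
  letI : Algebra κ L := (IsFractionRing.lift hL).toAlgebra
  haveI : IsScalarTower R₀ κ L := IsScalarTower.of_algebraMap_eq fun a => (IsFractionRing.lift_algebraMap hL a).symm
  haveI : Algebra.EssFiniteType R₀ L := Algebra.EssFiniteType.comp R₀ B L
  haveI : Algebra.EssFiniteType κ L := Algebra.EssFiniteType.of_comp R₀ κ L
  have hdomL : ∀ (M : Type u) [Field M] [Algebra κ M], IsDomain (L ⊗[κ] M) := fun M _ _ => by
    letI : Algebra R₀ M := ((algebraMap κ M).comp (algebraMap R₀ κ)).toAlgebra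
    haveI : IsScalarTower R₀ κ M := IsScalarTower.of_algebraMap_eq fun _ => rfl
    haveI := h M ((algebraMap κ M).injective.comp hκi)
    haveI : IsDomain (B ⊗[R₀] M) := (Algebra.TensorProduct.comm R₀ B M).toRingEquiv.injective.isDomain
      (Algebra.TensorProduct.comm R₀ B M).toRingEquiv.toRingHom
    haveI : Module.Flat R₀ κ := IsLocalization.flat κ (nonZeroDivisors R₀)
    haveI : Module.Flat R₀ M := Module.Flat.trans R₀ κ M
    haveI := isDomain_tensor_fraction R₀ B L M
    haveI : TensorProduct.CompatibleSMul R₀ κ L M := IsLocalization.tensorProduct_compatibleSMul (nonZeroDivisors R₀) κ L M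
    let e := Algebra.TensorProduct.equivOfCompatibleSMul R₀ κ κ L M
    exact e.toRingEquiv.injective.isDomain e.toRingEquiv.toRingHom
  have hAC : IsDomain (AlgebraicClosure κ ⊗[κ] L) := by
    haveI := hdomL (AlgebraicClosure κ)
    exact (Algebra.TensorProduct.comm κ (AlgebraicClosure κ) L).toRingEquiv.injective.isDomain
      (Algebra.TensorProduct.comm κ (AlgebraicClosure κ) L).toRingEquiv.toRingHom
  obtain ⟨n, u, x, Q, hu, hQf, hQg, hgen⟩ := exists_std_model (R₀ := R₀) (K := κ) (L := L) hAC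
  obtain ⟨R', _, _, θ, G, het, hG, hgeom, -⟩ :=
    exists_std_shrink_noeth Q ⊥ L (fun K _ _ _ => hdomL K) u x hQf hQg
  obtain ⟨f, ι, χ, hf, hι, hιχ⟩ := exists_away_point θ
  obtain ⟨m, G₀, ⟨k, rfl⟩, hG₀⟩ :=
    exists_clearW (Submonoid.powers f) (mapW χ.toRingHom G : W n (Localization.Away f))
  let D := mulPair Q G₀
  -- fibres of `D`
  have hD : ∀ (M : Type u) [Field M] [Algebra R₀ M], algebraMap R₀ M f ≠ 0 → IsDomain (M ⊗[R₀] D.Ring) := by
    intro M _ _ hfM
    let ρ : Localization.Away f →+* M :=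
      IsLocalization.Away.lift f (g := algebraMap R₀ M) (isUnit_iff_ne_zero.2 hfM)
    have hρ : ρ.comp (algebraMap R₀ (Localization.Away f)) = algebraMap R₀ M :=
      IsLocalization.Away.lift_comp f (isUnit_iff_ne_zero.2 hfM)
    letI : Algebra R' M := (ρ.comp χ.toRingHom).toAlgebra
    have hψ : (algebraMap R' M).comp (algebraMap R₀ R') = algebraMap R₀ M := by
      rw [show algebraMap R' M = ρ.comp χ.toRingHom from rfl, RingHom.comp_assoc,
        show χ.toRingHom.comp (algebraMap R₀ R') = _ from χ.comp_algebraMap, hρ]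
    haveI := geomIntegralFibres_iff.1 hgeom M
    obtain ⟨e₁⟩ := nonempty_baseEquiv (A := M) (mulPair (mapPair Q (algebraMap R₀ R')) G)
    obtain ⟨e₂⟩ := nonempty_baseEquiv (A := M) D
    haveI : IsDomain (mapPair (mulPair (mapPair Q (algebraMap R₀ R')) G) (algebraMap R' M)).Ring :=
      e₁.symm.toRingEquiv.injective.isDomain e₁.symm.toRingEquiv.toRingHom
    obtain ⟨e₃⟩ := nonempty_equiv_of_unit (mapPair (mulPair (mapPair Q (algebraMap R₀ R')) G) (algebraMap R' M))
      (mapPair D (algebraMap R₀ M))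
      (show mapW (algebraMap R' M) (mapW (algebraMap R₀ R') Q.f) = mapW (algebraMap R₀ M) Q.f by
        rw [mapW_comp, hψ])
      (MvPolynomial.C (algebraMap R₀ M (f ^ k)))
      ((isUnit_iff_ne_zero.2 (by rw [map_pow]; exact pow_ne_zero k hfM)).map MvPolynomial.C)
      (show mapW (algebraMap R₀ M) (Q.g * G₀) =
        Polynomial.C (MvPolynomial.C (algebraMap R₀ M (f ^ k))) * mapW (algebraMap R' M) (mapW (algebraMap R₀ R') Q.g * G) by
        rw [map_mul, map_mul, mapW_comp, hψ,
          show mapW (algebraMap R₀ M) G₀ = mapW ρ (mapW (algebraMap R₀ (Localization.Away f)) G₀) by rw [mapW_comp, hρ],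
          hG₀, map_mul, mapW_comp, show ρ.comp χ.toRingHom = algebraMap R' M from rfl]
        simp only [mapW, Polynomial.coe_mapRingHom, Polynomial.map_C, MvPolynomial.map_C]
        rw [show ρ (algebraMap R₀ (Localization.Away f) (f ^ k)) = algebraMap R₀ M (f ^ k) from
          RingHom.congr_fun hρ _]
        ring)
    exact (e₂.toRingEquiv.trans e₃.symm.toRingEquiv).injective.isDomain
      (e₂.toRingEquiv.trans e₃.symm.toRingEquiv).toRingHom
  haveI : IsDomain (κ ⊗[R₀] D.Ring) := hD κ fun h0 => hf (hκi (h0.trans (map_zero _).symm))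
  haveI : IsDomain D.Ring :=
    (Algebra.TensorProduct.includeRight_injective (A := κ) (B := D.Ring) hκi).isDomain
      (Algebra.TensorProduct.includeRight (R := R₀) (A := κ) (B := D.Ring)).toRingHom
  -- the map to the function field
  let ιA : Localization.Away f →+* L := (algebraMap κ L).comp ι.toRingHom
  have hιA : ιA.comp (algebraMap R₀ (Localization.Away f)) = algebraMap R₀ L := by
    rw [RingHom.comp_assoc, show ι.toRingHom.comp (algebraMap R₀ (Localization.Away f)) = _ from ι.comp_algebraMap,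
      ← IsScalarTower.algebraMap_eq]
  have hG₀L : evW (algebraMap R₀ L) u x G₀ ≠ 0 := by
    rw [← hιA, ← evW_mapW, hG₀, map_mul, evW_mapW, RingHom.comp_assoc,
      show ι.toRingHom.comp χ.toRingHom = θ.toRingHom from congrArg AlgHom.toRingHom hιχ]
    refine mul_ne_zero ?_ hG
    simp only [evW, Polynomial.coe_eval₂RingHom, Polynomial.eval₂_C, MvPolynomial.eval₂Hom_C]
    rw [← RingHom.comp_apply, hιA, map_pow]
    exact pow_ne_zero k fun h0 => hf (hL (h0.trans (map_zero _).symm))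
  obtain ⟨χL, hχL, hχLu, hχLx⟩ := exists_stdHom D (algebraMap R₀ L) u x hQf (by
    rw [show D.g = Q.g * G₀ from rfl, map_mul]
    exact isUnit_iff_ne_zero.2 (mul_ne_zero hQg hG₀L))
  have hT : χL.comp (algebraMap (MvPolynomial (Fin n) R₀) D.Ring) = (MvPolynomial.aeval (R := R₀) u).toRingHom :=
    MvPolynomial.ringHom_ext (fun a => (RingHom.congr_fun hχL a).trans (by simp)) fun i =>
      (congrFun hχLu i).trans (by simp)
  have hTi : Function.Injective (χL.comp (algebraMap (MvPolynomial (Fin n) R₀) D.Ring)) := by rw [hT]; exact hu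
  have hχi : Function.Injective χL := by
    rw [RingHom.injective_iff_ker_eq_bot]
    haveI := RingHom.ker_isPrime χL
    haveI : (⊥ : Ideal D.Ring).IsPrime := Ideal.isPrime_bot
    refine (Algebra.QuasiFinite.eq_of_le_of_under_eq (R := MvPolynomial (Fin n) R₀) ⊥ (RingHom.ker χL) bot_le ?_).symm
    rw [Ideal.under, Ideal.under, RingHom.comap_ker, (RingHom.injective_iff_ker_eq_bot _).1 hTi,
      ← RingHom.ker_eq_comap_bot, RingHom.injective_iff_ker_eq_bot _ |>.1 (Function.Injective.of_comp hTi)]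
  let ιD : D.Ring →ₐ[R₀] L := { χL with commutes' := RingHom.congr_fun hχL }
  have hevD : ∀ F : W n R₀, χL (Polynomial.aeval D.X F) = evW (algebraMap R₀ L) u x F := fun F => by
    rw [comp_aeval_X, hχL, hχLu, hχLx]
  obtain ⟨c, b, hc, hb, ⟨e⟩⟩ := exists_common_localization ιD hχi
    (fun z => by
      obtain ⟨a, b, hb, hab⟩ := hgen z
      refine ⟨Polynomial.aeval D.X a, Polynomial.aeval D.X b, fun h0 => hb ?_, ?_⟩
      · rw [← hevD, h0, map_zero]
      · show z * χL _ = χL _
        rw [hevD, hevD, hab])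
    (IsScalarTower.toAlgHom R₀ B L) hBL
    (fun z => by
      obtain ⟨a, b, hb, rfl⟩ := IsFractionRing.div_surjective B z
      refine ⟨a, b, nonZeroDivisors.ne_zero hb, ?_⟩
      exact div_mul_cancel₀ _ (IsFractionRing.to_map_ne_zero_of_mem_nonZeroDivisors hb))
  -- shrink the base
  haveI : IsDomain (κ ⊗[R₀] B) := h κ hκi
  obtain ⟨fb, hfb, hnzd⟩ := FlatMisc.SpreadRed.exists_nzd_near κ hκi b (mem_nonZeroDivisors_of_ne_zero fun h0 => by
    obtain ⟨r, hr, hrb⟩ := FlatMisc.SpreadRed.exists_smul_eq_zero (R := R₀) (S := B) κ h0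
    rw [Algebra.smul_def, mul_eq_zero] at hrb
    exact hrb.elim (fun hr0 => hr (hinj (hr0.trans (map_zero _).symm))) hb)
  obtain ⟨fc, hfc, hcne⟩ := FlatMisc.SpreadRed.exists_ne_zero_near (R := R₀) (S := D.Ring) κ hκi c fun h0 =>
    hc (Algebra.TensorProduct.includeRight_injective (A := κ) (B := D.Ring) hκi (h0.trans (map_zero _).symm))
  refine ⟨f * fb * fc, mul_ne_zero (mul_ne_zero hf hfb) hfc, fun M _ _ hM => ?_⟩
  simp only [map_mul, mul_ne_zero_iff] at hM
  obtain ⟨⟨h1, h2⟩, h3⟩ := hM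
  haveI := hD M h1
  haveI := isDomain_tensor_away M c (hcne M h3)
  let eM : M ⊗[R₀] Localization.Away b ≃ₐ[M] M ⊗[R₀] Localization.Away c :=
    Algebra.TensorProduct.congr (AlgEquiv.refl (R := M) (A₁ := M)) e.symm
  haveI : IsDomain (M ⊗[R₀] Localization.Away b) := eM.toRingEquiv.injective.isDomain eM.toRingEquiv.toRingHom
  let eb := IsLocalization.Away.tensorProductEquivTMulRight R₀ M b (Localization.Away b)
  haveI : IsDomain (Localization.Away ((1 : M) ⊗ₜ[R₀] b : M ⊗[R₀] B)) :=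
    eb.symm.toRingEquiv.injective.isDomain eb.symm.toRingEquiv.toRingHom
  exact (IsLocalization.injective (Localization.Away ((1 : M) ⊗ₜ[R₀] b : M ⊗[R₀] B))
    (Submonoid.powers_le.2 (hnzd M h2))).isDomain (algebraMap (M ⊗[R₀] B) _)

/-- Geometric integrality of the generic fibre spreads out. -/
theorem exists_spread_geomIntegral {R₀ B : Type u} [CommRing R₀] [IsDomain R₀] [IsNoetherianRing R₀] [CommRing B]
    [Algebra R₀ B] [Algebra.FiniteType R₀ B]
    (h : ∀ (M : Type u) [Field M] [Algebra R₀ M], Function.Injective (algebraMap R₀ M) → IsDomain (M ⊗[R₀] B)) :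
    ∃ f : R₀, f ≠ 0 ∧ ∀ (M : Type u) [Field M] [Algebra R₀ M], algebraMap R₀ M f ≠ 0 → IsDomain (M ⊗[R₀] B) := by
  classical
  let K := FractionRing R₀
  have hK : Function.Injective (algebraMap R₀ K) := IsFractionRing.injective R₀ K
  haveI := h K hK
  let φ : B →ₐ[R₀] K ⊗[R₀] B := Algebra.TensorProduct.includeRight
  let I := RingHom.ker φ.toRingHom
  haveI : IsDomain (B ⧸ I) := (RingHom.kerLift_injective φ.toRingHom).isDomain (RingHom.kerLift φ.toRingHom)
  have hinj : Function.Injective (algebraMap R₀ (B ⧸ I)) := by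
    refine (injective_iff_map_eq_zero _).2 fun r hr => hK ?_
    have h1 : φ (algebraMap R₀ B r) = 0 := Ideal.Quotient.eq_zero_iff_mem.1 hr
    rw [AlgHom.commutes, IsScalarTower.algebraMap_apply R₀ K (K ⊗[R₀] B)] at h1
    rw [map_zero]
    exact (algebraMap K (K ⊗[R₀] B)).injective (h1.trans (map_zero _).symm)
  haveI : IsNoetherianRing B := Algebra.FiniteType.isNoetherianRing R₀ B
  obtain ⟨s, hs⟩ := (inferInstance : IsNoetherianRing B).noetherian I
  have hkill : ∀ g ∈ s, ∃ r : R₀, r ≠ 0 ∧ r • g = 0 := fun g hg =>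
    FlatMisc.SpreadRed.exists_smul_eq_zero (R := R₀) (S := B) K
      (show φ g = 0 from (hs ▸ Ideal.subset_span hg : g ∈ I))
  choose! r hr hrg using hkill
  let f₁ := ∏ g ∈ s, r g
  have hf₁ : f₁ ≠ 0 := Finset.prod_ne_zero_iff.2 hr
  have hker : ∀ i ∈ I, f₁ • i = 0 := by
    intro i hi
    rw [← hs] at hi
    induction hi using Submodule.span_induction with
    | mem g hg =>
      rw [show f₁ = (∏ w ∈ s.erase g, r w) * r g from (Finset.prod_erase_mul s r hg).symm, mul_smul, hrg g hg,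
        smul_zero]
    | zero => rw [smul_zero]
    | add a b _ _ ha hb => rw [smul_add, ha, hb, add_zero]
    | smul c a _ ha => rw [smul_comm, ha, smul_zero]
  let πI : B →ₐ[R₀] B ⧸ I := Ideal.Quotient.mkₐ R₀ I
  have hbij : ∀ (M : Type u) [Field M] [Algebra R₀ M], algebraMap R₀ M f₁ ≠ 0 →
      Function.Bijective (Algebra.TensorProduct.map (AlgHom.id R₀ M) πI) := fun M _ _ hM => by
    refine ⟨?_, map_id_surjective M πI Ideal.Quotient.mk_surjective⟩
    rw [RingHom.injective_iff_ker_eq_bot, Algebra.TensorProduct.lTensor_ker _ Ideal.Quotient.mk_surjective,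
      eq_bot_iff, Ideal.map_le_iff_le_comap]
    intro i hi
    have hi' : i ∈ I := Ideal.Quotient.eq_zero_iff_mem.1 hi
    show ((1 : M) ⊗ₜ[R₀] i : M ⊗[R₀] B) = 0
    rw [show (1 : M) = f₁ • (algebraMap R₀ M f₁)⁻¹ by rw [Algebra.smul_def, mul_inv_cancel₀ hM],
      TensorProduct.smul_tmul, hker i hi', TensorProduct.tmul_zero]
  have h' : ∀ (M : Type u) [Field M] [Algebra R₀ M], Function.Injective (algebraMap R₀ M) →
      IsDomain (M ⊗[R₀] (B ⧸ I)) := fun M _ _ hM => by
    haveI := h M hM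
    let e := RingEquiv.ofBijective (Algebra.TensorProduct.map (AlgHom.id R₀ M) πI)
      (hbij M fun h0 => hf₁ (hM (h0.trans (map_zero _).symm)))
    exact e.symm.injective.isDomain e.symm.toRingHom
  obtain ⟨f₂, hf₂, hfib⟩ := exists_spread_domain hinj h'
  refine ⟨f₁ * f₂, mul_ne_zero hf₁ hf₂, fun M _ _ hM => ?_⟩
  simp only [map_mul, mul_ne_zero_iff] at hM
  haveI := hfib M hM.2
  let e := RingEquiv.ofBijective (Algebra.TensorProduct.map (AlgHom.id R₀ M) πI) (hbij M hM.1)
  exact e.injective.isDomain e.toRingHom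

end Groth.Agent.RG11
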