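import Groth.Prelude.Def_FlatCA
import Mathlib

/-!
# Geometric properties of fibres of ring maps in terms of tensor products with fields
-/

universe u

set_option linter.style.haveILetI false

namespace Groth.Agent.RG11

open TensorProduct AlgebraicGeometry CategoryTheory

variable {R S : Type u} [CommRing R] [CommRing S] [Algebra R S]

theorem isPullback_field (K : Type u) [Field K] [Algebra R K] :
    IsPullback (Spec.map (CommRingCat.ofHom (Algebra.TensorProduct.includeRight : S →ₐ[R] K ⊗[R] S).toRingHom))
      (Spec.map (CommRingCat.ofHom (Algebra.TensorProduct.includeLeftRingHom : K →+* K ⊗[R] S)))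
      (Spec.map (CommRingCat.ofHom (algebraMap R S))) (Spec.map (CommRingCat.ofHom (algebraMap R K))) :=
  (isPullback_SpecMap_of_isPushout _ _ _ _ (CommRingCat.isPushout_tensorProduct R K S)).flip

theorem geometrically_spec_iff (P : ObjectProperty Scheme.{u}) [P.IsClosedUnderIsomorphisms] :
    geometrically P (Spec.map (CommRingCat.ofHom (algebraMap R S))) ↔
      ∀ (K : Type u) [Field K] [Algebra R K], P (Spec (CommRingCat.of (K ⊗[R] S))) := by
  rw [geometrically_iff_of_commRing]
  refine ⟨fun h K _ _ => h _ _ (isPullback_field K), fun h K _ _ Z fst snd hpb => ?_⟩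
  exact P.prop_of_iso ((isPullback_field (R := R) (S := S) K).isoIsPullback _ _ hpb) (h K)

instance : ObjectProperty.IsClosedUnderIsomorphisms (AlgebraicGeometry.IsIntegral : ObjectProperty Scheme.{u}) :=
  ⟨fun e h => by haveI := h; haveI := e.inv.homeomorph.toEquiv.nonempty; exact isIntegral_of_isOpenImmersion e.inv⟩

theorem geomIntegralFibres_iff :
    FlatCA.GeomIntegralFibres R S ↔
      ∀ (K : Type u) [Field K] [Algebra R K], IsDomain (K ⊗[R] S) := by
  rw [FlatCA.GeomIntegralFibres, geometricallyIntegral_iff, geometrically_spec_iff]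
  refine forall_congr' fun K => forall_congr' fun _ => forall_congr' fun _ => ?_
  exact ⟨fun h => (affine_isIntegral_iff _).1 h, fun h => (affine_isIntegral_iff _).2 h⟩

theorem geomIrredFibres_iff :
    FlatCA.GeomIrredFibres R S ↔
      ∀ (K : Type u) [Field K] [Algebra R K], IrreducibleSpace (PrimeSpectrum (K ⊗[R] S)) := by
  rw [FlatCA.GeomIrredFibres, geometricallyIrreducible_iff, geometrically_spec_iff]
  exact Iff.rfl

theorem geomIntegralFibres_baseChange (h : FlatCA.GeomIntegralFibres R S) (A : Type u) [CommRing A] [Algebra R A] :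
    FlatCA.GeomIntegralFibres A (A ⊗[R] S) := by
  rw [geomIntegralFibres_iff] at h ⊢
  intro K _ _
  letI := Algebra.compHom K (algebraMap R A)
  haveI : IsScalarTower R A K := IsScalarTower.of_algebraMap_eq fun _ => rfl
  haveI := h K
  exact (Algebra.TensorProduct.cancelBaseChange R A K K S).toRingEquiv.injective.isDomain
    (Algebra.TensorProduct.cancelBaseChange R A K K S).toRingEquiv.toRingHom

end Groth.Agent.RG11
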