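import Groth.Agent.RG11.CDACons
import Groth.Agent.RG11.GeomFib
import Mathlib

/-!
# Base change of the layers of a dévissage
-/

universe u

set_option linter.style.haveILetI false

namespace Groth.Agent.RG11

open TensorProduct

/-- A basis of the fibre of a finite module at a prime. -/
theorem exists_fibre_basis {D G : Type u} [CommRing D] [AddCommGroup G] [Module D G] [Module.Finite D G]
    (P : Ideal D) [P.IsPrime] :
    ∃ (r : ℕ) (α : (Fin r → D) →ₗ[D] G), Function.Bijective (α.baseChange P.ResidueField) ∧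
      ∃ d ∉ P, ∀ m, d • m ∈ LinearMap.range α := by
  classical
  obtain ⟨s, hs⟩ := Module.Finite.fg_top (R := D) (M := G)
  let κ := P.ResidueField
  let V := κ ⊗[D] G
  let gen : s → V := fun g => (1 : κ) ⊗ₜ[D] (g : G)
  have hspan : Submodule.span κ (Set.range gen) = ⊤ := by
    refine eq_top_iff.2 fun v hv => ?_
    clear hv
    induction v using TensorProduct.induction_on with
    | zero => exact zero_mem _
    | add a b ha hb => exact add_mem ha hb
    | tmul c m =>
      rw [show c ⊗ₜ[D] m = c • ((1 : κ) ⊗ₜ[D] m) by rw [TensorProduct.smul_tmul', smul_eq_mul, mul_one]]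
      refine Submodule.smul_mem _ _ ?_
      have hm : m ∈ Submodule.span D (s : Set G) := by rw [hs]; trivial
      induction hm using Submodule.span_induction with
      | mem g hg => exact Submodule.subset_span ⟨⟨g, hg⟩, rfl⟩
      | zero => rw [TensorProduct.tmul_zero]; exact zero_mem _
      | add a b _ _ ha hb => rw [TensorProduct.tmul_add]; exact add_mem ha hb
      | smul a b _ hb => rw [TensorProduct.tmul_smul]; exact Submodule.smul_of_tower_mem _ a hb
  obtain ⟨b, hbsub, hbspan, hbind⟩ := exists_linearIndependent κ (Set.range gen)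
  haveI : Finite b := ((Set.finite_range gen).subset hbsub).to_subtype
  obtain ⟨r, ⟨e⟩⟩ := Finite.exists_equiv_fin b
  choose g hg using fun i : Fin r => hbsub (e.symm i).2
  let α : (Fin r → D) →ₗ[D] G := (Pi.basisFun D (Fin r)).constr D fun i => (g i : G)
  let bV : Module.Basis b κ V := Module.Basis.mk hbind (by rw [Subtype.range_coe, hbspan, hspan])
  let bd : Module.Basis (Fin r) κ (κ ⊗[D] (Fin r → D)) := Algebra.TensorProduct.basis κ (Pi.basisFun D (Fin r))
  have hα : α.baseChange κ = (bd.equiv (bV.reindex e) (Equiv.refl _)).toLinearMap := by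
    refine bd.ext fun i => ?_
    rw [LinearEquiv.coe_coe, Module.Basis.equiv_apply, Equiv.refl_apply, Module.Basis.reindex_apply, Algebra.TensorProduct.basis_apply,
      LinearMap.baseChange_tmul, Module.Basis.constr_basis, show bV (e.symm i) = ((e.symm i : b) : V) from Module.Basis.mk_apply _ _ _]
    exact hg i
  refine ⟨r, α, by rw [hα]; exact (bd.equiv (bV.reindex e) (Equiv.refl _)).bijective, ?_⟩
  -- the cokernel vanishes at the prime
  have hQ : Subsingleton (LocalizedModule P.primeCompl (G ⧸ LinearMap.range α)) := by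
    rw [← Module.notMem_support_iff (p := ⟨P, inferInstance⟩), Module.mem_support_iff_nontrivial_residueField_tensorProduct,
      not_nontrivial_iff_subsingleton]
    have hsurj : Function.Surjective ((LinearMap.range α).mkQ.baseChange κ) := by
      rw [LinearMap.baseChange_eq_ltensor]
      exact LinearMap.lTensor_surjective _ (Submodule.mkQ_surjective _)
    refine subsingleton_of_forall_eq 0 fun z => ?_
    obtain ⟨w, rfl⟩ := hsurj z
    obtain ⟨v, rfl⟩ := (show Function.Surjective (α.baseChange κ) by
      rw [hα]; exact (bd.equiv (bV.reindex e) (Equiv.refl _)).surjective) w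
    rw [← LinearMap.comp_apply, ← LinearMap.baseChange_comp,
      show (LinearMap.range α).mkQ ∘ₗ α = 0 from LinearMap.ext fun x => (Submodule.Quotient.mk_eq_zero _).2 ⟨x, rfl⟩,
      LinearMap.baseChange_zero, LinearMap.zero_apply]
  haveI := hQ
  have hk : ∀ m ∈ s, ∃ d ∉ P, d • m ∈ LinearMap.range α := fun m _ => by
    obtain ⟨d, hd, hdm⟩ := LocalizedModule.subsingleton_iff.1 hQ (Submodule.Quotient.mk m)
    exact ⟨d, hd, (Submodule.Quotient.mk_eq_zero _).1 hdm⟩
  choose d hd hdm using hk
  refine ⟨∏ m ∈ s.attach, d m.1 m.2, fun hm => ?_, fun m => ?_⟩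
  · obtain ⟨m, -, hm⟩ := (Ideal.IsPrime.prod_mem_iff).1 hm
    exact hd m.1 m.2 hm
  · have hm : m ∈ Submodule.span D (s : Set G) := by rw [hs]; trivial
    refine (Submodule.span_le (p := (LinearMap.range α).comap (LinearMap.lsmul D G (∏ m ∈ s.attach, d m.1 m.2)))).2 ?_ hm
    intro g hg
    obtain ⟨c, hc⟩ := Finset.dvd_prod_of_mem (fun m : s => d m.1 m.2) (Finset.mem_attach s ⟨g, hg⟩)
    rw [SetLike.mem_coe, Submodule.mem_comap, LinearMap.lsmul_apply, hc, mul_comm, mul_smul]
    exact Submodule.smul_mem _ _ (hdm g hg)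

/-- Bijectivity of a linear map after base change only depends on the final algebra. -/
theorem baseChange_bijective_iff {A B C : Type u} [CommRing A] [CommRing B] [CommRing C] [Algebra A B] [Algebra A C]
    [Algebra B C] [IsScalarTower A B C] {X Y : Type u} [AddCommGroup X] [Module A X] [AddCommGroup Y] [Module A Y]
    (α : X →ₗ[A] Y) :
    Function.Bijective ((α.baseChange B).baseChange C) ↔ Function.Bijective (α.baseChange C) := by
  let eX := AlgebraTensorModule.cancelBaseChange A B C C X
  let eY := AlgebraTensorModule.cancelBaseChange A B C C Y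
  have h : eY.toLinearMap ∘ₗ (α.baseChange B).baseChange C = α.baseChange C ∘ₗ eX.toLinearMap := by
    ext x; simp [eX, eY]
  have h' : (eY ∘ ((α.baseChange B).baseChange C)) = (α.baseChange C) ∘ eX :=
    funext fun z => LinearMap.congr_fun h z
  rw [← eY.bijective.of_comp_iff' ((α.baseChange B).baseChange C), h',
    Function.Bijective.of_comp_iff _ eX.bijective]

/-- A fibrewise bijection stays one on residue fields of primes over it. -/
theorem bijective_residue_of_comap {D D₂ : Type u} [CommRing D] [CommRing D₂] [Algebra D D₂] {X Y : Type u}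
    [AddCommGroup X] [Module D X] [AddCommGroup Y] [Module D Y] (α : X →ₗ[D] Y) (P : Ideal D) [P.IsPrime]
    (P₂ : Ideal D₂) [P₂.IsPrime] (h : P₂.comap (algebraMap D D₂) = P)
    (hα : Function.Bijective (α.baseChange P.ResidueField)) :
    Function.Bijective ((α.baseChange D₂).baseChange P₂.ResidueField) := by
  rw [baseChange_bijective_iff]
  letI : Algebra P.ResidueField P₂.ResidueField := (Ideal.ResidueField.map P P₂ (algebraMap D D₂) h.symm).toAlgebra
  haveI : IsScalarTower D P.ResidueField P₂.ResidueField := IsScalarTower.of_algebraMap_eq fun a => by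
    refine Eq.trans ?_ (Ideal.ResidueField.map_algebraMap _ _ _ h.symm a).symm
    exact IsScalarTower.algebraMap_apply D D₂ P₂.ResidueField a
  rw [← baseChange_bijective_iff (B := P.ResidueField), LinearMap.baseChange_eq_ltensor]
  exact ((LinearEquiv.ofBijective (α.baseChange P.ResidueField) hα).lTensor P₂.ResidueField).bijective

set_option maxHeartbeats 1600000 in
/-- Base change of a map from a free module and of its cokernel. -/
theorem exists_layer_baseChange {D D₂ : Type u} [CommRing D] [CommRing D₂] [Algebra D D₂] {G G₂ : Type u}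
    [AddCommGroup G] [Module D G] [AddCommGroup G₂] [Module D₂ G₂] [Module D G₂] [IsScalarTower D D₂ G₂]
    (f : G →ₗ[D] G₂) (hf : IsBaseChange D₂ f) {r : ℕ} (α : (Fin r → D) →ₗ[D] G) :
    ∃ (α₂ : (Fin r → D₂) →ₗ[D₂] G₂) (g : (G ⧸ LinearMap.range α) →ₗ[D] G₂ ⧸ LinearMap.range α₂),
      IsBaseChange D₂ g ∧
      ∀ (P : Ideal D) [P.IsPrime] (P₂ : Ideal D₂) [P₂.IsPrime], P₂.comap (algebraMap D D₂) = P →
        Function.Bijective (α.baseChange P.ResidueField) → Function.Bijective (α₂.baseChange P₂.ResidueField) := by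
  let e := hf.equiv
  let π := TensorProduct.piScalarRight D D₂ D₂ (Fin r)
  let α₂ : (Fin r → D₂) →ₗ[D₂] G₂ := e.toLinearMap ∘ₗ α.baseChange D₂ ∘ₗ π.symm.toLinearMap
  have hα₂ : ∀ z, α₂ (π z) = e (α.baseChange D₂ z) := fun z => by simp [α₂]
  have hx : ∀ x, f (α x) = α₂ (π ((1 : D₂) ⊗ₜ[D] x)) := fun x => by
    rw [hα₂, LinearMap.baseChange_tmul, IsBaseChange.equiv_tmul, one_smul]
  let g : (G ⧸ LinearMap.range α) →ₗ[D] G₂ ⧸ LinearMap.range α₂ :=
    (LinearMap.range α).liftQ (((LinearMap.range α₂).mkQ.restrictScalars D) ∘ₗ f) (by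
      rintro _ ⟨x, rfl⟩
      exact (Submodule.Quotient.mk_eq_zero _).2 (show f (α x) ∈ LinearMap.range α₂ by rw [hx]; exact LinearMap.mem_range_self _ _))
  refine ⟨α₂, g, IsBaseChange.of_lift_unique _ ?_, fun P _ P₂ _ h hα => ?_⟩
  · intro Q _ _ _ _ i
    letI : AddCommGroup Q := Module.addCommMonoidToAddCommGroup D₂
    let l : G₂ →ₗ[D₂] Q := hf.lift (i ∘ₗ (LinearMap.range α).mkQ)
    have hl : ∀ m, l (f m) = i (Submodule.Quotient.mk m) := fun m => hf.lift_eq _ m
    have hker : LinearMap.range α₂ ≤ LinearMap.ker l := by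
      rintro _ ⟨z, rfl⟩
      rw [LinearMap.mem_ker]
      obtain ⟨z, rfl⟩ := π.surjective z
      induction z using TensorProduct.induction_on with
      | zero => simp
      | add a b ha hb => rw [map_add, map_add, map_add, ha, hb, add_zero]
      | tmul c x =>
        rw [show c ⊗ₜ[D] x = c • ((1 : D₂) ⊗ₜ[D] x) by rw [TensorProduct.smul_tmul', smul_eq_mul, mul_one],
          map_smul, map_smul, ← hx, map_smul, hl, (Submodule.Quotient.mk_eq_zero (LinearMap.range α)).2 (LinearMap.mem_range_self α x), map_zero, smul_zero]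
    refine ⟨(LinearMap.range α₂).liftQ l hker, ?_, fun y hy => ?_⟩
    · refine Submodule.linearMap_qext _ (LinearMap.ext fun m => ?_)
      show l (f m) = i _
      exact hl m
    · refine Submodule.linearMap_qext _ (hf.algHom_ext' _ _ (LinearMap.ext fun m => ?_))
      show y (Submodule.Quotient.mk (f m)) = l (f m)
      rw [hl]
      exact LinearMap.congr_fun hy (Submodule.Quotient.mk m)
  · have h1 := bijective_residue_of_comap α P P₂ h hα
    have h2 : α₂.baseChange P₂.ResidueField = (e.toLinearMap.baseChange P₂.ResidueField) ∘ₗ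
        ((α.baseChange D₂).baseChange P₂.ResidueField) ∘ₗ (π.symm.toLinearMap.baseChange P₂.ResidueField) := by
      rw [← LinearMap.baseChange_comp, ← LinearMap.baseChange_comp]
    rw [h2]
    refine (?_ : Function.Bijective (e.toLinearMap.baseChange P₂.ResidueField)).comp (h1.comp ?_)
    · rw [LinearMap.baseChange_eq_ltensor]; exact (e.lTensor _).bijective
    · rw [LinearMap.baseChange_eq_ltensor]; exact (π.symm.lTensor _).bijective

section Smooth

open AlgebraicGeometry CategoryTheory

/-- An étale algebra over a base change of a smooth algebra of relative dimension `n` is of relative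
dimension `n`. -/
theorem smoothRelDim_of_etale {R R' D E : Type u} [CommRing R] [CommRing R'] [CommRing D] [CommRing E] [Algebra R R']
    [Algebra R D] {n : ℕ} (h : FlatCA.SmoothRelDim n R D) [Algebra (R' ⊗[R] D) E] [Algebra R' E]
    [IsScalarTower R' (R' ⊗[R] D) E] [Algebra.Etale (R' ⊗[R] D) E] : FlatCA.SmoothRelDim n R' E := by
  let g := Spec.map (CommRingCat.ofHom (algebraMap R' (R' ⊗[R] D)))
  let a := Spec.map (CommRingCat.ofHom (algebraMap (R' ⊗[R] D) E))
  haveI hg : SmoothOfRelativeDimension n g :=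
    (smoothOfRelativeDimension_isStableUnderBaseChange n).of_isPullback
      (isPullback_SpecMap_of_isPushout _ _ _ _ (CommRingCat.isPushout_tensorProduct R R' D)).flip h
  haveI : AlgebraicGeometry.Etale a := by
    rw [HasRingHomProperty.Spec_iff (P := @AlgebraicGeometry.Etale)]
    exact RingHom.etale_algebraMap.2 inferInstance
  haveI : SmoothOfRelativeDimension 0 a := inferInstance
  have hc : SmoothOfRelativeDimension (0 + n) (a ≫ g) := inferInstance
  rw [zero_add] at hc
  rw [FlatCA.SmoothRelDim, IsScalarTower.algebraMap_eq R' (R' ⊗[R] D) E, CommRingCat.ofHom_comp, Spec.map_comp]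
  exact hc

end Smooth

/-- The fibres have no zero divisors. -/
def NZDFibres (R X : Type u) [CommRing R] [CommRing X] [Algebra R X] : Prop :=
  ∀ (K : Type u) [Field K] [Algebra R K], NoZeroDivisors (K ⊗[R] X)

theorem NZDFibres.of_geomIntegral {R X : Type u} [CommRing R] [CommRing X] [Algebra R X]
    (h : FlatCA.GeomIntegralFibres R X) : NZDFibres R X := fun K _ _ => by
  haveI := geomIntegralFibres_iff.1 h K
  infer_instance

theorem NZDFibres.baseChange {R X : Type u} [CommRing R] [CommRing X] [Algebra R X] (h : NZDFibres R X)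
    (A : Type u) [CommRing A] [Algebra R A] : NZDFibres A (A ⊗[R] X) := fun K _ _ => by
  letI := Algebra.compHom K (algebraMap R A)
  haveI : IsScalarTower R A K := IsScalarTower.of_algebraMap_eq fun _ => rfl
  haveI := h K
  exact (Algebra.TensorProduct.cancelBaseChange R A K K X).toRingEquiv.injective.noZeroDivisors
    (Algebra.TensorProduct.cancelBaseChange R A K K X) (map_zero _) (map_mul _)

theorem NZDFibres.away {R X X' : Type u} [CommRing R] [CommRing X] [CommRing X'] [Algebra R X] [Algebra X X']
    [Algebra R X'] [IsScalarTower R X X'] (h : NZDFibres R X) (s : X) [IsLocalization.Away s X'] :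
    NZDFibres R X' := fun K _ _ => by
  haveI := h K
  let e := IsLocalization.Away.tensorProductEquivTMulRight R K s X'
  haveI : NoZeroDivisors (Localization.Away ((1 : K) ⊗ₜ[R] s)) := by
    by_cases h0 : ((1 : K) ⊗ₜ[R] s : K ⊗[R] X) = 0
    · haveI : Subsingleton (Localization.Away ((1 : K) ⊗ₜ[R] s)) :=
        IsLocalization.subsingleton (M := Submonoid.powers ((1 : K) ⊗ₜ[R] s)) ⟨1, by simp [h0]⟩
      exact ⟨fun {a b} _ => Or.inl (Subsingleton.elim _ _)⟩
    · haveI : Nontrivial (K ⊗[R] X) := ⟨_, _, h0⟩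
      haveI : IsDomain (K ⊗[R] X) := NoZeroDivisors.to_isDomain _
      haveI : IsDomain (Localization.Away ((1 : K) ⊗ₜ[R] s)) :=
        IsLocalization.isDomain_localization (powers_le_nonZeroDivisors_of_noZeroDivisors h0)
      infer_instance
  exact e.toRingEquiv.injective.noZeroDivisors e (map_zero _) (map_mul _)

theorem NZDFibres.geomIntegral {R X : Type u} [CommRing R] [CommRing X] [Algebra R X] (h : NZDFibres R X)
    (hne : ∀ p : Ideal R, p.IsPrime → ∃ Q : Ideal X, Q.IsPrime ∧ Q.comap (algebraMap R X) = p) :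
    FlatCA.GeomIntegralFibres R X := by
  refine geomIntegralFibres_iff.2 fun K _ _ => ?_
  haveI := h K
  let p := RingHom.ker (algebraMap R K)
  haveI : p.IsPrime := RingHom.ker_isPrime _
  obtain ⟨Q, hQ, hQp⟩ := hne p inferInstance
  let A := R ⧸ p
  letI : Algebra A K := (Ideal.Quotient.lift p (algebraMap R K) fun _ ha => ha).toAlgebra
  haveI : IsScalarTower R A K := IsScalarTower.of_algebraMap_eq fun _ => rfl
  letI : Algebra A (X ⧸ Q) := (Ideal.quotientMap Q (algebraMap R X) hQp.ge).toAlgebra
  haveI : IsScalarTower R A (X ⧸ Q) := IsScalarTower.of_algebraMap_eq fun _ => rfl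
  haveI : Nontrivial (K ⊗[A] (X ⧸ Q)) :=
    Algebra.TensorProduct.nontrivial_of_algebraMap_injective_of_isDomain A K (X ⧸ Q)
      (RingHom.kerLift_injective (algebraMap R K)) (Ideal.quotientMap_injective' hQp.le)
  haveI : CompatibleSMul A R K (X ⧸ Q) := CompatibleSMul.isScalarTower
  haveI : Nontrivial (K ⊗[R] X) :=
    ((Algebra.TensorProduct.lift (R := R) (S := R)
      ((Algebra.TensorProduct.includeLeft : K →ₐ[K] K ⊗[A] (X ⧸ Q)).restrictScalars R)
      (((Algebra.TensorProduct.includeRight : (X ⧸ Q) →ₐ[A] K ⊗[A] (X ⧸ Q)).restrictScalars R).comp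
        (Ideal.Quotient.mkₐ R Q)) fun _ _ => .all _ _).toRingHom).domain_nontrivial
  exact NoZeroDivisors.to_isDomain _

theorem geomIrred_of_geomIntegral {R X : Type u} [CommRing R] [CommRing X] [Algebra R X]
    (h : FlatCA.GeomIntegralFibres R X) : FlatCA.GeomIrredFibres R X :=
  geomIrredFibres_iff.2 fun K _ _ => by
    haveI := geomIntegralFibres_iff.1 h K
    infer_instance

/-- The image of a principal open of a flat finitely presented algebra contains a neighbourhood. -/
theorem exists_image_open {R X : Type u} [CommRing R] [CommRing X] [Algebra R X] [Module.Flat R X]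
    [Algebra.FinitePresentation R X] (s : X) (p : Ideal R) (q : Ideal X) [q.IsPrime]
    (hq : q.comap (algebraMap R X) = p) (hs : s ∉ q) :
    ∃ f ∉ p, ∀ p' : Ideal R, p'.IsPrime → f ∉ p' →
      ∃ Q : Ideal X, Q.IsPrime ∧ Q.comap (algebraMap R X) = p' ∧ s ∉ Q := by
  haveI : p.IsPrime := hq ▸ Ideal.IsPrime.comap _
  have hopen : IsOpen (PrimeSpectrum.comap (algebraMap R X) '' (PrimeSpectrum.basicOpen s : Set (PrimeSpectrum X))) :=
    PrimeSpectrum.isOpenMap_comap_of_hasGoingDown_of_finitePresentation _ (PrimeSpectrum.basicOpen s).2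
  obtain ⟨_, ⟨f, rfl⟩, hfp, hf⟩ := PrimeSpectrum.isTopologicalBasis_basic_opens.exists_subset_of_mem_open
    (show (⟨p, inferInstance⟩ : PrimeSpectrum R) ∈ PrimeSpectrum.comap (algebraMap R X) '' (PrimeSpectrum.basicOpen s : Set (PrimeSpectrum X)) from ⟨⟨q, inferInstance⟩, hs, PrimeSpectrum.ext hq⟩) hopen
  refine ⟨f, hfp, fun p' hp' hfp' => ?_⟩
  obtain ⟨Q, hQ, hQp⟩ := hf (show (⟨p', hp'⟩ : PrimeSpectrum R) ∈ _ from hfp')
  exact ⟨Q.asIdeal, Q.2, congrArg PrimeSpectrum.asIdeal hQp, hQ⟩

end Groth.Agent.RG11
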