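import Groth.Agent.RG11.TrivExt
import Groth.Agent.RG11.LayerBC
import Mathlib

/-!
# Auxiliary lemmas for stable complete dévissages
-/

universe u

set_option linter.style.haveILetI false

namespace Groth.Agent.RG11

open TensorProduct

/-- Localisation at elements dividing each other. -/
theorem away_of_mul {A B : Type u} [CommRing A] [CommRing B] [Algebra A B] (h s : A) [IsLocalization.Away (h * s) B]
    (hdvd : h ∣ s) : IsLocalization.Away s B := by
  let N := Submonoid.powers (h * s) ⊔ Submonoid.powers s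
  have hN : ∀ n ∈ N, ∃ i j : ℕ, n = (h * s) ^ i * s ^ j := fun n hn => by
    obtain ⟨_, ⟨i, rfl⟩, _, ⟨j, rfl⟩, rfl⟩ := Submonoid.mem_sup.1 hn
    exact ⟨i, j, rfl⟩
  haveI : IsLocalization N B := (IsLocalization.iff_of_le_of_exists_dvd (Submonoid.powers (h * s)) N le_sup_left fun n hn => by
    obtain ⟨i, j, rfl⟩ := hN n hn
    refine ⟨(h * s) ^ (i + j), ⟨i + j, rfl⟩, ?_⟩
    rw [pow_add]
    exact mul_dvd_mul_left _ (pow_dvd_pow_of_dvd (dvd_mul_left s h) j)).1 ‹_›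
  exact (IsLocalization.iff_of_le_of_exists_dvd (Submonoid.powers s) N le_sup_right fun n hn => by
    obtain ⟨i, j, rfl⟩ := hN n hn
    refine ⟨(s * s) ^ i * s ^ j, Submonoid.mul_mem _ ⟨i + i, by rw [mul_pow, ← pow_add]⟩ ⟨j, rfl⟩, ?_⟩
    exact mul_dvd_mul_right (pow_dvd_pow_of_dvd (mul_dvd_mul_right hdvd s) i) _).2 this

/-- Base change of a principal localisation along a change of base. -/
theorem isLocalization_baseChange_away {R₁ R₂ R₄ S₁ S₂ : Type u} [CommRing R₁] [CommRing R₂] [CommRing R₄]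
    [CommRing S₁] [CommRing S₂] [Algebra R₁ R₂] [Algebra R₂ R₄] [Algebra R₁ R₄] [IsScalarTower R₁ R₂ R₄]
    [Algebra R₁ S₁] (g : R₂ ⊗[R₁] S₁) [Algebra (R₂ ⊗[R₁] S₁) S₂] [IsLocalization.Away g S₂] [Algebra R₂ S₂]
    [IsScalarTower R₂ (R₂ ⊗[R₁] S₁) S₂] [Algebra (R₄ ⊗[R₁] S₁) (R₄ ⊗[R₂] S₂)]
    (hl : ∀ r : R₄, algebraMap (R₄ ⊗[R₁] S₁) (R₄ ⊗[R₂] S₂) (r ⊗ₜ 1) = r ⊗ₜ 1)
    (hr : ∀ x : S₁, algebraMap (R₄ ⊗[R₁] S₁) (R₄ ⊗[R₂] S₂) ((1 : R₄) ⊗ₜ x) =
      (1 : R₄) ⊗ₜ algebraMap (R₂ ⊗[R₁] S₁) S₂ ((1 : R₂) ⊗ₜ x)) :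
    IsLocalization.Away (Algebra.TensorProduct.map (IsScalarTower.toAlgHom R₁ R₂ R₄) (AlgHom.id R₁ S₁) g)
      (R₄ ⊗[R₂] S₂) := by
  let ν := Algebra.TensorProduct.map (IsScalarTower.toAlgHom R₁ R₂ R₄) (AlgHom.id R₁ S₁)
  let Z := Localization.Away (ν g)
  let X₄ := R₄ ⊗[R₁] S₁
  let Y₄ := R₄ ⊗[R₂] S₂
  have hνg : ∀ w : R₂ ⊗[R₁] S₁, algebraMap X₄ Y₄ (ν w) = (1 : R₄) ⊗ₜ[R₂] algebraMap (R₂ ⊗[R₁] S₁) S₂ w := by
    intro w
    induction w using TensorProduct.induction_on with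
    | zero => simp [ν]
    | add a b ha hb => rw [map_add, map_add, ha, hb, map_add, TensorProduct.tmul_add]
    | tmul r x =>
      rw [show ν (r ⊗ₜ x) = (algebraMap R₂ R₄ r ⊗ₜ[R₁] (1 : S₁)) * ((1 : R₄) ⊗ₜ[R₁] x) by
          simp [ν, Algebra.TensorProduct.tmul_mul_tmul],
        map_mul, hl, hr, Algebra.TensorProduct.tmul_mul_tmul, one_mul, mul_one,
        Algebra.algebraMap_eq_smul_one, TensorProduct.smul_tmul, ← algebraMap_smul (R₂ ⊗[R₁] S₁) r,
        Algebra.smul_def, ← map_mul]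
      congr 2
      simp [Algebra.TensorProduct.algebraMap_apply]
  have hu : IsUnit (algebraMap X₄ Y₄ (ν g)) := by
    rw [hνg]
    exact (IsLocalization.Away.algebraMap_isUnit (S := S₂) g).map
      (Algebra.TensorProduct.includeRight : S₂ →ₐ[R₂] Y₄)
  let fwd : Z →ₐ[X₄] Y₄ := IsLocalization.liftAlgHom (M := Submonoid.powers (ν g)) (f := Algebra.ofId X₄ Y₄) (by
    rintro ⟨_, k, rfl⟩
    rw [map_pow]
    exact hu.pow k)
  let jZ : R₂ ⊗[R₁] S₁ →+* Z := (algebraMap X₄ Z).comp ν.toRingHom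
  let b₂ : S₂ →+* Z := IsLocalization.Away.lift g (g := jZ) (IsLocalization.Away.algebraMap_isUnit (S := Z) (ν g))
  have hb₂ : ∀ w, b₂ (algebraMap _ S₂ w) = jZ w := IsLocalization.Away.lift_eq g _
  let bl : R₄ →ₐ[R₂] Z := { (algebraMap X₄ Z).comp (algebraMap R₄ X₄) with commutes' := fun r => (IsScalarTower.algebraMap_apply R₂ X₄ Z r).symm }
  have hbr : ∀ r : R₂, b₂ (algebraMap R₂ S₂ r) = algebraMap R₂ Z r := fun r => by
    show b₂ (algebraMap R₂ S₂ r) = algebraMap X₄ Z (algebraMap R₄ X₄ (algebraMap R₂ R₄ r))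
    rw [IsScalarTower.algebraMap_apply R₂ (R₂ ⊗[R₁] S₁) S₂, hb₂]
    refine congrArg (algebraMap X₄ Z) ?_
    show ν (algebraMap R₂ (R₂ ⊗[R₁] S₁) r) = _
    simp [ν, X₄, Algebra.TensorProduct.algebraMap_apply]
  let br : S₂ →ₐ[R₂] Z := { b₂ with commutes' := hbr }
  let bwd : Y₄ →ₐ[R₂] Z := Algebra.TensorProduct.lift bl br fun _ _ => .all _ _
  have hbwd : ∀ x : X₄, bwd (algebraMap X₄ Y₄ x) = algebraMap X₄ Z x := by
    intro x
    induction x using TensorProduct.induction_on with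
    | zero => simp
    | add a b ha hb => rw [map_add, map_add, ha, hb, map_add]
    | tmul r x =>
      rw [show r ⊗ₜ[R₁] x = (r ⊗ₜ[R₁] (1 : S₁)) * ((1 : R₄) ⊗ₜ[R₁] x) by simp [Algebra.TensorProduct.tmul_mul_tmul],
        map_mul, map_mul, map_mul, hl, hr,
        show bwd (r ⊗ₜ[R₂] (1 : S₂)) = bl r * br 1 from Algebra.TensorProduct.lift_tmul _ _ _ _ _,
        show bwd ((1 : R₄) ⊗ₜ[R₂] algebraMap (R₂ ⊗[R₁] S₁) S₂ ((1 : R₂) ⊗ₜ[R₁] x)) = bl 1 * br _ from
          Algebra.TensorProduct.lift_tmul _ _ _ _ _, map_one, map_one, mul_one, one_mul]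
      congr 1
      show b₂ (algebraMap _ S₂ ((1 : R₂) ⊗ₜ[R₁] x)) = _
      rw [hb₂]
      show algebraMap X₄ Z (ν ((1 : R₂) ⊗ₜ[R₁] x)) = _
      simp [ν]
  let bwdX : Y₄ →ₐ[X₄] Z := { bwd.toRingHom with commutes' := hbwd }
  have hfb : ∀ y, fwd (bwdX y) = y := by
    intro y
    induction y using TensorProduct.induction_on with
    | zero => simp
    | add a b ha hb => rw [map_add, map_add, ha, hb]
    | tmul r z =>
      obtain ⟨w, m, rfl⟩ := IsLocalization.exists_mk'_eq (Submonoid.powers g) z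
      have h1 : IsUnit ((1 : R₄) ⊗ₜ[R₂] algebraMap (R₂ ⊗[R₁] S₁) S₂ (m : R₂ ⊗[R₁] S₁) : Y₄) :=
        (IsLocalization.map_units S₂ m).map (Algebra.TensorProduct.includeRight : S₂ →ₐ[R₂] Y₄)
      refine h1.mul_right_cancel ?_
      have h2 : ∀ x, fwd (bwdX (algebraMap X₄ Y₄ x)) = algebraMap X₄ Y₄ x := fun x => by
        rw [bwdX.commutes, fwd.commutes]
      conv_lhs => rw [← hνg, ← h2, ← map_mul, ← map_mul]
      rw [hνg, Algebra.TensorProduct.tmul_mul_tmul, mul_one, IsLocalization.mk'_spec,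
        show r ⊗ₜ[R₂] algebraMap (R₂ ⊗[R₁] S₁) S₂ w = algebraMap X₄ Y₄ ((r ⊗ₜ[R₁] (1 : S₁)) * ν w) by
          rw [map_mul, hl, hνg, Algebra.TensorProduct.tmul_mul_tmul, mul_one, one_mul], h2]
  let e : Z ≃ₐ[X₄] Y₄ := AlgEquiv.ofAlgHom fwd bwdX (AlgHom.ext hfb)
    (IsLocalization.algHom_ext (Submonoid.powers (ν g)) (Subsingleton.elim _ _))
  exact IsLocalization.isLocalization_of_algEquiv _ e

/-- Two descriptions of a base change along a quotient agree. -/
theorem nonempty_equiv_of_quotient {S₀ S₄ A N₀ N₄ M : Type u} [CommRing S₀] [CommRing S₄] [CommRing A] [Algebra S₀ S₄]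
    [Algebra S₀ A] [Algebra S₄ A] [IsScalarTower S₀ S₄ A] [AddCommGroup N₀] [Module S₀ N₀] [AddCommGroup N₄]
    [Module S₄ N₄] [Module S₀ N₄] [IsScalarTower S₀ S₄ N₄] [AddCommGroup M] [Module A M] [Module S₄ M] [Module S₀ M]
    [IsScalarTower S₄ A M] [IsScalarTower S₀ A M] (hsurj : Function.Surjective (algebraMap S₄ A))
    (φ : N₀ →ₗ[S₀] N₄) (hφ : IsBaseChange S₄ φ) (φM : N₀ →ₗ[S₀] M) (hM : IsBaseChange A φM)
    (hker : ∀ a ∈ RingHom.ker (algebraMap S₄ A), ∀ n : N₄, a • n = 0) :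
    Nonempty (N₄ ≃ₗ[S₄] M) := by
  let I := RingHom.ker (algebraMap S₄ A)
  have htor : Module.IsTorsionBySet S₄ N₄ (I : Set S₄) := fun n a => hker a.1 a.2 n
  letI : Module (S₄ ⧸ I) N₄ := htor.module
  let eA := RingHom.quotientKerEquivOfSurjective hsurj
  letI : Module A N₄ := Module.compHom N₄ eA.symm.toRingHom
  have hsmul : ∀ (s : S₄) (n : N₄), algebraMap S₄ A s • n = s • n := fun s n => by
    show eA.symm (algebraMap S₄ A s) • n = s • n
    rw [show eA.symm (algebraMap S₄ A s) = Ideal.Quotient.mk I s from eA.injective (by rw [eA.apply_symm_apply]; rfl)]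
    rfl
  haveI : IsScalarTower S₄ A N₄ := IsScalarTower.of_algebraMap_smul hsmul
  haveI : IsScalarTower S₀ A N₄ := IsScalarTower.of_algebraMap_smul fun s n => by
    rw [IsScalarTower.algebraMap_apply S₀ S₄ A, hsmul, algebraMap_smul]
  haveI : IsScalarTower S₀ S₄ M := IsScalarTower.of_algebraMap_smul fun s m => by
    rw [← algebraMap_smul A (algebraMap S₀ S₄ s) m, ← IsScalarTower.algebraMap_apply, algebraMap_smul]
  let f : N₄ →ₗ[S₄] M := hφ.lift φM
  let g : M →ₗ[A] N₄ := hM.lift φ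
  refine ⟨LinearEquiv.ofLinearMap f (g.restrictScalars S₄) (LinearMap.ext fun m => ?_) ?_⟩
  · refine hM.inductionOn m (fun m => f (g m) = m) (by simp) (fun n => ?_) (fun a n h => ?_) fun a b ha hb => ?_
    · show f (g (φM n)) = φM n
      rw [hM.lift_eq, hφ.lift_eq]
    · obtain ⟨s, rfl⟩ := hsurj a
      show f (g (algebraMap S₄ A s • n)) = algebraMap S₄ A s • n
      rw [map_smul, hsmul, map_smul, h, algebraMap_smul]
    · show f (g (a + b)) = a + b
      rw [map_add, map_add, ha, hb]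
  · refine hφ.algHom_ext' _ _ (LinearMap.ext fun n => ?_)
    show g (f (φ n)) = φ n
    rw [hφ.lift_eq, hM.lift_eq]

/-- Primes of a tensor product over two compatible primes. -/
theorem exists_prime_tensor {R R' X : Type u} [CommRing R] [CommRing R'] [CommRing X] [Algebra R R'] [Algebra R X]
    (p' : Ideal R') [p'.IsPrime] (Q : Ideal X) [Q.IsPrime]
    (h : p'.comap (algebraMap R R') = Q.comap (algebraMap R X)) :
    ∃ Q' : Ideal (R' ⊗[R] X), Q'.IsPrime ∧ Q'.comap (algebraMap R' (R' ⊗[R] X)) = p' ∧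
      Q'.comap (incR R') = Q := by
  let p := Q.comap (algebraMap R X)
  haveI : p.IsPrime := Ideal.IsPrime.comap _
  let κ := p.ResidueField
  letI : Algebra κ p'.ResidueField := (Ideal.ResidueField.map p p' (algebraMap R R') h.symm).toAlgebra
  letI : Algebra κ Q.ResidueField := (Ideal.ResidueField.map p Q (algebraMap R X) rfl).toAlgebra
  haveI : IsScalarTower R κ p'.ResidueField := IsScalarTower.of_algebraMap_eq fun r =>
    ((Ideal.ResidueField.map_algebraMap _ _ _ h.symm r).trans (IsScalarTower.algebraMap_apply R R' _ r).symm).symm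
  haveI : IsScalarTower R κ Q.ResidueField := IsScalarTower.of_algebraMap_eq fun r =>
    ((Ideal.ResidueField.map_algebraMap _ _ _ rfl r).trans (IsScalarTower.algebraMap_apply R X _ r).symm).symm
  haveI : Nontrivial (p'.ResidueField ⊗[κ] Q.ResidueField) :=
    Algebra.TensorProduct.nontrivial_of_algebraMap_injective_of_isDomain κ _ _
      (algebraMap κ p'.ResidueField).injective (algebraMap κ Q.ResidueField).injective
  obtain ⟨m, hm⟩ := Ideal.exists_maximal (p'.ResidueField ⊗[κ] Q.ResidueField)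
  let T := p'.ResidueField ⊗[κ] Q.ResidueField
  let a : R' →ₐ[R] T :=
    ((Algebra.TensorProduct.includeLeft : p'.ResidueField →ₐ[κ] T).restrictScalars R).comp
      (IsScalarTower.toAlgHom R R' p'.ResidueField)
  let b : X →ₐ[R] T :=
    ((Algebra.TensorProduct.includeRight : Q.ResidueField →ₐ[κ] T).restrictScalars R).comp
      (IsScalarTower.toAlgHom R X Q.ResidueField)
  let χ : R' ⊗[R] X →ₐ[R] T := Algebra.TensorProduct.lift a b fun _ _ => .all _ _
  refine ⟨m.comap χ.toRingHom, Ideal.IsPrime.comap _, ?_, ?_⟩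
  · rw [Ideal.comap_comap, show χ.toRingHom.comp (algebraMap R' (R' ⊗[R] X)) =
      (Algebra.TensorProduct.includeLeftRingHom : p'.ResidueField →+* T).comp (algebraMap R' p'.ResidueField) from
        RingHom.ext fun r => by simp [χ, a, Algebra.TensorProduct.algebraMap_apply, T], ← Ideal.comap_comap,
      ((Ideal.eq_bot_or_top _).resolve_right (Ideal.IsPrime.comap _).ne_top :
        m.comap (Algebra.TensorProduct.includeLeftRingHom : p'.ResidueField →+* T) = ⊥), ← RingHom.ker_eq_comap_bot,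
      Ideal.ker_algebraMap_residueField]
  · rw [Ideal.comap_comap, show χ.toRingHom.comp (incR R') =
      ((Algebra.TensorProduct.includeRight : Q.ResidueField →ₐ[κ] T).toRingHom).comp (algebraMap X Q.ResidueField) from
        RingHom.ext fun r => by simp [χ, b, T], ← Ideal.comap_comap,
      ((Ideal.eq_bot_or_top _).resolve_right (Ideal.IsPrime.comap _).ne_top :
        m.comap (Algebra.TensorProduct.includeRight : Q.ResidueField →ₐ[κ] T).toRingHom = ⊥),
      ← RingHom.ker_eq_comap_bot, Ideal.ker_algebraMap_residueField]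

end Groth.Agent.RG11
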