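import Groth.Agent.RG11.PointFields
import Mathlib

/-!
# Points with trivial residue extensions and their base change
-/

universe u

set_option linter.style.haveILetI false

namespace Groth.Agent.RG11

open TensorProduct

/-- `p'` lies over `p` and has the same residue field. -/
structure TrivExt {R R' : Type u} [CommRing R] [CommRing R'] [Algebra R R'] (p : Ideal R) (p' : Ideal R') : Prop where
  comap_eq : p'.comap (algebraMap R R') = p
  exists_sub_mem : ∀ r : R', ∃ u v : R, u ∉ p ∧ algebraMap R R' u * r - algebraMap R R' v ∈ p'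

namespace TrivExt

variable {R R' : Type u} [CommRing R] [CommRing R'] [Algebra R R'] {p : Ideal R} {p' : Ideal R'}

theorem liesOver (h : TrivExt p p') : p'.LiesOver p := ⟨h.comap_eq.symm⟩

theorem not_mem_iff (h : TrivExt p p') (r : R) : algebraMap R R' r ∉ p' ↔ r ∉ p := by
  rw [← h.comap_eq, Ideal.mem_comap]

theorem trans {R'' : Type u} [CommRing R''] [Algebra R' R''] [Algebra R R''] [IsScalarTower R R' R'']
    {p'' : Ideal R''} [p.IsPrime] [p'.IsPrime] (h : TrivExt p p') (h' : TrivExt p' p'') : TrivExt p p'' := by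
  refine ⟨by rw [IsScalarTower.algebraMap_eq R R' R'', ← Ideal.comap_comap, h'.comap_eq, h.comap_eq], fun r => ?_⟩
  obtain ⟨u', v', hu', h1⟩ := h'.exists_sub_mem r
  obtain ⟨a, x, ha, h2⟩ := h.exists_sub_mem u'
  obtain ⟨c, z, hc, h3⟩ := h.exists_sub_mem v'
  have hx : x ∉ p := fun hx => by
    refine (Ideal.IsPrime.mul_notMem ‹p'.IsPrime› ((h.not_mem_iff a).2 ha) hu') ?_
    have hx' : algebraMap R R' x ∈ p' := by
      rw [← Ideal.mem_comap, h.comap_eq]; exact hx
    simpa using add_mem h2 hx'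
  refine ⟨x * c, z * a, Ideal.IsPrime.mul_notMem ‹_› hx hc, ?_⟩
  have e2 : algebraMap R' R'' (algebraMap R R' a * u' - algebraMap R R' x) ∈ p'' := by
    rw [← Ideal.mem_comap, h'.comap_eq]; exact h2
  have e3 : algebraMap R' R'' (algebraMap R R' c * v' - algebraMap R R' z) ∈ p'' := by
    rw [← Ideal.mem_comap, h'.comap_eq]; exact h3
  convert add_mem (add_mem (p''.mul_mem_left (-(algebraMap R R'' c * r)) e2)
    (p''.mul_mem_left (algebraMap R R'' a * algebraMap R R'' c) h1)) (p''.mul_mem_left (algebraMap R R'' a) e3) using 1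
  simp only [map_mul, map_sub, ← IsScalarTower.algebraMap_apply R R' R'']
  ring

/-- The map of residue fields is bijective. -/
theorem bijective [p.IsPrime] [p'.IsPrime] (h : TrivExt p p') :
    Function.Bijective (Ideal.ResidueField.mapₐ p p' (Algebra.ofId R R') h.comap_eq.symm) := by
  let φ := Ideal.ResidueField.mapₐ p p' (Algebra.ofId R R') h.comap_eq.symm
  refine ⟨φ.toRingHom.injective, fun z => ?_⟩
  have hC : ∀ r : R', ∃ w, φ w = algebraMap R' p'.ResidueField r := fun r => by
    obtain ⟨u, v, hu, hm⟩ := h.exists_sub_mem r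
    refine ⟨algebraMap R _ v / algebraMap R _ u, ?_⟩
    have hu0 : algebraMap R p'.ResidueField u ≠ 0 := by
      rw [IsScalarTower.algebraMap_apply R R' p'.ResidueField]
      exact fun h0 => (h.not_mem_iff u).2 hu (Ideal.algebraMap_residueField_eq_zero.1 h0)
    rw [map_div₀, AlgHom.commutes, AlgHom.commutes, div_eq_iff hu0, IsScalarTower.algebraMap_apply R R' p'.ResidueField,
      IsScalarTower.algebraMap_apply R R' p'.ResidueField u, ← map_mul, mul_comm r]
    exact (sub_eq_zero.1 (by rw [← map_sub]; exact Ideal.algebraMap_residueField_eq_zero.2 hm)).symm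
  obtain ⟨a, b, hb, rfl⟩ := IsFractionRing.div_surjective (R' ⧸ p') z
  obtain ⟨a, rfl⟩ := Ideal.Quotient.mk_surjective a
  obtain ⟨b, rfl⟩ := Ideal.Quotient.mk_surjective b
  obtain ⟨wa, hwa⟩ := hC a
  obtain ⟨wb, hwb⟩ := hC b
  refine ⟨wa / wb, ?_⟩
  show φ (wa / wb) = _
  rw [map_div₀, hwa, hwb, Ideal.algebraMap_quotient_residueField_mk, Ideal.algebraMap_quotient_residueField_mk]

theorem of_bijective [p.IsPrime] [p'.IsPrime] (hover : p'.LiesOver p)
    (h : Function.Bijective (Ideal.ResidueField.mapₐ p p' (Algebra.ofId R R') hover.over)) : TrivExt p p' := by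
  refine ⟨hover.over.symm, fun r => ?_⟩
  obtain ⟨w, hw⟩ := h.2 (algebraMap R' p'.ResidueField r)
  obtain ⟨v, u, hu, rfl⟩ := IsFractionRing.div_surjective (R ⧸ p) w
  obtain ⟨v, rfl⟩ := Ideal.Quotient.mk_surjective v
  obtain ⟨u, rfl⟩ := Ideal.Quotient.mk_surjective u
  have hu' : u ∉ p := fun h0 => nonZeroDivisors.ne_zero hu (Ideal.Quotient.eq_zero_iff_mem.2 h0)
  refine ⟨u, v, hu', Ideal.algebraMap_residueField_eq_zero.1 ?_⟩
  rw [Ideal.algebraMap_quotient_residueField_mk, Ideal.algebraMap_quotient_residueField_mk, map_div₀,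
    AlgHom.commutes, AlgHom.commutes] at hw
  have hu0 : algebraMap R p'.ResidueField u ≠ 0 := by
    rw [IsScalarTower.algebraMap_apply R R' p'.ResidueField]
    intro h0
    exact hu' (hover.over.ge (Ideal.mem_comap.2 (Ideal.algebraMap_residueField_eq_zero.1 h0)))
  rw [map_sub, map_mul, ← IsScalarTower.algebraMap_apply, ← IsScalarTower.algebraMap_apply, ← hw,
    mul_div_cancel₀ _ hu0, sub_self]

theorem of_isEtaleNhd [p.IsPrime] [p'.IsPrime] (h : FlatCA.IsEtaleNhd R R' p p') : TrivExt p p' := by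
  obtain ⟨-, hover, hbij⟩ := h
  exact of_bijective hover hbij

theorem isEtaleNhd [p.IsPrime] [p'.IsPrime] [Algebra.Etale R R'] (h : TrivExt p p') : FlatCA.IsEtaleNhd R R' p p' :=
  ⟨inferInstance, h.liesOver, h.bijective⟩

theorem of_localization [p.IsPrime] (s : R) [IsLocalization.Away s R'] (hs : s ∉ p) :
    TrivExt p (p.map (algebraMap R R')) := by
  have hd : Disjoint (Submonoid.powers s : Set R) p := (Ideal.disjoint_powers_iff_notMem_of_isPrime _).2 hs
  refine ⟨IsLocalization.comap_map_of_isPrime_disjoint (Submonoid.powers s) R' inferInstance hd, fun r => ?_⟩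
  obtain ⟨a, m, rfl⟩ := IsLocalization.exists_mk'_eq (Submonoid.powers s) r
  refine ⟨(m : R), a, fun hm => Set.disjoint_left.1 hd m.2 hm, ?_⟩
  rw [mul_comm, IsLocalization.mk'_spec, sub_self]
  exact zero_mem _

end TrivExt

section Tensor

variable {R R' T : Type u} [CommRing R] [CommRing R'] [CommRing T] [Algebra R R'] [Algebra R T]
  {p : Ideal R} [p.IsPrime] {p' : Ideal R'} [p'.IsPrime]

theorem exists_smul_sub_mem (h : TrivExt p p') (a : R' ⊗[R] T) :
    ∃ u : R, u ∉ p ∧ ∃ t : T,
      algebraMap R (R' ⊗[R] T) u * a - (1 : R') ⊗ₜ[R] t ∈ p'.map (algebraMap R' (R' ⊗[R] T)) := by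
  induction a using TensorProduct.induction_on with
  | zero => exact ⟨1, fun h => Ideal.IsPrime.ne_top ‹_› ((Ideal.eq_top_iff_one p).2 h), 0, by simp⟩
  | tmul r t =>
    obtain ⟨u, v, hu, hm⟩ := h.exists_sub_mem r
    refine ⟨u, hu, algebraMap R T v * t, ?_⟩
    convert Ideal.mul_mem_right ((1 : R') ⊗ₜ[R] t) _ (Ideal.mem_map_of_mem (algebraMap R' (R' ⊗[R] T)) hm) using 1
    simp only [Algebra.TensorProduct.algebraMap_apply, Algebra.algebraMap_self, RingHom.id_apply,
      Algebra.TensorProduct.tmul_mul_tmul, mul_one, one_mul, sub_mul, sub_tmul]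
    rw [← Algebra.smul_def v t, Algebra.algebraMap_eq_smul_one v, ← TensorProduct.smul_tmul]
  | add a b ha hb =>
    obtain ⟨u₁, hu₁, t₁, h₁⟩ := ha
    obtain ⟨u₂, hu₂, t₂, h₂⟩ := hb
    refine ⟨u₁ * u₂, Ideal.IsPrime.mul_notMem ‹_› hu₁ hu₂, algebraMap R T u₂ * t₁ + algebraMap R T u₁ * t₂, ?_⟩
    convert add_mem (Ideal.mul_mem_left _ (algebraMap R (R' ⊗[R] T) u₂) h₁)
      (Ideal.mul_mem_left _ (algebraMap R (R' ⊗[R] T) u₁) h₂) using 1
    have e : ∀ (w : R) (t : T), (1 : R') ⊗ₜ[R] (algebraMap R T w * t) = algebraMap R (R' ⊗[R] T) w * (1 : R') ⊗ₜ[R] t := by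
      intro w t
      rw [Algebra.TensorProduct.algebraMap_apply, Algebra.TensorProduct.tmul_mul_tmul, mul_one, one_mul,
        ← Algebra.smul_def, Algebra.algebraMap_eq_smul_one, TensorProduct.smul_tmul]
    rw [TensorProduct.tmul_add, e, e, map_mul]
    ring

/-- The inclusion of the second factor. -/
noncomputable abbrev incR (R' : Type u) [CommRing R'] [Algebra R R'] : T →+* R' ⊗[R] T :=
  (Algebra.TensorProduct.includeRight : T →ₐ[R] R' ⊗[R] T).toRingHom

theorem le_of_comap_le (h : TrivExt p p') (Q Q' : Ideal (R' ⊗[R] T)) [Q'.IsPrime]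
    (hQ : p'.map (algebraMap R' (R' ⊗[R] T)) ≤ Q) (hQ' : Q'.comap (algebraMap R' (R' ⊗[R] T)) = p')
    (hle : Q.comap (incR R') ≤ Q'.comap (incR R')) : Q ≤ Q' := by
  intro a ha
  obtain ⟨u, hu, t, ht⟩ := exists_smul_sub_mem h a
  have h1 : (1 : R') ⊗ₜ[R] t ∈ Q := by
    simpa using sub_mem (Q.mul_mem_left (algebraMap R (R' ⊗[R] T) u) ha) (hQ ht)
  have h2 : (1 : R') ⊗ₜ[R] t ∈ Q' := hle h1
  have h3 : algebraMap R (R' ⊗[R] T) u * a ∈ Q' := by
    simpa using add_mem (Ideal.map_le_iff_le_comap.2 hQ'.ge ht) h2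
  refine ((inferInstance : Q'.IsPrime).mem_or_mem h3).resolve_left fun h4 => ?_
  rw [IsScalarTower.algebraMap_apply R R' (R' ⊗[R] T), ← Ideal.mem_comap, hQ'] at h4
  exact (h.not_mem_iff u).2 hu h4

theorem eq_of_comap_eq (h : TrivExt p p') (Q Q' : Ideal (R' ⊗[R] T)) [Q.IsPrime] [Q'.IsPrime]
    (hQ : Q.comap (algebraMap R' (R' ⊗[R] T)) = p') (hQ' : Q'.comap (algebraMap R' (R' ⊗[R] T)) = p')
    (he : Q.comap (incR R') = Q'.comap (incR R')) : Q = Q' :=
  le_antisymm (le_of_comap_le h Q Q' (Ideal.map_le_iff_le_comap.2 hQ.ge) hQ' he.le)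
    (le_of_comap_le h Q' Q (Ideal.map_le_iff_le_comap.2 hQ'.ge) hQ he.ge)

theorem exists_prime_over (h : TrivExt p p') (t : Ideal T) [t.IsPrime] (ht : t.comap (algebraMap R T) = p) :
    ∃ Q : Ideal (R' ⊗[R] T), Q.IsPrime ∧ Q.comap (algebraMap R' (R' ⊗[R] T)) = p' ∧ Q.comap (incR R') = t := by
  let e := RingEquiv.ofBijective (Ideal.ResidueField.mapₐ p p' (Algebra.ofId R R') h.comap_eq.symm).toRingHom h.bijective
  let m := Ideal.ResidueField.map p t (algebraMap R T) ht.symm
  let f : R' →+* t.ResidueField := (m.comp e.symm.toRingHom).comp (algebraMap R' p'.ResidueField)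
  have hf : ∀ r : R, f (algebraMap R R' r) = algebraMap R t.ResidueField r := fun r => by
    have h1 : e (algebraMap R p.ResidueField r) = algebraMap R' p'.ResidueField (algebraMap R R' r) :=
      ((Ideal.ResidueField.mapₐ p p' (Algebra.ofId R R') h.comap_eq.symm).commutes r).trans
        (IsScalarTower.algebraMap_apply R R' p'.ResidueField r)
    show m (e.symm (algebraMap R' p'.ResidueField (algebraMap R R' r))) = _
    rw [← h1, RingEquiv.symm_apply_apply]
    exact (Ideal.ResidueField.map_algebraMap _ _ _ _ r).trans (IsScalarTower.algebraMap_apply R T t.ResidueField r).symm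
  let χ : R' ⊗[R] T →ₐ[R] t.ResidueField :=
    Algebra.TensorProduct.lift { f with commutes' := hf } (IsScalarTower.toAlgHom R T t.ResidueField) fun _ _ => .all _ _
  refine ⟨RingHom.ker χ.toRingHom, RingHom.ker_isPrime _, ?_, ?_⟩
  · rw [RingHom.comap_ker]
    refine Eq.trans ?_ (RingHom.ker_comp_of_injective (algebraMap R' p'.ResidueField)
      (m.comp e.symm.toRingHom).injective |>.trans (Ideal.ker_algebraMap_residueField _))
    congr 1
    refine RingHom.ext fun r => ?_
    show χ (algebraMap R' (R' ⊗[R] T) r) = f r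
    simp [χ, Algebra.TensorProduct.algebraMap_apply]
  · rw [RingHom.comap_ker]
    refine Eq.trans ?_ (Ideal.ker_algebraMap_residueField t)
    congr 1
    refine RingHom.ext fun r => ?_
    show χ ((1 : R') ⊗ₜ[R] r) = _
    simp [χ]

theorem trivExt_incR (h : TrivExt p p') (t : Ideal T) [t.IsPrime] (ht : t.comap (algebraMap R T) = p)
    (Q : Ideal (R' ⊗[R] T)) [Q.IsPrime] (hQ : Q.comap (algebraMap R' (R' ⊗[R] T)) = p')
    (hQt : Q.comap (incR R') = t) :
    letI := (incR (R := R) (T := T) R').toAlgebra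
    TrivExt t Q := by
  letI := (incR (R := R) (T := T) R').toAlgebra
  refine ⟨hQt, fun a => ?_⟩
  obtain ⟨u, hu, t', ht'⟩ := exists_smul_sub_mem h a
  refine ⟨algebraMap R T u, t', fun h0 => hu (ht.le h0), ?_⟩
  rw [show algebraMap T (R' ⊗[R] T) (algebraMap R T u) = algebraMap R (R' ⊗[R] T) u from
    (Algebra.TensorProduct.includeRight : T →ₐ[R] R' ⊗[R] T).commutes u]
  exact Ideal.map_le_iff_le_comap.2 hQ.ge ht'

end Tensor

/-- Pure transcendence of residue extensions is invariant under trivial residue extensions. -/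
theorem pureTrans_congr {R S R' S' : Type u} [CommRing R] [CommRing S] [CommRing R'] [CommRing S'] [Algebra R S]
    [Algebra R' S'] [Algebra R R'] [Algebra S S'] [Algebra R S'] [IsScalarTower R R' S'] [IsScalarTower R S S']
    {p : Ideal R} [p.IsPrime] {q : Ideal S} [q.IsPrime] {p' : Ideal R'} [p'.IsPrime] {q' : Ideal S'} [q'.IsPrime]
    [hq : q.LiesOver p] [hq' : q'.LiesOver p'] (hp : TrivExt p p') (hqq : TrivExt q q')
    (h : FlatCA.PurelyTranscendental p q) : FlatCA.PurelyTranscendental p' q' := by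
  letI : Algebra p.ResidueField q.ResidueField :=
    (Ideal.ResidueField.mapₐ p q (Algebra.ofId R S) hq.over).toRingHom.toAlgebra
  letI : Algebra p'.ResidueField q'.ResidueField :=
    (Ideal.ResidueField.mapₐ p' q' (Algebra.ofId R' S') hq'.over).toRingHom.toAlgebra
  obtain ⟨ι, x, hx, hgen⟩ := h
  let e₁ := (Ideal.ResidueField.mapₐ p p' (Algebra.ofId R R') hp.comap_eq.symm).toRingHom
  let e₂ := (Ideal.ResidueField.mapₐ q q' (Algebra.ofId S S') hqq.comap_eq.symm).toRingHom
  have hcomm : (algebraMap p'.ResidueField q'.ResidueField).comp e₁ =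
      e₂.comp (algebraMap p.ResidueField q.ResidueField) := by
    refine Ideal.ResidueField.ringHom_ext (RingHom.ext fun r => ?_)
    show (Ideal.ResidueField.mapₐ p' q' (Algebra.ofId R' S') hq'.over)
        ((Ideal.ResidueField.mapₐ p p' (Algebra.ofId R R') hp.comap_eq.symm) (algebraMap R _ r)) =
      (Ideal.ResidueField.mapₐ q q' (Algebra.ofId S S') hqq.comap_eq.symm)
        ((Ideal.ResidueField.mapₐ p q (Algebra.ofId R S) hq.over) (algebraMap R _ r))
    rw [AlgHom.commutes, AlgHom.commutes, IsScalarTower.algebraMap_apply R R' p'.ResidueField, AlgHom.commutes,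
      IsScalarTower.algebraMap_apply R S q.ResidueField, AlgHom.commutes,
      IsScalarTower.algebraMap_apply R' S' q'.ResidueField, IsScalarTower.algebraMap_apply S S' q'.ResidueField,
      ← IsScalarTower.algebraMap_apply R R' S', ← IsScalarTower.algebraMap_apply R S S']
  have hind : AlgebraicIndependent p'.ResidueField (e₂ ∘ x) :=
    hx.1.ringHom_of_comp_eq e₁ e₂ hp.bijective.2 e₂.injective hcomm
  have htop : IntermediateField.adjoin p'.ResidueField (Set.range (e₂ ∘ x)) = ⊤ := by
    refine eq_top_iff.2 fun z hz => ?_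
    clear hz
    obtain ⟨w, rfl⟩ := hqq.bijective.2 z
    show e₂ w ∈ _
    have hw : w ∈ IntermediateField.adjoin p.ResidueField (Set.range x) := by rw [hgen]; trivial
    induction hw using IntermediateField.adjoin_induction with
    | mem a ha =>
      obtain ⟨i, rfl⟩ := ha
      exact IntermediateField.subset_adjoin _ _ ⟨i, rfl⟩
    | algebraMap c =>
      rw [show e₂ (algebraMap p.ResidueField q.ResidueField c) = algebraMap _ _ (e₁ c) from
        (RingHom.congr_fun hcomm c).symm]
      exact IntermediateField.algebraMap_mem _ _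
    | add a b _ _ ha hb => rw [map_add]; exact add_mem ha hb
    | inv a _ ha => rw [map_inv₀]; exact inv_mem ha
    | mul a b _ _ ha hb => rw [map_mul]; exact mul_mem ha hb
  refine ⟨ι, e₂ ∘ x, hind.isTranscendenceBasis_iff_isAlgebraic.2 ?_, htop⟩
  rw [← IntermediateField.isAlgebraic_adjoin_iff_top, htop, Algebra.isAlgebraic_iff_isIntegral]
  exact Algebra.isIntegral_of_surjective IntermediateField.topEquiv.surjective

end Groth.Agent.RG11
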