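import Groth.Agent.RG11.FibreDim
import Groth.Agent.RG11.TrivExt
import Groth.Agent.RG11.LayerBC
import Groth.Agent.RG11.GoodAux
import Mathlib

/-!
# Auxiliary lemmas for the existence of complete dévissages
-/

universe u

set_option linter.style.haveILetI false

namespace Groth.Agent.RG11

open TensorProduct Order
open FlatFibres (fibSupp)

namespace TrivExt

theorem of_surjective {R R' : Type u} [CommRing R] [CommRing R'] [Algebra R R'] {p : Ideal R} [p.IsPrime]
    {p' : Ideal R'} (hsurj : Function.Surjective (algebraMap R R')) (h : p'.comap (algebraMap R R') = p) :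
    TrivExt p p' := by
  refine ⟨h, fun r => ?_⟩
  obtain ⟨v, rfl⟩ := hsurj r
  exact ⟨1, v, (Ideal.ne_top_iff_one p).1 Ideal.IsPrime.ne_top', by simp⟩

theorem descend {R R' R'' : Type u} [CommRing R] [CommRing R'] [CommRing R''] [Algebra R R'] [Algebra R' R'']
    [Algebra R R''] [IsScalarTower R R' R''] {p : Ideal R} {p'' : Ideal R''} (h : TrivExt p p'') :
    TrivExt p (p''.comap (algebraMap R' R'')) := by
  refine ⟨by rw [Ideal.comap_comap, ← IsScalarTower.algebraMap_eq, h.comap_eq], fun r => ?_⟩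
  obtain ⟨a, v, ha, hv⟩ := h.exists_sub_mem (algebraMap R' R'' r)
  refine ⟨a, v, ha, ?_⟩
  rw [Ideal.mem_comap, map_sub, map_mul, ← IsScalarTower.algebraMap_apply, ← IsScalarTower.algebraMap_apply]
  exact hv

theorem of_point {R R' : Type u} [CommRing R] [CommRing R'] [Algebra R R'] {p : Ideal R} [p.IsPrime]
    (θ : R' →ₐ[R] p.ResidueField) : TrivExt p (RingHom.ker θ.toRingHom) := by
  haveI : (RingHom.ker θ.toRingHom).IsPrime := RingHom.ker_isPrime _
  haveI hover : (RingHom.ker θ.toRingHom).LiesOver p := ⟨by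
    rw [Ideal.under, RingHom.comap_ker]
    refine (Eq.trans ?_ (Ideal.ker_algebraMap_residueField p)).symm
    congr 1
    exact RingHom.ext θ.commutes⟩
  exact of_bijective hover (residue_bijective_of_point p θ)

end TrivExt

/-- Points of residue fields are algebraic over the image of the ring. -/
theorem isAlgebraic_residueField {R S : Type u} [CommRing R] [CommRing S] [Algebra R S] (q : Ideal S) [q.IsPrime]
    (z : q.ResidueField) : IsAlgebraic (IsScalarTower.toAlgHom R S q.ResidueField).range z := by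
  refine isAlgebraic_of_fraction (IsScalarTower.toAlgHom R S q.ResidueField).range.toSubring (fun w => ?_) z
  obtain ⟨a, b, hb, rfl⟩ := IsFractionRing.div_surjective (S ⧸ q) w
  obtain ⟨a, rfl⟩ := Ideal.Quotient.mk_surjective a
  obtain ⟨b, rfl⟩ := Ideal.Quotient.mk_surjective b
  have hb' : algebraMap S q.ResidueField b ≠ 0 := fun h0 =>
    nonZeroDivisors.ne_zero hb (Ideal.Quotient.eq_zero_iff_mem.2 (Ideal.algebraMap_residueField_eq_zero.1 h0))
  refine ⟨algebraMap S q.ResidueField a, algebraMap S q.ResidueField b, hb',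
    isAlgebraic_algebraMap (R := (IsScalarTower.toAlgHom R S q.ResidueField).range.toSubring) ⟨_, ⟨a, rfl⟩⟩,
    isAlgebraic_algebraMap (R := (IsScalarTower.toAlgHom R S q.ResidueField).range.toSubring) ⟨_, ⟨b, rfl⟩⟩, ?_⟩
  rw [Ideal.algebraMap_quotient_residueField_mk, Ideal.algebraMap_quotient_residueField_mk, div_mul_cancel₀ _ hb']

/-- The point of the fibre and the dimension at a point of a fibre support. -/
theorem exists_fibre_point {R S : Type u} [CommRing R] [CommRing S] [Algebra R S] [Algebra.FiniteType R S]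
    (N : Type u) [AddCommGroup N] [Module S N] [Module.Finite S N] (p : Ideal R) [p.IsPrime] (q : Ideal S)
    [q.IsPrime] [hover : q.LiesOver p] [Algebra p.ResidueField q.ResidueField]
    [IsScalarTower R p.ResidueField q.ResidueField]
    (hq : (⟨q, inferInstance⟩ : PrimeSpectrum S) ∈ fibSupp p S N) :
    ∃ (h c : ℕ), Algebra.trdeg p.ResidueField q.ResidueField = c ∧
      ∃ (x : PrimeSpectrum (p.Fiber S)) (hx : x ∈ Module.support (p.Fiber S) (FlatCA.fiberMod p S N)),
        x.asIdeal = FlatCA.fiberIdeal p q ∧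
        FlatMor.localDim (Module.support (p.Fiber S) (FlatCA.fiberMod p S N)) ⟨x, hx⟩ = ((h + c : ℕ) : WithBot ℕ∞) := by
  obtain ⟨h, c, -, hc, hx⟩ := exists_dims N p q.ResidueField (IsScalarTower.toAlgHom R S q.ResidueField)
    (isAlgebraic_residueField q) ⟨_, hq⟩ (Ideal.ker_algebraMap_residueField q)
  exact ⟨h, c, hc, hx⟩

/-- A finite basis of a purely transcendental residue extension with rational generation. -/
theorem exists_pureTrans_basis {R S : Type u} [CommRing R] [CommRing S] [Algebra R S] [Algebra.FiniteType R S]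
    (p : Ideal R) [p.IsPrime] (q : Ideal S) [q.IsPrime] [hover : q.LiesOver p]
    (h : FlatCA.PurelyTranscendental p q) :
    letI : Algebra p.ResidueField q.ResidueField :=
      (Ideal.ResidueField.mapₐ p q (Algebra.ofId R S) hover.over).toRingHom.toAlgebra
    ∃ (m : ℕ) (v : Fin m → q.ResidueField), AlgebraicIndependent p.ResidueField v ∧
      ∀ z : q.ResidueField, ∃ a b : MvPolynomial (Fin m) p.ResidueField,
        MvPolynomial.aeval v b ≠ 0 ∧ z * MvPolynomial.aeval v b = MvPolynomial.aeval v a := by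
  letI : Algebra p.ResidueField q.ResidueField :=
    (Ideal.ResidueField.mapₐ p q (Algebra.ofId R S) hover.over).toRingHom.toAlgebra
  haveI : IsScalarTower R p.ResidueField q.ResidueField := IsScalarTower.of_algebraMap_eq fun r =>
    ((Ideal.ResidueField.mapₐ p q (Algebra.ofId R S) hover.over).commutes r).symm
  obtain ⟨ι, x, hx, hgen⟩ := h
  obtain ⟨-, c, hc, -⟩ := exists_fibre_point S p q ⟨by
    rw [Module.support_of_algebra]
    intro a ha
    rw [show a = 0 from ha]
    exact zero_mem _, hover.over.symm⟩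
  haveI : Finite ι := Cardinal.lt_aleph0_iff_finite.1 (by
    rw [hx.cardinalMk_eq_trdeg, hc]
    exact Cardinal.natCast_lt_aleph0)
  obtain ⟨m, ⟨e⟩⟩ := Finite.exists_equiv_fin ι
  refine ⟨m, x ∘ e.symm, hx.1.comp _ e.symm.injective, fun z => ?_⟩
  have hz : z ∈ IntermediateField.adjoin p.ResidueField (Set.range (x ∘ e.symm)) := by
    rw [e.symm.surjective.range_comp, hgen]
    trivial
  obtain ⟨a, b, rfl⟩ := (IntermediateField.mem_adjoin_range_iff p.ResidueField (x ∘ e.symm) z).1 hz
  by_cases hb : MvPolynomial.aeval (x ∘ e.symm) b = 0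
  · exact ⟨0, 1, by simp, by simp [hb]⟩
  · exact ⟨a, b, hb, div_mul_cancel₀ _ hb⟩

/-- The extension of a prime below a point is prime for a flat algebra with fibres without zero divisors. -/
theorem isPrime_map_of_nzd {R D : Type u} [CommRing R] [CommRing D] [Algebra R D] [Module.Flat R D]
    (h : NZDFibres R D) (p : Ideal R) [p.IsPrime] (Q : Ideal D) [Q.IsPrime] (hQ : Q.comap (algebraMap R D) = p) :
    (p.map (algebraMap R D)).IsPrime := by
  haveI := h p.ResidueField
  haveI : Nontrivial (p.ResidueField ⊗[R] D) := by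
    obtain ⟨x, hx⟩ := exists_prime_tensor (R' := p.ResidueField) (X := D) (⊥ : Ideal p.ResidueField) Q
      (by rw [hQ, ← RingHom.ker_eq_comap_bot]; exact Ideal.ker_algebraMap_residueField p)
    exact ⟨0, 1, fun h01 => hx.1.ne_top ((Ideal.eq_top_iff_one _).2 (h01 ▸ zero_mem x))⟩
  haveI : IsDomain (p.ResidueField ⊗[R] D) := NoZeroDivisors.to_isDomain _
  let ι : (R ⧸ p) →ₗ[R] p.ResidueField := (IsScalarTower.toAlgHom R (R ⧸ p) p.ResidueField).toLinearMap
  have hι : Function.Injective (ι.rTensor D) :=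
    Module.Flat.rTensor_preserves_injective_linearMap ι (IsFractionRing.injective (R ⧸ p) p.ResidueField)
  let f : D →+* p.ResidueField ⊗[R] D := (Algebra.TensorProduct.includeRight : D →ₐ[R] p.ResidueField ⊗[R] D).toRingHom
  suffices hk : RingHom.ker f = p.map (algebraMap R D) by rw [← hk]; exact RingHom.ker_isPrime f
  refine le_antisymm (fun a ha => ?_) (Ideal.map_le_iff_le_comap.2 fun r hr => ?_)
  · have h0 : ι.rTensor D ((1 : R ⧸ p) ⊗ₜ[R] a) = 0 := by
      simp only [LinearMap.rTensor_tmul, ι, AlgHom.toLinearMap_apply, map_one]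
      exact ha
    have h1 : (1 : R ⧸ p) ⊗ₜ[R] a = 0 := hι (by rw [h0, map_zero])
    refine Ideal.Quotient.eq_zero_iff_mem.1 ((Algebra.TensorProduct.quotIdealMapEquivTensorQuot D p).injective ?_)
    rw [Algebra.TensorProduct.quotIdealMapEquivTensorQuot_mk, map_zero]
    exact (TensorProduct.comm R (R ⧸ p) D).symm.injective (by rw [map_zero, TensorProduct.comm_symm_tmul]; exact h1)
  · show f (algebraMap R D r) = 0
    exact ((Algebra.TensorProduct.includeRight : D →ₐ[R] p.ResidueField ⊗[R] D).commutes r).trans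
      (by rw [IsScalarTower.algebraMap_apply R p.ResidueField (p.ResidueField ⊗[R] D),
            Ideal.algebraMap_residueField_eq_zero.2 hr, map_zero])

/-- The generic point of a fibre restricts to the generic point of a fibre. -/
theorem comap_map_generic {R' R₂ D D₂ : Type u} [CommRing R'] [CommRing R₂] [CommRing D] [CommRing D₂]
    [Algebra R' R₂] [Algebra.QuasiFinite R' R₂] [Algebra R' D] [Algebra R₂ D₂] [Algebra D D₂] [Module.Flat D D₂]
    [Algebra R' D₂] [IsScalarTower R' R₂ D₂] [IsScalarTower R' D D₂] {p' : Ideal R'} {p₂ : Ideal R₂} [p₂.IsPrime]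
    (hp : p₂.comap (algebraMap R' R₂) = p') {P : Ideal D} [P.IsPrime] (hP : P = p'.map (algebraMap R' D))
    (hPp : P.comap (algebraMap R' D) = p') {P₂ : Ideal D₂} [P₂.IsPrime] (hP₂ : P₂ = p₂.map (algebraMap R₂ D₂))
    (hP₂p : P₂.comap (algebraMap R₂ D₂) = p₂) : P₂.comap (algebraMap D D₂) = P := by
  have hle : P ≤ P₂.comap (algebraMap D D₂) := by
    rw [hP, Ideal.map_le_iff_le_comap, Ideal.comap_comap, ← IsScalarTower.algebraMap_eq,
      IsScalarTower.algebraMap_eq R' R₂ D₂, ← Ideal.comap_comap, hP₂p, hp]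
  haveI : P₂.LiesOver (P₂.comap (algebraMap D D₂)) := ⟨rfl⟩
  obtain ⟨W, hW, hWp, hWP⟩ := Ideal.exists_ideal_le_liesOver_of_le P₂ hle
  suffices W = P₂ by rw [← this]; exact hWP.over.symm
  refine le_antisymm hW ?_
  rw [hP₂, Ideal.map_le_iff_le_comap]
  refine (Algebra.QuasiFinite.eq_of_le_of_under_eq (R := R') (W.comap (algebraMap R₂ D₂)) p₂
    ((Ideal.comap_mono hW).trans hP₂p.le) ?_).ge
  show (W.comap (algebraMap R₂ D₂)).comap (algebraMap R' R₂) = p₂.comap (algebraMap R' R₂)
  rw [Ideal.comap_comap, ← IsScalarTower.algebraMap_eq, IsScalarTower.algebraMap_eq R' D D₂, ← Ideal.comap_comap, hp]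
  exact (congrArg (Ideal.comap (algebraMap R' D)) hWP.over.symm).trans hPp

/-- Quotients by extended ideals are pushouts. -/
theorem isPushout_of_surjective {S' S₂ C C₂ : Type u} [CommRing S'] [CommRing S₂] [CommRing C] [CommRing C₂]
    [Algebra S' S₂] [Algebra S' C] [Algebra S₂ C₂] [Algebra C C₂] [Algebra S' C₂] [IsScalarTower S' S₂ C₂]
    [IsScalarTower S' C C₂] (hC : Function.Surjective (algebraMap S' C)) (hC₂ : Function.Surjective (algebraMap S₂ C₂))
    (hker : RingHom.ker (algebraMap S₂ C₂) ≤ (RingHom.ker (algebraMap S' C)).map (algebraMap S' S₂)) :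
    Algebra.IsPushout S' S₂ C C₂ := by
  let m : S₂ ⊗[S'] C →ₐ[S₂] C₂ :=
    Algebra.TensorProduct.lift (Algebra.ofId S₂ C₂) (IsScalarTower.toAlgHom S' C C₂) fun _ _ => .all _ _
  have hl : ∀ w : S₂ ⊗[S'] C, ∃ x : S₂, w = algebraMap S₂ (S₂ ⊗[S'] C) x := fun w => by
    induction w using TensorProduct.induction_on with
    | zero => exact ⟨0, (map_zero _).symm⟩
    | add a b ha hb =>
      obtain ⟨x, rfl⟩ := ha
      obtain ⟨x', rfl⟩ := hb
      exact ⟨x + x', (map_add _ _ _).symm⟩
    | tmul x c =>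
      obtain ⟨s, rfl⟩ := hC c
      exact ⟨algebraMap S' S₂ s * x, by
        rw [Algebra.TensorProduct.algebraMap_apply, Algebra.algebraMap_self_apply, ← Algebra.smul_def,
          TensorProduct.smul_tmul, Algebra.smul_def, mul_one]⟩
  have hm : Function.Bijective m := by
    refine ⟨(injective_iff_map_eq_zero m).2 fun w hw => ?_, fun c => ?_⟩
    · obtain ⟨x, rfl⟩ := hl w
      rw [AlgHom.commutes] at hw
      have hle : (RingHom.ker (algebraMap S' C)).map (algebraMap S' S₂) ≤
          RingHom.ker (algebraMap S₂ (S₂ ⊗[S'] C)) := Ideal.map_le_iff_le_comap.2 fun s hs => by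
        rw [Ideal.mem_comap, RingHom.mem_ker, Algebra.TensorProduct.algebraMap_apply, Algebra.algebraMap_self_apply,
          Algebra.algebraMap_eq_smul_one, TensorProduct.smul_tmul, ← Algebra.algebraMap_eq_smul_one,
          show algebraMap S' C s = 0 from hs, TensorProduct.tmul_zero]
      exact hle (hker hw)
    · obtain ⟨x, rfl⟩ := hC₂ c
      exact ⟨algebraMap S₂ _ x, m.commutes x⟩
  letI : Algebra C (S₂ ⊗[S'] C) := Algebra.TensorProduct.rightAlgebra
  refine Algebra.IsPushout.of_equiv (AlgEquiv.ofBijective m hm) (RingHom.ext fun c => ?_)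
  show m ((1 : S₂) ⊗ₜ[S'] c) = algebraMap C C₂ c
  exact (Algebra.TensorProduct.lift_tmul _ _ _ _ _).trans (by rw [map_one, one_mul]; rfl)

end Groth.Agent.RG11
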