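import Groth.Agent.RG11.Good
import Mathlib

/-!
# Adding a layer to a stable dévissage
-/

universe u

set_option linter.style.haveILetI false

namespace Groth.Agent.RG11

open TensorProduct

/-- A localisation of a quotient. -/
theorem exists_quotient_away {X C A S₄ : Type u} [CommRing X] [CommRing C] [CommRing A] [CommRing S₄]
    (π : X →+* C) (hπ : Function.Surjective π) [Algebra C A] [Algebra X S₄] (g t : X) (b : C) (hb : π t = b)
    (hgb : π g ∣ b) [IsLocalization.Away b A] [IsLocalization.Away (g * t) S₄] :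
    ∃ ρ : S₄ →+* A, (∀ x, ρ (algebraMap X S₄ x) = algebraMap C A (π x)) ∧ Function.Surjective ρ ∧
      RingHom.ker ρ = (RingHom.ker π).map (algebraMap X S₄) := by
  have hbu : IsUnit (algebraMap C A b) := IsLocalization.Away.algebraMap_isUnit b
  have hgu : IsUnit (algebraMap C A (π g)) := isUnit_of_dvd_unit (map_dvd _ hgb) hbu
  have hu : IsUnit (((algebraMap C A).comp π) (g * t)) := by
    rw [RingHom.comp_apply, map_mul, map_mul, hb]
    exact hgu.mul hbu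
  let ρ : S₄ →+* A := IsLocalization.Away.lift (g * t) (g := (algebraMap C A).comp π) hu
  have hρ : ∀ x, ρ (algebraMap X S₄ x) = algebraMap C A (π x) := IsLocalization.Away.lift_eq (g * t) hu
  refine ⟨ρ, hρ, fun a => ?_, ?_⟩
  · obtain ⟨c, ⟨_, j, rfl⟩, rfl⟩ := IsLocalization.exists_mk'_eq (Submonoid.powers b) a
    obtain ⟨x, rfl⟩ := hπ c
    refine ⟨IsLocalization.mk' S₄ (x * g ^ j) (⟨(g * t) ^ j, j, rfl⟩ : Submonoid.powers (g * t)), ?_⟩
    refine (hu.pow j).mul_right_cancel ?_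
    rw [← map_pow, RingHom.comp_apply]
    conv_lhs => rw [← hρ, ← map_mul, IsLocalization.mk'_spec, hρ, map_mul, map_mul]
    conv_rhs => rw [map_pow, map_mul, hb, mul_pow, map_mul, mul_comm (algebraMap C A (π g ^ j)) _, ← mul_assoc,
      IsLocalization.mk'_spec, ← map_pow π g j]
  · refine le_antisymm (fun w hw => ?_) (Ideal.map_le_iff_le_comap.2 fun x hx => ?_)
    · obtain ⟨x, m, rfl⟩ := IsLocalization.exists_mk'_eq (Submonoid.powers (g * t)) w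
      have h0 : algebraMap C A (π x) = algebraMap C A 0 := by
        rw [map_zero, ← hρ, ← IsLocalization.mk'_spec S₄ x m, map_mul, RingHom.mem_ker.1 hw, zero_mul]
      obtain ⟨⟨_, i, rfl⟩, hi⟩ := (IsLocalization.eq_iff_exists (Submonoid.powers b) A).1 h0
      have hmem : t ^ i * x ∈ RingHom.ker π := by
        rw [RingHom.mem_ker, map_mul, map_pow, hb]
        exact hi.trans (mul_zero _)
      have htu : IsUnit (algebraMap X S₄ t) := isUnit_of_dvd_unit (map_dvd _ (dvd_mul_left t g))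
        (IsLocalization.Away.algebraMap_isUnit (S := S₄) (g * t))
      refine (Ideal.unit_mul_mem_iff_mem _ (IsLocalization.map_units S₄ m)).1 ?_
      rw [mul_comm, IsLocalization.mk'_spec]
      refine (Ideal.unit_mul_mem_iff_mem _ (htu.pow i)).1 ?_
      rw [← map_pow, ← map_mul]
      exact Ideal.mem_map_of_mem _ hmem
    · show ρ (algebraMap X S₄ x) = 0
      rw [hρ, RingHom.mem_ker.1 hx, map_zero]

/-- Points of principal opens of base changes along trivial residue extensions. -/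
theorem exists_point_away {R T R₄ B : Type u} [CommRing R] [CommRing T] [CommRing R₄] [CommRing B] [Algebra R T]
    [Algebra R R₄] {p : Ideal R} [p.IsPrime] {p₄ : Ideal R₄} [p₄.IsPrime] (h₄ : TrivExt p p₄)
    [Algebra (R₄ ⊗[R] T) B] (s : R₄ ⊗[R] T) [IsLocalization.Away s B] [Algebra R₄ B]
    [IsScalarTower R₄ (R₄ ⊗[R] T) B] [Algebra T B] (hT : algebraMap T B = (algebraMap (R₄ ⊗[R] T) B).comp (incR R₄))
    (t : Ideal T) [t.IsPrime] (ht : t.comap (algebraMap R T) = p)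
    (hs : ∀ Q : Ideal (R₄ ⊗[R] T), Q.IsPrime → Q.comap (algebraMap R₄ (R₄ ⊗[R] T)) = p₄ →
      Q.comap (incR R₄) = t → s ∉ Q) :
    ∃ Q : Ideal B, Q.IsPrime ∧ Q.comap (algebraMap R₄ B) = p₄ ∧ Q.comap (algebraMap T B) = t ∧ TrivExt t Q ∧
      ∀ Q' : Ideal B, Q'.IsPrime → Q'.comap (algebraMap R₄ B) = p₄ → Q'.comap (algebraMap T B) = t → Q' = Q := by
  obtain ⟨y, hy, hyp, hyt⟩ := exists_prime_over h₄ t ht
  haveI := hy
  have hd : Disjoint (Submonoid.powers s : Set (R₄ ⊗[R] T)) y :=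
    (Ideal.disjoint_powers_iff_notMem_of_isPrime _).2 (hs y hy hyp hyt)
  haveI hQ : (y.map (algebraMap (R₄ ⊗[R] T) B)).IsPrime :=
    IsLocalization.isPrime_of_isPrime_disjoint (Submonoid.powers s) _ _ inferInstance hd
  have hc : (y.map (algebraMap (R₄ ⊗[R] T) B)).comap (algebraMap (R₄ ⊗[R] T) B) = y :=
    IsLocalization.comap_map_of_isPrime_disjoint (Submonoid.powers s) B (I := y) inferInstance hd
  refine ⟨_, hQ, ?_, ?_, ?_, fun Q' hQ' h1 h2 => ?_⟩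
  · rw [IsScalarTower.algebraMap_eq R₄ (R₄ ⊗[R] T) B, ← Ideal.comap_comap, hc, hyp]
  · rw [hT, ← Ideal.comap_comap, hc, hyt]
  · letI : Algebra T (R₄ ⊗[R] T) := (incR R₄).toAlgebra
    haveI : IsScalarTower T (R₄ ⊗[R] T) B := IsScalarTower.of_algebraMap_eq fun x => RingHom.congr_fun hT x
    exact (trivExt_incR h₄ t ht y hyp hyt).trans (TrivExt.of_localization s (hs y hy hyp hyt))
  · rw [← IsLocalization.map_comap (Submonoid.powers s) B Q']
    refine congrArg (Ideal.map _) ?_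
    haveI := hQ'
    refine eq_of_comap_eq h₄ _ _ ?_ hyp ?_
    · rw [Ideal.comap_comap, ← IsScalarTower.algebraMap_eq, h1]
    · rw [hyt, Ideal.comap_comap, ← hT, h2]

/-- Base change and principal localisation of a pushout. -/
theorem isPushout_away_tensor {R₂ D₂ C₂ R₄ B A : Type u} [CommRing R₂] [CommRing D₂] [CommRing C₂] [CommRing R₄]
    [CommRing B] [CommRing A] [Algebra R₂ D₂] [Algebra R₂ C₂] [Algebra D₂ C₂] [IsScalarTower R₂ D₂ C₂] [Algebra R₂ R₄]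
    [Algebra (R₄ ⊗[R₂] D₂) (R₄ ⊗[R₂] C₂)] [Algebra (R₄ ⊗[R₂] D₂) B] [Algebra (R₄ ⊗[R₂] C₂) A] [Algebra B A]
    [Algebra D₂ B] [Algebra C₂ A] [Algebra D₂ A] [IsScalarTower D₂ C₂ A] [IsScalarTower D₂ B A]
    [Algebra (R₄ ⊗[R₂] D₂) A] [IsScalarTower (R₄ ⊗[R₂] D₂) B A]
    [IsScalarTower (R₄ ⊗[R₂] D₂) (R₄ ⊗[R₂] C₂) A]
    (hγ : ∀ r d, algebraMap (R₄ ⊗[R₂] D₂) (R₄ ⊗[R₂] C₂) (r ⊗ₜ[R₂] d) = r ⊗ₜ[R₂] algebraMap D₂ C₂ d)
    (hB : algebraMap D₂ B = (algebraMap (R₄ ⊗[R₂] D₂) B).comp (incR R₄))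
    (hA : algebraMap C₂ A = (algebraMap (R₄ ⊗[R₂] C₂) A).comp (incR R₄))
    (s : R₄ ⊗[R₂] D₂) [IsLocalization.Away s B]
    [IsLocalization.Away (algebraMap (R₄ ⊗[R₂] D₂) (R₄ ⊗[R₂] C₂) s) A] : Algebra.IsPushout D₂ B C₂ A := by
  letI : Algebra D₂ (R₄ ⊗[R₂] D₂) := (incR R₄).toAlgebra
  letI : Algebra C₂ (R₄ ⊗[R₂] C₂) := (incR R₄).toAlgebra
  letI : Algebra D₂ (R₄ ⊗[R₂] C₂) := ((incR (R := R₂) (T := C₂) R₄).comp (algebraMap D₂ C₂)).toAlgebra
  haveI : IsScalarTower R₂ D₂ (R₄ ⊗[R₂] D₂) := IsScalarTower.of_algebraMap_eq fun r =>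
    ((Algebra.TensorProduct.includeRight : D₂ →ₐ[R₂] R₄ ⊗[R₂] D₂).commutes r).symm
  haveI : IsScalarTower R₂ C₂ (R₄ ⊗[R₂] C₂) := IsScalarTower.of_algebraMap_eq fun r =>
    ((Algebra.TensorProduct.includeRight : C₂ →ₐ[R₂] R₄ ⊗[R₂] C₂).commutes r).symm
  haveI : IsScalarTower D₂ C₂ (R₄ ⊗[R₂] C₂) := IsScalarTower.of_algebraMap_eq fun _ => rfl
  haveI : IsScalarTower D₂ (R₄ ⊗[R₂] D₂) (R₄ ⊗[R₂] C₂) :=
    IsScalarTower.of_algebraMap_eq fun d => (hγ 1 d).symm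
  haveI : IsScalarTower R₄ (R₄ ⊗[R₂] D₂) (R₄ ⊗[R₂] C₂) := IsScalarTower.of_algebraMap_eq fun r => by
    rw [Algebra.TensorProduct.algebraMap_apply, Algebra.TensorProduct.algebraMap_apply, hγ, map_one]
  haveI : IsScalarTower R₂ (R₄ ⊗[R₂] D₂) (R₄ ⊗[R₂] C₂) := IsScalarTower.of_algebraMap_eq fun r => by
    rw [Algebra.TensorProduct.algebraMap_apply, Algebra.TensorProduct.algebraMap_apply, hγ, map_one]
  haveI : IsScalarTower D₂ (R₄ ⊗[R₂] D₂) B := IsScalarTower.of_algebraMap_eq fun x => RingHom.congr_fun hB x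
  haveI : IsScalarTower C₂ (R₄ ⊗[R₂] C₂) A := IsScalarTower.of_algebraMap_eq fun x => RingHom.congr_fun hA x
  haveI : IsScalarTower D₂ (R₄ ⊗[R₂] C₂) A := IsScalarTower.of_algebraMap_eq fun x => by
    rw [IsScalarTower.algebraMap_apply D₂ C₂ A, IsScalarTower.algebraMap_apply C₂ (R₄ ⊗[R₂] C₂) A,
      ← IsScalarTower.algebraMap_apply D₂ C₂ (R₄ ⊗[R₂] C₂)]
  haveI : IsScalarTower D₂ (R₄ ⊗[R₂] D₂) A := IsScalarTower.of_algebraMap_eq fun r => by
    rw [IsScalarTower.algebraMap_apply (R₄ ⊗[R₂] D₂) (R₄ ⊗[R₂] C₂) A,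
      ← IsScalarTower.algebraMap_apply D₂ (R₄ ⊗[R₂] D₂) (R₄ ⊗[R₂] C₂),
      ← IsScalarTower.algebraMap_apply D₂ (R₄ ⊗[R₂] C₂) A]
  haveI h1 : Algebra.IsPushout R₂ R₄ D₂ (R₄ ⊗[R₂] D₂) := inferInstance
  haveI h2 : Algebra.IsPushout R₂ R₄ C₂ (R₄ ⊗[R₂] C₂) := inferInstance
  haveI := h1.symm
  haveI h3 : Algebra.IsPushout D₂ C₂ (R₄ ⊗[R₂] D₂) (R₄ ⊗[R₂] C₂) :=
    (Algebra.IsPushout.comp_iff R₂ D₂ R₄ (R₄ ⊗[R₂] D₂) (T := C₂) (T' := R₄ ⊗[R₂] C₂)).1 h2.symm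
  haveI : IsLocalization (Algebra.algebraMapSubmonoid (R₄ ⊗[R₂] C₂) (Submonoid.powers s)) A := by
    rw [Algebra.algebraMapSubmonoid_powers]
    infer_instance
  haveI hl : Algebra.IsPushout (R₄ ⊗[R₂] D₂) (R₄ ⊗[R₂] C₂) B A :=
    Algebra.isPushout_of_isLocalization (Submonoid.powers s) B (R₄ ⊗[R₂] C₂) A
  haveI := h3.symm
  exact (Algebra.IsPushout.comp_iff D₂ (R₄ ⊗[R₂] D₂) C₂ (R₄ ⊗[R₂] C₂) (T := B) (T' := A)).2 hl.symm

set_option maxHeartbeats 400000 in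
/-- The layer over the base change. -/
theorem step_layer {D₂ C₂ S₂ R₄ B A S₄ : Type u} [CommRing D₂] [CommRing C₂] [CommRing S₂] [CommRing R₄] [CommRing B]
    [CommRing A] [CommRing S₄] [Algebra R₄ B] [Algebra R₄ A] [Algebra R₄ S₄] [Algebra D₂ C₂] [Algebra S₂ C₂]
    [Algebra D₂ B] [Algebra C₂ A] [Algebra D₂ A] [Algebra B A] [Algebra S₂ S₄] [Algebra S₄ A]
    [IsScalarTower R₄ B A] [IsScalarTower R₄ S₄ A] [IsScalarTower D₂ C₂ A] [IsScalarTower D₂ B A]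
    [Algebra S₂ A] [IsScalarTower S₂ C₂ A] [IsScalarTower S₂ S₄ A]
    [Algebra.IsPushout D₂ B C₂ A] [Module.Finite D₂ C₂]
    (hsurj : Function.Surjective (algebraMap S₂ C₂)) (hρ : Function.Surjective (algebraMap S₄ A))
    (hfp : Algebra.FinitePresentation S₄ A)
    (hker : RingHom.ker (algebraMap S₄ A) ≤ (RingHom.ker (algebraMap S₂ C₂)).map (algebraMap S₂ S₄))
    (N : Type u) [AddCommGroup N] [Module C₂ N] [Module S₂ N] [Module D₂ N] [IsScalarTower S₂ C₂ N]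
    [IsScalarTower D₂ C₂ N] [Module.Finite C₂ N]
    {P : Ideal D₂} [P.IsPrime] (hgen : (⟨P, inferInstance⟩ : PrimeSpectrum D₂) ∈ Module.support D₂ N)
    {r : ℕ} (α : (Fin r → D₂) →ₗ[D₂] N) (hα : Function.Bijective (α.baseChange P.ResidueField))
    {n : ℕ} (hrel : FlatCA.SmoothRelDim n R₄ B) (hGI : FlatCA.GeomIntegralFibres R₄ B)
    {p₄ : Ideal R₄} [p₄.IsPrime] {qB : Ideal B} [qB.IsPrime] [qB.LiesOver p₄]
    (hpure : FlatCA.PurelyTranscendental p₄ qB) {qA : Ideal A} [qA.IsPrime]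
    (hover : qA.comap (algebraMap B A) = qB)
    (huniq : ∀ Q : Ideal A, Q.IsPrime → Q.comap (algebraMap B A) = qB → Q = qA)
    {q₄ : Ideal S₄} [q₄.IsPrime] (hq₄ : qA.comap (algebraMap S₄ A) = q₄)
    (hηc : ∀ _ : (p₄.map (algebraMap R₄ B)).IsPrime, (p₄.map (algebraMap R₄ B)).comap (algebraMap D₂ B) = P)
    (N₄ : Type u) [AddCommGroup N₄] [Module S₄ N₄] [Module S₂ N₄] [IsScalarTower S₂ S₄ N₄] (φ : N →ₗ[S₂] N₄)
    (hφ : IsBaseChange S₄ φ)
    (H : ∀ (N' : Type u) [AddCommGroup N'] [Module B N'] [Module D₂ N'] [IsScalarTower D₂ B N']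
        (ψ : (N ⧸ LinearMap.range α) →ₗ[D₂] N'), IsBaseChange B ψ →
        FlatCA.HasCompleteDevissageAt R₄ B N' p₄ qB ∨ Subsingleton N') :
    FlatCA.HasCompleteDevissageAt R₄ S₄ N₄ p₄ q₄ := by
  haveI := smooth_of_smoothRelDim hrel
  haveI : Module.Finite D₂ N := Module.Finite.trans C₂ N
  haveI hp' : Algebra.IsPushout D₂ C₂ B A := Algebra.IsPushout.symm inferInstance
  haveI : Module.Finite B A :=
    Module.Finite.equiv (Algebra.IsPushout.equiv D₂ B C₂ A).toLinearEquiv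
  let M := A ⊗[C₂] N
  let fD : N →ₗ[D₂] M := (TensorProduct.mk C₂ A N 1).restrictScalars D₂
  have hfD : IsBaseChange B fD := by
    refine IsBaseChange.of_equiv (Algebra.IsPushout.cancelBaseChange D₂ B C₂ A N).symm fun m => ?_
    rw [Algebra.IsPushout.cancelBaseChange_symm_tmul, map_one]
    rfl
  obtain ⟨α₄, φQ, hφQ, hbij⟩ := exists_layer_baseChange fD hfD α
  -- the base change of `N` to `A`
  let φM : N →ₗ[S₂] M := (TensorProduct.mk C₂ A N 1).restrictScalars S₂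
  have hid : IsBaseChange C₂ (LinearMap.id : N →ₗ[S₂] N) := by
    refine IsBaseChange.of_lift_unique _ fun Q _ _ _ _ i => ?_
    refine ⟨{ i with map_smul' := fun c m => ?_ }, rfl, fun j hj => LinearMap.ext fun m => LinearMap.congr_fun hj m⟩
    obtain ⟨x, rfl⟩ := hsurj c
    show i (algebraMap S₂ C₂ x • m) = algebraMap S₂ C₂ x • i m
    rw [algebraMap_smul, algebraMap_smul, map_smul]
  haveI : IsScalarTower S₂ A M := inferInstance
  have hb : IsBaseChange A (TensorProduct.mk C₂ A N 1) := TensorProduct.isBaseChange C₂ N A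
  have hcomp := hid.comp hb
  rw [LinearMap.comp_id] at hcomp
  have hφM : IsBaseChange A φM := hcomp
  have hkill : ∀ a ∈ RingHom.ker (algebraMap S₄ A), ∀ m : N₄, a • m = 0 := by
    intro a ha m
    have hle : (RingHom.ker (algebraMap S₂ C₂)).map (algebraMap S₂ S₄) ≤ Module.annihilator S₄ N₄ := by
      refine Ideal.map_le_iff_le_comap.2 fun x hx => ?_
      rw [Ideal.mem_comap, Module.mem_annihilator]
      intro w
      refine hφ.inductionOn w (fun w => algebraMap S₂ S₄ x • w = 0) (smul_zero _) (fun m => ?_)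
        (fun c m hm => by rw [smul_comm, hm, smul_zero]) fun a b ha hb => by rw [smul_add, ha, hb, add_zero]
      rw [algebraMap_smul, ← map_smul, ← algebraMap_smul C₂ x m, RingHom.mem_ker.1 hx, zero_smul, map_zero]
    exact Module.mem_annihilator.1 (hle (hker ha)) m
  haveI : IsScalarTower S₄ A M := inferInstance
  obtain ⟨iso⟩ := nonempty_equiv_of_quotient (S₀ := S₂) (S₄ := S₄) (A := A) hρ φ hφ φM hφM hkill
  have hη : (p₄.map (algebraMap R₄ B)).IsPrime := isPrime_map_of_flat hGI p₄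
  have hsuppM : (⟨_, hη⟩ : PrimeSpectrum B) ∈ Module.support B M := by
    rw [hfD.equiv.symm.support_eq]
    refine (MorLib.UnrLocus.support_baseChange_iff (A := D₂) (B := B) N _).2 ?_
    rw [show PrimeSpectrum.comap (algebraMap D₂ B) ⟨_, hη⟩ = ⟨P, inferInstance⟩ from PrimeSpectrum.ext (hηc hη)]
    exact hgen
  let l : Layer R₄ S₄ A B N₄ M p₄ q₄ qB qA r :=
    { α := α₄, surjSA := hρ, fpSA := hfp, finiteBA := inferInstance, finiteM := inferInstance,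
      geomInt := geomIrred_of_geomIntegral hGI, iso := iso, hp := hη,
      fibreIso := hbij P _ (hηc hη) hα, gen := hsuppM, pureTrans := hpure, overA := ⟨hover.symm⟩,
      uniq := fun Q _ hQ => huniq Q inferInstance hQ.over.symm, q0 := hq₄, d := n, relDim := hrel }
  rcases H _ φQ hφQ with hcd | hsub
  · exact hasCDA_cons l hcd
  · refine hasCDA_single l fun m => ?_
    exact (Submodule.Quotient.mk_eq_zero _).1
      (Subsingleton.elim (Submodule.Quotient.mk (p := LinearMap.range α₄) m) 0)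

/-- Integrality of the fibres of a principal open after shrinking the base. -/
theorem geomIntegral_open {R₂ D₂ R₃ R₄ B : Type u} [CommRing R₂] [CommRing D₂] [CommRing R₃] [CommRing R₄] [CommRing B]
    [Algebra R₂ D₂] [Algebra R₂ R₃] [Algebra R₂ R₄] (hnzd : NZDFibres R₂ D₂) (e : R₃ →ₐ[R₂] R₄)
    (s : R₃ ⊗[R₂] D₂) (fi : R₃) (hu : IsUnit (e fi))
    (hopen : ∀ p' : Ideal R₃, p'.IsPrime → fi ∉ p' →
      ∃ Q : Ideal (R₃ ⊗[R₂] D₂), Q.IsPrime ∧ Q.comap (algebraMap R₃ (R₃ ⊗[R₂] D₂)) = p' ∧ s ∉ Q)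
    [Algebra (R₄ ⊗[R₂] D₂) B] [IsLocalization.Away (Algebra.TensorProduct.map e (AlgHom.id R₂ D₂) s) B] [Algebra R₄ B]
    [IsScalarTower R₄ (R₄ ⊗[R₂] D₂) B] : FlatCA.GeomIntegralFibres R₄ B := by
  let eY := Algebra.TensorProduct.map e (AlgHom.id R₂ D₂)
  refine ((hnzd.baseChange R₄).away (eY s)).geomIntegral fun p' hp' => ?_
  haveI := hp'
  letI : Algebra R₃ R₄ := e.toRingHom.toAlgebra
  obtain ⟨Q, hQpr, hQp, hsQ⟩ := hopen (p'.comap (algebraMap R₃ R₄)) (Ideal.IsPrime.comap _)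
    (fun h => Ideal.IsPrime.ne_top hp' (Ideal.eq_top_of_isUnit_mem _ h hu))
  haveI := hQpr
  obtain ⟨Q', hQ'pr, hQ'p, hQ'Q⟩ := exists_prime_tensor (X := R₃ ⊗[R₂] D₂) p' Q hQp.symm
  haveI := hQ'pr
  haveI : IsScalarTower R₂ R₃ R₄ := IsScalarTower.of_algebraMap_eq fun r => (e.commutes r).symm
  let back : R₄ ⊗[R₂] D₂ →ₐ[R₄] R₄ ⊗[R₃] (R₃ ⊗[R₂] D₂) :=
    (Algebra.TensorProduct.cancelBaseChange R₂ R₃ R₄ R₄ D₂).symm.toAlgHom
  have hback : ∀ x, back (eY x) = (1 : R₄) ⊗ₜ[R₃] x := fun x => by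
    induction x using TensorProduct.induction_on with
    | zero => simp
    | add a b ha hb => rw [map_add, map_add, ha, hb, TensorProduct.tmul_add]
    | tmul r x =>
      have h1 : back (e r ⊗ₜ[R₂] x) = e r ⊗ₜ[R₃] ((1 : R₃) ⊗ₜ[R₂] x) :=
        Algebra.TensorProduct.cancelBaseChange_symm_tmul R₂ R₃ R₄ R₄ D₂ (e r) x
      have h2 : r • (1 : R₄) = e r := by rw [Algebra.smul_def, mul_one]; rfl
      show back (e r ⊗ₜ[R₂] x) = _
      rw [h1, ← h2, TensorProduct.smul_tmul (R := R₃), TensorProduct.smul_tmul', smul_eq_mul, mul_one]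
  let W := Q'.comap back.toRingHom
  have hsW : eY s ∉ W := fun h => hsQ (by
    rw [← hQ'Q, Ideal.mem_comap]
    have h' : back (eY s) ∈ Q' := h
    rwa [hback s] at h')
  refine ⟨W.map (algebraMap (R₄ ⊗[R₂] D₂) B), IsLocalization.isPrime_of_isPrime_disjoint _ _ _ inferInstance
    ((Ideal.disjoint_powers_iff_notMem_of_isPrime _).2 hsW), ?_⟩
  have hcW : (W.map (algebraMap (R₄ ⊗[R₂] D₂) B)).comap (algebraMap (R₄ ⊗[R₂] D₂) B) = W :=
    IsLocalization.comap_map_of_isPrime_disjoint (Submonoid.powers (eY s)) B inferInstance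
      ((Ideal.disjoint_powers_iff_notMem_of_isPrime _).2 hsW)
  rw [IsScalarTower.algebraMap_eq R₄ (R₄ ⊗[R₂] D₂) B, ← Ideal.comap_comap, hcW]
  show (Q'.comap back.toRingHom).comap _ = _
  rw [Ideal.comap_comap,
    show back.toRingHom.comp (algebraMap R₄ (R₄ ⊗[R₂] D₂)) = algebraMap R₄ _ from back.comp_algebraMap]
  exact hQ'p

set_option maxHeartbeats 1600000 in
/-- One more layer. -/
theorem good_step {R₂ D₂ C₂ S₂ : Type u} [CommRing R₂] [CommRing D₂] [CommRing C₂] [CommRing S₂]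
    [Algebra R₂ D₂] [Algebra R₂ C₂] [Algebra R₂ S₂] [Algebra D₂ C₂] [Algebra S₂ C₂]
    [IsScalarTower R₂ D₂ C₂] [IsScalarTower R₂ S₂ C₂] [Module.Finite D₂ C₂]
    {n : ℕ} (hsm : FlatCA.SmoothRelDim n R₂ D₂) (hnzd : NZDFibres R₂ D₂)
    (hsurj : Function.Surjective (algebraMap S₂ C₂)) (hfg : (RingHom.ker (algebraMap S₂ C₂)).FG)
    (N : Type u) [AddCommGroup N] [Module C₂ N] [Module S₂ N] [Module D₂ N] [IsScalarTower S₂ C₂ N]
    [IsScalarTower D₂ C₂ N] [Module.Finite C₂ N]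
    {p₂ : Ideal R₂} [p₂.IsPrime] {y : Ideal D₂} [y.IsPrime] [hy : y.LiesOver p₂] (hpt : FlatCA.PurelyTranscendental p₂ y)
    {z : Ideal C₂} [z.IsPrime] (hzy : z.comap (algebraMap D₂ C₂) = y)
    (huniq : ∀ Q : Ideal C₂, Q.IsPrime → Q.comap (algebraMap D₂ C₂) = y → Q = z)
    {q : Ideal S₂} (hzq : z.comap (algebraMap S₂ C₂) = q)
    {P : Ideal D₂} [P.IsPrime] (hP : P = p₂.map (algebraMap R₂ D₂))
    (hgen : (⟨P, inferInstance⟩ : PrimeSpectrum D₂) ∈ Module.support D₂ N)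
    {r : ℕ} (α : (Fin r → D₂) →ₗ[D₂] N) (hα : Function.Bijective (α.baseChange P.ResidueField))
    (hQ : Good p₂ y (N ⧸ LinearMap.range α) ∨ Subsingleton (N ⧸ LinearMap.range α)) :
    Good p₂ q N := by
  haveI hsmooth := smooth_of_smoothRelDim hsm
  haveI : Module.Finite D₂ N := Module.Finite.trans C₂ N
  have hPy : P ≤ y := hP ▸ Ideal.map_le_iff_le_comap.2 hy.over.le
  have hyp : y.comap (algebraMap R₂ D₂) = p₂ := hy.over.symm
  have hPp : P.comap (algebraMap R₂ D₂) = p₂ :=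
    le_antisymm ((Ideal.comap_mono hPy).trans hyp.le) (hP ▸ Ideal.le_comap_map)
  have hzp : z.comap (algebraMap R₂ C₂) = p₂ := by
    rw [IsScalarTower.algebraMap_eq R₂ D₂ C₂, ← Ideal.comap_comap, hzy, hyp]
  intro R₃ _ _ p₃ _ h₃ Q₃ _ hQ₃p hQ₃q g hg
  obtain ⟨y₃, hy₃pr, hy₃p, hy₃y⟩ := exists_prime_over (T := D₂) h₃ y hyp
  obtain ⟨z₃, hz₃pr, hz₃p, hz₃z⟩ := exists_prime_over (T := C₂) h₃ z hzp
  haveI := hy₃pr
  haveI := hz₃pr
  let π₃ : R₃ ⊗[R₂] S₂ →ₐ[R₂] R₃ ⊗[R₂] C₂ :=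
    Algebra.TensorProduct.map (AlgHom.id R₂ R₃) (IsScalarTower.toAlgHom R₂ S₂ C₂)
  have hπ₃ : Function.Surjective π₃ := TensorProduct.map_surjective (fun x => ⟨x, rfl⟩) hsurj
  let γ₃ : R₃ ⊗[R₂] D₂ →ₐ[R₂] R₃ ⊗[R₂] C₂ :=
    Algebra.TensorProduct.map (AlgHom.id R₂ R₃) (IsScalarTower.toAlgHom R₂ D₂ C₂)
  have hγy : z₃.comap γ₃.toRingHom = y₃ := by
    refine eq_of_comap_eq h₃ _ _ ?_ hy₃p ?_
    · rw [Ideal.comap_comap, ← hz₃p]
      congr 1
      exact RingHom.ext fun r => by simp [γ₃, Algebra.TensorProduct.algebraMap_apply]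
    · rw [Ideal.comap_comap, hy₃y, ← hzy, ← hz₃z, Ideal.comap_comap]
      congr 1
  have hπQ : z₃.comap π₃.toRingHom = Q₃ := by
    refine eq_of_comap_eq h₃ _ _ ?_ hQ₃p ?_
    · rw [Ideal.comap_comap, ← hz₃p]
      congr 1
      exact RingHom.ext fun r => by simp [π₃, Algebra.TensorProduct.algebraMap_apply]
    · rw [Ideal.comap_comap, hQ₃q, ← hzq, ← hz₃z, Ideal.comap_comap]
      congr 1
  letI : Algebra (R₃ ⊗[R₂] D₂) (R₃ ⊗[R₂] C₂) := γ₃.toRingHom.toAlgebra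
  haveI : Algebra.IsIntegral (R₃ ⊗[R₂] D₂) (R₃ ⊗[R₂] C₂) := ⟨fun w => by
    induction w using TensorProduct.induction_on with
    | zero => exact isIntegral_zero
    | add a b ha hb => exact ha.add hb
    | tmul r c =>
      rw [show r ⊗ₜ[R₂] c = (r ⊗ₜ[R₂] (1 : C₂)) * ((1 : R₃) ⊗ₜ[R₂] c) by simp [Algebra.TensorProduct.tmul_mul_tmul]]
      refine IsIntegral.mul ?_ ?_
      · rw [show r ⊗ₜ[R₂] (1 : C₂) = algebraMap (R₃ ⊗[R₂] D₂) (R₃ ⊗[R₂] C₂) (r ⊗ₜ[R₂] (1 : D₂)) by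
          rw [RingHom.algebraMap_toAlgebra]; simp [γ₃]]
        exact isIntegral_algebraMap
      · obtain ⟨F, hF, hF'⟩ := Algebra.IsIntegral.isIntegral (R := D₂) c
        refine ⟨F.map (incR R₃), hF.map _, ?_⟩
        rw [Polynomial.eval₂_map, show (algebraMap (R₃ ⊗[R₂] D₂) (R₃ ⊗[R₂] C₂)).comp (incR R₃) =
          (incR R₃).comp (algebraMap D₂ C₂) from RingHom.ext fun d => by
            rw [RingHom.algebraMap_toAlgebra]; simp [γ₃]]
        exact (Polynomial.hom_eval₂ F _ (incR (R := R₂) (T := C₂) R₃) c).symm.trans (by rw [hF', map_zero])⟩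
  have hc : π₃ g ∉ z₃ := fun h => hg (hπQ.le (Ideal.mem_comap.2 h))
  obtain ⟨b, hb, hcb⟩ := exists_dvd_algebraMap y₃ (π₃ g) fun Z hZ hZy => by
    suffices Z = z₃ by rw [this]; exact hc
    haveI := hZ
    refine eq_of_comap_eq h₃ _ _ ?_ hz₃p ?_
    · rw [← hy₃p, ← hZy, Ideal.comap_comap]
      congr 1
      exact RingHom.ext fun r => by rw [RingHom.algebraMap_toAlgebra]; simp [γ₃, Algebra.TensorProduct.algebraMap_apply]
    · rw [hz₃z]
      refine huniq _ (Ideal.IsPrime.comap _) ?_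
      rw [← hy₃y, ← hZy, Ideal.comap_comap, Ideal.comap_comap]
      congr 1
  -- the rest of the dévissage
  obtain ⟨fr, hfr, s, hbs, hs, H⟩ : ∃ f ∉ p₃, ∃ s : R₃ ⊗[R₂] D₂, b ∣ s ∧ s ∉ y₃ ∧
      ∀ (R₄ : Type u) [CommRing R₄] [Algebra R₂ R₄] (e : R₃ →ₐ[R₂] R₄) (p₄ : Ideal R₄) [p₄.IsPrime],
        TrivExt p₂ p₄ → p₄.comap e.toRingHom = p₃ → IsUnit (e f) →
      ∀ (S₄ : Type u) [CommRing S₄] [Algebra (R₄ ⊗[R₂] D₂) S₄]
        [IsLocalization.Away (Algebra.TensorProduct.map e (AlgHom.id R₂ D₂) s) S₄] [Algebra R₄ S₄]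
        [IsScalarTower R₄ (R₄ ⊗[R₂] D₂) S₄] [Algebra D₂ S₄],
        algebraMap D₂ S₄ = (algebraMap (R₄ ⊗[R₂] D₂) S₄).comp (incR R₄) →
      ∀ (q₄ : Ideal S₄) [q₄.IsPrime], q₄.comap (algebraMap R₄ S₄) = p₄ → q₄.comap (algebraMap D₂ S₄) = y →
      ∀ (N₄ : Type u) [AddCommGroup N₄] [Module S₄ N₄] [Module D₂ N₄] [IsScalarTower D₂ S₄ N₄]
        (φ : (N ⧸ LinearMap.range α) →ₗ[D₂] N₄), IsBaseChange S₄ φ →
        FlatCA.HasCompleteDevissageAt R₄ S₄ N₄ p₄ q₄ ∨ Subsingleton N₄ := by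
    rcases hQ with h | h
    · obtain ⟨f, hf, s, hbs, hs, H⟩ := h R₃ p₃ h₃ y₃ hy₃p hy₃y b hb
      exact ⟨f, hf, s, hbs, hs, fun R₄ _ _ e p₄ _ a1 a2 a3 S₄ _ _ _ _ _ _ a4 q₄ _ a5 a6 N₄ _ _ _ _ φ hφ =>
        Or.inl (H R₄ e p₄ a1 a2 a3 S₄ a4 q₄ a5 a6 N₄ φ hφ)⟩
    · refine ⟨1, (Ideal.ne_top_iff_one p₃).1 Ideal.IsPrime.ne_top', b, dvd_rfl, hb,
        fun R₄ _ _ e p₄ _ _ _ _ S₄ _ _ _ _ _ _ _ q₄ _ _ _ N₄ _ _ _ _ φ hφ => Or.inr ?_⟩
      refine subsingleton_of_forall_eq 0 fun x => hφ.inductionOn x (fun x => x = 0) rfl (fun m => ?_)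
        (fun c m hm => by rw [hm, smul_zero]) fun a c ha hc => by rw [ha, hc, add_zero]
      rw [Subsingleton.elim m 0, map_zero]
  obtain ⟨fi, hfi, hopen⟩ := exists_image_open (R := R₃) s p₃ y₃ hy₃p hs
  obtain ⟨t, ht⟩ := hπ₃ (γ₃ s)
  have hgt : g * t ∉ Q₃ := (inferInstance : Q₃.IsPrime).mul_notMem hg fun h => by
    rw [← hπQ, Ideal.mem_comap] at h
    have h' : γ₃ s ∈ z₃ := ht ▸ h
    exact hs (hγy.le (Ideal.mem_comap.2 h'))
  refine ⟨fr * fi, Ideal.IsPrime.mul_notMem ‹_› hfr hfi, g * t, dvd_mul_right g t, hgt, ?_⟩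
  intro R₄ _ _ e p₄ _ h₄ hp₄ hu S₄ _ _ _ _ _ _ hcS₄ q₄ _ hq₄p hq₄q N₄ _ _ _ _ φ hφ
  rw [map_mul] at hu
  have hufr : IsUnit (e fr) := isUnit_of_mul_isUnit_left hu
  have hufi : IsUnit (e fi) := isUnit_of_mul_isUnit_right hu
  let eX := Algebra.TensorProduct.map e (AlgHom.id R₂ S₂)
  let eY := Algebra.TensorProduct.map e (AlgHom.id R₂ D₂)
  let eC := Algebra.TensorProduct.map e (AlgHom.id R₂ C₂)
  let π₄ : R₄ ⊗[R₂] S₂ →ₐ[R₄] R₄ ⊗[R₂] C₂ :=
    Algebra.TensorProduct.map (AlgHom.id R₄ R₄) (IsScalarTower.toAlgHom R₂ S₂ C₂)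
  have hπ₄ : Function.Surjective π₄ := fun z => by
    induction z using TensorProduct.induction_on with
    | zero => exact ⟨0, map_zero π₄⟩
    | add a b ha hb =>
      obtain ⟨a', rfl⟩ := ha
      obtain ⟨b', rfl⟩ := hb
      exact ⟨a' + b', map_add π₄ a' b'⟩
    | tmul r c =>
      obtain ⟨x, rfl⟩ := hsurj c
      exact ⟨r ⊗ₜ[R₂] x, by simp [π₄]⟩
  let γ₄ : R₄ ⊗[R₂] D₂ →ₐ[R₄] R₄ ⊗[R₂] C₂ :=
    Algebra.TensorProduct.map (AlgHom.id R₄ R₄) (IsScalarTower.toAlgHom R₂ D₂ C₂)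
  have heπ : ∀ x, π₄ (eX x) = eC (π₃ x) := fun x => by
    induction x using TensorProduct.induction_on with
    | zero => simp
    | add a b ha hb => simp only [map_add, ha, hb]
    | tmul r x => simp [π₄, π₃, eX, eC]
  have heγ : ∀ x, γ₄ (eY x) = eC (γ₃ x) := fun x => by
    induction x using TensorProduct.induction_on with
    | zero => simp
    | add a b ha hb => simp only [map_add, ha, hb]
    | tmul r x => simp [γ₄, γ₃, eY, eC]
  letI : Algebra (R₄ ⊗[R₂] D₂) (R₄ ⊗[R₂] C₂) := γ₄.toRingHom.toAlgebra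
  let s₄ := eY s
  let B := Localization.Away s₄
  let A := Localization.Away (γ₄ s₄)
  haveI : IsScalarTower (R₄ ⊗[R₂] D₂) (R₄ ⊗[R₂] C₂) A := inferInstance
  haveI hA' : IsLocalization.Away (algebraMap (R₄ ⊗[R₂] D₂) (R₄ ⊗[R₂] C₂) s₄) A :=
    (inferInstance : IsLocalization.Away (γ₄ s₄) A)
  letI : Algebra B A := (IsLocalization.Away.map B A γ₄.toRingHom s₄).toAlgebra
  haveI : IsScalarTower (R₄ ⊗[R₂] D₂) B A := IsScalarTower.of_algebraMap_eq fun d =>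
    by
      rw [IsScalarTower.algebraMap_apply (R₄ ⊗[R₂] D₂) (R₄ ⊗[R₂] C₂) A d]
      show _ = IsLocalization.Away.map B A γ₄.toRingHom s₄ (algebraMap (R₄ ⊗[R₂] D₂) B d)
      simp only [IsLocalization.Away.map, IsLocalization.map_eq]
      rfl
  letI : Algebra D₂ B := ((algebraMap (R₄ ⊗[R₂] D₂) B).comp (incR R₄)).toAlgebra
  letI : Algebra C₂ A := ((algebraMap (R₄ ⊗[R₂] C₂) A).comp (incR R₄)).toAlgebra
  letI : Algebra D₂ A := ((algebraMap C₂ A).comp (algebraMap D₂ C₂)).toAlgebra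
  haveI : IsScalarTower D₂ C₂ A := IsScalarTower.of_algebraMap_eq fun _ => rfl
  have hDA : ∀ d, algebraMap B A (algebraMap D₂ B d) = algebraMap D₂ A d := fun d => by
    show algebraMap B A (algebraMap (R₄ ⊗[R₂] D₂) B ((1 : R₄) ⊗ₜ[R₂] d)) = _
    rw [← IsScalarTower.algebraMap_apply]
    show algebraMap (R₄ ⊗[R₂] C₂) A (γ₄ ((1 : R₄) ⊗ₜ[R₂] d)) =
      algebraMap (R₄ ⊗[R₂] C₂) A ((1 : R₄) ⊗ₜ[R₂] algebraMap D₂ C₂ d)
    rw [show γ₄ ((1 : R₄) ⊗ₜ[R₂] d) = (1 : R₄) ⊗ₜ[R₂] algebraMap D₂ C₂ d from by simp [γ₄]]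
  haveI : IsScalarTower D₂ B A := IsScalarTower.of_algebraMap_eq fun d => (hDA d).symm
  haveI hpush : Algebra.IsPushout D₂ B C₂ A := isPushout_away_tensor (R₂ := R₂) (R₄ := R₄)
    (fun r d => by rw [RingHom.algebraMap_toAlgebra]; simp [γ₄]) rfl rfl s₄
  haveI : IsScalarTower R₄ B A := IsScalarTower.of_algebraMap_eq fun r => by
    rw [IsScalarTower.algebraMap_apply R₄ (R₄ ⊗[R₂] D₂) B, ← IsScalarTower.algebraMap_apply (R₄ ⊗[R₂] D₂) B A,
      IsScalarTower.algebraMap_apply R₄ (R₄ ⊗[R₂] C₂) A]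
    exact congrArg (algebraMap (R₄ ⊗[R₂] C₂) A) (γ₄.commutes r).symm
  -- the surjection
  haveI : IsLocalization.Away (eX g * eX t) S₄ := by
    rw [← map_mul]
    assumption
  have hgb : π₄ (eX g) ∣ γ₄ s₄ := by
    rw [heπ, heγ]
    exact map_dvd eC (hcb.trans (map_dvd γ₃ hbs))
  obtain ⟨ρ, hρ, hρsurj, hρker⟩ := exists_quotient_away π₄.toRingHom hπ₄ (eX g) (eX t) (γ₄ s₄)
    (show π₄ (eX t) = γ₄ s₄ by rw [heπ, ht, heγ]) hgb (A := A) (S₄ := S₄)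
  letI : Algebra S₄ A := ρ.toAlgebra
  haveI : IsScalarTower R₄ S₄ A := IsScalarTower.of_algebraMap_eq fun r => by
    rw [RingHom.algebraMap_toAlgebra, IsScalarTower.algebraMap_apply R₄ (R₄ ⊗[R₂] S₂) S₄, hρ,
      show π₄.toRingHom (algebraMap R₄ (R₄ ⊗[R₂] S₂) r) = algebraMap R₄ (R₄ ⊗[R₂] C₂) r from π₄.commutes r,
      ← IsScalarTower.algebraMap_apply]
  letI : Algebra S₂ A := ((algebraMap C₂ A).comp (algebraMap S₂ C₂)).toAlgebra
  haveI : IsScalarTower S₂ C₂ A := IsScalarTower.of_algebraMap_eq fun _ => rfl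
  haveI : IsScalarTower S₂ S₄ A := IsScalarTower.of_algebraMap_eq fun x => by
    show algebraMap (R₄ ⊗[R₂] C₂) A ((1 : R₄) ⊗ₜ[R₂] algebraMap S₂ C₂ x) = ρ (algebraMap S₂ S₄ x)
    rw [hcS₄, RingHom.comp_apply, hρ]
    refine congrArg (algebraMap (R₄ ⊗[R₂] C₂) A) ?_
    show _ = π₄ ((1 : R₄) ⊗ₜ[R₂] x)
    simp [π₄]
  have hkerπ : RingHom.ker π₄.toRingHom = (RingHom.ker (algebraMap S₂ C₂)).map (incR R₄) :=
    Algebra.TensorProduct.lTensor_ker (A := R₄) (IsScalarTower.toAlgHom R₂ S₂ C₂) hsurj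
  have hker : RingHom.ker (algebraMap S₄ A) = (RingHom.ker (algebraMap S₂ C₂)).map (algebraMap S₂ S₄) := by
    rw [RingHom.algebraMap_toAlgebra, hρker, hkerπ, Ideal.map_map, ← hcS₄]
  have hfp : Algebra.FinitePresentation S₄ A :=
    Algebra.FinitePresentation.of_surjective (f := Algebra.ofId S₄ A) hρsurj
      (show (RingHom.ker (algebraMap S₄ A)).FG by rw [hker]; exact hfg.map _)
  -- the points
  have hs₄ : ∀ W : Ideal (R₄ ⊗[R₂] D₂), W.IsPrime → W.comap (algebraMap R₄ (R₄ ⊗[R₂] D₂)) = p₄ →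
      W.comap (incR R₄) = y → s₄ ∉ W := by
    intro W hW hWp hWy h
    haveI := hW
    exact hs ((comap_map_eq e h₃ hp₄ y₃ W hy₃p hWp (hy₃y.trans hWy.symm)).le (Ideal.mem_comap.2 h))
  obtain ⟨qB, hqBpr, hqBp, hqBy, hqBt, huniqB⟩ := exists_point_away h₄ s₄ (B := B) rfl y hyp hs₄
  obtain ⟨qA, hqApr, hqAp, hqAz, -, huniqA⟩ := exists_point_away h₄ (γ₄ s₄) (B := A) rfl z hzp
    (fun W hW hWp hWz h => by
      haveI := hW
      refine hs₄ (W.comap γ₄.toRingHom) (Ideal.IsPrime.comap _) ?_ ?_ h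
      · rw [Ideal.comap_comap, ← hWp]
        congr 1
        all_goals exact RingHom.ext fun r => γ₄.commutes r
      · rw [← hzy, ← hWz, Ideal.comap_comap (incR (R := R₂) (T := D₂) R₄), Ideal.comap_comap (algebraMap D₂ C₂)]
        congr 1
        all_goals exact RingHom.ext fun r => by simp [γ₄])
  haveI := hqBpr
  haveI := hqApr
  haveI : qB.LiesOver p₄ := ⟨hqBp.symm⟩
  have hover : qA.comap (algebraMap B A) = qB := huniqB _ (Ideal.IsPrime.comap _)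
    (by rw [Ideal.comap_comap, ← IsScalarTower.algebraMap_eq, hqAp])
    (by rw [Ideal.comap_comap, ← IsScalarTower.algebraMap_eq, IsScalarTower.algebraMap_eq D₂ C₂ A,
      ← Ideal.comap_comap, hqAz, hzy])
  have huniqA' : ∀ Q : Ideal A, Q.IsPrime → Q.comap (algebraMap B A) = qB → Q = qA := fun Q hQ hQB => by
    haveI := hQ
    refine huniqA Q hQ ?_ (huniq _ (Ideal.IsPrime.comap _) ?_)
    · rw [IsScalarTower.algebraMap_eq R₄ B A, ← Ideal.comap_comap, hQB, hqBp]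
    · rw [Ideal.comap_comap, ← IsScalarTower.algebraMap_eq, IsScalarTower.algebraMap_eq D₂ B A,
        ← Ideal.comap_comap, hQB, hqBy]
  have hqA₄ : qA.comap (algebraMap S₄ A) = q₄ := by
    rw [← IsLocalization.map_comap (Submonoid.powers (eX g * eX t)) S₄ (qA.comap (algebraMap S₄ A)),
      ← IsLocalization.map_comap (Submonoid.powers (eX g * eX t)) S₄ q₄]
    refine congrArg (Ideal.map _) (eq_of_comap_eq h₄ _ _ ?_ ?_ ?_)
    · rw [Ideal.comap_comap, ← IsScalarTower.algebraMap_eq, Ideal.comap_comap, ← IsScalarTower.algebraMap_eq, hqAp]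
    · rw [Ideal.comap_comap, ← IsScalarTower.algebraMap_eq, hq₄p]
    · rw [Ideal.comap_comap (incR (R := R₂) (T := S₂) R₄), Ideal.comap_comap (incR (R := R₂) (T := S₂) R₄), ← hcS₄,
        hq₄q, Ideal.comap_comap, ← IsScalarTower.algebraMap_eq, IsScalarTower.algebraMap_eq S₂ C₂ A,
        ← Ideal.comap_comap, hqAz, hzq]
  -- smoothness and integrality of the fibres
  have hrel : FlatCA.SmoothRelDim n R₄ B := by
    haveI : Algebra.Etale (R₄ ⊗[R₂] D₂) B := Algebra.Etale.of_isLocalizationAway s₄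
    exact smoothRelDim_of_etale hsm
  have hGI : FlatCA.GeomIntegralFibres R₄ B := geomIntegral_open hnzd e s fi hufi hopen
  have hηc : ∀ _ : (p₄.map (algebraMap R₄ B)).IsPrime,
      (p₄.map (algebraMap R₄ B)).comap (algebraMap D₂ B) = P := by
    intro hη
    obtain ⟨P'', hP''pr, hP''p, hP''P, -, -⟩ := exists_point_away h₄ s₄ (B := B) rfl P hPp (fun W hW hWp hWP h => by
      haveI := hW
      obtain ⟨y₄, hy₄pr, hy₄p, hy₄y⟩ := exists_prime_over (T := D₂) h₄ y hyp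
      haveI := hy₄pr
      exact hs₄ y₄ hy₄pr hy₄p hy₄y (le_of_comap_le h₄ W y₄ (Ideal.map_le_iff_le_comap.2 hWp.ge) hy₄p
        (by rw [hWP, hy₄y]; exact hPy) h))
    refine le_antisymm ?_ (hP ▸ Ideal.map_le_iff_le_comap.2 fun x hx => ?_)
    · rw [← hP''P]
      exact Ideal.comap_mono (Ideal.map_le_iff_le_comap.2 hP''p.ge)
    · rw [Ideal.mem_comap, Ideal.mem_comap,
        show algebraMap D₂ B (algebraMap R₂ D₂ x) = algebraMap R₄ B (algebraMap R₂ R₄ x) by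
          show algebraMap (R₄ ⊗[R₂] D₂) B ((1 : R₄) ⊗ₜ[R₂] algebraMap R₂ D₂ x) = _
          rw [IsScalarTower.algebraMap_apply R₄ (R₄ ⊗[R₂] D₂) B]
          refine congrArg (algebraMap (R₄ ⊗[R₂] D₂) B) ?_
          rw [← IsScalarTower.algebraMap_apply R₂ R₄ (R₄ ⊗[R₂] D₂)]
          exact (Algebra.TensorProduct.includeRight : D₂ →ₐ[R₂] R₄ ⊗[R₂] D₂).commutes x]
      exact Ideal.mem_map_of_mem _ (h₄.comap_eq.ge hx)
  have hpureB : FlatCA.PurelyTranscendental p₄ qB := by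
    haveI : IsScalarTower R₂ R₄ B := inferInstance
    haveI : IsScalarTower R₂ D₂ B := IsScalarTower.of_algebraMap_eq fun r => by
      rw [IsScalarTower.algebraMap_apply R₂ R₄ B]
      show algebraMap R₄ B (algebraMap R₂ R₄ r) = algebraMap (R₄ ⊗[R₂] D₂) B ((1 : R₄) ⊗ₜ[R₂] algebraMap R₂ D₂ r)
      rw [IsScalarTower.algebraMap_apply R₄ (R₄ ⊗[R₂] D₂) B]
      refine congrArg (algebraMap (R₄ ⊗[R₂] D₂) B) ?_
      rw [← IsScalarTower.algebraMap_apply R₂ R₄ (R₄ ⊗[R₂] D₂)]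
      exact ((Algebra.TensorProduct.includeRight : D₂ →ₐ[R₂] R₄ ⊗[R₂] D₂).commutes r).symm
    exact pureTrans_congr h₄ hqBt hpt
  refine step_layer hsurj hρsurj hfp hker.le N hgen α hα hrel hGI hpureB hover huniqA' hqA₄ hηc N₄ φ hφ ?_
  intro N' _ _ _ _ ψ hψ
  exact H R₄ e p₄ h₄ hp₄ hufr B rfl qB hqBp hqBy N' ψ hψ

end Groth.Agent.RG11
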