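import Groth.Agent.RG11.FPBC
import Groth.Prelude.Def_FlatCA

/-!
# Transfer of flatness and finite presentation along elementary dévissages
-/

universe u

set_option linter.style.haveILetI false

namespace Groth.Agent.RG11

open TensorProduct

/-- An element missing all primes over `y` divides an element of the base missing `y`. -/
theorem exists_dvd_algebraMap {D C : Type u} [CommRing D] [CommRing C] [Algebra D C] [Algebra.IsIntegral D C]
    (y : Ideal D) [y.IsPrime] (c : C) (hall : ∀ r : Ideal C, r.IsPrime → r.comap (algebraMap D C) = y → c ∉ r) :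
    ∃ d ∉ y, c ∣ algebraMap D C d := by
  by_contra! hn
  obtain ⟨r, hr, hr', hry⟩ := Ideal.exists_ideal_over_prime_of_isIntegral y (Ideal.span {c})
    (fun d hd => by
      by_contra hdy
      exact hn d hdy (Ideal.mem_span_singleton.1 hd))
  exact hall r hr' hry (hr (Ideal.mem_span_singleton_self c))

section Flat

variable {R S T : Type u} [CommRing R] [CommRing S] [CommRing T] [Algebra R S] [Algebra R T] [Algebra S T]
  [IsScalarTower R S T]

/-- A unique prime over `q` controls flatness at `q`. -/
theorem flatAt_iff_of_unique [Algebra.IsIntegral S T] (q : Ideal S) [q.IsPrime] (z : Ideal T) [z.IsPrime]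
    (hz : z.comap (algebraMap S T) = q) (huniq : ∀ r : Ideal T, r.IsPrime → r.comap (algebraMap S T) = q → r = z)
    (X : Type u) [AddCommGroup X] [Module T X] [Module S X] [IsScalarTower S T X] [Module R X]
    [IsScalarTower R T X] [IsScalarTower R S X] :
    FlatCA.FlatAt R q X ↔ FlatCA.FlatAt R z X := by
  rw [FlatFibres.flatAt_iff_forall_over (T := T) q X]
  refine ⟨fun h => h z hz, fun h r hr hrq => ?_⟩
  obtain rfl := huniq r hr hrq
  exact h

/-- A unique prime over `q` controls flatness near `q`. -/
theorem flatNear_iff_of_unique [Algebra.IsIntegral S T] (q : Ideal S) [q.IsPrime] (z : Ideal T) [z.IsPrime]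
    (hz : z.comap (algebraMap S T) = q) (huniq : ∀ r : Ideal T, r.IsPrime → r.comap (algebraMap S T) = q → r = z)
    (X : Type u) [AddCommGroup X] [Module T X] [Module S X] [IsScalarTower S T X] [Module R X]
    [IsScalarTower R T X] [IsScalarTower R S X] :
    (∃ g : S, g ∉ q ∧ Module.Flat R (LocalizedModule (Submonoid.powers g) X)) ↔
      ∃ c : T, c ∉ z ∧ Module.Flat R (LocalizedModule (Submonoid.powers c) X) := by
  constructor
  · rintro ⟨g, hg, hgX⟩
    rw [flat_away_iff_forall] at hgX
    refine ⟨algebraMap S T g, fun h => hg (hz ▸ h), (flat_away_iff_forall X _).2 fun r _ hr => ?_⟩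
    exact (FlatFibres.flatAt_iff_forall_over (T := T) (r.comap (algebraMap S T)) X).1 (hgX _ hr) r rfl
  · rintro ⟨c, hc, hcX⟩
    rw [flat_away_iff_forall] at hcX
    obtain ⟨d, hd, hcd⟩ := exists_dvd_algebraMap q c fun r hr hrq => by rw [huniq r hr hrq]; exact hc
    refine ⟨d, hd, (flat_away_iff_forall X _).2 fun Q _ hQ => ?_⟩
    refine (FlatFibres.flatAt_iff_forall_over (T := T) Q X).2 fun r _ hr => hcX r fun hcr => hQ ?_
    rw [← hr]
    exact r.mem_of_dvd hcd hcr

variable {M X : Type u} [AddCommGroup M] [Module S M] [Module R M] [IsScalarTower R S M]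
  [AddCommGroup X] [Module T X] [Module S X] [IsScalarTower S T X] [Module R X] [IsScalarTower R T X]
  (h : M →ₗ[S] X) (hh : IsBaseChange T h)

include hh in
/-- Flatness near a point under étale base change. -/
theorem flatNear_iff_of_isBaseChange [Algebra.Etale S T] (q : Ideal S) [q.IsPrime] (r : Ideal T) [r.IsPrime]
    [r.LiesOver q] :
    (∃ g : S, g ∉ q ∧ Module.Flat R (LocalizedModule (Submonoid.powers g) M)) ↔
      ∃ g : T, g ∉ r ∧ Module.Flat R (LocalizedModule (Submonoid.powers g) X) := by
  constructor
  · rintro ⟨g, hg, hgM⟩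
    rw [flat_away_iff_forall] at hgM
    refine ⟨algebraMap S T g, fun h => hg ((r.over_def q).symm ▸ h), (flat_away_iff_forall X _).2 fun Q _ hQ => ?_⟩
    haveI : Q.LiesOver (Q.under S) := ⟨rfl⟩
    exact (FlatFibres.flatAt_iff_of_isBaseChange h hh (Q.under S) Q).1 (hgM _ hQ)
  · rintro ⟨g, hg, hgX⟩
    rw [flat_away_iff_forall] at hgX
    have hopen := PrimeSpectrum.isOpenMap_comap_of_hasGoingDown_of_finitePresentation (R := S) (S := T)
      _ (PrimeSpectrum.isOpen_basicOpen (a := g))
    obtain ⟨_, ⟨d, rfl⟩, hd, hsub⟩ := PrimeSpectrum.isTopologicalBasis_basic_opens.exists_subset_of_mem_open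
      (show (⟨q, inferInstance⟩ : PrimeSpectrum S) ∈ PrimeSpectrum.comap (algebraMap S T) '' PrimeSpectrum.basicOpen g from
        ⟨⟨r, inferInstance⟩, hg, PrimeSpectrum.ext (r.over_def q).symm⟩) hopen
    refine ⟨d, hd, (flat_away_iff_forall M _).2 fun Q _ hQ => ?_⟩
    obtain ⟨⟨P, hP⟩, hgP, hPQ⟩ := hsub (show (⟨Q, inferInstance⟩ : PrimeSpectrum S) ∈ PrimeSpectrum.basicOpen d from hQ)
    haveI : P.LiesOver Q := ⟨(congrArg PrimeSpectrum.asIdeal hPQ).symm⟩
    exact (FlatFibres.flatAt_iff_of_isBaseChange h hh Q P).2 (hgX P hgP)

end Flat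

section FP

variable {A C : Type u} [CommRing A] [CommRing C] [Algebra A C] [Module.FinitePresentation A C]
  (M : Type u) [AddCommGroup M] [Module A M] [Module C M] [IsScalarTower A C M]

/-- The localisation at a unique prime over `y`. -/
theorem fp_point_iff_of_unique (y : Ideal A) [y.IsPrime] (z : Ideal C) [z.IsPrime]
    (hz : z.comap (algebraMap A C) = y) (huniq : ∀ r : Ideal C, r.IsPrime → r.comap (algebraMap A C) = y → r = z) :
    Module.FinitePresentation (Localization.AtPrime y) (LocalizedModule y.primeCompl M) ↔
      Module.FinitePresentation (Localization.AtPrime z) (LocalizedModule z.primeCompl M) := by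
  let T := Algebra.algebraMapSubmonoid C y.primeCompl
  let B' := Localization T
  letI : Algebra (Localization.AtPrime y) B' := localizationAlgebra y.primeCompl C
  haveI : IsScalarTower A (Localization.AtPrime y) B' :=
    IsScalarTower.of_algebraMap_eq fun a => (IsLocalization.map_eq (T := T) _ a).symm
  haveI : IsLocalization T B' := Localization.isLocalization
  haveI : Algebra.IsPushout A C (Localization.AtPrime y) B' := Algebra.isPushout_of_isLocalization y.primeCompl _ C _
  haveI : Algebra.IsPushout A (Localization.AtPrime y) C B' := Algebra.IsPushout.symm inferInstance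
  haveI : IsLocalization z.primeCompl B' := IsLocalization.of_le T z.primeCompl
    (by rintro _ ⟨a, ha, rfl⟩ h; exact ha (hz ▸ h))
    fun c hc => by
      obtain ⟨d, hd, hcd⟩ := exists_dvd_algebraMap y c fun r hr hr' => by rw [huniq r hr hr']; exact hc
      exact isUnit_of_dvd_unit (map_dvd _ hcd) (IsLocalization.map_units B' (⟨algebraMap A C d, d, hd, rfl⟩ : T))
  rw [fp_localizedModule_iff M y.primeCompl (Localization.AtPrime y), fp_localizedModule_iff M z.primeCompl B']
  exact fp_tensor_finite_iff M C (Localization.AtPrime y) B'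

/-- Principal localisations along a unique prime over `y`. -/
theorem fp_away_iff (a : A) :
    Module.FinitePresentation (Localization.Away a) (LocalizedModule (Submonoid.powers a) M) ↔
      Module.FinitePresentation (Localization.Away (algebraMap A C a))
        (LocalizedModule (Submonoid.powers (algebraMap A C a)) M) := by
  let T := Algebra.algebraMapSubmonoid C (Submonoid.powers a)
  let B' := Localization T
  letI : Algebra (Localization.Away a) B' := localizationAlgebra (Submonoid.powers a) C
  haveI : IsScalarTower A (Localization.Away a) B' :=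
    IsScalarTower.of_algebraMap_eq fun x => (IsLocalization.map_eq (T := T) _ x).symm
  haveI : IsLocalization T B' := Localization.isLocalization
  haveI : Algebra.IsPushout A C (Localization.Away a) B' := Algebra.isPushout_of_isLocalization (Submonoid.powers a) _ C _
  haveI : Algebra.IsPushout A (Localization.Away a) C B' := Algebra.IsPushout.symm inferInstance
  haveI : IsLocalization (Submonoid.powers (algebraMap A C a)) B' := by
    rw [← Algebra.algebraMapSubmonoid_powers]; infer_instance
  rw [fp_localizedModule_iff M (Submonoid.powers a) (Localization.Away a),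
    fp_localizedModule_iff M (Submonoid.powers (algebraMap A C a)) B']
  exact fp_tensor_finite_iff M C (Localization.Away a) B'

/-- Finite presentation near a unique prime over `y`. -/
theorem fp_near_iff_of_unique (y : Ideal A) [y.IsPrime] (z : Ideal C) [z.IsPrime]
    (hz : z.comap (algebraMap A C) = y) (huniq : ∀ r : Ideal C, r.IsPrime → r.comap (algebraMap A C) = y → r = z) :
    (∃ g : A, g ∉ y ∧ Module.FinitePresentation (Localization.Away g) (LocalizedModule (Submonoid.powers g) M)) ↔
      ∃ g : C, g ∉ z ∧ Module.FinitePresentation (Localization.Away g) (LocalizedModule (Submonoid.powers g) M) := by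
  constructor
  · rintro ⟨g, hg, h⟩
    exact ⟨algebraMap A C g, fun h' => hg (hz ▸ h'), (fp_away_iff M g).1 h⟩
  · rintro ⟨c, hc, h⟩
    obtain ⟨d, hd, hcd⟩ := exists_dvd_algebraMap y c fun r hr hr' => by rw [huniq r hr hr']; exact hc
    refine ⟨d, hd, (fp_away_iff (C := C) M d).2 ?_⟩
    rw [fp_localizedModule_iff M _ (Localization.Away (algebraMap A C d))]
    have hu : IsUnit (algebraMap C (Localization.Away (algebraMap A C d)) c) :=
      isUnit_of_dvd_unit (map_dvd _ hcd) (IsLocalization.Away.algebraMap_isUnit (algebraMap A C d))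
    haveI := (fp_localizedModule_iff M (Submonoid.powers c) (Localization.Away c)).1 h
    exact fp_tensor_of_algHom M (IsLocalization.Away.liftAlgHom c (S := Localization.Away c)
      (f := Algebra.ofId C (Localization.Away (algebraMap A C d))) hu)

end FP

section FPEtale

variable {S T : Type u} [CommRing S] [CommRing T] [Algebra S T]
  {M X : Type u} [AddCommGroup M] [Module S M] [AddCommGroup X] [Module T X] [Module S X] [IsScalarTower S T X]
  (h : M →ₗ[S] X) (hh : IsBaseChange T h)

include hh in
/-- Base changes of a base change. -/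
theorem fp_tensor_baseChange_iff (A B : Type u) [CommRing A] [CommRing B] [Algebra S A] [Algebra T B] [Algebra S B]
    [IsScalarTower S T B] [Algebra A B] [IsScalarTower S A B] :
    Module.FinitePresentation B (B ⊗[T] X) ↔ Module.FinitePresentation B (B ⊗[A] (A ⊗[S] M)) := by
  refine LinearEquiv.finitePresentation_iff ?_
  exact (AlgebraTensorModule.congr (LinearEquiv.refl B B) hh.equiv.symm) ≪≫ₗ
    AlgebraTensorModule.cancelBaseChange S T B B M ≪≫ₗ (AlgebraTensorModule.cancelBaseChange S A B B M).symm

include hh in
/-- Finite presentation at a point under flat base change. -/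
theorem fp_point_iff_of_isBaseChange [Module.Flat S T] (q : Ideal S) [q.IsPrime] (r : Ideal T) [r.IsPrime]
    [r.LiesOver q] :
    Module.FinitePresentation (Localization.AtPrime q) (LocalizedModule q.primeCompl M) ↔
      Module.FinitePresentation (Localization.AtPrime r) (LocalizedModule r.primeCompl X) := by
  let A := Localization.AtPrime q
  let B := Localization.AtPrime r
  letI : Algebra A B := Localization.AtPrime.algebraOfLiesOver q r
  haveI : IsLocalHom (algebraMap A B) := Localization.isLocalHom_localRingHom q r (algebraMap S T) Ideal.LiesOver.over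
  haveI : Module.FaithfullyFlat A B := Module.FaithfullyFlat.of_flat_of_isLocalHom
  rw [fp_localizedModule_iff M q.primeCompl A, fp_localizedModule_iff X r.primeCompl B,
    fp_tensor_baseChange_iff h hh A B]
  exact ⟨fun _ => inferInstance, fun _ => fp_of_faithfullyFlat (A ⊗[S] M) B⟩

include hh in
/-- Finite presentation near a point under étale base change. -/
theorem fp_near_iff_of_isBaseChange [Algebra.Etale S T] (q : Ideal S) [q.IsPrime] (r : Ideal T) [r.IsPrime]
    [r.LiesOver q] :
    (∃ g : S, g ∉ q ∧ Module.FinitePresentation (Localization.Away g) (LocalizedModule (Submonoid.powers g) M)) ↔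
      ∃ g : T, g ∉ r ∧ Module.FinitePresentation (Localization.Away g) (LocalizedModule (Submonoid.powers g) X) := by
  constructor
  · rintro ⟨g, hg, hgM⟩
    refine ⟨algebraMap S T g, fun h => hg ((r.over_def q).symm ▸ h), ?_⟩
    let A := Localization.Away g
    let B := Localization.Away (algebraMap S T g)
    letI : Algebra A B := (IsLocalization.Away.lift g (g := algebraMap S B) (by
      rw [IsScalarTower.algebraMap_apply S T B]; exact IsLocalization.Away.algebraMap_isUnit _)).toAlgebra
    haveI : IsScalarTower S A B := IsScalarTower.of_algebraMap_eq fun s => (IsLocalization.Away.lift_eq g _ s).symm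
    rw [fp_localizedModule_iff X _ B, fp_tensor_baseChange_iff h hh A B]
    haveI := (fp_localizedModule_iff M (Submonoid.powers g) A).1 hgM
    infer_instance
  · rintro ⟨g, hg, hgX⟩
    have hopen := PrimeSpectrum.isOpenMap_comap_of_hasGoingDown_of_finitePresentation (R := S) (S := T)
      _ (PrimeSpectrum.isOpen_basicOpen (a := g))
    obtain ⟨_, ⟨d, rfl⟩, hd, hsub⟩ := PrimeSpectrum.isTopologicalBasis_basic_opens.exists_subset_of_mem_open
      (show (⟨q, inferInstance⟩ : PrimeSpectrum S) ∈ PrimeSpectrum.comap (algebraMap S T) '' PrimeSpectrum.basicOpen g from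
        ⟨⟨r, inferInstance⟩, hg, PrimeSpectrum.ext (r.over_def q).symm⟩) hopen
    refine ⟨d, hd, ?_⟩
    let A := Localization.Away d
    let B := Localization.Away (g * algebraMap S T d)
    have hu : IsUnit (algebraMap T B g) ∧ IsUnit (algebraMap T B (algebraMap S T d)) := by
      rw [← IsUnit.mul_iff, ← map_mul]; exact IsLocalization.Away.algebraMap_isUnit _
    letI : Algebra A B := (IsLocalization.Away.lift d (g := algebraMap S B) (by
      rw [IsScalarTower.algebraMap_apply S T B]; exact hu.2)).toAlgebra
    haveI : IsScalarTower S A B := IsScalarTower.of_algebraMap_eq fun s => (IsLocalization.Away.lift_eq d _ s).symm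
    haveI : Module.Flat S B := Module.Flat.trans S T B
    haveI : Module.Flat A B := (Module.flat_iff_of_isLocalization A (Submonoid.powers d) B).2 inferInstance
    haveI : Module.FaithfullyFlat A B := Module.FaithfullyFlat.of_comap_surjective fun P => by
      have hdP : d ∉ P.asIdeal.under S := fun h => P.isPrime.ne_top
        (Ideal.eq_top_of_isUnit_mem _ h (IsLocalization.Away.algebraMap_isUnit d))
      obtain ⟨⟨Q, hQ⟩, hgQ, hQP⟩ := hsub (show (⟨P.asIdeal.under S, inferInstance⟩ : PrimeSpectrum S) ∈
        PrimeSpectrum.basicOpen d from hdP)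
      have hQP' : Q.comap (algebraMap S T) = P.asIdeal.under S := congrArg PrimeSpectrum.asIdeal hQP
      have hdisj : Disjoint (Submonoid.powers (g * algebraMap S T d) : Set T) (Q : Set T) := by
        rw [Set.disjoint_left]
        rintro _ ⟨k, rfl⟩ hk
        rcases hQ.mem_or_mem (hQ.mem_of_pow_mem k hk) with h1 | h1
        · exact hgQ h1
        · exact hdP (hQP' ▸ h1)
      haveI : (Q.map (algebraMap T B)).IsPrime := IsLocalization.isPrime_of_isPrime_disjoint _ B Q hQ hdisj
      refine ⟨⟨Q.map (algebraMap T B), inferInstance⟩, PrimeSpectrum.ext ?_⟩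
      refine (IsLocalization.orderEmbedding (Submonoid.powers d) A).injective ?_
      show Ideal.comap (algebraMap S A) (Ideal.comap (algebraMap A B) (Q.map (algebraMap T B))) = P.asIdeal.under S
      rw [Ideal.comap_comap, ← IsScalarTower.algebraMap_eq, IsScalarTower.algebraMap_eq S T B, ← Ideal.comap_comap,
        show Ideal.comap (algebraMap T B) (Q.map (algebraMap T B)) = Q from
          IsLocalization.under_map_of_isPrime_disjoint _ B hQ hdisj, hQP']
    haveI : Module.FinitePresentation B (B ⊗[T] X) := by
      haveI := (fp_localizedModule_iff X (Submonoid.powers g) (Localization.Away g)).1 hgX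
      exact fp_tensor_of_algHom X (IsLocalization.Away.liftAlgHom g (S := Localization.Away g) (f := Algebra.ofId T B) hu.1)
    haveI := (fp_tensor_baseChange_iff h hh A B).1 inferInstance
    exact (fp_localizedModule_iff M (Submonoid.powers d) A).2 (fp_of_faithfullyFlat (A ⊗[S] M) B)

end FPEtale

end Groth.Agent.RG11
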