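import Groth.Agent.RG11.StdGeneral
import Groth.Agent.CAlgOdd.LocalDimSpec
import Groth.Agent.VarDim.Basic
import Groth.Agent.FibDim.Top

/-!
# Coordinates making a finite type algebra quasi-finite at a point

If the fibre through `q` has local dimension `n` at `q`, there are `n` elements, the first ones inducing
algebraically independent elements of the residue field and the others lying in `q`, over which the
algebra is quasi-finite at `q`.
-/

universe u

set_option linter.style.haveILetI false

namespace Groth.Agent.RG11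

open TensorProduct

/-- A minimal and maximal prime of a Noetherian ring is isolated. -/
theorem isOpen_singleton_of_minimal_maximal {A : Type u} [CommRing A] [IsNoetherianRing A]
    (x : PrimeSpectrum A) (hmin : ∀ y, y ≤ x → y = x) (hmax : ∀ y, x ≤ y → y = x) : IsOpen {x} := by
  classical
  have hfin : (minimalPrimes A).Finite := minimalPrimes.finite_of_isNoetherianRing A
  let S := hfin.toFinset.erase x.asIdeal
  have : ∀ P ∈ S, ∃ a ∈ P, a ∉ x.asIdeal := fun P hP => by
    obtain ⟨hne, hP'⟩ := Finset.mem_erase.1 hP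
    have hPp : P.IsPrime := (Set.Finite.mem_toFinset hfin).1 hP' |>.1.1
    refine SetLike.not_le_iff_exists.1 fun hle => hne ?_
    exact congrArg PrimeSpectrum.asIdeal (hmin ⟨P, hPp⟩ hle)
  choose a ha hax using this
  let f := ∏ P ∈ S.attach, a P.1 P.2
  suffices (PrimeSpectrum.basicOpen f : Set (PrimeSpectrum A)) = {x} from this ▸ (PrimeSpectrum.basicOpen f).isOpen
  refine Set.Subset.antisymm (fun y hy => ?_) ?_
  · obtain ⟨P, hP, hPy⟩ := Ideal.exists_minimalPrimes_le (bot_le : ⊥ ≤ y.asIdeal)
    by_cases hPx : P = x.asIdeal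
    · exact hmax y (show x.asIdeal ≤ y.asIdeal from hPx ▸ hPy)
    · refine absurd ?_ hy
      exact hPy (P.mem_of_dvd (Finset.dvd_prod_of_mem _ (Finset.mem_attach S ⟨P, Finset.mem_erase.2
        ⟨hPx, (Set.Finite.mem_toFinset hfin).2 hP⟩⟩)) (ha _ _))
  · rw [Set.singleton_subset_iff]
    show f ∉ x.asIdeal
    rw [Ideal.IsPrime.prod_mem_iff]
    push Not
    exact fun P _ => hax _ _

variable {R C : Type u} [CommRing R] [CommRing C] [Algebra R C]

/-- Noether normalisation of the residue domain and a system of parameters. -/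
theorem exists_coordinates_field (k : Type u) {A : Type u} [Field k] [CommRing A] [Algebra k A]
    [Algebra.FiniteType k A] (x : PrimeSpectrum A) (n : ℕ) (hn : FlatMor.localDim (PrimeSpectrum A) x = n) :
    ∃ (d : ℕ) (g : MvPolynomial (Fin d) k →ₐ[k] A ⧸ x.asIdeal) (s : Finset A),
      Function.Injective g ∧ g.Finite ∧ x.asIdeal ∈ (Ideal.span (s : Set A)).minimalPrimes ∧ d + s.card = n := by
  haveI : IsNoetherianRing A := Algebra.FiniteType.isNoetherianRing k A
  obtain ⟨d, g, hinj, hfin⟩ := exists_finite_inj_algHom_of_fg k (A ⧸ x.asIdeal)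
  obtain ⟨s, hs, hcard⟩ := Ideal.exists_finset_card_eq_height_of_isNoetherianRing x.asIdeal
  refine ⟨d, g, s, hinj, hfin, hs, ?_⟩
  have hd : ringKrullDim (A ⧸ x.asIdeal) = d := by
    letI := g.toRingHom.toAlgebra
    haveI : Module.Finite (MvPolynomial (Fin d) k) (A ⧸ x.asIdeal) := hfin
    haveI : FaithfulSMul (MvPolynomial (Fin d) k) (A ⧸ x.asIdeal) :=
      (faithfulSMul_iff_algebraMap_injective _ _).mpr hinj
    rw [Groth.Agent.VarDim.ringKrullDim_eq_of_isIntegral (R := MvPolynomial (Fin d) k),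
      MvPolynomial.ringKrullDim_of_isNoetherianRing, ringKrullDim_eq_zero_of_field, zero_add]
    simp
  have hzl : PrimeSpectrum.zeroLocus (x.asIdeal : Set A) = Set.Ici x := Set.ext fun y => Iff.rfl
  rw [ringKrullDim_quotient, hzl, ← Order.coheight_eq_krullDim_Ici] at hd
  rw [CAlgOdd.LocalDimSpec.localDim_eq_add k, ← PrimeSpectrum.height_eq_orderHeight, ← hcard] at hn
  have hd' : Order.coheight x = (d : ℕ∞) := by exact_mod_cast hd
  rw [hd'] at hn
  rw [add_comm]
  exact_mod_cast hn

/-- A prime containing `x` and meeting the normalisation trivially is `x`. -/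
theorem eq_of_le_of_finite {k A : Type u} [Field k] [CommRing A] [Algebra k A] {d : ℕ} (I Q : Ideal A) [I.IsPrime]
    [Q.IsPrime] (h : I ≤ Q) (g : MvPolynomial (Fin d) k →ₐ[k] A ⧸ I) (hg : g.Finite)
    (hF : ∀ F, (∀ a, Ideal.Quotient.mk I a = g F → a ∈ Q) → F = 0) : Q = I := by
  letI := g.toRingHom.toAlgebra
  haveI : Module.Finite (MvPolynomial (Fin d) k) (A ⧸ I) := hg
  haveI : (Q.map (Ideal.Quotient.mk I)).IsPrime :=
    Ideal.map_isPrime_of_surjective Ideal.Quotient.mk_surjective (by rw [Ideal.mk_ker]; exact h)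
  have hbot : (Q.map (Ideal.Quotient.mk I)).comap (algebraMap (MvPolynomial (Fin d) k) (A ⧸ I)) = ⊥ := by
    refine eq_bot_iff.2 fun F hFm => hF F fun a ha => ?_
    have h2 : a ∈ (Q.map (Ideal.Quotient.mk I)).comap (Ideal.Quotient.mk I) := by
      rw [Ideal.mem_comap, ha]
      exact hFm
    rwa [Ideal.comap_map_of_surjective _ Ideal.Quotient.mk_surjective, ← RingHom.ker_eq_comap_bot,
      Ideal.mk_ker, sup_eq_left.2 h] at h2
  have h7 := Ideal.eq_bot_of_comap_eq_bot hbot
  rw [Ideal.map_eq_bot_iff_le_ker, Ideal.mk_ker] at h7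
  exact le_antisymm h7 h

set_option maxHeartbeats 1000000 in
/-- Coordinates at a point of a fibre. -/
theorem exists_qf_coordinates [Algebra.FiniteType R C] (p : Ideal R) [p.IsPrime] (q : Ideal C) [q.IsPrime]
    [hover : q.LiesOver p] (x : PrimeSpectrum (p.Fiber C))
    (hx : x.asIdeal.comap (Algebra.TensorProduct.includeRight : C →ₐ[R] p.Fiber C).toRingHom = q)
    (n : ℕ) (hn : FlatMor.localDim (PrimeSpectrum (p.Fiber C)) x = n) :
    ∃ (t : Fin n → C) (S : Set (Fin n)), (∀ i ∉ S, t i ∈ q) ∧
      (∀ F : MvPolynomial S p.ResidueField, MvPolynomial.eval₂ (Ideal.ResidueField.map p q (algebraMap R C) hover.over)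
        (fun i : S => algebraMap C q.ResidueField (t i)) F = 0 → F = 0) ∧
      letI := (MvPolynomial.aeval (R := R) t).toRingHom.toAlgebra
      Algebra.QuasiFiniteAt (MvPolynomial (Fin n) R) q := by
  classical
  let k := p.ResidueField
  let A := p.Fiber C
  let ι : C →ₐ[R] A := Algebra.TensorProduct.includeRight
  obtain ⟨d, g, s, hinj, hfin, hs, hds⟩ := exists_coordinates_field k x n hn
  choose a ha using fun i => Ideal.Quotient.mk_surjective (g (MvPolynomial.X i))
  choose r hr c hc using fun i : Fin d => Ideal.Fiber.exists_smul_eq_one_tmul p (a i)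
  choose r' hr' c' hc' using fun i : s => Ideal.Fiber.exists_smul_eq_one_tmul p (i : A)
  let σ : Fin d ⊕ s ≃ Fin n := (Equiv.sumCongr (Equiv.refl _) s.equivFin).trans (finSumFinEquiv.trans (finCongr hds))
  let t : Fin n → C := fun j => Sum.elim c c' (σ.symm j)
  have htl : ∀ i, t (σ (Sum.inl i)) = c i := fun i => by simp [t]
  have htr : ∀ i, t (σ (Sum.inr i)) = c' i := fun i => by simp [t]
  let S : Set (Fin n) := Set.range fun i => σ (Sum.inl i)
  have hrest : ∀ i : s, c' i ∈ q := fun i => by
    rw [← hx, Ideal.mem_comap]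
    show (1 : k) ⊗ₜ[R] c' i ∈ x.asIdeal
    rw [← hc', Algebra.smul_def]
    exact Ideal.mul_mem_left _ _ (hs.1.2 (Ideal.subset_span i.2))
  have hS : ∀ j ∉ S, t j ∈ q := fun j hj => by
    obtain ⟨i | i, rfl⟩ := σ.surjective j
    · exact absurd ⟨i, rfl⟩ hj
    · rw [htr]; exact hrest i
  have hr0 : ∀ i, algebraMap R k (r i) ≠ 0 := fun i h => hr i (Ideal.algebraMap_residueField_eq_zero.1 h)
  -- the rescaled normalisation
  let sc : MvPolynomial (Fin d) k →ₐ[k] MvPolynomial (Fin d) k :=
    MvPolynomial.aeval fun i => MvPolynomial.C (algebraMap R k (r i)) * MvPolynomial.X i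
  let sc' : MvPolynomial (Fin d) k →ₐ[k] MvPolynomial (Fin d) k :=
    MvPolynomial.aeval fun i => MvPolynomial.C (algebraMap R k (r i))⁻¹ * MvPolynomial.X i
  have hscsc : sc.comp sc' = AlgHom.id k _ := MvPolynomial.algHom_ext fun i => by
    simp only [sc, sc', AlgHom.comp_apply, MvPolynomial.aeval_X, map_mul, AlgHom.id_apply,
      MvPolynomial.aeval_C, MvPolynomial.algebraMap_eq]
    rw [← mul_assoc, ← map_mul, inv_mul_cancel₀ (hr0 i), map_one, one_mul]
  have hscsc' : sc'.comp sc = AlgHom.id k _ := MvPolynomial.algHom_ext fun i => by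
    simp only [sc, sc', AlgHom.comp_apply, MvPolynomial.aeval_X, map_mul, AlgHom.id_apply,
      MvPolynomial.aeval_C, MvPolynomial.algebraMap_eq]
    rw [← mul_assoc, ← map_mul, mul_inv_cancel₀ (hr0 i), map_one, one_mul]
  let g' := g.comp sc
  have hinj' : Function.Injective g' := hinj.comp
    (Function.LeftInverse.injective (g := sc') (DFunLike.congr_fun hscsc'))
  have hfin' : g'.Finite := hfin.comp (AlgHom.Finite.of_surjective sc
    (Function.RightInverse.surjective (g := sc') (DFunLike.congr_fun hscsc)))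
  have hg' : g' = MvPolynomial.aeval fun i => Ideal.Quotient.mk x.asIdeal (ι (c i)) := MvPolynomial.algHom_ext fun i => by
    simp only [g', sc, AlgHom.comp_apply, MvPolynomial.aeval_X, map_mul]
    rw [← ha, ← MvPolynomial.algebraMap_eq, AlgHom.commutes, IsScalarTower.algebraMap_apply k A (A ⧸ x.asIdeal),
      Ideal.Quotient.algebraMap_eq, ← map_mul]
    congr 1
    rw [← IsScalarTower.algebraMap_apply, ← Algebra.smul_def, hc]
    rfl
  -- lifting polynomials
  have hlift : ∀ F : MvPolynomial (Fin d) k, ∃ (u : R) (G : MvPolynomial (Fin d) R), u ∉ p ∧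
      Ideal.Quotient.mk x.asIdeal (ι (MvPolynomial.aeval c G)) = g' (MvPolynomial.C (algebraMap R k u) * F) := fun F => by
    obtain ⟨u, G, hu, hG⟩ := exists_lift_mul p F
    refine ⟨u, G, hu, ?_⟩
    rw [← hG]
    suffices h : (Ideal.Quotient.mk x.asIdeal).comp (ι.toRingHom.comp (MvPolynomial.aeval (R := R) c).toRingHom) =
        g'.toRingHom.comp (MvPolynomial.map (algebraMap R k)) from RingHom.congr_fun h G
    rw [hg']
    refine MvPolynomial.ringHom_ext (fun b => ?_) fun i => ?_
    · simp only [RingHom.comp_apply, AlgHom.toRingHom_eq_coe, RingHom.coe_coe, MvPolynomial.aeval_C,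
        MvPolynomial.map_C, AlgHom.commutes]
      rw [IsScalarTower.algebraMap_apply k A (A ⧸ x.asIdeal), ← IsScalarTower.algebraMap_apply R k A]
      rfl
    · simp only [RingHom.comp_apply, AlgHom.toRingHom_eq_coe, RingHom.coe_coe, MvPolynomial.aeval_X,
        MvPolynomial.map_X]
  -- primes of `C` over the point of the polynomial ring
  letI := (MvPolynomial.aeval (R := R) t).toRingHom.toAlgebra
  haveI : IsScalarTower R (MvPolynomial (Fin n) R) C :=
    IsScalarTower.of_algebraMap_eq fun b => ((MvPolynomial.aeval (R := R) t).commutes b).symm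
  haveI : Algebra.FiniteType (MvPolynomial (Fin n) R) C :=
    Algebra.FiniteType.of_restrictScalars_finiteType R _ C
  refine ⟨t, S, hS, fun F hF => ?_, ?_⟩
  · let e : Fin d ≃ S := Equiv.ofInjective _ (σ.injective.comp Sum.inl_injective)
    obtain ⟨F', rfl⟩ : ∃ F', MvPolynomial.rename e F' = F :=
      ⟨MvPolynomial.rename e.symm F, by rw [MvPolynomial.rename_rename, Equiv.self_comp_symm, MvPolynomial.rename_id_apply]⟩
    letI : Algebra k q.ResidueField := (Ideal.ResidueField.map p q (algebraMap R C) hover.over).toAlgebra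
    haveI : IsScalarTower R k q.ResidueField := IsScalarTower.of_algebraMap_eq fun b => by
      show _ = Ideal.ResidueField.map p q (algebraMap R C) hover.over (algebraMap R k b)
      rw [Ideal.ResidueField.map_algebraMap, ← IsScalarTower.algebraMap_apply]
    let Φ : A →ₐ[k] q.ResidueField :=
      Algebra.TensorProduct.lift (Algebra.ofId k q.ResidueField) (IsScalarTower.toAlgHom R C q.ResidueField)
        fun _ _ => .all _ _
    have hΦι : ∀ b, Φ (ι b) = algebraMap C q.ResidueField b := fun b => by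
      show Algebra.TensorProduct.lift (Algebra.ofId k q.ResidueField) (IsScalarTower.toAlgHom R C q.ResidueField)
        (fun _ _ => .all _ _) ((1 : k) ⊗ₜ[R] b) = _
      rw [Algebra.TensorProduct.lift_tmul, map_one, one_mul]
      rfl
    haveI : (RingHom.ker Φ.toRingHom).IsPrime := RingHom.ker_isPrime Φ.toRingHom
    have hker : (⟨RingHom.ker Φ.toRingHom, inferInstance⟩ : PrimeSpectrum A) = x := by
      refine (PrimeSpectrum.preimageHomeomorphFiber R C ⟨p, inferInstance⟩).symm.injective ?_
      refine Subtype.ext (PrimeSpectrum.ext ?_)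
      show Ideal.comap ι.toRingHom (RingHom.ker Φ.toRingHom) = Ideal.comap ι.toRingHom x.asIdeal
      rw [hx, RingHom.comap_ker, show Φ.toRingHom.comp ι.toRingHom = algebraMap C q.ResidueField from
        RingHom.ext hΦι, Ideal.ker_algebraMap_residueField]
    let Φb : A ⧸ x.asIdeal →ₐ[k] q.ResidueField :=
      Ideal.Quotient.liftₐ _ Φ fun z hz => (congrArg PrimeSpectrum.asIdeal hker).ge hz
    have hΦb : Function.Injective Φb := by
      rw [injective_iff_map_eq_zero]
      intro z hz
      obtain ⟨z, rfl⟩ := Ideal.Quotient.mk_surjective z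
      exact Ideal.Quotient.eq_zero_iff_mem.2 ((congrArg PrimeSpectrum.asIdeal hker).le hz)
    rw [MvPolynomial.eval₂_rename] at hF
    have hcomp : Φb.comp g' = MvPolynomial.aeval fun i => algebraMap C q.ResidueField (c i) :=
      MvPolynomial.algHom_ext fun i => by
        rw [AlgHom.comp_apply, hg', MvPolynomial.aeval_X, MvPolynomial.aeval_X]
        exact hΦι (c i)
    have : F' = 0 := hinj' (hΦb (by
      rw [map_zero, map_zero]
      refine (DFunLike.congr_fun hcomp F').trans (Eq.trans ?_ hF)
      refine congrArg (fun v => MvPolynomial.eval₂ _ v F') (funext fun i => ?_)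
      show _ = algebraMap C q.ResidueField (t (σ (Sum.inl i)))
      rw [htl]))
    rw [this, map_zero]
  refine Algebra.QuasiFiniteAt.of_isOpen_singleton_fiber ⟨q, inferInstance⟩ ?_
  set y := PrimeSpectrum.comap (algebraMap (MvPolynomial (Fin n) R) C) ⟨q, inferInstance⟩
  haveI : IsNoetherianRing (y.asIdeal.Fiber C) := Algebra.FiniteType.isNoetherianRing y.asIdeal.ResidueField _
  let e := PrimeSpectrum.preimageHomeomorphFiber (MvPolynomial (Fin n) R) C y
  let oe := PrimeSpectrum.preimageOrderIsoFiber (MvPolynomial (Fin n) R) C y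
  let eA := PrimeSpectrum.preimageOrderIsoFiber R C ⟨p, inferInstance⟩
  -- no other comparable prime in the fibre
  have key : ∀ Q : PrimeSpectrum C, PrimeSpectrum.comap (algebraMap (MvPolynomial (Fin n) R) C) Q = y →
      (Q ≤ ⟨q, inferInstance⟩ ∨ (⟨q, inferInstance⟩ : PrimeSpectrum C) ≤ Q) → Q = ⟨q, inferInstance⟩ := by
    intro Q hQ hcomp
    have hQy : ∀ F : MvPolynomial (Fin n) R, MvPolynomial.aeval t F ∈ Q.asIdeal ↔ MvPolynomial.aeval t F ∈ q :=
      fun F => SetLike.ext_iff.1 (congrArg PrimeSpectrum.asIdeal hQ) F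
    have hQp : Q.asIdeal.comap (algebraMap R C) = p := by
      refine Eq.trans ?_ hover.over.symm
      ext b
      simpa using hQy (MvPolynomial.C b)
    let Q' : PrimeSpectrum A := eA ⟨Q, PrimeSpectrum.ext hQp⟩
    have hqp : PrimeSpectrum.comap (algebraMap R C) ⟨q, inferInstance⟩ = ⟨p, inferInstance⟩ :=
      PrimeSpectrum.ext hover.over.symm
    have hxq : eA.symm x = ⟨⟨q, inferInstance⟩, hqp⟩ := Subtype.ext (PrimeSpectrum.ext hx)
    have hx' : eA ⟨⟨q, inferInstance⟩, hqp⟩ = x := by rw [← hxq, OrderIso.apply_symm_apply]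
    have hcomap : Q'.asIdeal.comap ι.toRingHom = Q.asIdeal := by
      have := congrArg (fun z => (z.1 : PrimeSpectrum C).asIdeal) (eA.symm_apply_apply ⟨Q, PrimeSpectrum.ext hQp⟩)
      exact this
    have hcs : ∀ i : s, (i : A) ∈ Q'.asIdeal := fun i => by
      have h1 : c' i ∈ Q.asIdeal := by
        have := (hQy (MvPolynomial.X (σ (Sum.inr i)))).2 (by rw [MvPolynomial.aeval_X, htr]; exact hrest i)
        rwa [MvPolynomial.aeval_X, htr] at this
      rw [← hcomap, Ideal.mem_comap] at h1
      replace h1 : r' i • (i : A) ∈ Q'.asIdeal := by rw [hc']; exact h1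
      rw [← algebraMap_smul k (r' i), Algebra.smul_def] at h1
      refine (Ideal.unit_mul_mem_iff_mem _ (IsUnit.map _ (isUnit_iff_ne_zero.2 ?_))).1 h1
      exact fun h => hr' i (Ideal.algebraMap_residueField_eq_zero.1 h)
    suffices Q' = x from congrArg Subtype.val (eA.injective (this.trans hx'.symm))
    rcases hcomp with hle | hle
    · have h1 : Q' ≤ x := by rw [← hx']; exact eA.monotone hle
      exact le_antisymm h1 (hs.2 ⟨Q'.isPrime, Ideal.span_le.2 fun i hi => hcs ⟨i, hi⟩⟩ h1)
    · have h1 : x ≤ Q' := by rw [← hx']; exact eA.monotone hle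
      refine PrimeSpectrum.ext (eq_of_le_of_finite x.asIdeal Q'.asIdeal h1 g' hfin' fun F hF => ?_)
      obtain ⟨u, G, hu, hG⟩ := hlift F
      have hmem : ι (MvPolynomial.aeval c G) ∈ Q'.asIdeal := by
        obtain ⟨a₀, ha₀⟩ := Ideal.Quotient.mk_surjective (g' F)
        have e1 : Ideal.Quotient.mk x.asIdeal (ι (MvPolynomial.aeval c G)) =
            Ideal.Quotient.mk x.asIdeal (algebraMap k A (algebraMap R k u) * a₀) := by
          rw [hG, map_mul, map_mul, ha₀, ← MvPolynomial.algebraMap_eq, AlgHom.commutes]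
          rfl
        have e2 := h1 (Ideal.Quotient.eq.1 e1)
        have e3 : algebraMap k A (algebraMap R k u) * a₀ ∈ Q'.asIdeal := Ideal.mul_mem_left _ _ (hF a₀ ha₀)
        exact (Submodule.sub_mem_iff_left _ e3).1 e2
      have h4 : MvPolynomial.aeval t (MvPolynomial.rename (fun i => σ (Sum.inl i)) G) = MvPolynomial.aeval c G := by
        rw [MvPolynomial.aeval_rename]
        exact congrArg (fun v => MvPolynomial.aeval v G) (funext htl)
      have h5 : MvPolynomial.aeval c G ∈ q := by
        rw [← h4, ← hQy, h4, ← hcomap]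
        exact hmem
      rw [← hx, Ideal.mem_comap] at h5
      have h6 : g' (MvPolynomial.C (algebraMap R k u) * F) = g' 0 := by
        rw [map_zero, ← hG]; exact Ideal.Quotient.eq_zero_iff_mem.2 h5
      exact (mul_eq_zero.1 (hinj' h6)).resolve_left
        (by rw [MvPolynomial.C_eq_zero]; exact fun h => hu (Ideal.algebraMap_residueField_eq_zero.1 h))
  have hq : e ⟨⟨q, inferInstance⟩, rfl⟩ = oe ⟨⟨q, inferInstance⟩, rfl⟩ := rfl
  rw [← e.isOpen_image, Set.image_singleton]
  refine isOpen_singleton_of_minimal_maximal _ (fun z hz => ?_) fun z hz => ?_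
  · obtain ⟨⟨Q, hQ⟩, rfl⟩ := oe.surjective z
    rw [hq] at hz ⊢
    exact congrArg oe (Subtype.ext (key Q hQ (Or.inl (oe.le_iff_le.1 hz))))
  · obtain ⟨⟨Q, hQ⟩, rfl⟩ := oe.surjective z
    rw [hq] at hz ⊢
    exact congrArg oe (Subtype.ext (key Q hQ (Or.inr (oe.le_iff_le.1 hz))))

end Groth.Agent.RG11
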