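import Groth.Agent.RG11.SplitQF
import Groth.Agent.RG11.QFChoice
import Groth.Agent.S1276
import Groth.Agent.FibDim.Top

/-!
# Preparations for elementary dévissage: the closed subscheme and the standard étale lift
-/

universe u

set_option linter.style.haveILetI false

namespace Groth.Agent.RG11

open TensorProduct

set_option maxHeartbeats 400000 in
/-- The finitely presented closed subscheme carrying the module, with the same fibre support. -/
theorem exists_support_model {R S : Type u} [CommRing R] [CommRing S] [Algebra R S] [Algebra.FiniteType R S]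
    (N : Type u) [AddCommGroup N] [Module S N] [Module.Finite S N] (p : Ideal R) [p.IsPrime] (q : Ideal S) [q.IsPrime]
    [hover : q.LiesOver p] (n : ℕ) (x : PrimeSpectrum (p.Fiber S)) (hxq : x.asIdeal = FlatCA.fiberIdeal p q)
    (hx : x ∈ Module.support (p.Fiber S) (FlatCA.fiberMod p S N))
    (hn : FlatMor.localDim (Module.support (p.Fiber S) (FlatCA.fiberMod p S N)) ⟨x, hx⟩ = n) :
    ∃ J : Ideal S, J.FG ∧ J ≤ Module.annihilator S N ∧ J ≤ q ∧
      ∃ x₀ : PrimeSpectrum (p.Fiber (S ⧸ J)),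
        x₀.asIdeal.comap (Algebra.TensorProduct.includeRight : (S ⧸ J) →ₐ[R] p.Fiber (S ⧸ J)).toRingHom =
          q.map (Ideal.Quotient.mk J) ∧
        FlatMor.localDim (PrimeSpectrum (p.Fiber (S ⧸ J))) x₀ = n := by
  obtain ⟨J, hfg, hann, hJ⟩ := S1276.key (A := R) (B := S) N p
  let ι : S →ₐ[R] p.Fiber S := Algebra.TensorProduct.includeRight
  have hJx : FlatCA.fiberIdeal p J ≤ x.asIdeal := (hJ x).2 hx
  have hxcomap : x.asIdeal.comap ι.toRingHom = q := by
    let xq : PrimeSpectrum (p.Fiber S) := PrimeSpectrum.preimageHomeomorphFiber R S ⟨p, inferInstance⟩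
      ⟨⟨q, inferInstance⟩, PrimeSpectrum.ext hover.over.symm⟩
    have hxq' : xq.asIdeal.comap ι.toRingHom = q := congrArg (fun z => (z.1 : PrimeSpectrum S).asIdeal)
      ((PrimeSpectrum.preimageHomeomorphFiber R S ⟨p, inferInstance⟩).symm_apply_apply
        ⟨⟨q, inferInstance⟩, PrimeSpectrum.ext hover.over.symm⟩)
    rw [hxq]
    refine le_antisymm ?_ Ideal.le_comap_map
    calc _ ≤ xq.asIdeal.comap ι.toRingHom := Ideal.comap_mono (Ideal.map_le_iff_le_comap.2 hxq'.ge)
      _ = q := hxq'
  have hJq : J ≤ q := fun a ha => hxcomap ▸ (Ideal.mem_comap.2 (hJx (Ideal.mem_map_of_mem _ ha)))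
  refine ⟨J, hfg, hann, hJq, ?_⟩
  let j : p.Fiber S →ₐ[p.ResidueField] p.Fiber (S ⧸ J) :=
    Algebra.TensorProduct.map (AlgHom.id p.ResidueField p.ResidueField) (Ideal.Quotient.mkₐ R J)
  have hj : Function.Surjective j :=
    map_id_surjective p.ResidueField (Ideal.Quotient.mkₐ R J) Ideal.Quotient.mk_surjective
  have hker : RingHom.ker j.toRingHom = FlatCA.fiberIdeal p J := by
    refine (Algebra.TensorProduct.lTensor_ker (A := p.ResidueField) (Ideal.Quotient.mkₐ R J)
      Ideal.Quotient.mk_surjective).trans ?_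
    show Ideal.map _ (RingHom.ker (Ideal.Quotient.mk J)) = _
    rw [Ideal.mk_ker]
    rfl
  have hrange : Set.range (PrimeSpectrum.comap j.toRingHom) = Module.support (p.Fiber S) (FlatCA.fiberMod p S N) := by
    rw [range_comap_of_surjective _ _ hj]
    exact Set.ext fun z => by rw [PrimeSpectrum.mem_zeroLocus, SetLike.coe_subset_coe, hker]; exact hJ z
  let e : PrimeSpectrum (p.Fiber (S ⧸ J)) ≃ₜ Module.support (p.Fiber S) (FlatCA.fiberMod p S N) :=
    ((PrimeSpectrum.isClosedEmbedding_comap_of_surjective _ _ hj).isEmbedding.toHomeomorph).trans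
      (Homeomorph.setCongr hrange)
  refine ⟨e.symm ⟨x, hx⟩, ?_, ?_⟩
  · have h1 : (e.symm ⟨x, hx⟩).asIdeal.comap j.toRingHom = x.asIdeal :=
      congrArg (fun z => (z.1 : PrimeSpectrum (p.Fiber S)).asIdeal) (e.apply_symm_apply ⟨x, hx⟩)
    refine Ideal.comap_injective_of_surjective (Ideal.Quotient.mk J) Ideal.Quotient.mk_surjective ?_
    rw [Ideal.comap_map_of_surjective _ Ideal.Quotient.mk_surjective, ← RingHom.ker_eq_comap_bot, Ideal.mk_ker,
      sup_eq_left.2 hJq, ← hxcomap, ← h1, Ideal.comap_comap, Ideal.comap_comap]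
    congr 1
  · rw [← FibDim.localDim_homeomorph e, e.apply_symm_apply, hn]

/-- A standard étale algebra over a quotient lifts to a standard étale algebra surjecting onto it. -/
theorem exists_std_lift {S C₂ : Type u} [CommRing S] [CommRing C₂] (J : Ideal S) [Algebra (S ⧸ J) C₂]
    [Algebra.IsStandardEtale (S ⧸ J) C₂] [Algebra S C₂] [IsScalarTower S (S ⧸ J) C₂] :
    ∃ (P : StandardEtalePair S) (ρ : P.Ring →ₐ[S] C₂), Function.Surjective ρ ∧
      ∀ (C : Type u) [CommRing C] [Algebra (S ⧸ J) C] [Algebra S C] [IsScalarTower S (S ⧸ J) C]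
        (η : P.Ring →ₐ[S] C), ∃ ρ' : C₂ →ₐ[S ⧸ J] C, (ρ'.restrictScalars S).comp ρ = η := by
  obtain ⟨pres⟩ := (inferInstance : Algebra.IsStandardEtale (S ⧸ J) C₂).nonempty_standardEtalePresentation
  have hmk : Function.Surjective (algebraMap S (S ⧸ J)) := Ideal.Quotient.mk_surjective
  obtain ⟨f, hf, -, hfm⟩ := Polynomial.lifts_and_natDegree_eq_and_monic
    (f := algebraMap S (S ⧸ J)) (Polynomial.map_surjective _ hmk pres.f) pres.monic_f
  obtain ⟨g, hg⟩ := Polynomial.map_surjective _ hmk pres.g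
  let P : StandardEtalePair S :=
    { f := f, monic_f := hfm, g := g * Polynomial.derivative f, cond := ⟨g, 0, 1, by ring⟩ }
  have haev : ∀ (C : Type u) [CommRing C] [Algebra (S ⧸ J) C] [Algebra S C] [IsScalarTower S (S ⧸ J) C] (w : C)
      (F : Polynomial S), Polynomial.aeval w F = Polynomial.aeval w (F.map (algebraMap S (S ⧸ J))) :=
    fun C _ _ _ _ w F => (Polynomial.aeval_map_algebraMap (S ⧸ J) w F).symm
  have hm : P.HasMap pres.x := by
    refine ⟨by rw [haev, hf]; exact pres.hasMap.1, ?_⟩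
    show IsUnit (Polynomial.aeval pres.x (g * Polynomial.derivative f))
    rw [map_mul, haev C₂ pres.x g, hg, haev C₂ pres.x (Polynomial.derivative f), ← Polynomial.derivative_map, hf]
    exact pres.hasMap.2.mul pres.hasMap.isUnit_derivative_f
  let ρ := P.lift pres.x hm
  refine ⟨P, ρ, fun w => ?_, fun C _ _ _ _ η => ?_⟩
  · obtain ⟨a, k, hw⟩ := pres.exists_mul_aeval_x_g_pow_eq_aeval_x w
    obtain ⟨a, rfl⟩ := Polynomial.map_surjective _ hmk a
    have hgu : IsUnit (Polynomial.aeval P.X g) :=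
      isUnit_of_mul_isUnit_left (map_mul (Polynomial.aeval P.X) g (Polynomial.derivative f) ▸ P.hasMap_X.2)
    have hρ : ∀ F : Polynomial S, ρ (Polynomial.aeval P.X F) = Polynomial.aeval pres.x F := fun F => by
      rw [← Polynomial.aeval_algHom_apply, StandardEtalePair.lift_X]
    refine ⟨Polynomial.aeval P.X a * ↑(hgu.pow k).unit⁻¹, ((pres.hasMap.2.pow k)).mul_right_cancel ?_⟩
    rw [hw, ← haev, ← hρ a, ← hg, ← haev, ← hρ g, ← map_pow ρ, ← map_mul ρ, mul_assoc, IsUnit.val_inv_mul, mul_one]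
  · have hX : pres.P.HasMap (η P.X) := by
      have h1 := P.hasMap_X.map η
      refine ⟨?_, ?_⟩
      · have h := h1.1
        rw [haev, hf] at h
        exact h
      · have h := h1.2
        rw [show P.g = g * Polynomial.derivative f from rfl, map_mul, haev C (η P.X) g, hg] at h
        exact isUnit_of_mul_isUnit_left h
    let ρ' : C₂ →ₐ[S ⧸ J] C := (pres.P.lift (η P.X) hX).comp pres.equivRing.toAlgHom
    refine ⟨ρ', StandardEtalePair.hom_ext ?_⟩
    show ρ' (ρ P.X) = η P.X
    rw [StandardEtalePair.lift_X]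
    show pres.P.lift (η P.X) hX (pres.equivRing pres.x) = η P.X
    rw [StandardEtalePresentation.equivRing_x, StandardEtalePair.lift_X]

end Groth.Agent.RG11
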