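import Groth.Agent.RG11.TrivExt
import Groth.Agent.RG11.DevissageIff
import Groth.Agent.RG11.ElemPrep
import Mathlib

/-!
# Lifting étale neighbourhoods along a closed immersion
-/

universe u

set_option linter.style.haveILetI false

namespace Groth.Agent.RG11

open TensorProduct

theorem one_tmul_algebraMap {D A B : Type u} [CommRing D] [CommRing A] [CommRing B] [Algebra D A] [Algebra D B]
    (w : D) : (1 : A) ⊗ₜ[D] algebraMap D B w = algebraMap D A w ⊗ₜ[D] (1 : B) := by
  simp only [Algebra.algebraMap_eq_smul_one, TensorProduct.smul_tmul]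

/-- The kernel of a surjection from a lift of a standard étale algebra. -/
theorem exists_std_lift_ker {X C C₂ : Type u} [CommRing X] [CommRing C] [CommRing C₂] [Algebra X C] [Algebra C C₂]
    [Algebra X C₂] [IsScalarTower X C C₂] (hsurj : Function.Surjective (algebraMap X C))
    [Algebra.IsStandardEtale C C₂] :
    ∃ (P : StandardEtalePair X) (ρ : P.Ring →ₐ[X] C₂), Function.Surjective ρ ∧
      RingHom.ker ρ.toRingHom = (RingHom.ker (algebraMap X C)).map (algebraMap X P.Ring) := by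
  let J := RingHom.ker (algebraMap X C)
  let eJ : (X ⧸ J) ≃+* C := RingHom.quotientKerEquivOfSurjective hsurj
  letI : Algebra (X ⧸ J) C₂ := ((algebraMap C C₂).comp eJ.toRingHom).toAlgebra
  haveI : IsScalarTower X (X ⧸ J) C₂ := IsScalarTower.of_algebraMap_eq fun x => by
    show algebraMap X C₂ x = algebraMap C C₂ (eJ (Ideal.Quotient.mk J x))
    rw [IsScalarTower.algebraMap_apply X C C₂]
    rfl
  obtain ⟨pres⟩ := (inferInstance : Algebra.IsStandardEtale C C₂).nonempty_standardEtalePresentation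
  letI : Algebra C (X ⧸ J) := eJ.symm.toRingHom.toAlgebra
  haveI : IsScalarTower C (X ⧸ J) C₂ := IsScalarTower.of_algebraMap_eq fun c => by
    show algebraMap C C₂ c = algebraMap C C₂ (eJ (eJ.symm c))
    rw [RingEquiv.apply_symm_apply]
  haveI : Algebra.IsStandardEtale (X ⧸ J) C₂ := by
    have h1 : Function.Bijective (algebraMap C (X ⧸ J)) := eJ.symm.bijective
    let e : (X ⧸ J) ⊗[C] C₂ ≃ₐ[X ⧸ J] C₂ :=
      AlgEquiv.ofBijective (Algebra.TensorProduct.lift (Algebra.ofId (X ⧸ J) C₂) (AlgHom.id C C₂) fun _ _ => .all _ _)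
        ⟨fun a b hab => ?_, fun c => ⟨1 ⊗ₜ c, by simp⟩⟩
    · exact Algebra.IsStandardEtale.of_equiv e
    · have hl : ∀ z : (X ⧸ J) ⊗[C] C₂, ∃ c : C₂, z = 1 ⊗ₜ c := fun z => by
        induction z using TensorProduct.induction_on with
        | zero => exact ⟨0, (TensorProduct.tmul_zero _ _).symm⟩
        | add u v hu hv =>
          obtain ⟨u', rfl⟩ := hu
          obtain ⟨v', rfl⟩ := hv
          exact ⟨u' + v', (TensorProduct.tmul_add _ _ _).symm⟩
        | tmul x c =>
          obtain ⟨x, rfl⟩ := h1.2 x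
          exact ⟨x • c, by rw [← TensorProduct.smul_tmul, Algebra.smul_def, mul_one]⟩
      obtain ⟨a, rfl⟩ := hl a
      obtain ⟨b, rfl⟩ := hl b
      simp only [Algebra.TensorProduct.lift_tmul, map_one, one_mul, AlgHom.id_apply] at hab
      rw [hab]
  obtain ⟨P, ρ, hρ, hlift⟩ := exists_std_lift (C₂ := C₂) J
  refine ⟨P, ρ, hρ, le_antisymm (fun w hw => ?_) (Ideal.map_le_iff_le_comap.2 fun x hx => ?_)⟩
  · let K := J.map (algebraMap X P.Ring)
    letI : Algebra (X ⧸ J) (P.Ring ⧸ K) := (Ideal.quotientMap K (algebraMap X P.Ring) Ideal.le_comap_map).toAlgebra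
    haveI : IsScalarTower X (X ⧸ J) (P.Ring ⧸ K) := IsScalarTower.of_algebraMap_eq fun _ => rfl
    obtain ⟨ρ', hρ'⟩ := hlift (P.Ring ⧸ K) (Ideal.Quotient.mkₐ X K)
    refine Ideal.Quotient.eq_zero_iff_mem.1 ?_
    have h := DFunLike.congr_fun hρ' w
    rw [show Ideal.Quotient.mk K w = Ideal.Quotient.mkₐ X K w from rfl, ← h]
    show ρ' (ρ w) = 0
    rw [show ρ w = 0 from hw, map_zero]
  · show ρ (algebraMap X P.Ring x) = 0
    rw [ρ.commutes, IsScalarTower.algebraMap_apply X C C₂, show algebraMap X C x = 0 from hx, map_zero]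

set_option maxHeartbeats 800000 in
/-- An étale neighbourhood of `D` lifts, near a point of a quotient `C` of `S'` finite over `D`, to an étale
`S'`-algebra. -/
theorem exists_lift_etale {R' R₂ S' C D D₂ : Type u} [CommRing R'] [CommRing R₂] [CommRing S'] [CommRing C]
    [CommRing D] [CommRing D₂] [Algebra R' S'] [Algebra R' C] [Algebra R' D] [Algebra S' C] [Algebra D C]
    [IsScalarTower R' S' C] [IsScalarTower R' D C] [Algebra R' R₂] [Algebra.Etale R' R₂] [Algebra D D₂]
    [Algebra.Etale D D₂] [Algebra R₂ D₂] [Algebra R' D₂] [IsScalarTower R' R₂ D₂] [IsScalarTower R' D D₂]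
    [Module.Finite D C] (hsurj : Function.Surjective (algebraMap S' C))
    {y : Ideal D} [y.IsPrime] {y₂ : Ideal D₂} [y₂.IsPrime] (hy : TrivExt y y₂)
    {z : Ideal C} [z.IsPrime] (hz : z.comap (algebraMap D C) = y)
    (huniq : ∀ Q : Ideal C, Q.IsPrime → Q.comap (algebraMap D C) = y → Q = z) :
    ∃ d ∉ y₂, ∃ (S₂ : Type u) (_ : CommRing S₂) (_ : Algebra S' S₂) (_ : Algebra R₂ S₂),
      Algebra.Etale S' S₂ ∧
      (∀ r, algebraMap R₂ S₂ (algebraMap R' R₂ r) = algebraMap S' S₂ (algebraMap R' S' r)) ∧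
      ∃ π : S₂ →+* Localization.Away d ⊗[D] C, Function.Surjective π ∧
        (∀ s, π (algebraMap S' S₂ s) = 1 ⊗ₜ algebraMap S' C s) ∧
        (∀ r, π (algebraMap R₂ S₂ r) = algebraMap R₂ (Localization.Away d) r ⊗ₜ 1) ∧
        RingHom.ker π = (RingHom.ker (algebraMap S' C)).map (algebraMap S' S₂) := by
  let CR := R₂ ⊗[R'] C
  let C' := D₂ ⊗[D] C
  letI : Algebra C CR := Algebra.TensorProduct.rightAlgebra
  letI : Algebra C C' := Algebra.TensorProduct.rightAlgebra
  haveI : Algebra.Etale C CR := Algebra.Etale.of_equiv (Algebra.TensorProduct.commRight R' C R₂)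
  haveI : Algebra.Etale C C' := Algebra.Etale.of_equiv (Algebra.TensorProduct.commRight D C D₂)
  haveI : IsScalarTower R' R₂ C' := IsScalarTower.of_algebraMap_eq fun r => by
    show algebraMap R' D₂ r ⊗ₜ[D] (1 : C) = algebraMap R₂ D₂ (algebraMap R' R₂ r) ⊗ₜ[D] (1 : C)
    rw [← IsScalarTower.algebraMap_apply]
  let jC : C →ₐ[R'] C' :=
    { (Algebra.TensorProduct.includeRight : C →ₐ[D] C').toRingHom with
      commutes' := fun r => by
        show (1 : D₂) ⊗ₜ[D] algebraMap R' C r = algebraMap R' D₂ r ⊗ₜ[D] (1 : C)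
        rw [IsScalarTower.algebraMap_apply R' D C, IsScalarTower.algebraMap_apply R' D D₂, one_tmul_algebraMap] }
  let κ : CR →ₐ[R₂] C' := Algebra.TensorProduct.lift (Algebra.ofId R₂ C') jC fun _ _ => .all _ _
  have hκr : ∀ r : R₂, κ (r ⊗ₜ 1) = algebraMap R₂ D₂ r ⊗ₜ[D] (1 : C) := fun r => by
    show κ (r ⊗ₜ 1) = algebraMap R₂ C' r
    exact (Algebra.TensorProduct.lift_tmul _ _ _ _ _).trans (by rw [map_one, mul_one]; rfl)
  have hκc : ∀ c : C, κ (1 ⊗ₜ c) = (1 : D₂) ⊗ₜ[D] c := fun c =>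
    (Algebra.TensorProduct.lift_tmul _ _ _ _ _).trans (by rw [map_one, one_mul]; rfl)
  letI : Algebra CR C' := κ.toRingHom.toAlgebra
  haveI : IsScalarTower C CR C' := IsScalarTower.of_algebraMap_eq fun c => (hκc c).symm
  haveI : Algebra.Etale CR C' := Algebra.Etale.of_restrictScalars (R := C) (A := CR) (B := C')
  obtain ⟨z', hz', hz'y, hz'z⟩ := exists_prime_over (T := C) hy z hz
  haveI := hz'
  obtain ⟨f, hf, hstd⟩ := Algebra.IsEtaleAt.exists_isStandardEtale (R := CR) (S := C') z'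
  obtain ⟨d, hd, hfd⟩ := exists_dvd_algebraMap y₂ f fun Z hZ hZy => by
    suffices Z = z' by rw [this]; exact hf
    haveI := hZ
    refine eq_of_comap_eq hy Z z' hZy hz'y ?_
    rw [hz'z]
    refine huniq _ (Ideal.IsPrime.comap _) ?_
    rw [← hy.comap_eq, ← hZy, Ideal.comap_comap, Ideal.comap_comap]
    congr 1
    refine RingHom.ext fun w => ?_
    show (1 : D₂) ⊗ₜ[D] algebraMap D C w = algebraMap D D₂ w ⊗ₜ[D] (1 : C)
    exact one_tmul_algebraMap w
  let D₂' := Localization.Away d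
  let C₂ := D₂' ⊗[D] C
  let u : C' →ₐ[D] C₂ := Algebra.TensorProduct.map (IsScalarTower.toAlgHom D D₂ D₂') (AlgHom.id D C)
  letI : Algebra C' C₂ := u.toRingHom.toAlgebra
  haveI : IsScalarTower D₂ C' C₂ := IsScalarTower.of_algebraMap_eq fun w => by
    show algebraMap D₂ D₂' w ⊗ₜ[D] (1 : C) = u (w ⊗ₜ[D] 1)
    exact (Algebra.TensorProduct.map_tmul (IsScalarTower.toAlgHom D D₂ D₂') (AlgHom.id D C) w 1).symm
  haveI hloc : IsLocalization.Away (algebraMap D₂ C' d) C₂ := by
    have h := IsLocalization.tensorProduct_tensorProduct D C (Submonoid.powers d) D₂'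
      (RingHom.ext fun c => ((Algebra.TensorProduct.map_tmul (IsScalarTower.toAlgHom D D₂ D₂') (AlgHom.id D C) 1 c).trans
        (by rw [map_one]; rfl) :
        u ((1 : D₂) ⊗ₜ[D] c) = (1 : D₂') ⊗ₜ[D] c))
    rwa [Algebra.algebraMapSubmonoid_powers] at h
  -- the standard étale algebra over `CR`
  obtain ⟨c, hc⟩ := hfd
  let Cf := Localization.Away f
  have hfu : IsUnit (algebraMap C' C₂ f) :=
    isUnit_of_dvd_unit (map_dvd _ ⟨c, hc⟩) (IsLocalization.Away.algebraMap_isUnit (algebraMap D₂ C' d))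
  letI : Algebra Cf C₂ := (IsLocalization.Away.lift f hfu).toAlgebra
  haveI : IsScalarTower C' Cf C₂ :=
    IsScalarTower.of_algebraMap_eq fun w => (IsLocalization.Away.lift_eq f hfu w).symm
  letI : Algebra CR C₂ := ((algebraMap C' C₂).comp κ.toRingHom).toAlgebra
  haveI : IsScalarTower CR C' C₂ := IsScalarTower.of_algebraMap_eq fun _ => rfl
  haveI : IsScalarTower CR Cf C₂ := IsScalarTower.of_algebraMap_eq fun w => by
    rw [IsScalarTower.algebraMap_apply CR C' Cf, ← IsScalarTower.algebraMap_apply C' Cf C₂]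
    rfl
  haveI hlocf : IsLocalization.Away (algebraMap C' Cf (algebraMap D₂ C' d)) C₂ := by
    haveI : IsLocalization.Away (algebraMap C' C₂ f) C₂ :=
      IsLocalization.away_of_isUnit_of_bijective _ hfu Function.bijective_id
    exact IsLocalization.Away.commutes Cf C₂ C₂ f (algebraMap D₂ C' d)
  haveI := hstd
  haveI : Algebra.IsStandardEtale CR C₂ :=
    Algebra.IsStandardEtale.of_isLocalizationAway (algebraMap C' Cf (algebraMap D₂ C' d))
  -- the lift
  let X := R₂ ⊗[R'] S'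
  let q : X →ₐ[R₂] CR := Algebra.TensorProduct.map (AlgHom.id R₂ R₂) (IsScalarTower.toAlgHom R' S' C)
  have hq : Function.Surjective q := fun w => by
    induction w using TensorProduct.induction_on with
    | zero => exact ⟨0, map_zero q⟩
    | add a b ha hb =>
      obtain ⟨a', rfl⟩ := ha
      obtain ⟨b', rfl⟩ := hb
      exact ⟨a' + b', map_add q a' b'⟩
    | tmul r w =>
      obtain ⟨s, rfl⟩ := hsurj w
      exact ⟨r ⊗ₜ[R'] s, Algebra.TensorProduct.map_tmul _ _ _ _⟩
  letI : Algebra X CR := q.toRingHom.toAlgebra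
  letI : Algebra X C₂ := ((algebraMap CR C₂).comp q.toRingHom).toAlgebra
  haveI : IsScalarTower X CR C₂ := IsScalarTower.of_algebraMap_eq fun _ => rfl
  obtain ⟨P, ρ, hρ, hρk⟩ := exists_std_lift_ker (X := X) (C := CR) (C₂ := C₂) hq
  letI : Algebra S' X := Algebra.TensorProduct.rightAlgebra
  haveI : Algebra.Etale S' X := Algebra.Etale.of_equiv (Algebra.TensorProduct.commRight R' S' R₂)
  letI : Algebra S' P.Ring := ((algebraMap X P.Ring).comp (algebraMap S' X)).toAlgebra
  letI : Algebra R₂ P.Ring := ((algebraMap X P.Ring).comp (algebraMap R₂ X)).toAlgebra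
  haveI : IsScalarTower S' X P.Ring := IsScalarTower.of_algebraMap_eq fun _ => rfl
  refine ⟨d, hd, P.Ring, inferInstance, inferInstance, inferInstance, Algebra.Etale.comp S' X P.Ring, fun r => ?_,
    ρ.toRingHom, hρ, fun s => ?_, fun r => ?_, ?_⟩
  · show algebraMap X P.Ring (algebraMap R' R₂ r ⊗ₜ[R'] 1) = algebraMap X P.Ring (1 ⊗ₜ[R'] algebraMap R' S' r)
    rw [one_tmul_algebraMap]
  · show ρ (algebraMap X P.Ring (1 ⊗ₜ[R'] s)) = _
    rw [ρ.commutes]
    show u (κ (q ((1 : R₂) ⊗ₜ[R'] s))) = _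
    rw [show q ((1 : R₂) ⊗ₜ[R'] s) = 1 ⊗ₜ algebraMap S' C s from Algebra.TensorProduct.map_tmul _ _ _ _, hκc]
    exact (Algebra.TensorProduct.map_tmul _ _ _ _).trans (by rw [map_one]; rfl)
  · show ρ (algebraMap X P.Ring (r ⊗ₜ[R'] 1)) = _
    rw [ρ.commutes]
    show u (κ (q (r ⊗ₜ[R'] (1 : S')))) = _
    rw [show q (r ⊗ₜ[R'] (1 : S')) = r ⊗ₜ 1 from (Algebra.TensorProduct.map_tmul _ _ _ _).trans (by rw [map_one]; rfl), hκr]
    refine (Algebra.TensorProduct.map_tmul _ _ _ _).trans ?_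
    rw [map_one, IsScalarTower.algebraMap_apply R₂ D₂ D₂']
    rfl
  · rw [hρk, show RingHom.ker (algebraMap X CR) = (RingHom.ker (algebraMap S' C)).map (algebraMap S' X) from
      Algebra.TensorProduct.lTensor_ker (A := R₂) (IsScalarTower.toAlgHom R' S' C) hsurj,
      Ideal.map_map, ← IsScalarTower.algebraMap_eq]

end Groth.Agent.RG11
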