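import Groth.Agent.FlatFibres.FiberSupp
import Groth.Agent.CAlgOdd.LocalDimSpec
import Groth.Agent.FibDim.RingLoc
import Groth.Agent.S2768
import Groth.Agent.RG11.GeomFib
import Mathlib

/-!
# Heights in supports of fibre modules and elementary dévissages
-/

universe u

set_option linter.style.haveILetI false

namespace Groth.Agent.RG11

open TensorProduct Order
open FlatFibres (fibSupp)

theorem height_lt_of {α : Type*} [Preorder α] {x : α} {n : ℕ}
    (h : ∀ l : LTSeries α, l.last = x → l.length < n) : height x < (n : ℕ∞) := by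
  obtain ⟨m, rfl⟩ : ∃ m, n = m + 1 := ⟨n - 1, by have := h (RelSeries.singleton _ x) rfl; simp at this; omega⟩
  have hle : height x ≤ (m : ℕ∞) := height_le fun l hl => by exact_mod_cast Nat.lt_succ_iff.1 (h l hl)
  exact lt_of_le_of_lt hle (by exact_mod_cast Nat.lt_succ_self m)

theorem height_le_of_lift {α β : Type*} [Preorder α] [Preorder β] (f : β → α)
    (h : ∀ b a, a < f b → ∃ b' < b, f b' = a) (b : β) : height (f b) ≤ height b := by
  have key : ∀ (n : ℕ) (b : β), (n : ℕ∞) ≤ height (f b) → (n : ℕ∞) ≤ height b := by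
    intro n
    induction n with
    | zero => intro b _; simp
    | succ n ih =>
      intro b hb
      have hlt : (n : ℕ∞) < height (f b) :=
        lt_of_lt_of_le (by exact_mod_cast Nat.lt_succ_self n) hb
      obtain ⟨a, ha, han⟩ := exists_series_of_le_height (f b) hb
      have hpos : 0 < a.length := by omega
      have hal : a.eraseLast.last < f b := by
        rw [← ha]
        exact a.eraseLast_last_rel_last (Nat.pos_iff_ne_zero.1 hpos)
      obtain ⟨b', hb', hfb'⟩ := h b _ hal
      have h1 : (n : ℕ∞) ≤ height (f b') := by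
        rw [hfb']
        refine le_trans ?_ (length_le_height (le_refl a.eraseLast.last))
        rw [RelSeries.eraseLast_length]
        exact_mod_cast Nat.le_sub_one_of_lt (by omega)
      refine le_trans ?_ (height_add_one_le hb')
      rw [Nat.cast_add, Nat.cast_one]
      exact add_le_add_left (ih b' h1) _ |>.trans_eq (by rfl)
  refine ENat.forall_natCast_le_iff_le.1 fun n hn => key n b hn

/-- Support under restriction of scalars. -/
theorem mem_support_comap {A C M : Type u} [CommRing A] [CommRing C] [Algebra A C] [AddCommGroup M] [Module C M]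
    [Module A M] [IsScalarTower A C M] (c : PrimeSpectrum C) (hc : c ∈ Module.support C M) :
    PrimeSpectrum.comap (algebraMap A C) c ∈ Module.support A M := by
  rw [Module.mem_support_iff'] at hc ⊢
  obtain ⟨m, hm⟩ := hc
  exact ⟨m, fun r hr h => hm (algebraMap A C r) hr (by rw [algebraMap_smul]; exact h)⟩

/-- Support under restriction of scalars along a surjection. -/
theorem mem_support_comap_iff {A C M : Type u} [CommRing A] [CommRing C] [Algebra A C] [AddCommGroup M] [Module C M]
    [Module A M] [IsScalarTower A C M] (hsurj : Function.Surjective (algebraMap A C)) (c : PrimeSpectrum C) :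
    PrimeSpectrum.comap (algebraMap A C) c ∈ Module.support A M ↔ c ∈ Module.support C M := by
  refine ⟨fun h => ?_, mem_support_comap c⟩
  rw [Module.mem_support_iff'] at h ⊢
  obtain ⟨m, hm⟩ := h
  refine ⟨m, fun r hr e => ?_⟩
  obtain ⟨r, rfl⟩ := hsurj r
  exact hm r hr (by rw [← algebraMap_smul C r m, e])

/-- The local dimension of a support over a field. -/
theorem localDim_support {k F : Type u} [Field k] [CommRing F] [Algebra k F] [Algebra.FiniteType k F]
    (M : Type u) [AddCommGroup M] [Module F M] [Module.Finite F M] (x : Module.support F M) :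
    FlatMor.localDim (Module.support F M) x = ((height x + coheight x.1 : ℕ∞) : WithBot ℕ∞) := by
  let I := Module.annihilator F M
  have hsupp : Module.support F M = PrimeSpectrum.zeroLocus (I : Set F) := Module.support_eq_zeroLocus
  have hsurj : Function.Surjective (Ideal.Quotient.mk I) := Ideal.Quotient.mk_surjective
  have hrange : Set.range (PrimeSpectrum.comap (Ideal.Quotient.mk I)) = Module.support F M := by
    rw [range_comap_of_surjective _ _ hsurj, Ideal.mk_ker, hsupp]
  let e : PrimeSpectrum (F ⧸ I) ≃ₜ Module.support F M :=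
    ((PrimeSpectrum.isClosedEmbedding_comap_of_surjective _ _ hsurj).isEmbedding.toHomeomorph).trans
      (Homeomorph.setCongr hrange)
  let o : PrimeSpectrum (F ⧸ I) ≃o Module.support F M :=
    { e.toEquiv with
      map_rel_iff' := fun {a b} => Ideal.comap_le_comap_iff_of_surjective (Ideal.Quotient.mk I) hsurj a.asIdeal b.asIdeal }
  haveI : Algebra.FiniteType k (F ⧸ I) := Algebra.FiniteType.of_surjective (Ideal.Quotient.mkₐ k I) hsurj
  obtain ⟨y, rfl⟩ := o.surjective x
  have hco : coheight (o y) = coheight (o y).1 := by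
    refine le_antisymm (coheight_le_coheight_apply_of_strictMono (fun z : Module.support F M => z.1) (fun _ _ h => h) (o y)) ?_
    refine coheight_le fun l hl => ?_
    let l' : LTSeries (Module.support F M) :=
      { length := l.length
        toFun := fun i => ⟨l i, Module.mem_support_mono (hl.ge.trans (l.head_le i)) (o y).2⟩
        step := fun i => l.step i }
    exact length_le_coheight (p := l') (x := o y) hl.ge
  rw [← hco, height_orderIso o, coheight_orderIso o, ← CAlgOdd.LocalDimSpec.localDim_eq_add k y]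
  exact FibDim.localDim_homeomorph e y

/-- The coheight of a point with values in an algebraic extension of its residue field. -/
theorem exists_coheight_eq_trdeg {k F L : Type u} [Field k] [CommRing F] [Algebra k F] [Algebra.FiniteType k F]
    [Field L] [Algebra k L] (χ : F →ₐ[k] L)
    (halg : ∀ z : L, IsAlgebraic χ.range z) :
    ∃ c : ℕ, Algebra.trdeg k L = c ∧
      coheight (⟨RingHom.ker χ.toRingHom, RingHom.ker_isPrime _⟩ : PrimeSpectrum F) = c := by
  let A := χ.range
  haveI : Algebra.FiniteType k A := Algebra.FiniteType.of_surjective χ.rangeRestrict χ.rangeRestrict_surjective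
  obtain ⟨c, hc, hc'⟩ := VarDim.exists_dim_eq_trdeg k A
  refine ⟨c, ?_, ?_⟩
  · haveI : Algebra.IsAlgebraic A L := ⟨halg⟩
    haveI : FaithfulSMul k A := (faithfulSMul_iff_algebraMap_injective _ _).2 (algebraMap k A).injective
    rw [← trdeg_add_eq k A, hc', trdeg_eq_zero (R := A), add_zero]
  · refine WithBot.coe_injective ?_
    rw [VarDim.coheight_eq_ringKrullDim_quotient]
    exact (ringKrullDim_eq_of_ringEquiv (Ideal.quotientKerAlgEquivOfSurjective χ.rangeRestrict_surjective).toRingEquiv
      |>.symm.trans (ringKrullDim_eq_of_ringEquiv (Ideal.quotEquivOfEq (by ext a; simp [Subtype.ext_iff])))).symm.trans hc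

section

attribute [local instance] Algebra.TensorProduct.rightAlgebra

/-- Fibre supports as subsets of the fibre. -/
theorem exists_fibre_orderIso {R S : Type u} [CommRing R] [CommRing S] [Algebra R S] (p : Ideal R) [p.IsPrime]
    (N : Type u) [AddCommGroup N] [Module S N] [Module.Finite S N] :
    ∃ e : fibSupp p S N ≃o Module.support (p.Fiber S) (FlatCA.fiberMod p S N),
      ∀ Q, (e Q).1.asIdeal.comap (algebraMap S (p.Fiber S)) = Q.1.asIdeal ∧
        (e Q).1.asIdeal = FlatCA.fiberIdeal p Q.1.asIdeal := by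
  let p0 : PrimeSpectrum R := ⟨p, inferInstance⟩
  let e := PrimeSpectrum.preimageOrderIsoFiber R S p0
  have hmem : ∀ x : PrimeSpectrum (p.Fiber S),
      x ∈ Module.support (p.Fiber S) (FlatCA.fiberMod p S N) ↔ (e.symm x).1 ∈ Module.support S N := fun x =>
    MorLib.UnrLocus.support_baseChange_iff (A := S) (B := p.Fiber S) N x
  let f : fibSupp p S N ≃o Module.support (p.Fiber S) (FlatCA.fiberMod p S N) :=
    { toFun := fun P => ⟨e ⟨P.1, PrimeSpectrum.ext P.2.2⟩, (hmem _).mpr (by rw [OrderIso.symm_apply_apply]; exact P.2.1)⟩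
      invFun := fun x => ⟨(e.symm x.1).1, (hmem _).mp x.2, congrArg PrimeSpectrum.asIdeal (e.symm x.1).2⟩
      left_inv := fun P => Subtype.ext (congrArg Subtype.val (e.symm_apply_apply ⟨P.1, PrimeSpectrum.ext P.2.2⟩) :)
      right_inv := fun x => Subtype.ext (e.apply_symm_apply x.1)
      map_rel_iff' := fun {P Q} => e.le_iff_le }
  refine ⟨f, fun Q => ?_⟩
  have h1 : (f Q).1.asIdeal.comap (algebraMap S (p.Fiber S)) = Q.1.asIdeal :=
    congrArg (fun z => z.1.asIdeal) (e.symm_apply_apply ⟨Q.1, PrimeSpectrum.ext Q.2.2⟩)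
  refine ⟨h1, ?_⟩
  refine le_antisymm ?_ (Ideal.map_le_iff_le_comap.2 h1.ge)
  intro a ha
  obtain ⟨r, hr, s, hs⟩ := Ideal.Fiber.exists_smul_eq_one_tmul p a
  have hr0 : IsUnit (algebraMap R (p.Fiber S) r) := by
    rw [IsScalarTower.algebraMap_apply R p.ResidueField (p.Fiber S)]
    exact (isUnit_iff_ne_zero.2 fun h => hr (Ideal.algebraMap_residueField_eq_zero.1 h)).map _
  have hs' : s ∈ Q.1.asIdeal := h1.le (show (1 : p.ResidueField) ⊗ₜ[R] s ∈ (f Q).1.asIdeal by
    rw [← hs, Algebra.smul_def]; exact Ideal.mul_mem_left _ _ ha)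
  refine (Ideal.unit_mul_mem_iff_mem _ hr0).1 ?_
  rw [← Algebra.smul_def, hs]
  exact Ideal.mem_map_of_mem _ hs'

/-- The dimension data at a point of a fibre support. -/
theorem exists_dims {R S : Type u} [CommRing R] [CommRing S] [Algebra R S] [Algebra.FiniteType R S]
    (N : Type u) [AddCommGroup N] [Module S N] [Module.Finite S N] (p : Ideal R) [p.IsPrime]
    (L : Type u) [Field L] [Algebra p.ResidueField L] [Algebra R L] [IsScalarTower R p.ResidueField L]
    (ψ : S →ₐ[R] L) (halg : ∀ z : L, IsAlgebraic ψ.range z) (Q : fibSupp p S N)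
    (hQ : RingHom.ker ψ.toRingHom = Q.1.asIdeal) :
    ∃ h c : ℕ, height Q = h ∧ Algebra.trdeg p.ResidueField L = c ∧
      ∃ (x : PrimeSpectrum (p.Fiber S)) (hx : x ∈ Module.support (p.Fiber S) (FlatCA.fiberMod p S N)),
        x.asIdeal = FlatCA.fiberIdeal p Q.1.asIdeal ∧
        FlatMor.localDim (Module.support (p.Fiber S) (FlatCA.fiberMod p S N)) ⟨x, hx⟩ = ((h + c : ℕ) : WithBot ℕ∞) := by
  obtain ⟨e, he⟩ := exists_fibre_orderIso (S := S) p N
  haveI : Module.Finite (p.Fiber S) (FlatCA.fiberMod p S N) :=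
    inferInstanceAs (Module.Finite (p.Fiber S) ((p.Fiber S) ⊗[S] N))
  let χ : p.Fiber S →ₐ[p.ResidueField] L :=
    Algebra.TensorProduct.lift (Algebra.ofId p.ResidueField L) ψ fun _ _ => .all _ _
  have hχ : ∀ s, χ ((1 : p.ResidueField) ⊗ₜ[R] s) = ψ s := fun s => by
    simp [χ]
  have hle : ∀ v : L, v ∈ ψ.range → v ∈ χ.range := by
    rintro v ⟨s, rfl⟩
    exact ⟨_, hχ s⟩
  have halg' : ∀ z : L, IsAlgebraic χ.range z := fun z => by
    let j : ψ.range →+* χ.range :=
      { toFun := fun v => ⟨v.1, hle v.1 v.2⟩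
        map_one' := rfl
        map_mul' := fun _ _ => rfl
        map_zero' := rfl
        map_add' := fun _ _ => rfl }
    exact (halg z).ringHom_of_comp_eq j (RingHom.id L) (fun a b h => Subtype.ext (congrArg (fun w => w.1) h :)) rfl
  obtain ⟨c, hc, hc'⟩ := exists_coheight_eq_trdeg χ halg'
  have hker : (⟨RingHom.ker χ.toRingHom, RingHom.ker_isPrime _⟩ : PrimeSpectrum (p.Fiber S)) = (e Q).1 := by
    refine (PrimeSpectrum.preimageOrderIsoFiber R S ⟨p, inferInstance⟩).symm.injective (Subtype.ext ?_)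
    refine PrimeSpectrum.ext ((Eq.trans ?_ hQ).trans (he Q).1.symm)
    ext s
    exact Iff.of_eq (congrArg (· = 0) (hχ s))
  rw [hker] at hc'
  obtain ⟨h, hh⟩ : ∃ h : ℕ, height Q = h := by
    haveI : IsNoetherianRing (p.Fiber S) := Algebra.FiniteType.isNoetherianRing p.ResidueField _
    have h1 : height (e Q) ≠ ⊤ := ne_top_of_le_ne_top
      (by rw [← PrimeSpectrum.height_eq_orderHeight]; exact Ideal.height_ne_top_of_isPrime)
      (height_le_height_apply_of_strictMono (fun z : Module.support (p.Fiber S) (FlatCA.fiberMod p S N) => z.1)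
        (fun _ _ h => h) (e Q))
    rw [height_orderIso e] at h1
    exact ⟨_, (ENat.natCast_toNat h1).symm⟩
  refine ⟨h, c, hh, hc, (e Q).1, (e Q).2, (he Q).2, ?_⟩
  rw [Subtype.coe_eta, localDim_support (k := p.ResidueField) (FlatCA.fiberMod p S N) (e Q), height_orderIso e, hh, hc']
  rfl

theorem localDim_fiber_smooth {R D : Type u} [CommRing R] [CommRing D] [Algebra R D] {n : ℕ}
    (h : FlatCA.SmoothRelDim n R D) (q : PrimeSpectrum D) (p : Ideal R) [p.IsPrime] (e : q.asIdeal.under R = p)
    (x : PrimeSpectrum (p.Fiber D))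
    (hx : x.asIdeal.comap (Algebra.TensorProduct.includeRight : D →ₐ[R] p.Fiber D).toRingHom = q.asIdeal) :
    FlatMor.localDim (PrimeSpectrum (p.Fiber D)) x = (n : WithBot ℕ∞) := by
  subst e
  have h1 := S2768.result n (X := AlgebraicGeometry.Spec (CommRingCat.of D))
    (Y := AlgebraicGeometry.Spec (CommRingCat.of R))
    (AlgebraicGeometry.Spec.map (CommRingCat.ofHom (algebraMap R D))) q
  exact (FibDim.localDim_fiber_eq_fibreDimAt q x hx).trans h1

/-- A smooth algebra has local dimension `n` at every point of a fibre. -/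
theorem localDim_support_self {R D : Type u} [CommRing R] [CommRing D] [Algebra R D] {n : ℕ}
    (h : FlatCA.SmoothRelDim n R D) (p : Ideal R) [p.IsPrime] (G : Type u) [AddCommGroup G] [Module D G]
    [Module.Finite D G] (huniv : ∀ P : PrimeSpectrum D, P.asIdeal.comap (algebraMap R D) = p → P ∈ Module.support D G)
    (x : PrimeSpectrum (p.Fiber D)) (hx : x ∈ Module.support (p.Fiber D) (FlatCA.fiberMod p D G)) :
    FlatMor.localDim (Module.support (p.Fiber D) (FlatCA.fiberMod p D G)) ⟨x, hx⟩ = (n : WithBot ℕ∞) := by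
  have hu : Module.support (p.Fiber D) (FlatCA.fiberMod p D G) = Set.univ := by
    refine Set.eq_univ_of_forall fun z => ?_
    refine (MorLib.UnrLocus.support_baseChange_iff (A := D) (B := p.Fiber D) G z).2 (huniv _ ?_)
    exact congrArg PrimeSpectrum.asIdeal
      ((PrimeSpectrum.preimageOrderIsoFiber R D ⟨p, inferInstance⟩).symm z).2
  let e : Module.support (p.Fiber D) (FlatCA.fiberMod p D G) ≃ₜ PrimeSpectrum (p.Fiber D) :=
    (Homeomorph.setCongr hu).trans (Homeomorph.Set.univ _)
  rw [← FibDim.localDim_homeomorph e ⟨x, hx⟩]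
  show FlatMor.localDim (PrimeSpectrum (p.Fiber D)) x = _
  let q : PrimeSpectrum D := ((PrimeSpectrum.preimageOrderIsoFiber R D ⟨p, inferInstance⟩).symm x).1
  have hqp : q.asIdeal.under R = p :=
    congrArg PrimeSpectrum.asIdeal ((PrimeSpectrum.preimageOrderIsoFiber R D ⟨p, inferInstance⟩).symm x).2
  exact localDim_fiber_smooth h q p hqp x rfl

/-- Smoothness of some relative dimension is smoothness. -/
theorem smooth_of_smoothRelDim {R D : Type u} [CommRing R] [CommRing D] [Algebra R D] {n : ℕ}
    (h : FlatCA.SmoothRelDim n R D) : Algebra.Smooth R D := by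
  haveI := h
  have h2 := AlgebraicGeometry.SmoothOfRelativeDimension.smooth n
    (AlgebraicGeometry.Spec.map (CommRingCat.ofHom (algebraMap R D)))
  rw [AlgebraicGeometry.HasRingHomProperty.Spec_iff (P := @AlgebraicGeometry.Smooth)] at h2
  exact RingHom.smooth_algebraMap.1 h2

/-- Quotient by the extension of a prime embeds in the fibre. -/
theorem isPrime_map_of_flat {R D : Type u} [CommRing R] [CommRing D] [Algebra R D] [Module.Flat R D]
    (h : FlatCA.GeomIntegralFibres R D) (p : Ideal R) [p.IsPrime] : (p.map (algebraMap R D)).IsPrime := by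
  haveI : IsDomain (p.ResidueField ⊗[R] D) := geomIntegralFibres_iff.1 h p.ResidueField
  let ι : (R ⧸ p) →ₗ[R] p.ResidueField := (IsScalarTower.toAlgHom R (R ⧸ p) p.ResidueField).toLinearMap
  have hι : Function.Injective (ι.rTensor D) :=
    Module.Flat.rTensor_preserves_injective_linearMap ι (IsFractionRing.injective (R ⧸ p) p.ResidueField)
  let f : D →+* p.ResidueField ⊗[R] D := (Algebra.TensorProduct.includeRight : D →ₐ[R] p.ResidueField ⊗[R] D).toRingHom
  suffices hk : RingHom.ker f = p.map (algebraMap R D) by rw [← hk]; exact RingHom.ker_isPrime f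
  refine le_antisymm (fun a ha => ?_) (Ideal.map_le_iff_le_comap.2 fun r hr => ?_)
  · have h0 : ι.rTensor D ((1 : R ⧸ p) ⊗ₜ[R] a) = 0 := by
      simp only [LinearMap.rTensor_tmul, ι, AlgHom.toLinearMap_apply, map_one]
      exact ha
    have h1 : (1 : R ⧸ p) ⊗ₜ[R] a = 0 := hι (by rw [h0, map_zero])
    refine Ideal.Quotient.eq_zero_iff_mem.1 ((Algebra.TensorProduct.quotIdealMapEquivTensorQuot D p).injective ?_)
    rw [Algebra.TensorProduct.quotIdealMapEquivTensorQuot_mk, map_zero]
    exact (TensorProduct.comm R (R ⧸ p) D).symm.injective (by rw [map_zero, TensorProduct.comm_symm_tmul]; exact h1)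
  · show f (algebraMap R D r) = 0
    exact ((Algebra.TensorProduct.includeRight : D →ₐ[R] p.ResidueField ⊗[R] D).commutes r).trans
      (by rw [IsScalarTower.algebraMap_apply R p.ResidueField (p.ResidueField ⊗[R] D),
            Ideal.algebraMap_residueField_eq_zero.2 hr, map_zero])

theorem isAlgebraic_of_fraction {L : Type u} [Field L] (A : Subring L)
    (hgen : ∀ z : L, ∃ a b : L, b ≠ 0 ∧ IsAlgebraic A a ∧ IsAlgebraic A b ∧ z * b = a) (z : L) : IsAlgebraic A z := by
  obtain ⟨a, b, hb, ha, hb', hz⟩ := hgen z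
  rw [show z = a * b⁻¹ by rw [← hz, mul_inv_cancel_right₀ hb]]
  exact ha.mul hb'.inv

set_option maxHeartbeats 1600000 in
/-- The fibre dimensions in an elementary dévissage: the module is supported at the generic point of the fibre
of the smooth algebra, and a module not supported there has smaller height. -/
theorem elemDevissage_generic {R S : Type u} [CommRing R] [CommRing S] [Algebra R S] [Algebra.FiniteType R S]
    (N : Type u) [AddCommGroup N] [Module S N] [Module.Finite S N] (p : Ideal R) [p.IsPrime] (q : Ideal S)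
    [q.IsPrime] [hover : q.LiesOver p] (hq : (⟨q, inferInstance⟩ : PrimeSpectrum S) ∈ fibSupp p S N) (n : ℕ)
    (hn : ∀ (x : PrimeSpectrum (p.Fiber S)) (hx : x ∈ Module.support (p.Fiber S) (FlatCA.fiberMod p S N)),
      x.asIdeal = FlatCA.fiberIdeal p q →
      FlatMor.localDim (Module.support (p.Fiber S) (FlatCA.fiberMod p S N)) ⟨x, hx⟩ = (n : WithBot ℕ∞))
    (E : FlatCA.ElemDevissage R S N p q n) [Module.Flat E.R' E.D] :
    ∃ (hP : (E.p'.map (algebraMap E.R' E.D)).IsPrime),
      (⟨_, hP⟩ : PrimeSpectrum E.D) ∈ Module.support E.D E.G ∧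
      (⟨E.y, E.hy⟩ : PrimeSpectrum E.D) ∈ Module.support E.D E.G ∧
      ∀ (Q : Type u) [AddCommGroup Q] [Module E.D Q],
        (⟨_, hP⟩ : PrimeSpectrum E.D) ∉ Module.support E.D Q →
        ∀ hy : (⟨E.y, E.hy⟩ : PrimeSpectrum E.D) ∈ fibSupp E.p' E.D Q,
          height (⟨_, hy⟩ : fibSupp E.p' E.D Q) < height (⟨_, hq⟩ : fibSupp p S N) := by
  classical
  obtain ⟨hetR, hover', hbij⟩ := E.etaleR
  obtain ⟨hetS, hoverS, hbijS⟩ := E.etaleS
  haveI := hetR
  haveI := hetS
  haveI := hover'
  haveI := hoverS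
  haveI := E.finiteDC
  haveI := E.finiteG
  have hP := isPrime_map_of_flat E.geomInt E.p'
  let η : PrimeSpectrum E.D := ⟨_, hP⟩
  let y : PrimeSpectrum E.D := ⟨E.y, E.hy⟩
  let L := E.z.ResidueField
  let ψC : E.C →+* L := algebraMap E.C L
  let ψS : S →+* L := ψC.comp ((algebraMap E.S' E.C).comp (algebraMap S E.S'))
  have hkerC : RingHom.ker ψC = E.z := Ideal.ker_algebraMap_residueField _
  have hkerS : RingHom.ker ψS = q := by
    rw [← RingHom.comap_ker, hkerC, ← Ideal.comap_comap]
    exact ((congrArg (Ideal.comap (algebraMap S E.S')) E.zOver.over.symm).trans hoverS.over.symm)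
  -- finite type algebras
  haveI : Algebra.FiniteType E.R' E.S' := by
    haveI : Algebra.FiniteType S E.S' := inferInstance
    haveI : Algebra.FiniteType R E.S' := Algebra.FiniteType.trans (S := S) ‹_› ‹_›
    exact Algebra.FiniteType.of_restrictScalars_finiteType R E.R' E.S'
  haveI : Algebra.FiniteType E.R' E.D := by
    haveI := smooth_of_smoothRelDim E.smooth
    infer_instance
  -- algebra structures on the residue field
  letI : Algebra E.R' L := (ψC.comp (algebraMap E.R' E.C)).toAlgebra
  letI : Algebra R L := ((algebraMap E.R' L).comp (algebraMap R E.R')).toAlgebra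
  haveI hzp : E.z.LiesOver E.p' := ⟨by
    rw [Ideal.under, IsScalarTower.algebraMap_eq E.R' E.S' E.C, ← Ideal.comap_comap]
    exact E.q'Over.over.trans (congrArg (Ideal.comap (algebraMap E.R' E.S')) E.zOver.over)⟩
  letI : Algebra E.p'.ResidueField L :=
    (Ideal.ResidueField.map E.p' E.z (algebraMap E.R' E.C) hzp.over).toAlgebra
  haveI : IsScalarTower E.R' E.p'.ResidueField L := IsScalarTower.of_algebraMap_eq fun r =>
    (Ideal.ResidueField.map_algebraMap _ _ _ hzp.over r).symm
  let κ : p.ResidueField →+* E.p'.ResidueField := (Ideal.ResidueField.mapₐ p E.p' (Algebra.ofId R E.R') hover'.over).toRingHom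
  letI : Algebra p.ResidueField E.p'.ResidueField := κ.toAlgebra
  letI : Algebra p.ResidueField L := ((algebraMap E.p'.ResidueField L).comp κ).toAlgebra
  haveI : IsScalarTower p.ResidueField E.p'.ResidueField L := IsScalarTower.of_algebraMap_eq fun _ => rfl
  haveI : IsScalarTower R p.ResidueField L := IsScalarTower.of_algebraMap_eq fun r => by
    show algebraMap E.R' L (algebraMap R E.R' r) = algebraMap E.p'.ResidueField L (κ (algebraMap R p.ResidueField r))
    rw [IsScalarTower.algebraMap_apply E.R' E.p'.ResidueField L]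
    refine congrArg _ ((IsScalarTower.algebraMap_apply R E.R' E.p'.ResidueField r).symm.trans ?_)
    exact ((Ideal.ResidueField.mapₐ p E.p' (Algebra.ofId R E.R') hover'.over).commutes r).symm
  have hψ : ∀ r : R, ψS (algebraMap R S r) = algebraMap R L r := fun r => by
    show ψC (algebraMap E.S' E.C (algebraMap S E.S' (algebraMap R S r))) = ψC (algebraMap E.R' E.C (algebraMap R E.R' r))
    rw [← IsScalarTower.algebraMap_apply R S E.S', IsScalarTower.algebraMap_apply E.R' E.S' E.C,
      ← IsScalarTower.algebraMap_apply R E.R' E.S']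
  let ψ : S →ₐ[R] L := { ψS with commutes' := hψ }
  have hψD : ∀ r : E.R', (ψC.comp (algebraMap E.D E.C)) (algebraMap E.R' E.D r) = algebraMap E.R' L r := fun r => by
    show ψC (algebraMap E.D E.C (algebraMap E.R' E.D r)) = ψC (algebraMap E.R' E.C r)
    rw [← IsScalarTower.algebraMap_apply E.R' E.D E.C]
  let ψD : E.D →ₐ[E.R'] L := { ψC.comp (algebraMap E.D E.C) with commutes' := hψD }
  have halgS : ∀ z : L, IsAlgebraic ψ.range z := fun z => by
    refine isAlgebraic_of_fraction ψ.range.toSubring (fun w => ?_) z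
    obtain ⟨a', b', hb', hw⟩ := IsFractionRing.div_surjective (E.C ⧸ E.z) w
    obtain ⟨a', rfl⟩ := Ideal.Quotient.mk_surjective a'
    obtain ⟨b', rfl⟩ := Ideal.Quotient.mk_surjective b'
    have hS' : ∀ c : E.C, IsAlgebraic ψ.range.toSubring (ψC c) := fun c => by
      obtain ⟨s', rfl⟩ := E.surjC c
      obtain ⟨w, hw⟩ := hbijS.2 (algebraMap E.S' E.q'.ResidueField s')
      obtain ⟨s, t, ht, rfl⟩ := IsFractionRing.div_surjective (S ⧸ q) w
      obtain ⟨s, rfl⟩ := Ideal.Quotient.mk_surjective s
      obtain ⟨t, rfl⟩ := Ideal.Quotient.mk_surjective t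
      have h2 : ψS t ≠ 0 := fun h0 => nonZeroDivisors.ne_zero ht
        (Ideal.Quotient.eq_zero_iff_mem.2 (hkerS.le h0))
      have h3 : ψC (algebraMap E.S' E.C s') * ψS t = ψS s := by
        simp only [map_div₀, Ideal.algebraMap_quotient_residueField_mk, AlgHom.commutes] at hw
        rw [IsScalarTower.algebraMap_apply S E.S' E.q'.ResidueField,
          IsScalarTower.algebraMap_apply S E.S' E.q'.ResidueField, eq_comm] at hw
        have h4 := congrArg (Ideal.ResidueField.map E.q' E.z (algebraMap E.S' E.C) E.zOver.over) hw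
        simp only [map_div₀, Ideal.ResidueField.map_algebraMap] at h4
        show ψC (algebraMap E.S' E.C s') * _ = _
        rw [show ψC (algebraMap E.S' E.C s') = ψS s / ψS t from h4, div_mul_cancel₀ _ h2]
      rw [show ψC (algebraMap E.S' E.C s') = ψS s * (ψS t)⁻¹ from by rw [← h3, mul_inv_cancel_right₀ h2]]
      exact (isAlgebraic_algebraMap (R := ψ.range.toSubring) (⟨ψS s, ⟨s, rfl⟩⟩ : ψ.range.toSubring)).mul
        (isAlgebraic_algebraMap (R := ψ.range.toSubring) (⟨ψS t, ⟨t, rfl⟩⟩ : ψ.range.toSubring)).inv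
    refine ⟨ψC a', ψC b', fun h0 => nonZeroDivisors.ne_zero hb' (Ideal.Quotient.eq_zero_iff_mem.2 (hkerC.le h0)),
      hS' _, hS' _, ?_⟩
    rw [← hw, Ideal.algebraMap_quotient_residueField_mk, Ideal.algebraMap_quotient_residueField_mk,
      div_mul_cancel₀ _ fun h0 => nonZeroDivisors.ne_zero hb' (Ideal.Quotient.eq_zero_iff_mem.2 (hkerC.le h0))]
  have halgD : ∀ z : L, IsAlgebraic ψD.range z := fun z => by
    refine isAlgebraic_of_fraction ψD.range.toSubring (fun w => ?_) z
    obtain ⟨a', b', hb', hw⟩ := IsFractionRing.div_surjective (E.C ⧸ E.z) w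
    obtain ⟨a', rfl⟩ := Ideal.Quotient.mk_surjective a'
    obtain ⟨b', rfl⟩ := Ideal.Quotient.mk_surjective b'
    have hC : ∀ c : E.C, IsAlgebraic ψD.range.toSubring (ψC c) := fun c => by
      obtain ⟨f, hf, hf'⟩ := Algebra.IsIntegral.isIntegral (R := E.D) c
      let j : E.D →+* ψD.range.toSubring := ψD.toRingHom.codRestrict _ fun d => ⟨d, rfl⟩
      refine IsIntegral.isAlgebraic ⟨f.map j, hf.map j, ?_⟩
      rw [Polynomial.eval₂_map]
      exact ((Polynomial.hom_eval₂ f (algebraMap E.D E.C) ψC c).symm.trans (by rw [hf', map_zero]))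
    refine ⟨ψC a', ψC b', fun h0 => nonZeroDivisors.ne_zero hb' (Ideal.Quotient.eq_zero_iff_mem.2 (hkerC.le h0)),
      hC _, hC _, ?_⟩
    rw [← hw, Ideal.algebraMap_quotient_residueField_mk, Ideal.algebraMap_quotient_residueField_mk,
      div_mul_cancel₀ _ fun h0 => nonZeroDivisors.ne_zero hb' (Ideal.Quotient.eq_zero_iff_mem.2 (hkerC.le h0))]
  -- the support of the base change
  have hsuppN' : Module.support E.S' E.N' = Module.support E.S' (E.S' ⊗[S] N) :=
    E.isBaseChange.equiv.symm.support_eq
  have hsuppG : Module.support E.S' E.G = Module.support E.S' E.N' := E.iso.symm.support_eq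
  have hp'le : ∀ P' : Ideal E.R', P'.IsPrime → P' ≤ E.p' → P'.under R = p → P' = E.p' := fun P' hP' hle h => by
    haveI := hP'
    exact Algebra.QuasiFinite.eq_of_le_of_under_eq (R := R) P' E.p' hle (h.trans hover'.over)
  -- heights
  let fS : fibSupp E.p' E.S' E.N' → fibSupp p S N := fun P => ⟨PrimeSpectrum.comap (algebraMap S E.S') P.1,
    (MorLib.UnrLocus.support_baseChange_iff (A := S) (B := E.S') N P.1).1 (hsuppN' ▸ P.2.1), by
    show Ideal.comap (algebraMap R S) (Ideal.comap (algebraMap S E.S') P.1.asIdeal) = p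
    rw [Ideal.comap_comap, ← IsScalarTower.algebraMap_eq, IsScalarTower.algebraMap_eq R E.R' E.S',
      ← Ideal.comap_comap, P.2.2]
    exact hover'.over.symm⟩
  have hliftS : ∀ b a, a < fS b → ∃ b' < b, fS b' = a := by
    intro b a hab
    haveI : b.1.asIdeal.LiesOver (fS b).1.asIdeal := ⟨rfl⟩
    obtain ⟨P, hPlt, hPp, hPo⟩ := Ideal.exists_ideal_lt_liesOver_of_lt (p := a.1.asIdeal)
      (q := (fS b).1.asIdeal) b.1.asIdeal hab
    have hPp' : P.comap (algebraMap E.R' E.S') = E.p' := by
      refine hp'le _ (Ideal.IsPrime.comap _) ((Ideal.comap_mono hPlt.le).trans b.2.2.le) ?_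
      rw [Ideal.under, Ideal.comap_comap, ← IsScalarTower.algebraMap_eq, IsScalarTower.algebraMap_eq R S E.S',
        ← Ideal.comap_comap]
      exact (congrArg (Ideal.comap (algebraMap R S)) hPo.over.symm).trans a.2.2
    refine ⟨⟨⟨P, hPp⟩, hsuppN'.symm ▸ (MorLib.UnrLocus.support_baseChange_iff (A := S) (B := E.S') N _).2 ?_, hPp'⟩,
      hPlt, ?_⟩
    · rw [show PrimeSpectrum.comap (algebraMap S E.S') ⟨P, hPp⟩ = a.1 from PrimeSpectrum.ext hPo.over.symm]
      exact a.2.1
    · exact Subtype.ext (PrimeSpectrum.ext hPo.over.symm)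
  let fC : fibSupp E.p' E.C E.G → fibSupp E.p' E.S' E.N' := fun P => ⟨PrimeSpectrum.comap (algebraMap E.S' E.C) P.1,
    hsuppG ▸ mem_support_comap P.1 P.2.1, by
    show Ideal.comap (algebraMap E.R' E.S') (Ideal.comap (algebraMap E.S' E.C) P.1.asIdeal) = _
    rw [Ideal.comap_comap, ← IsScalarTower.algebraMap_eq, P.2.2]⟩
  have hliftC : ∀ b a, a < fC b → ∃ b' < b, fC b' = a := by
    intro b a hab
    obtain ⟨c, hc⟩ : a.1 ∈ Set.range (PrimeSpectrum.comap (algebraMap E.S' E.C)) := by
      rw [range_comap_of_surjective _ _ E.surjC]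
      intro r hr
      obtain ⟨m, hm⟩ := Module.mem_support_iff'.1 (hsuppG.symm ▸ a.2.1 : a.1 ∈ Module.support E.S' E.G)
      by_contra h0
      exact hm r h0 (by rw [← algebraMap_smul E.C r m, RingHom.mem_ker.1 hr, zero_smul])
    have hcs : c ∈ Module.support E.C E.G :=
      (mem_support_comap_iff E.surjC c).1 (by rw [hc, hsuppG]; exact a.2.1)
    have hcp : c.asIdeal.comap (algebraMap E.R' E.C) = E.p' := by
      rw [IsScalarTower.algebraMap_eq E.R' E.S' E.C, ← Ideal.comap_comap]
      exact (congrArg (fun w => w.asIdeal.comap (algebraMap E.R' E.S')) hc).trans a.2.2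
    refine ⟨⟨c, hcs, hcp⟩, ?_, Subtype.ext hc⟩
    have h1 := (Ideal.comap_le_comap_iff_of_surjective (algebraMap E.S' E.C) E.surjC c.asIdeal b.1.asIdeal).1
      (show (PrimeSpectrum.comap (algebraMap E.S' E.C) c).asIdeal ≤ _ by rw [hc]; exact hab.le)
    refine lt_of_le_not_ge h1 fun h2 => hab.not_ge ?_
    show (fC b).1.asIdeal ≤ a.1.asIdeal
    rw [← hc]
    exact Ideal.comap_mono h2
  let fD : fibSupp E.p' E.C E.G → fibSupp E.p' E.D E.G := fun P => ⟨PrimeSpectrum.comap (algebraMap E.D E.C) P.1,
    mem_support_comap P.1 P.2.1, by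
    show Ideal.comap (algebraMap E.R' E.D) (Ideal.comap (algebraMap E.D E.C) P.1.asIdeal) = _
    rw [Ideal.comap_comap, ← IsScalarTower.algebraMap_eq, P.2.2]⟩
  have hfD : StrictMono fD := fun a b h => Ideal.IsIntegral.comap_lt_comap (R := E.D) h
  -- the points
  have hq' : (⟨E.q', E.hq'⟩ : PrimeSpectrum E.S') ∈ fibSupp E.p' E.S' E.N' := ⟨hsuppN'.symm ▸
    (MorLib.UnrLocus.support_baseChange_iff (A := S) (B := E.S') N _).2 (by
      rw [show PrimeSpectrum.comap (algebraMap S E.S') ⟨E.q', E.hq'⟩ = ⟨q, inferInstance⟩ from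
        PrimeSpectrum.ext hoverS.over.symm]
      exact hq.1), E.q'Over.over.symm⟩
  have hz : (⟨E.z, E.hz⟩ : PrimeSpectrum E.C) ∈ fibSupp E.p' E.C E.G := ⟨(mem_support_comap_iff E.surjC _).1 (by
      rw [show PrimeSpectrum.comap (algebraMap E.S' E.C) ⟨E.z, E.hz⟩ = ⟨E.q', E.hq'⟩ from
        PrimeSpectrum.ext E.zOver.over.symm, hsuppG]
      exact hq'.1), hzp.over.symm⟩
  have hyG : y ∈ Module.support E.D E.G := by
    rw [show y = PrimeSpectrum.comap (algebraMap E.D E.C) ⟨E.z, E.hz⟩ from PrimeSpectrum.ext E.zOverY.over]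
    exact mem_support_comap _ hz.1
  let Y : fibSupp E.p' E.D E.G := ⟨y, hyG, E.yOver.over.symm⟩
  have h1 : height (⟨_, hq⟩ : fibSupp p S N) ≤ height Y := by
    have hfs : fS ⟨_, hq'⟩ = ⟨_, hq⟩ := Subtype.ext (PrimeSpectrum.ext hoverS.over.symm)
    have hfc : fC ⟨_, hz⟩ = ⟨_, hq'⟩ := Subtype.ext (PrimeSpectrum.ext E.zOver.over.symm)
    have hfd : fD ⟨_, hz⟩ = Y := Subtype.ext (PrimeSpectrum.ext E.zOverY.over.symm)
    rw [← hfs]
    refine (height_le_of_lift fS hliftS _).trans ?_
    rw [← hfc]
    refine (height_le_of_lift fC hliftC _).trans ?_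
    rw [← hfd]
    exact height_le_height_apply_of_strictMono fD hfD _
  -- the smooth fibre
  let YD : fibSupp E.p' E.D E.D := ⟨y, by
    rw [Module.support_of_algebra]
    intro a ha
    rw [show a = 0 from ha]
    exact zero_mem _, E.yOver.over.symm⟩
  obtain ⟨h, c, hh, hc, x, hx, hxq, hdim⟩ := exists_dims N p L ψ halgS ⟨_, hq⟩ hkerS
  obtain ⟨h', c', hh', hc', x', hx', -, hdim'⟩ := exists_dims E.D E.p' L ψD halgD YD (by
    refine Eq.trans ?_ E.zOverY.over.symm
    show RingHom.ker (ψC.comp (algebraMap E.D E.C)) = _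
    rw [← RingHom.comap_ker, hkerC])
  have hcc : c = c' := by
    haveI : FaithfulSMul p.ResidueField E.p'.ResidueField :=
      (faithfulSMul_iff_algebraMap_injective _ _).2 κ.injective
    haveI : FaithfulSMul E.p'.ResidueField L :=
      (faithfulSMul_iff_algebraMap_injective _ _).2 (algebraMap E.p'.ResidueField L).injective
    haveI : Algebra.IsAlgebraic p.ResidueField E.p'.ResidueField :=
      ⟨fun w => by obtain ⟨v, rfl⟩ := hbij.2 w; exact isAlgebraic_algebraMap v⟩
    have h3 := trdeg_add_eq p.ResidueField E.p'.ResidueField (A := L)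
    rw [trdeg_eq_zero (R := p.ResidueField) (A := E.p'.ResidueField), zero_add, hc, hc'] at h3
    exact_mod_cast h3.symm
  have hhn : h' = h := by
    have e1 : ((h + c : ℕ) : WithBot ℕ∞) = n := hdim.symm.trans (hn x hx hxq)
    have e2 : ((h' + c' : ℕ) : WithBot ℕ∞) = n := hdim'.symm.trans (localDim_support_self E.smooth E.p' E.D
      (fun P _ => by
        rw [Module.support_of_algebra]
        intro a ha
        rw [show a = 0 from ha]
        exact zero_mem _) x' hx')
    have e3 : (h + c : ℕ) = h' + c' := by exact_mod_cast e1.trans e2.symm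
    omega
  -- modules not supported at the generic point
  have key : ∀ (Q : Type u) [AddCommGroup Q] [Module E.D Q], η ∉ Module.support E.D Q →
      ∀ hy : y ∈ fibSupp E.p' E.D Q, height (⟨_, hy⟩ : fibSupp E.p' E.D Q) < height YD := by
    intro Q _ _ hη hy
    rw [hh']
    refine height_lt_of (fun l hl => ?_)
    have hlt : ∀ P : fibSupp E.p' E.D Q, η < P.1 := fun P => lt_of_le_of_ne
      (show η.asIdeal ≤ P.1.asIdeal from Ideal.map_le_iff_le_comap.2 P.2.2.ge) fun e => hη (e ▸ P.2.1)
    have hsup : ∀ P : PrimeSpectrum E.D, P ∈ Module.support E.D E.D := fun P => by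
      rw [Module.support_of_algebra]
      intro a ha
      rw [show a = 0 from ha]
      exact zero_mem _
    have hηp : η.asIdeal.comap (algebraMap E.R' E.D) = E.p' := le_antisymm
      ((Ideal.comap_mono (hlt l.last).le).trans l.last.2.2.le) Ideal.le_comap_map
    let l' : LTSeries (fibSupp E.p' E.D E.D) := l.map (fun P => ⟨P.1, hsup _, P.2.2⟩) fun _ _ h => h
    let l'' := l'.cons ⟨η, hsup _, hηp⟩ (hlt l.head)
    have h4 := length_le_height (p := l'') (x := YD) (le_of_eq ((RelSeries.last_cons l' _ _).trans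
      (Subtype.ext (congrArg (fun P : fibSupp E.p' E.D Q => P.1) hl))))
    rw [show l''.length = l'.length + 1 from RelSeries.cons_length l' _ _, hh'] at h4
    exact Nat.succ_le_iff.1 (by exact_mod_cast h4)
  have hηG : η ∈ Module.support E.D E.G := by
    by_contra hne
    exact absurd (key E.G hne ⟨hyG, E.yOver.over.symm⟩) (not_lt.2 (by rw [hh', hhn, ← hh]; exact h1))
  refine ⟨hP, hηG, hyG, fun Q _ _ hne hy => ?_⟩
  have h5 := key Q hne hy
  rw [hh', hhn, ← hh] at h5
  exact h5

end

end Groth.Agent.RG11
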