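import Groth.Agent.FlatFibres.FlatAtBaseChange
import Groth.Agent.S1231
import Groth.Agent.Pi1X.UnivInj
import Mathlib

/-!
# Flatness and finite presentation of localised modules under change of rings
-/

universe u

set_option linter.style.haveILetI false

namespace Groth.Agent.RG11

open TensorProduct

section Flat

variable {R S : Type u} [CommRing R] [CommRing S] [Algebra R S] (N : Type u) [AddCommGroup N] [Module S N]
  [Module R N] [IsScalarTower R S N]

/-- Flatness on a basic open is flatness at all its points. -/
theorem flat_away_iff_forall (g : S) :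
    Module.Flat R (LocalizedModule (Submonoid.powers g) N) ↔
      ∀ (Q : Ideal S) [Q.IsPrime], g ∉ Q → FlatCA.FlatAt R Q N := by
  constructor
  · intro h Q _ hg
    rw [FlatFibres.flatAt_iff_forall]
    intro I z hz
    let f := LocalizedModule.mkLinearMap (Submonoid.powers g) N
    let fI := AlgebraTensorModule.rTensor R (I : Submodule R R) f
    have h1 : fI z = 0 := by
      refine Module.Flat.lTensor_preserves_injective_linearMap
        (M := LocalizedModule (Submonoid.powers g) N) I.subtype Subtype.val_injective ?_
      rw [map_zero]
      have key : ∀ z, (I.subtype.lTensor (LocalizedModule (Submonoid.powers g) N)) (fI z) =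
          AlgebraTensorModule.rTensor R R f (I.subtype.lTensor N z) := fun z => by
        induction z with
        | zero => simp
        | tmul a b => simp [fI]
        | add a b ha hb => simp only [map_add, ha, hb]
      have : (I.subtype.lTensor (LocalizedModule (Submonoid.powers g) N)) (fI z) =
          AlgebraTensorModule.rTensor R R f (I.subtype.lTensor N z) := key z
      rw [this, hz, map_zero]
    obtain ⟨⟨s, k, rfl⟩, hs⟩ := (IsLocalizedModule.eq_zero_iff (Submonoid.powers g) fI).1 h1
    exact ⟨g ^ k, fun hm => hg (‹Q.IsPrime›.mem_of_pow_mem k hm), hs⟩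
  · intro h
    rw [Module.Flat.iff_lTensor_injective']
    intro I
    let f := LocalizedModule.mkLinearMap (Submonoid.powers g) N
    let fI := AlgebraTensorModule.rTensor R (I : Submodule R R) f
    let fR := AlgebraTensorModule.rTensor R R f
    rw [injective_iff_map_eq_zero]
    intro w hw
    obtain ⟨⟨z, t⟩, rfl⟩ := IsLocalizedModule.mk'_surjective (Submonoid.powers g) fI w
    rw [Function.uncurry_apply_pair] at hw ⊢
    have h1 : (I.subtype.lTensor (LocalizedModule (Submonoid.powers g) N)) (fI z) = 0 := by
      rw [← IsLocalizedModule.mk'_cancel' fI z t, ← AlgebraTensorModule.coe_lTensor (A := S), Submonoid.smul_def,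
        map_smul, AlgebraTensorModule.coe_lTensor, hw, smul_zero]
    have h2 : fR (I.subtype.lTensor N z) = 0 := by
      rw [← h1]
      clear h1 hw
      induction z with
      | zero => simp
      | tmul a b => simp [fI, fR]
      | add a b ha hb => simp only [map_add, ha, hb]
    obtain ⟨⟨_, k, rfl⟩, hk⟩ := (IsLocalizedModule.eq_zero_iff (Submonoid.powers g) fR).1 h2
    have hk' : I.subtype.lTensor N ((g ^ k) • z) = 0 := by
      rw [← AlgebraTensorModule.coe_lTensor (A := S), map_smul, AlgebraTensorModule.coe_lTensor]
      exact hk
    let J : Ideal S := (Submodule.span S {(g ^ k) • z}).annihilator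
    obtain ⟨m, hm⟩ : ∃ m, g ^ m ∈ J := by
      by_contra! hn
      obtain ⟨Q, hQ, hJQ, hd⟩ := Ideal.exists_le_prime_disjoint J (Submonoid.powers g) (Set.disjoint_left.2 fun x hx ⟨m, hm⟩ => hn m (by simpa [hm] using hx))
      obtain ⟨s, hs, hsz⟩ := (FlatFibres.flatAt_iff_forall Q N).1
        (h Q fun hg => Set.disjoint_left.1 hd hg ⟨1, pow_one g⟩) I _ hk'
      exact hs (hJQ ((Submodule.mem_annihilator_span_singleton _ _).2 hsz))
    refine (IsLocalizedModule.mk'_eq_zero' fI t).2 ⟨⟨g ^ (m + k), m + k, rfl⟩, ?_⟩
    show g ^ (m + k) • z = 0
    rw [pow_add, mul_smul]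
    exact (Submodule.mem_annihilator_span_singleton _ _).1 hm

/-- Flatness at a prime only depends on the isomorphism class. -/
theorem flatAt_congr {M : Type u} [AddCommGroup M] [Module S M] [Module R M] [IsScalarTower R S M] (e : N ≃ₗ[S] M)
    (q : Ideal S) [q.IsPrime] : FlatCA.FlatAt R q N ↔ FlatCA.FlatAt R q M :=
  Module.Flat.equiv_iff
    ((IsLocalizedModule.mapEquiv q.primeCompl (LocalizedModule.mkLinearMap q.primeCompl N)
      (LocalizedModule.mkLinearMap q.primeCompl M) (Localization.AtPrime q) e).restrictScalars R)

end Flat

section FP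

variable {A : Type u} [CommRing A] (M : Type u) [AddCommGroup M] [Module A M]

/-- Finite presentation of a base change passes along algebra maps. -/
theorem fp_tensor_of_algHom {B C : Type u} [CommRing B] [CommRing C] [Algebra A B] [Algebra A C] (φ : B →ₐ[A] C)
    [Module.FinitePresentation B (B ⊗[A] M)] : Module.FinitePresentation C (C ⊗[A] M) := by
  letI := φ.toRingHom.toAlgebra
  haveI : IsScalarTower A B C := IsScalarTower.of_algebraMap_eq fun a => (φ.commutes a).symm
  exact Module.FinitePresentation.of_equiv (AlgebraTensorModule.cancelBaseChange A B C C M)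

/-- Finite presentation of the base change depends only on the isomorphism class of the algebra. -/
theorem fp_tensor_congr {B C : Type u} [CommRing B] [CommRing C] [Algebra A B] [Algebra A C] (e : B ≃ₐ[A] C) :
    Module.FinitePresentation B (B ⊗[A] M) ↔ Module.FinitePresentation C (C ⊗[A] M) :=
  ⟨fun _ => fp_tensor_of_algHom M e.toAlgHom, fun _ => fp_tensor_of_algHom M e.symm.toAlgHom⟩

/-- Localised modules in terms of base change. -/
theorem fp_localizedModule_iff (T : Submonoid A) (B : Type u) [CommRing B] [Algebra A B] [IsLocalization T B] :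
    Module.FinitePresentation (Localization T) (LocalizedModule T M) ↔ Module.FinitePresentation B (B ⊗[A] M) := by
  rw [← fp_tensor_congr M (IsLocalization.algEquiv T (Localization T) B)]
  exact (LinearEquiv.finitePresentation_iff
    (IsLocalizedModule.isBaseChange T (Localization T) (LocalizedModule.mkLinearMap T M)).equiv).symm

/-- Finite presentation over a module-finitely presented algebra. -/
theorem fp_iff_restrict (C : Type u) [CommRing C] [Algebra A C] [Module.FinitePresentation A C] [Module C M]
    [IsScalarTower A C M] : Module.FinitePresentation C M ↔ Module.FinitePresentation A M := by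
  refine ⟨fun _ => Module.FinitePresentation.trans A M C, fun h => ?_⟩
  haveI : Module.Finite C M := Module.Finite.of_restrictScalars_finite A C M
  obtain ⟨k, π, hπ⟩ := Module.Finite.exists_fin' C M
  refine Module.finitePresentation_of_surjective π hπ ?_
  have hfg : (LinearMap.ker (π.restrictScalars A)).FG := Module.FinitePresentation.fg_ker _ hπ
  obtain ⟨s, hs⟩ := hfg
  refine ⟨s, le_antisymm (Submodule.span_le.2 fun x hx => ?_) fun x hx => ?_⟩
  · exact hs.le (Submodule.subset_span hx)
  · exact Submodule.span_le_restrictScalars A C (s : Set (Fin k → C)) (hs.ge hx)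

/-- Finite presentation of localisations along a module-finitely presented algebra. -/
theorem fp_tensor_finite_iff (C : Type u) [CommRing C] [Algebra A C] [Module.FinitePresentation A C] [Module C M]
    [IsScalarTower A C M] (B : Type u) [CommRing B] [Algebra A B] (B' : Type u) [CommRing B'] [Algebra C B']
    [Algebra A B'] [IsScalarTower A C B'] [Algebra B B'] [IsScalarTower A B B'] [Algebra.IsPushout A B C B'] :
    Module.FinitePresentation B (B ⊗[A] M) ↔ Module.FinitePresentation B' (B' ⊗[C] M) := by
  let e : B ⊗[A] C ≃ₐ[B] B' := Algebra.IsPushout.equiv A B C B'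
  haveI : Module.FinitePresentation B B' := Module.FinitePresentation.of_equiv e.toLinearEquiv
  let Φ : B ⊗[A] M ≃ₗ[B] B' ⊗[C] M :=
    (Algebra.IsPushout.cancelBaseChange A B C B' M).symm
  rw [fp_iff_restrict (A := B) (B' ⊗[C] M) B', LinearEquiv.finitePresentation_iff Φ]

/-- Finite presentation descends along faithfully flat algebras. -/
theorem fp_of_faithfullyFlat (B : Type u) [CommRing B] [Algebra A B] [Module.FaithfullyFlat A B]
    [Module.FinitePresentation B (B ⊗[A] M)] : Module.FinitePresentation A M := by
  refine Pi1X.finitePresentation_descends (S := B) (fun P _ _ => ?_) M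
  intro a b hab
  have h1 : ∀ z : P ⊗[A] A, (Algebra.linearMap A B).lTensor P z =
      TensorProduct.comm A B P ((1 : B) ⊗ₜ[A] TensorProduct.rid A P z) := fun z => by
    induction z with
    | zero => simp
    | tmul p r =>
      simp only [LinearMap.lTensor_tmul, Algebra.linearMap_apply, TensorProduct.rid_tmul, TensorProduct.comm_tmul,
        Algebra.algebraMap_eq_smul_one]
      simp [TensorProduct.tmul_smul, TensorProduct.smul_tmul']
    | add x y hx hy => simp only [map_add, TensorProduct.tmul_add, hx, hy]
  rw [h1, h1] at hab
  exact (TensorProduct.rid A P).injective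
    (Module.FaithfullyFlat.tensorProduct_mk_injective (A := A) (B := B) P ((TensorProduct.comm A B P).injective hab))

end FP

end Groth.Agent.RG11
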