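import Groth.Agent.RG11.PureLoc
import Groth.Agent.AssFiber.Basic
import Mathlib

/-!
# Flatness is detected at associated points of the fibre
-/

universe u

set_option linter.style.haveILetI false

namespace Groth.Agent.RG11

open TensorProduct

attribute [local instance] Algebra.TensorProduct.rightAlgebra

variable {R S : Type u} [CommRing R] [CommRing S] [Algebra R S]

/-- Flatness at a prime passes to smaller primes. -/
theorem flatAt_of_le (N : Type u) [AddCommGroup N] [Module S N] [Module R N] [IsScalarTower R S N] {q q' : Ideal S}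
    [q.IsPrime] [q'.IsPrime] (hle : q' ≤ q) (h : FlatCA.FlatAt R q N) : FlatCA.FlatAt R q' N := by
  rw [FlatFibres.flatAt_iff_forall] at h ⊢
  intro I z hz
  obtain ⟨s, hs, hsz⟩ := h I z hz
  exact ⟨s, fun h' => hs (hle h'), hsz⟩

variable [Algebra.FiniteType R S] (N : Type u) [AddCommGroup N] [Module S N] [Module R N] [IsScalarTower R S N]
  [Module.Finite S N] (p : Ideal R) [p.IsPrime] (q : Ideal S) [q.IsPrime] [q.LiesOver p]

set_option maxHeartbeats 1600000 in
/-- The associated points of the fibre which specialise to `q`, as primes of `S`. -/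
theorem exists_assoc_points : ∃ T : Finset (PrimeSpectrum S),
    (∀ t ∈ T, t.asIdeal ≤ q ∧ t.asIdeal.LiesOver p ∧
      FlatCA.fiberIdeal p t.asIdeal ∈ associatedPrimes (p.Fiber S) (FlatCA.fiberMod p S N)) ∧
    ∀ n : N, (∀ t ∈ T, ∃ s ∉ t.asIdeal, s • n ∈ p • (⊤ : Submodule R N)) →
      ∃ s ∉ q, s • n ∈ p • (⊤ : Submodule R N) := by
  classical
  let F := p.Fiber S
  haveI : IsNoetherianRing F := Algebra.FiniteType.isNoetherianRing p.ResidueField F
  haveI : Module.Finite F (FlatCA.fiberMod p S N) := inferInstanceAs (Module.Finite F (F ⊗[S] N))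
  have hfin := associatedPrimes.finite F (FlatCA.fiberMod p S N)
  let inc : S →+* F := (Algebra.TensorProduct.includeRight (R := R) (A := p.ResidueField) (B := S)).toRingHom
  have hinc : ∀ s, inc s = algebraMap S F s := fun _ => rfl
  have hRS : ∀ r : R, inc (algebraMap R S r) = algebraMap p.ResidueField F (algebraMap R p.ResidueField r) := fun r => by
    rw [← IsScalarTower.algebraMap_apply]
    exact (Algebra.TensorProduct.includeRight : S →ₐ[R] F).commutes r
  -- primes of the fibre lie over `p` and are extended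
  have hover : ∀ P : Ideal F, P.IsPrime → (P.comap inc).LiesOver p := fun P hP => ⟨by
    ext r
    rw [Ideal.under, Ideal.mem_comap, Ideal.mem_comap, hRS]
    constructor
    · intro h; rw [Ideal.algebraMap_residueField_eq_zero.2 h, map_zero]; exact zero_mem _
    · intro h
      by_contra hr
      exact hP.ne_top (P.eq_top_of_isUnit_mem h (RingHom.isUnit_map _
        (isUnit_iff_ne_zero.2 fun h0 => hr (Ideal.algebraMap_residueField_eq_zero.1 h0))))⟩
  have hext : ∀ P : Ideal F, P.IsPrime → FlatCA.fiberIdeal p (P.comap inc) = P := fun P hP => by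
    refine le_antisymm (Ideal.map_le_iff_le_comap.2 le_rfl) fun b hb => ?_
    obtain ⟨r, hr, s, hs⟩ := AssFiber.exists_smul_eq_includeRight p b
    have hu : IsUnit ((1 : p.ResidueField) ⊗ₜ[R] algebraMap R S r : F) := by
      show IsUnit (inc (algebraMap R S r))
      rw [hRS]
      exact RingHom.isUnit_map _ (isUnit_iff_ne_zero.2 fun h0 => hr (Ideal.algebraMap_residueField_eq_zero.1 h0))
    have hsP : inc s ∈ P := by
      show (1 : p.ResidueField) ⊗ₜ[R] s ∈ P
      rw [← hs]; exact Ideal.mul_mem_left _ _ hb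
    have h1 : inc s ∈ FlatCA.fiberIdeal p (P.comap inc) := Ideal.mem_map_of_mem inc hsP
    change (1 : p.ResidueField) ⊗ₜ[R] s ∈ _ at h1
    rw [← hs] at h1
    exact (Ideal.unit_mul_mem_iff_mem _ hu).1 h1
  have hpr : ∀ r ∈ hfin.toFinset, r.IsPrime := fun r hr => IsAssociatedPrime.isPrime (hfin.mem_toFinset.1 hr)
  obtain ⟨T, hTdef⟩ : ∃ T : Finset (PrimeSpectrum S), T = (hfin.toFinset.attach.image fun r =>
      (⟨r.1.comap inc, haveI := hpr r.1 r.2; Ideal.IsPrime.comap inc⟩ : PrimeSpectrum S)).filter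
      (fun t => t.asIdeal ≤ q) := ⟨_, rfl⟩
  refine ⟨T, fun t ht => ?_, fun n hn => ?_⟩
  · rw [hTdef, Finset.mem_filter, Finset.mem_image] at ht
    obtain ⟨⟨r, -, rfl⟩, hle⟩ := ht
    refine ⟨hle, hover _ (hpr r.1 r.2), ?_⟩
    show FlatCA.fiberIdeal p (r.1.comap inc) ∈ _
    rw [hext _ (hpr r.1 r.2)]
    exact hfin.mem_toFinset.1 r.2
  by_contra! hcon
  let ξ := FlatCA.toFiberMod p (S := S) N n
  -- a prime of the fibre over `q`
  have hξ : ∀ b : F, b • ξ = 0 → ∀ r ∉ p, ∀ s : S,
      (1 : p.ResidueField) ⊗ₜ[R] algebraMap R S r * b = (1 : p.ResidueField) ⊗ₜ[R] s → s ∈ q := by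
    intro b hb r hr s hs
    by_contra hsq
    have h1 : FlatCA.toFiberMod p (S := S) N (s • n) = 0 := by
      rw [map_smul, ← AssFiber.algebraMap_smul_fiberMod p N s, ← hinc]
      show ((1 : p.ResidueField) ⊗ₜ[R] s : F) • ξ = 0
      rw [← hs, mul_smul, hb, smul_zero]
    obtain ⟨c, hc, hcn⟩ := AssFiber.exists_smul_mem_of_toFiberMod_eq_zero p N h1
    refine hcon (algebraMap R S c * s) (fun h => ?_) (by rw [mul_smul]; exact AssFiber.mem_smul_top_of_mem_pN p N hcn)
    exact (‹q.IsPrime›.mem_or_mem h).elim (fun h' => hc ((q.over_def p).ge h')) hsq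
  let I : Ideal F := (Submodule.span F {ξ}).annihilator
  have hdis : Disjoint (I : Set F) (q.primeCompl.map inc) := by
    rw [Set.disjoint_left]
    rintro _ hb ⟨s, hs, rfl⟩
    exact hs (hξ _ ((Submodule.mem_annihilator_span_singleton ξ _).1 hb) 1 (fun h => ‹p.IsPrime›.ne_top ((Ideal.eq_top_iff_one _).2 h))
      s (by rw [map_one, ← Algebra.TensorProduct.one_def, one_mul]; rfl))
  obtain ⟨P, hP, hIP, hPd⟩ := Ideal.exists_le_prime_disjoint I _ hdis
  haveI := hP
  obtain ⟨r, hr, hrP⟩ := Ideal.exists_minimalPrimes_le hIP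
  have hrass : r ∈ associatedPrimes F (FlatCA.fiberMod p S N) := by
    have h1 : r ∈ associatedPrimes F (Submodule.span F {ξ}) :=
      Module.associatedPrimes.minimalPrimes_annihilator_subset_associatedPrimes F (Submodule.span F {ξ}) hr
    exact associatedPrimes.subset_of_injective (f := (Submodule.span F {ξ}).subtype) Subtype.val_injective h1
  haveI := hr.1.1
  have hrq : r.comap inc ≤ q := fun s hs => by
    by_contra hsq
    exact Set.disjoint_left.1 hPd (hrP hs) ⟨s, hsq, rfl⟩
  obtain ⟨s, hs, hsn⟩ := hn ⟨r.comap inc, inferInstance⟩ (by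
    rw [hTdef, Finset.mem_filter, Finset.mem_image]
    exact ⟨⟨⟨r, hfin.mem_toFinset.2 hrass⟩, Finset.mem_attach _ _, rfl⟩, hrq⟩)
  refine hs (hr.1.2 ((Submodule.mem_annihilator_span_singleton ξ _).2 ?_))
  rw [hinc, AssFiber.algebraMap_smul_fiberMod, ← map_smul]
  exact AssFiber.toFiberMod_eq_zero_of_mem p N (AssFiber.smul_mem_pN p N hsn)

set_option maxHeartbeats 1600000 in
/-- Flatness at `q` follows from flatness at the associated points of the fibre specialising to `q`. -/
theorem flatAt_of_assoc (h : ∀ (q' : Ideal S) [q'.IsPrime], q' ≤ q → q'.LiesOver p →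
    FlatCA.fiberIdeal p q' ∈ associatedPrimes (p.Fiber S) (FlatCA.fiberMod p S N) → FlatCA.FlatAt R q' N) :
    FlatCA.FlatAt R q N := by
  classical
  obtain ⟨T, hT, hmem⟩ := exists_assoc_points N p q
  let L := ∀ t : T, LocalizedModule t.1.asIdeal.primeCompl N
  haveI : ∀ t : T, Module.Flat R (LocalizedModule t.1.asIdeal.primeCompl N) := fun t =>
    h _ (hT _ t.2).1 (hT _ t.2).2.1 (hT _ t.2).2.2
  haveI : Module.Flat R L := Module.Flat.of_linearEquiv
    (DFinsupp.linearEquivFunOnFintype (R := R) (M := fun t : T => LocalizedModule t.1.asIdeal.primeCompl N)).symm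
  have hle : ∀ t : T, ∀ s : q.primeCompl, IsUnit (algebraMap S (Module.End S (LocalizedModule t.1.asIdeal.primeCompl N)) s) :=
    fun t s => IsLocalizedModule.map_units (LocalizedModule.mkLinearMap t.1.asIdeal.primeCompl N)
      (⟨s, fun h' => s.2 ((hT _ t.2).1 h')⟩ : t.1.asIdeal.primeCompl)
  let u : LocalizedModule q.primeCompl N →ₗ[S] L :=
    LinearMap.pi fun t => LocalizedModule.lift q.primeCompl (LocalizedModule.mkLinearMap _ N) (hle t)
  refine flatAt_of_map_prime N p q (u.restrictScalars R) fun x hx => ?_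
  obtain ⟨⟨n, s⟩, hs⟩ := IsLocalizedModule.surj q.primeCompl (LocalizedModule.mkLinearMap q.primeCompl N) x
  obtain ⟨w, hw, hwn⟩ := hmem n fun t ht => by
    refine exists_smul_mem_of_localized_mem p t.asIdeal.primeCompl (LocalizedModule.mkLinearMap t.asIdeal.primeCompl N) n ?_
    have h1 := Submodule.mem_map_of_mem (f := (LinearMap.proj (⟨t, ht⟩ : T) : L →ₗ[R] _))
      (smul_mem_ideal_smul_top p (s : S) hx)
    rw [Submodule.map_smul''] at h1
    have h2 := Submodule.smul_mono le_rfl le_top h1
    have h3 : u ((s : S) • x) ⟨t, ht⟩ = LocalizedModule.mkLinearMap t.asIdeal.primeCompl N n := by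
      rw [show (s : S) • x = LocalizedModule.mkLinearMap q.primeCompl N n from hs]
      exact LinearMap.congr_fun (LocalizedModule.lift_comp _ _ _) n
    rw [← h3, map_smul]
    exact h2
  have hu : IsUnit (algebraMap S (Module.End S (LocalizedModule q.primeCompl N)) (w * s)) :=
    IsLocalizedModule.map_units (LocalizedModule.mkLinearMap q.primeCompl N) (⟨w * s, fun h' => (‹q.IsPrime›.mem_or_mem h').elim hw s.2⟩ : q.primeCompl)
  have h4 : (w * (s : S)) • x ∈ p • (⊤ : Submodule R (LocalizedModule q.primeCompl N)) := by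
    rw [mul_smul, show (s : S) • x = LocalizedModule.mkLinearMap q.primeCompl N n from hs, ← map_smul]
    have h5 := Submodule.mem_map_of_mem (f := (LocalizedModule.mkLinearMap q.primeCompl N).restrictScalars R) hwn
    rw [Submodule.map_smul''] at h5
    exact Submodule.smul_mono le_rfl le_top h5
  obtain ⟨g, hg⟩ := hu.exists_left_inv
  have h6 : g ((w * (s : S)) • x) = x := LinearMap.congr_fun hg x
  rw [← h6]
  have h7 := Submodule.mem_map_of_mem (f := (g : LocalizedModule q.primeCompl N →ₗ[S] _).restrictScalars R) h4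
  rw [Submodule.map_smul''] at h7
  exact Submodule.smul_mono le_rfl le_top h7

end Groth.Agent.RG11
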