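import Groth.Agent.RG11.LocalUI
import Groth.Agent.RG11.AssocFlat
import Mathlib

/-!
# The linear criterion at a prime, and flat base changes covering the associated points
-/

universe u

set_option linter.style.haveILetI false

namespace Groth.Agent.RG11

open TensorProduct IsLocalRing

/-- Universal injectivity over an algebra gives it over the base. -/
theorem lTensor_injective_restrict {R A M L : Type u} [CommRing R] [CommRing A] [Algebra R A] [AddCommGroup M]
    [Module R M] [Module A M] [IsScalarTower R A M] [AddCommGroup L] [Module R L] [Module A L] [IsScalarTower R A L]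
    (f : M →ₗ[A] L) (h : FlatCA.UnivInj A f) (Q : Type u) [AddCommGroup Q] [Module R Q] :
    Function.Injective ((f.restrictScalars R).rTensor Q) := by
  let eM := AlgebraTensorModule.cancelBaseChange R A A M Q
  let eL := AlgebraTensorModule.cancelBaseChange R A A L Q
  have hf : Function.Injective (f.rTensor (A ⊗[R] Q)) := (LinearMap.lTensor_inj_iff_rTensor_inj _ f).1 (h _)
  have hc : ∀ w, (f.restrictScalars R).rTensor Q (eM w) = eL (f.rTensor (A ⊗[R] Q) w) := fun w => by
    induction w using TensorProduct.induction_on with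
    | zero => simp
    | add a b ha hb => simp only [map_add, ha, hb]
    | tmul m z =>
      induction z using TensorProduct.induction_on with
      | zero => simp
      | add a b ha hb => simp only [tmul_add, map_add, ha, hb]
      | tmul a x => simp [eM, eL]
  intro a b hab
  obtain ⟨a, rfl⟩ := eM.surjective a
  obtain ⟨b, rfl⟩ := eM.surjective b
  rw [hc, hc] at hab
  rw [hf (eL.injective hab)]

set_option maxHeartbeats 1600000 in
/-- A linear map to a flat module, injective modulo `p` at a prime `q` over `p`, is universally injective near `q`. -/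
theorem exists_smul_eq_zero_of_linear_map {R S : Type u} [CommRing R] [CommRing S] [Algebra R S] [Algebra.FiniteType R S]
    (N : Type u) [AddCommGroup N] [Module S N] [Module R N] [IsScalarTower R S N] [Module.Finite S N]
    (p : Ideal R) [p.IsPrime] (q : Ideal S) [q.IsPrime] [q.LiesOver p]
    {L : Type u} [AddCommGroup L] [Module S L] [Module R L] [IsScalarTower R S L] [Module.Flat R L] (u : N →ₗ[S] L)
    (hu : ∀ n, u n ∈ p • (⊤ : Submodule R L) → ∃ s ∉ q, s • n ∈ p • (⊤ : Submodule R N))
    (Q : Type u) [AddCommGroup Q] [Module R Q] (z : N ⊗[R] Q) (hz : (u.restrictScalars R).rTensor Q z = 0) :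
    ∃ s ∉ q, s • z = 0 := by
  let A := Localization.AtPrime p
  let B := Localization.AtPrime q
  let fAB : A →+* B := Localization.localRingHom p q (algebraMap R S) (q.over_def p)
  letI : Algebra A B := fAB.toAlgebra
  haveI : IsLocalHom (algebraMap A B) := Localization.isLocalHom_localRingHom _ _ _ _
  haveI : IsScalarTower R A B := IsScalarTower.of_algebraMap_eq fun r => by
    rw [RingHom.algebraMap_toAlgebra, Localization.localRingHom_to_map, ← IsScalarTower.algebraMap_apply]
  haveI : Algebra.EssFiniteType S B := Algebra.EssFiniteType.of_isLocalization B q.primeCompl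
  haveI : Algebra.EssFiniteType R B := Algebra.EssFiniteType.comp R S B
  haveI : Algebra.EssFiniteType A B := Algebra.EssFiniteType.of_comp R A B
  let NB := LocalizedModule q.primeCompl N
  let LB := LocalizedModule q.primeCompl L
  let gN := LocalizedModule.mkLinearMap q.primeCompl N
  let gL := LocalizedModule.mkLinearMap q.primeCompl L
  letI : Module A NB := Module.compHom NB fAB
  letI : Module A LB := Module.compHom LB fAB
  haveI : IsScalarTower A B NB := IsScalarTower.of_algebraMap_smul fun _ _ => rfl
  haveI : IsScalarTower A B LB := IsScalarTower.of_algebraMap_smul fun _ _ => rfl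
  haveI : IsScalarTower R A NB := IsScalarTower.of_algebraMap_smul fun r m => by
    rw [← algebraMap_smul B (algebraMap R A r) m, ← IsScalarTower.algebraMap_apply, IsScalarTower.algebraMap_apply R S B,
      algebraMap_smul, algebraMap_smul]
  haveI : IsScalarTower R A LB := IsScalarTower.of_algebraMap_smul fun r m => by
    rw [← algebraMap_smul B (algebraMap R A r) m, ← IsScalarTower.algebraMap_apply, IsScalarTower.algebraMap_apply R S B,
      algebraMap_smul, algebraMap_smul]
  haveI : Module.Flat R LB := flat_localizedModule q.primeCompl L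
  haveI : Module.Flat A LB := (Module.flat_iff_of_isLocalization A p.primeCompl LB).2 inferInstance
  haveI : Module.Finite B NB := Module.Finite.of_isLocalizedModule q.primeCompl gN
  let uB : NB →ₗ[B] LB := LocalizedModule.map q.primeCompl u
  have huB : ∀ n, uB (gN n) = gL (u n) := fun n => by
    show LocalizedModule.map q.primeCompl u (LocalizedModule.mk n 1) = LocalizedModule.mk (u n) 1
    exact LocalizedModule.map_mk _ _ _ _
  have hup : ∀ (Y : Type u) [AddCommGroup Y] [Module R Y] [Module A Y] [IsScalarTower R A Y] (y : Y),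
      y ∈ maximalIdeal A • (⊤ : Submodule A Y) ↔ y ∈ p • (⊤ : Submodule R Y) := by
    intro Y _ _ _ _ y
    rw [← Localization.AtPrime.map_eq_maximalIdeal]
    refine ⟨fun hy => ?_, fun hy => ?_⟩
    · refine Submodule.smul_induction_on hy (fun a ha z _ => ?_) fun a b ha hb => add_mem ha hb
      obtain ⟨⟨⟨r, hr⟩, v⟩, hv⟩ := (IsLocalization.mem_map_algebraMap_iff p.primeCompl A).1 ha
      obtain ⟨d, hd⟩ := (IsLocalization.map_units A v).exists_left_inv
      have : a • z = r • (d • z) := by
        rw [← algebraMap_smul A r, ← hv, smul_smul, mul_assoc, mul_comm (algebraMap R A v), hd, mul_one]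
      rw [this]
      exact Submodule.smul_mem_smul hr Submodule.mem_top
    · refine Submodule.smul_induction_on hy (fun a ha z _ => ?_) fun a b ha hb => add_mem ha hb
      rw [← algebraMap_smul A a]
      exact Submodule.smul_mem_smul (Ideal.mem_map_of_mem _ ha) Submodule.mem_top
  have hinj := ui_of_linear_map_local (R := A) uB fun x hx => by
    rw [hup] at hx ⊢
    obtain ⟨⟨n, s⟩, hs⟩ := IsLocalizedModule.surj q.primeCompl gN x
    have hs' : (s : S) • x = gN n := hs
    have h1 := smul_mem_ideal_smul_top p (s : S) hx
    have h2 : (s : S) • uB x = gL (u n) := by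
      rw [← huB, ← hs', LinearMap.map_smul_of_tower]
    rw [h2] at h1
    obtain ⟨t, ht, h3⟩ := exists_smul_mem_of_localized_mem p q.primeCompl gL (u n) h1
    rw [← map_smul] at h3
    obtain ⟨t', ht', h4⟩ := hu _ h3
    have h5 : (t' * t * (s : S)) • x ∈ p • (⊤ : Submodule R NB) := by
      rw [mul_smul, hs', ← map_smul, mul_smul]
      exact Submodule.smul_mono le_rfl le_top
        (Submodule.map_smul'' p ⊤ (gN.restrictScalars R) ▸ Submodule.mem_map_of_mem (f := gN.restrictScalars R) h4)
    obtain ⟨d, hd⟩ := (IsLocalizedModule.map_units gN (⟨t' * t * (s : S), q.primeCompl.mul_mem (q.primeCompl.mul_mem ht' ht) s.2⟩ : q.primeCompl)).exists_left_inv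
    have h6 : d ((t' * t * (s : S)) • x) = x := LinearMap.congr_fun hd x
    rw [← h6]
    have h7 := Submodule.mem_map_of_mem (f := (d : NB →ₗ[S] NB).restrictScalars R) h5
    rw [Submodule.map_smul''] at h7
    exact Submodule.smul_mono le_rfl le_top h7
  have hinj' := lTensor_injective_restrict (R := R) (uB.restrictScalars A) hinj Q
  let gQ := AlgebraTensorModule.rTensor R Q gN
  have h0 : gQ z = 0 := by
    refine hinj' ?_
    rw [map_zero]
    show ((uB.restrictScalars A).restrictScalars R).rTensor Q ((gN.restrictScalars R).rTensor Q z) = 0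
    rw [← LinearMap.comp_apply, ← LinearMap.rTensor_comp]
    have : ((uB.restrictScalars A).restrictScalars R) ∘ₗ gN.restrictScalars R = gL.restrictScalars R ∘ₗ u.restrictScalars R :=
      LinearMap.ext huB
    rw [this, LinearMap.rTensor_comp, LinearMap.comp_apply, hz, map_zero]
  obtain ⟨c, hc⟩ := (IsLocalizedModule.eq_zero_iff q.primeCompl gQ).1 h0
  exact ⟨c, c.2, hc⟩

attribute [local instance] Algebra.TensorProduct.rightAlgebra

/-- Flat base change covering the associated points of the fibre, near a prime. -/
theorem exists_smul_mem_of_one_tmul_mem {R S S' : Type u} [CommRing R] [CommRing S] [CommRing S'] [Algebra R S]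
    [Algebra S S'] [Algebra R S'] [IsScalarTower R S S'] [Algebra.FiniteType R S] [Module.Flat S S']
    (N : Type u) [AddCommGroup N] [Module S N] [Module R N] [IsScalarTower R S N] [Module.Finite S N]
    (p : Ideal R) [p.IsPrime] (q : Ideal S) [q.IsPrime] [q.LiesOver p]
    (h : ∀ (t : Ideal S) [t.IsPrime] [t.LiesOver p],
      FlatCA.fiberIdeal p t ∈ associatedPrimes (p.Fiber S) (FlatCA.fiberMod p S N) →
      ∃ q' : Ideal S', q'.IsPrime ∧ q'.comap (algebraMap S S') = t)
    (n : N) (hn : (1 : S') ⊗ₜ[S] n ∈ p • (⊤ : Submodule R (S' ⊗[S] N))) :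
    ∃ s ∉ q, s • n ∈ p • (⊤ : Submodule R N) := by
  classical
  obtain ⟨T, hT, hmem⟩ := exists_assoc_points N p q
  refine hmem n fun t ht => ?_
  obtain ⟨-, htp, hta⟩ := hT t ht
  haveI := htp
  obtain ⟨q', hq', hq't⟩ := h t.asIdeal hta
  let M := FlatCA.fiberMod p S N
  let tf : N →ₗ[S] M := FlatCA.toFiberMod p (S := S) N
  have h1 : (1 : S') ⊗ₜ[S] tf n = (0 : S' ⊗[S] M) := by
    let T₀ : S' ⊗[S] N →ₗ[R] S' ⊗[S] M := (tf.lTensor S').restrictScalars R
    have hT₀ : ∀ z ∈ p • (⊤ : Submodule R (S' ⊗[S] N)), T₀ z = 0 := fun z hz => by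
      refine Submodule.smul_induction_on hz (fun a ha y _ => ?_) fun a b ha hb => by rw [map_add, ha, hb, add_zero]
      induction y using TensorProduct.induction_on with
      | zero => simp
      | add a b iha ihb => rw [smul_add, map_add, iha Submodule.mem_top, ihb Submodule.mem_top, add_zero]
      | tmul c m =>
        have : tf (a • m) = 0 :=
          AssFiber.toFiberMod_eq_zero_of_mem p N
            (AssFiber.smul_mem_pN p N (Submodule.smul_mem_smul ha Submodule.mem_top))
        rw [← algebraMap_smul S a, ← TensorProduct.tmul_smul]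
        show c ⊗ₜ[S] tf (algebraMap R S a • m) = 0
        rw [algebraMap_smul, this, TensorProduct.tmul_zero]
    exact hT₀ _ hn
  have hz : ∑ _i : Fin 1, tf n ⊗ₜ[S] (1 : S') = 0 := by
    simp only [Finset.univ_unique, Finset.sum_singleton]
    refine (TensorProduct.comm S M S').injective ?_
    rw [map_zero, TensorProduct.comm_tmul]
    exact h1
  obtain ⟨k, c, y, hc, hcz⟩ := TensorProduct.vanishesTrivially_of_sum_tmul_eq_zero_of_rTensor_injective S
    (Module.Flat.rTensor_preserves_injective_linearMap _ Subtype.val_injective) hz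
  obtain ⟨l, hl⟩ : ∃ l, c 0 l ∉ t.asIdeal := by
    by_contra! hall
    refine hq'.ne_top ((Ideal.eq_top_iff_one q').2 ?_)
    rw [show (1 : S') = _ from hc 0]
    refine Submodule.sum_mem _ fun l _ => ?_
    rw [Algebra.smul_def]
    exact Ideal.mul_mem_right _ _ (hq't.ge (hall l))
  have h2 : FlatCA.toFiberMod p (S := S) N (c 0 l • n) = 0 := by
    rw [map_smul]
    simpa using hcz l
  obtain ⟨r, hr, hrn⟩ := AssFiber.exists_smul_mem_of_toFiberMod_eq_zero p N h2
  refine ⟨algebraMap R S r * c 0 l, fun hmem => (t.isPrime.mem_or_mem hmem).elim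
    (fun h' => hr (htp.over.ge h')) hl, ?_⟩
  rw [mul_smul]
  exact AssFiber.mem_smul_top_of_mem_pN p N hrn

end Groth.Agent.RG11
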