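import Groth.Agent.RG11.PureNhd
import Mathlib

/-!
# The criterion at a prime of an arbitrary base
-/

universe u

set_option linter.style.haveILetI false

namespace Groth.Agent.RG11

open TensorProduct

variable {R : Type u} [CommRing R] {S : Type u} [CommRing S] [Algebra R S]

/-- Elements of `S` preserve `I M`. -/
theorem smul_mem_ideal_smul_top (I : Ideal R) {M : Type u} [AddCommGroup M] [Module R M] [Module S M] [IsScalarTower R S M]
    (s : S) {m : M} (h : m ∈ I • (⊤ : Submodule R M)) : s • m ∈ I • (⊤ : Submodule R M) := by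
  refine Submodule.smul_induction_on h (fun a ha z _ => ?_) fun a b ha hb => by rw [smul_add]; exact add_mem ha hb
  rw [← smul_comm a s z]
  exact Submodule.smul_mem_smul ha Submodule.mem_top

/-- Elements of `I M_W` come from `I M` up to `W`. -/
theorem exists_smul_mem_of_localized_mem (I : Ideal R) {M M' : Type u} [AddCommGroup M] [Module R M] [Module S M]
    [IsScalarTower R S M] [AddCommGroup M'] [Module R M'] [Module S M'] [IsScalarTower R S M'] (W : Submonoid S)
    (g : M →ₗ[S] M') [IsLocalizedModule W g] (x : M) (hx : g x ∈ I • (⊤ : Submodule R M')) :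
    ∃ s ∈ W, s • x ∈ I • (⊤ : Submodule R M) := by
  have key : ∀ y ∈ I • (⊤ : Submodule R M'), ∃ s ∈ W, ∃ n ∈ I • (⊤ : Submodule R M), s • y = g n := by
    intro y hy
    refine Submodule.smul_induction_on hy (fun a ha z _ => ?_) ?_
    · obtain ⟨⟨n, s⟩, hs⟩ := IsLocalizedModule.surj W g z
      exact ⟨s, s.2, a • n, Submodule.smul_mem_smul ha Submodule.mem_top, by
        rw [smul_comm, LinearMap.map_smul_of_tower, ← hs]; rfl⟩
    · rintro a b ⟨s, hs, n, hn, e⟩ ⟨t, ht, k, hk, e'⟩
      refine ⟨s * t, W.mul_mem hs ht, t • n + s • k,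
        add_mem (smul_mem_ideal_smul_top I t hn) (smul_mem_ideal_smul_top I s hk), ?_⟩
      rw [map_add, map_smul, map_smul, ← e, ← e', smul_add, mul_smul, mul_smul, smul_comm s t a]
  obtain ⟨s, hs, n, hn, e⟩ := key _ hx
  rw [← map_smul] at e
  obtain ⟨c, hc⟩ := (IsLocalizedModule.eq_iff_exists W g).1 e
  refine ⟨c * s, W.mul_mem c.2 hs, ?_⟩
  rw [mul_smul, show (c : S) • s • x = (c : S) • n from hc]
  exact smul_mem_ideal_smul_top I _ hn

set_option maxHeartbeats 1600000 in
/-- A finite module with a map to a flat module, injective modulo `p` at a prime over `p`, is flat there. -/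
theorem flatAt_of_map_prime [Algebra.FiniteType R S] (N : Type u) [AddCommGroup N] [Module S N] [Module R N]
    [IsScalarTower R S N] [Module.Finite S N] (p : Ideal R) [p.IsPrime] (q : Ideal S) [q.IsPrime] [q.LiesOver p]
    {L : Type u} [AddCommGroup L] [Module R L] [Module.Flat R L] (u : LocalizedModule q.primeCompl N →ₗ[R] L)
    (hu : ∀ x, u x ∈ p • (⊤ : Submodule R L) → x ∈ p • (⊤ : Submodule R (LocalizedModule q.primeCompl N))) :
    FlatCA.FlatAt R q N := by
  let A := Localization.AtPrime p
  let W := Algebra.algebraMapSubmonoid S p.primeCompl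
  let SA := Localization W
  let NA := LocalizedModule W N
  let f : N →ₗ[S] NA := LocalizedModule.mkLinearMap W N
  have hWq : ∀ w ∈ W, w ∉ q := by
    rintro _ ⟨r, hr, rfl⟩ h
    exact hr ((q.over_def p).ge h)
  have hdis : Disjoint (W : Set S) q := Set.disjoint_left.2 hWq
  let qA : Ideal SA := q.map (algebraMap S SA)
  haveI : qA.IsPrime := IsLocalization.isPrime_of_isPrime_disjoint W SA q inferInstance hdis
  have hqA : qA.comap (algebraMap S SA) = q := IsLocalization.comap_map_of_isPrime_disjoint W SA inferInstance hdis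
  haveI : qA.LiesOver q := ⟨hqA.symm⟩
  haveI : Module.Flat S SA := IsLocalization.flat SA W
  have hfb : IsBaseChange SA f := IsLocalizedModule.isBaseChange W SA f
  refine (FlatFibres.flatAt_iff_of_isBaseChange f hfb q qA).2 ?_
  letI : Algebra A SA := localizationAlgebra p.primeCompl S
  haveI : IsScalarTower R A SA := IsScalarTower.of_algebraMap_eq fun r => by
    rw [RingHom.algebraMap_toAlgebra, IsLocalization.map_eq, IsScalarTower.algebraMap_apply R S SA]
  letI : Module A NA := Module.compHom NA (algebraMap A SA)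
  haveI : IsScalarTower A SA NA := IsScalarTower.of_algebraMap_smul fun _ _ => rfl
  haveI : IsScalarTower R A NA := IsScalarTower.of_algebraMap_smul fun r m => by
    show algebraMap A SA (algebraMap R A r) • m = r • m
    rw [← IsScalarTower.algebraMap_apply, IsScalarTower.algebraMap_apply R S SA, algebraMap_smul, algebraMap_smul]
  haveI : qA.LiesOver (IsLocalRing.maximalIdeal A) := ⟨(IsLocalRing.eq_maximalIdeal (R := A) (by
    have hP : (qA.comap (algebraMap A SA)).comap (algebraMap R A) = p := by
      rw [Ideal.comap_comap, ← IsScalarTower.algebraMap_eq, IsScalarTower.algebraMap_eq R S SA, ← Ideal.comap_comap,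
        hqA]
      exact (q.over_def p).symm
    have hle : qA.comap (algebraMap A SA) = IsLocalRing.maximalIdeal A := by
      rw [← IsLocalization.map_comap p.primeCompl A (qA.comap (algebraMap A SA))]
      show Ideal.map _ (Ideal.comap (algebraMap R A) _) = _
      rw [hP, Localization.AtPrime.map_eq_maximalIdeal]
    show (qA.comap (algebraMap A SA)).IsMaximal
    rw [hle]; infer_instance)).symm⟩
  haveI : Algebra.IsPushout R S A SA :=
    Algebra.isPushout_of_isLocalization p.primeCompl A S SA |>.symm.symm
  haveI : Algebra.FiniteType A SA := by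
    haveI : Algebra.IsPushout R A S SA := Algebra.IsPushout.symm inferInstance
    exact (inferInstance : Algebra.FiniteType A (A ⊗[R] S)).equiv (Algebra.IsPushout.equiv R A S SA)
  -- the localisation of `NA`
  let T := LocalizedModule qA.primeCompl NA
  let g : N →ₗ[S] T := ((LocalizedModule.mkLinearMap qA.primeCompl NA).restrictScalars S).comp f
  haveI : IsLocalizedModule q.primeCompl g := by
    refine ⟨fun s => ?_, fun y => ?_, fun {a b} h => ?_⟩
    · have hs : algebraMap S SA s ∉ qA := fun h => s.2 (hqA.le h)
      have h1 := (Module.End.isUnit_iff _).1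
        (IsLocalizedModule.map_units (LocalizedModule.mkLinearMap qA.primeCompl NA) (⟨_, hs⟩ : qA.primeCompl))
      refine (Module.End.isUnit_iff _).2 ?_
      have h2 : (fun x : T => (s : S) • x) = fun x => algebraMap S SA s • x := funext fun x => (algebraMap_smul SA (s : S) x).symm
      show Function.Bijective (fun x : T => (s : S) • x)
      rw [h2]
      exact h1
    · obtain ⟨⟨m, σ⟩, hm⟩ := IsLocalizedModule.surj qA.primeCompl (LocalizedModule.mkLinearMap qA.primeCompl NA) y
      obtain ⟨⟨n, w⟩, hn⟩ := IsLocalizedModule.surj W f m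
      obtain ⟨⟨t, v⟩, ht⟩ := IsLocalization.surj W (σ : SA)
      have ht' : t ∉ q := by
        intro h
        have hmem : (σ : SA) * algebraMap S SA v ∈ qA := by rw [ht]; exact Ideal.mem_map_of_mem _ h
        exact ((‹qA.IsPrime›.mem_or_mem hmem).elim σ.2 fun h' => hWq v v.2 (hqA.le h'))
      refine ⟨⟨(v : S) • n, ⟨w * t, fun h => ((‹q.IsPrime›.mem_or_mem h).elim (hWq w w.2) ht')⟩⟩, ?_⟩
      show ((w : S) * t) • y = LocalizedModule.mkLinearMap qA.primeCompl NA (f ((v : S) • n))
      rw [map_smul, ← hn, Submonoid.smul_def, ← algebraMap_smul SA (v : S), map_smul]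
      rw [LinearMap.map_smul_of_tower, ← hm, Submonoid.smul_def, mul_smul, ← algebraMap_smul SA t y, ← ht,
        mul_comm, mul_smul, smul_comm]
    · obtain ⟨σ, hσ⟩ := (IsLocalizedModule.eq_iff_exists qA.primeCompl (LocalizedModule.mkLinearMap qA.primeCompl NA)).1 h
      obtain ⟨⟨t, v⟩, ht⟩ := IsLocalization.surj W (σ : SA)
      have ht' : t ∉ q := by
        intro h
        have hmem : (σ : SA) * algebraMap S SA v ∈ qA := by rw [ht]; exact Ideal.mem_map_of_mem _ h
        exact ((‹qA.IsPrime›.mem_or_mem hmem).elim σ.2 fun h' => hWq v v.2 (hqA.le h'))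
      have h1 : f (t • a) = f (t • b) := by
        have h2 := congrArg (algebraMap S SA v • ·) hσ
        simp only [Submonoid.smul_def, ← mul_smul, mul_comm (algebraMap S SA _) (σ : SA), ht, algebraMap_smul] at h2
        simpa using h2
      obtain ⟨c, hc⟩ := (IsLocalizedModule.eq_iff_exists W f).1 h1
      exact ⟨⟨c * t, fun h => ((‹q.IsPrime›.mem_or_mem h).elim (hWq c c.2) ht')⟩, by
        simpa [Submonoid.smul_def, mul_smul] using hc⟩
  let e : LocalizedModule q.primeCompl N ≃ₗ[S] T := IsLocalizedModule.iso q.primeCompl g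
  -- the map
  let LA := LocalizedModule p.primeCompl L
  let κ : L →ₗ[R] LA := LocalizedModule.mkLinearMap p.primeCompl L
  haveI : IsScalarTower R A T := IsScalarTower.of_algebraMap_smul fun r x => by
    rw [← algebraMap_smul SA (algebraMap R A r) x, ← IsScalarTower.algebraMap_apply R A SA, algebraMap_smul]
  let u₀ : T →ₗ[R] LA := κ ∘ₗ u ∘ₗ (e.restrictScalars R).symm.toLinearMap
  let uA : T →ₗ[A] LA := u₀.extendScalarsOfIsLocalization p.primeCompl A
  haveI : Module.Flat A LA := by
    haveI : IsLocalizedModule p.primeCompl κ := inferInstance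
    exact Module.Flat.of_isLocalizedModule A p.primeCompl κ
  refine (Module.flat_iff_of_isLocalization A p.primeCompl (LocalizedModule qA.primeCompl NA)).1
    (flatAt_of_map (R := A) NA qA uA fun x hx => ?_)
  -- injectivity modulo the maximal ideal
  have hmax : ∀ (Y : Type u) [AddCommGroup Y] [Module R Y] [Module A Y] [IsScalarTower R A Y] (y : Y),
      y ∈ IsLocalRing.maximalIdeal A • (⊤ : Submodule A Y) ↔ y ∈ p • (⊤ : Submodule R Y) := by
    intro Y _ _ _ _ y
    rw [← Localization.AtPrime.map_eq_maximalIdeal]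
    refine ⟨fun hy => ?_, fun hy => ?_⟩
    · refine Submodule.smul_induction_on hy (fun a ha z _ => ?_) fun a b ha hb => add_mem ha hb
      obtain ⟨⟨⟨r, hr⟩, v⟩, hv⟩ := (IsLocalization.mem_map_algebraMap_iff p.primeCompl A).1 ha
      obtain ⟨d, hd⟩ := (IsLocalization.map_units A v).exists_left_inv
      have : a • z = r • (d • z) := by
        rw [← algebraMap_smul A r, ← hv, smul_smul, mul_assoc, mul_comm (algebraMap R A v), hd, mul_one]
      rw [this]
      exact Submodule.smul_mem_smul hr Submodule.mem_top
    · refine Submodule.smul_induction_on hy (fun a ha z _ => ?_) fun a b ha hb => add_mem ha hb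
      rw [← algebraMap_smul A a]
      exact Submodule.smul_mem_smul (Ideal.mem_map_of_mem _ ha) Submodule.mem_top
  rw [hmax] at hx
  change κ (u (e.symm x)) ∈ p • (⊤ : Submodule R LA) at hx
  obtain ⟨c, hc, hcx⟩ := exists_smul_mem_of_localized_mem (S := R) p p.primeCompl κ _ hx
  rw [← map_smul] at hcx
  have h1 := hu _ hcx
  have h2 : c • x ∈ p • (⊤ : Submodule R T) := by
    have h3 := Submodule.mem_map_of_mem (f := (e.restrictScalars R).toLinearMap) h1
    rw [Submodule.map_smul''] at h3
    simpa using Submodule.smul_mono le_rfl le_top h3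
  rw [hmax]
  have hcu : IsUnit (algebraMap R A c) := IsLocalization.map_units A ⟨c, hc⟩
  obtain ⟨d, hd⟩ := hcu.exists_left_inv
  have h3 := (hmax T _).2 h2
  have h4 := Submodule.smul_mem _ d h3
  rw [← algebraMap_smul A c x, smul_smul, hd, one_smul] at h4
  exact (hmax T x).1 h4

end Groth.Agent.RG11
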