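import Groth.Agent.RG11.Completion
import Groth.Agent.CAlgOdd.AssTensor
import Groth.Agent.AssFiber.Basic
import Groth.Prelude.Def_FlatCA
import Mathlib

/-!
# Universal injectivity of the map to the completion; projectivity over complete Noetherian rings
-/

universe u

set_option linter.style.haveILetI false

namespace Groth.Agent.RG11

open TensorProduct

variable {R S : Type u} [CommRing R] [CommRing S] [Algebra R S]

theorem finite_tensor_left (N Q : Type u) [AddCommGroup N] [Module S N] [Module R N] [IsScalarTower R S N]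
    [Module.Finite S N] [AddCommGroup Q] [Module R Q] [Module.Finite R Q] : Module.Finite S (N ⊗[R] Q) :=
  Module.Finite.equiv (TensorProduct.AlgebraTensorModule.cancelBaseChange R S S N Q)

/-- If every associated prime of `N ⊗ Q` meets the closed set of `I`, the completion map is universally injective. -/
theorem univInj_completion [IsNoetherianRing R] [IsNoetherianRing S] (I : Ideal R)
    (N : Type u) [AddCommGroup N] [Module S N] [Module R N] [IsScalarTower R S N] [Module.Finite S N]
    (h : ∀ (Q : Type u) [AddCommGroup Q] [Module R Q], Module.Finite R Q →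
      ∀ q ∈ associatedPrimes S (N ⊗[R] Q), I.map (algebraMap R S) ⊔ q ≠ ⊤) :
    FlatCA.UnivInj R (AdicCompletion.of I N) := by
  rw [univInj_iff, CAlgUI.ui_iff_fp]
  intro Q _ _ _
  rw [injective_iff_map_eq_zero]
  intro x hx
  haveI : Module.Finite R Q := inferInstance
  haveI := finite_tensor_left (R := R) (S := S) N Q
  have hmem : ∀ n, x ∈ (I ^ n • ⊤ : Submodule R (N ⊗[R] Q)) := by
    intro n
    have h0 : ((I ^ n • ⊤ : Submodule R N).mkQ.rTensor Q) x = 0 := by
      have : (I ^ n • ⊤ : Submodule R N).mkQ = AdicCompletion.eval I N n ∘ₗ AdicCompletion.of I N := rfl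
      rw [this, LinearMap.rTensor_comp, LinearMap.comp_apply, hx, map_zero]
    obtain ⟨y, hy⟩ := (rTensor_exact Q (LinearMap.exact_subtype_mkQ _) (Submodule.mkQ_surjective _) x).1 h0
    rw [← hy]
    clear hy
    induction y using TensorProduct.induction_on with
    | zero => simp
    | add a b ha hb =>
      rw [map_add]
      exact add_mem ha hb
    | tmul m q =>
      obtain ⟨m, hm⟩ := m
      show m ⊗ₜ[R] q ∈ _
      refine Submodule.smul_induction_on hm (fun r hr v _ => ?_) (fun a b ha hb => ?_)
      · rw [← smul_tmul']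
        exact Submodule.smul_mem_smul hr Submodule.mem_top
      · rw [add_tmul]; exact add_mem ha hb
  have hS : x ∈ ⨅ i : ℕ, ((I.map (algebraMap R S)) ^ i • ⊤ : Submodule S (N ⊗[R] Q)) := by
    rw [Submodule.mem_iInf]
    intro n
    rw [← Ideal.map_pow]
    refine Submodule.smul_induction_on (hmem n) (fun r hr v _ => ?_) fun a b ha hb => add_mem ha hb
    rw [← algebraMap_smul S r v]
    exact Submodule.smul_mem_smul (Ideal.mem_map_of_mem _ hr) Submodule.mem_top
  obtain ⟨r, hr⟩ := (Ideal.mem_iInf_smul_pow_eq_bot_iff _ _).1 hS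
  by_contra hne
  obtain ⟨q, hq, hle⟩ := exists_le_isAssociatedPrime_of_isNoetherianRing S x hne
  refine h Q inferInstance q hq ((Ideal.eq_top_iff_one _).2 ?_)
  rw [show (1 : S) = r.1 + (1 - r.1) from (add_sub_cancel _ _).symm]
  refine Submodule.add_mem_sup r.2 (hle ?_)
  rw [Submodule.mem_colon_singleton, Submodule.mem_bot, sub_smul, one_smul, hr, sub_self]

/-- An ideal of the fibre ring is extended from `S`. -/
theorem fiberIdeal_comap (p : Ideal R) [p.IsPrime] (Q : Ideal (p.Fiber S)) :
    FlatCA.fiberIdeal p (Q.comap (Algebra.TensorProduct.includeRight (R := R) (A := p.ResidueField) (B := S)).toRingHom) = Q := by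
  refine le_antisymm Ideal.map_comap_le fun b hb => ?_
  obtain ⟨r, hr, s, hs⟩ := AssFiber.exists_smul_eq_includeRight p b
  have hu : IsUnit ((1 : p.ResidueField) ⊗ₜ[R] algebraMap R S r : p.Fiber S) := by
    rw [Algebra.algebraMap_eq_smul_one, ← smul_tmul, ← Algebra.algebraMap_eq_smul_one]
    have hne : algebraMap R p.ResidueField r ≠ 0 := fun h => hr (Ideal.algebraMap_residueField_eq_zero.1 h)
    exact (isUnit_iff_ne_zero.2 hne).map (Algebra.TensorProduct.includeLeftRingHom (R := R) (A := p.ResidueField) (B := S))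
  refine (Ideal.unit_mul_mem_iff_mem _ hu).1 ?_
  rw [hs]
  refine Ideal.mem_map_of_mem _ ?_
  rw [Ideal.mem_comap]
  show (1 : p.ResidueField) ⊗ₜ[R] s ∈ Q
  rw [← hs]
  exact Ideal.mul_mem_left _ _ hb

variable (N : Type u) [AddCommGroup N] [Module S N] [Module R N] [IsScalarTower R S N]

theorem isPrime_radical_annihilator_mem_associatedPrimes {A M : Type u} [CommRing A] [AddCommGroup M] [Module A M]
    {P : Ideal A} (h : P ∈ FlatCA.ass A M) : P ∈ associatedPrimes A M := by
  obtain ⟨hP, x, hx⟩ := h
  refine ⟨hP, x, ?_⟩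
  rw [show (⊥ : Submodule A M).colon {x} = P from ?_, hP.radical]
  ext r
  rw [hx, Submodule.mem_colon_singleton, Submodule.mem_bot, Submodule.mem_annihilator_span_singleton]

/-- For flat `N` over Noetherian rings: an associated prime of `N ⊗ Q` extends to an associated prime of a fibre. -/
theorem exists_fiber_ass [IsNoetherianRing R] [IsNoetherianRing S] [Module.Flat R N] [Module.Finite S N]
    (Q : Type u) [AddCommGroup Q] [Module R Q] {q : Ideal S} (hq : q ∈ associatedPrimes S (N ⊗[R] Q)) :
    ∃ (p : Ideal R) (_ : p.IsPrime), q.LiesOver p ∧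
      FlatCA.fiberIdeal p q ∈ associatedPrimes (p.Fiber S) (FlatCA.fiberMod p S N) := by
  rw [CAlgOdd.AssTensor.associatedPrimes_eq] at hq
  simp only [Set.mem_iUnion, exists_prop] at hq
  obtain ⟨p, hp, hq⟩ := hq
  haveI := hp.isPrime
  have hqa : q ∈ FlatCA.ass S (N ⧸ AssFiber.pN p (S := S) N) := by
    obtain ⟨hqp, y, hy⟩ := isAssociatedPrime_iff.1 hq
    refine ⟨hqp, y, ?_⟩
    ext r
    rw [hy, Submodule.mem_colon_singleton, Submodule.mem_bot, Submodule.mem_annihilator_span_singleton]
  refine ⟨p, inferInstance, ⟨(AssFiber.comap_eq_of_mem_ass p N hqa).symm⟩, ?_⟩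
  rw [AssFiber.ass_quot_eq, AssFiber.ass_fiberMod_eq] at hqa
  obtain ⟨Q', hQ', rfl⟩ := hqa
  rw [fiberIdeal_comap]
  exact isPrime_radical_annihilator_mem_associatedPrimes hQ'

theorem univInj_completion_of_flat [IsNoetherianRing R] [IsNoetherianRing S] (I : Ideal R)
    [Module.Finite S N] [Module.Flat R N]
    (h : ∀ (p : Ideal R) (q : Ideal S) [p.IsPrime] [q.IsPrime] [q.LiesOver p],
      FlatCA.fiberIdeal p q ∈ associatedPrimes (p.Fiber S) (FlatCA.fiberMod p S N) → I.map (algebraMap R S) ⊔ q ≠ ⊤) :
    FlatCA.UnivInj R (AdicCompletion.of I N) := by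
  refine univInj_completion (S := S) I N fun Q _ _ _ q hq => ?_
  obtain ⟨p, _, hover, hass⟩ := exists_fiber_ass (R := R) (S := S) N Q hq
  haveI := hq.isPrime
  exact h p q hass

/-- Projectivity over a complete Noetherian ring. -/
theorem projective_of_complete [IsNoetherianRing R] (I : Ideal R) [IsAdicComplete I R]
    [Algebra.FiniteType R S] [Module.Finite S N] [Module.Flat R N]
    [Module.Projective (R ⧸ I) (N ⧸ (I • ⊤ : Submodule R N))]
    (h : ∀ (p : Ideal R) (q : Ideal S) [p.IsPrime] [q.IsPrime] [q.LiesOver p],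
      FlatCA.fiberIdeal p q ∈ associatedPrimes (p.Fiber S) (FlatCA.fiberMod p S N) → I.map (algebraMap R S) ⊔ q ≠ ⊤) :
    Module.Projective R N := by
  haveI : IsNoetherianRing S := Algebra.FiniteType.isNoetherianRing R S
  obtain ⟨_, hML⟩ := flat_ml_completion I (M := N)
  have hui := (univInj_iff _).1 (univInj_completion_of_flat (S := S) N I h)
  exact CAlgUI.projective_of_flat_ml_countablyGenerated (CAlgUI.ml_of_ui _ hui hML)
    (isCountablyGenerated_of_finite R S N)

end Groth.Agent.RG11
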