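import Groth.Agent.RG11.PureUI
import Groth.Agent.FlatFibres.LocalModel
import Groth.Agent.S1193
import Mathlib

/-!
# The linear criterion over an algebra essentially of finite type
-/

universe u

set_option linter.style.haveILetI false

namespace Groth.Agent.RG11

open TensorProduct IsLocalRing

attribute [local instance] Algebra.TensorProduct.rightAlgebra

/-- A finite module over a localisation comes from a finite module. -/
theorem exists_finite_model {S₀ S N : Type u} [CommRing S₀] [CommRing S] [Algebra S₀ S] (W : Submonoid S₀)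
    [IsLocalization W S] [AddCommGroup N] [Module S N] [Module.Finite S N] [Module S₀ N] [IsScalarTower S₀ S N] :
    ∃ N₀ : Submodule S₀ N, Module.Finite S₀ N₀ ∧ IsLocalizedModule W N₀.subtype := by
  classical
  obtain ⟨G, hG⟩ := (Module.finite_def.1 ‹Module.Finite S N›)
  refine ⟨Submodule.span S₀ (G : Set N), Module.Finite.iff_fg.2 ⟨G, rfl⟩, ⟨fun w => ?_, fun y => ?_, ?_⟩⟩
  · obtain ⟨v, hv⟩ := IsLocalization.map_units S w
    refine (Module.End.isUnit_iff _).2 ?_
    have h : ∀ x : N, algebraMap S₀ (Module.End S₀ N) w x = (v : S) • x := fun x => by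
      rw [Module.algebraMap_end_apply, ← algebraMap_smul S (w : S₀) x, hv]
    refine ⟨fun a b hab => ?_, fun b => ⟨(↑v⁻¹ : S) • b, ?_⟩⟩
    · rw [h, h] at hab
      simpa [smul_smul] using congrArg ((↑v⁻¹ : S) • ·) hab
    · rw [h, smul_smul, Units.mul_inv, one_smul]
  · have key : ∀ x : N, ∃ w ∈ W, w • x ∈ Submodule.span S₀ (G : Set N) := fun x => by
      have hx : x ∈ Submodule.span S (G : Set N) := hG ▸ Submodule.mem_top
      induction hx using Submodule.span_induction with
      | mem z hz => exact ⟨1, W.one_mem, by rw [one_smul]; exact Submodule.subset_span hz⟩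
      | zero => exact ⟨1, W.one_mem, by simp⟩
      | add a b _ _ ha hb =>
        obtain ⟨s, hs, ha⟩ := ha
        obtain ⟨t, ht, hb⟩ := hb
        refine ⟨s * t, W.mul_mem hs ht, ?_⟩
        rw [smul_add]
        exact add_mem (by rw [mul_comm, mul_smul]; exact Submodule.smul_mem _ t ha)
          (by rw [mul_smul]; exact Submodule.smul_mem _ s hb)
      | smul c z _ hz =>
        obtain ⟨s, hs, hz⟩ := hz
        obtain ⟨⟨a, v⟩, hav⟩ := IsLocalization.surj W c
        refine ⟨s * v, W.mul_mem hs v.2, ?_⟩
        have h : (s * (v : S₀)) • c • z = a • s • z := by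
          rw [mul_smul, ← algebraMap_smul S (v : S₀) (c • z), smul_smul, mul_comm, hav, algebraMap_smul, smul_comm]
        rw [h]
        exact Submodule.smul_mem _ a hz
    obtain ⟨w, hw, hmem⟩ := key y
    exact ⟨⟨⟨_, hmem⟩, ⟨w, hw⟩⟩, rfl⟩
  · intro a b h
    exact ⟨1, by rw [Subtype.ext h]⟩

/-- A linear map from a finite module over a local algebra essentially of finite type into a flat module,
injective modulo `𝔪`, is universally injective. -/
theorem ui_of_linear_map_local {R S : Type u} [CommRing R] [IsLocalRing R] [CommRing S] [IsLocalRing S] [Algebra R S]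
    [IsLocalHom (algebraMap R S)] [Algebra.EssFiniteType R S] {N L : Type u} [AddCommGroup N] [Module S N] [Module R N]
    [IsScalarTower R S N] [Module.Finite S N] [AddCommGroup L] [Module S L] [Module R L] [IsScalarTower R S L]
    [Module.Flat R L] (u : N →ₗ[S] L)
    (hu : ∀ x, u x ∈ maximalIdeal R • (⊤ : Submodule R L) → x ∈ maximalIdeal R • (⊤ : Submodule R N)) :
    FlatCA.UnivInj R (u.restrictScalars R) := by
  let S₀ := Algebra.EssFiniteType.subalgebra R S
  let q : Ideal S₀ := (maximalIdeal S).comap (algebraMap S₀ S)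
  haveI : IsLocalization.AtPrime S q := FlatFibres.isLocalization_atPrime_subalgebra R S
  haveI : q.LiesOver (maximalIdeal R) := ⟨by
    rw [Ideal.under, Ideal.comap_comap, ← IsScalarTower.algebraMap_eq]
    refine (IsLocalRing.eq_maximalIdeal (R := R) ?_).symm
    have hle : (maximalIdeal S).comap (algebraMap R S) = maximalIdeal R := by
      ext r
      simp only [Ideal.mem_comap, mem_maximalIdeal, mem_nonunits_iff, isUnit_map_iff]
    show ((maximalIdeal S).comap (algebraMap R S)).IsMaximal
    rw [hle]
    infer_instance⟩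
  obtain ⟨N₀, hfin, hloc⟩ := exists_finite_model (S₀ := S₀) (S := S) (N := N) q.primeCompl
  haveI := hfin
  haveI := hloc
  exact ui_of_linear_map (R := R) N₀ q N₀.subtype (u.restrictScalars S₀) hu

variable {R S : Type u} [CommRing R] [IsLocalRing R] [CommRing S] [Algebra R S] {N : Type u} [AddCommGroup N]
  [Module S N] [Module R N] [IsScalarTower R S N]

/-- Vanishing in the closed fibre module is membership in `𝔪 N`. -/
theorem toFiberMod_eq_zero_iff (x : N) :
    FlatCA.toFiberMod (maximalIdeal R) (S := S) N x = 0 ↔ x ∈ maximalIdeal R • (⊤ : Submodule R N) := by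
  refine ⟨fun h => ?_, fun h => AssFiber.toFiberMod_eq_zero_of_mem _ N (AssFiber.smul_mem_pN _ N h)⟩
  obtain ⟨c, hc, hcx⟩ := AssFiber.exists_smul_mem_of_toFiberMod_eq_zero _ N h
  have h1 := AssFiber.mem_smul_top_of_mem_pN _ N hcx
  rw [algebraMap_smul] at h1
  obtain ⟨d, hd⟩ := (IsLocalRing.notMem_maximalIdeal.1 hc).exists_left_inv
  have h2 := Submodule.smul_mem _ d h1
  rwa [smul_smul, hd, one_smul] at h2

/-- Elements regular on the closed fibre module reflect `𝔪 N`. -/
theorem mem_of_nzdFiber_smul_mem {s : S} (hs : s ∈ FlatCA.nzdFiber R S N) {x : N}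
    (h : s • x ∈ maximalIdeal R • (⊤ : Submodule R N)) : x ∈ maximalIdeal R • (⊤ : Submodule R N) := by
  rw [← toFiberMod_eq_zero_iff (S := S), map_smul] at h
  exact (toFiberMod_eq_zero_iff (S := S) x).1 (hs _ h)

/-- A flat base change with all associated points of the closed fibre in its image reflects `𝔪 N`. -/
theorem mem_of_one_tmul_mem {S' : Type u} [CommRing S'] [Algebra S S'] [Algebra R S'] [IsScalarTower R S S']
    [Module.Flat S S'] [IsNoetherianRing ((maximalIdeal R).Fiber S)] [Module.Finite S N]
    (h : ∀ q ∈ associatedPrimes S (FlatCA.fiberMod (maximalIdeal R) S N),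
      ∃ q' : Ideal S', q'.IsPrime ∧ q'.comap (algebraMap S S') = q)
    (x : N) (hx : (1 : S') ⊗ₜ[S] x ∈ maximalIdeal R • (⊤ : Submodule R (S' ⊗[S] N))) :
    x ∈ maximalIdeal R • (⊤ : Submodule R N) := by
  classical
  by_contra hne
  let F := (maximalIdeal R).Fiber S
  let M := FlatCA.fiberMod (maximalIdeal R) S N
  let tf : N →ₗ[S] M := FlatCA.toFiberMod (maximalIdeal R) (S := S) N
  have hξ : tf x ≠ 0 := fun h0 => hne ((toFiberMod_eq_zero_iff (S := S) x).1 h0)
  have h1 : (1 : S') ⊗ₜ[S] tf x = (0 : S' ⊗[S] M) := by
    let T : S' ⊗[S] N →ₗ[R] S' ⊗[S] M := (tf.lTensor S').restrictScalars R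
    have hT : ∀ z ∈ maximalIdeal R • (⊤ : Submodule R (S' ⊗[S] N)), T z = 0 := fun z hz => by
      refine Submodule.smul_induction_on hz (fun a ha y _ => ?_) fun a b ha hb => by rw [map_add, ha, hb, add_zero]
      induction y using TensorProduct.induction_on with
      | zero => simp
      | add a b iha ihb => rw [smul_add, map_add, iha Submodule.mem_top, ihb Submodule.mem_top, add_zero]
      | tmul c n =>
        have : tf (a • n) = 0 :=
          (toFiberMod_eq_zero_iff (S := S) _).2 (Submodule.smul_mem_smul ha Submodule.mem_top)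
        rw [← algebraMap_smul S a, ← TensorProduct.tmul_smul]
        show c ⊗ₜ[S] tf (algebraMap R S a • n) = 0
        rw [algebraMap_smul, this, TensorProduct.tmul_zero]
    exact hT _ hx
  -- the annihilator of `tf x` lies in an associated prime
  let J : Ideal S := (Submodule.span S {tf x}).annihilator
  have hz : ∑ _i : Fin 1, tf x ⊗ₜ[S] (1 : S') = 0 := by
    simp only [Finset.univ_unique, Finset.sum_singleton]
    refine (TensorProduct.comm S M S').injective ?_
    rw [map_zero, TensorProduct.comm_tmul]
    exact h1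
  obtain ⟨k, c, y, hc, hcz⟩ := TensorProduct.vanishesTrivially_of_sum_tmul_eq_zero_of_rTensor_injective S
    (Module.Flat.rTensor_preserves_injective_linearMap _ Subtype.val_injective) hz
  have hJ : J.map (algebraMap S S') = ⊤ := by
    rw [Ideal.eq_top_iff_one, show (1 : S') = _ from hc 0]
    refine Submodule.sum_mem _ fun l _ => ?_
    rw [Algebra.smul_def]
    refine Ideal.mul_mem_right _ _ (Ideal.mem_map_of_mem _ ((Submodule.mem_annihilator_span_singleton _ _).2 ?_))
    simpa using hcz l
  obtain ⟨Q, hQ, hJQ⟩ : ∃ Q ∈ associatedPrimes S M, J ≤ Q := by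
    haveI : Module.Finite F M := inferInstanceAs (Module.Finite F (F ⊗[S] N))
    let ξ : M := tf x
    let I : Ideal F := (Submodule.span F {ξ}).annihilator
    have hI : I ≠ ⊤ := fun h0 => hξ (by
      have h1' : (1 : F) ∈ I := by rw [h0]; exact Submodule.mem_top
      have := (Submodule.mem_annihilator_span_singleton ξ (1 : F)).1 h1'
      simpa using this)
    obtain ⟨P, hP, hIP⟩ := Ideal.exists_le_maximal I hI
    haveI := hP.isPrime
    obtain ⟨r, hr, -⟩ := Ideal.exists_minimalPrimes_le hIP
    have hrass : r ∈ associatedPrimes F M :=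
      associatedPrimes.subset_of_injective (f := (Submodule.span F {ξ}).subtype) Subtype.val_injective
        (Module.associatedPrimes.minimalPrimes_annihilator_subset_associatedPrimes F (Submodule.span F {ξ}) hr)
    refine ⟨r.comap (algebraMap S F), ?_, fun s hs => ?_⟩
    · rw [S1193.associatedPrimes_eq R S N]
      exact ⟨r, hrass, rfl⟩
    · refine hr.1.2 ((Submodule.mem_annihilator_span_singleton ξ _).2 ?_)
      rw [AssFiber.algebraMap_smul_fiberMod]
      exact (Submodule.mem_annihilator_span_singleton _ _).1 hs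
  obtain ⟨q', hq', hq'Q⟩ := h Q hQ
  refine hq'.ne_top (top_le_iff.1 ?_)
  rw [← hJ]
  exact Ideal.map_le_iff_le_comap.2 (hq'Q.symm ▸ hJQ)

end Groth.Agent.RG11

namespace Groth.Agent.RG11

open IsLocalRing

/-- Essentially of finite presentation gives essentially of finite type. -/
theorem essFiniteType_of_essFP {R S : Type u} [CommRing R] [CommRing S] [Algebra R S]
    (h : FlatCA.EssFinitePresentation R S) : Algebra.EssFiniteType R S := by
  obtain ⟨S₀, _, _, _, _, W, hfp, hloc⟩ := h
  haveI := hfp
  haveI := hloc
  haveI : Algebra.EssFiniteType R S₀ := inferInstance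
  haveI : Algebra.EssFiniteType S₀ S := Algebra.EssFiniteType.of_isLocalization S W
  exact Algebra.EssFiniteType.comp R S₀ S

end Groth.Agent.RG11

namespace Groth.Agent.RG11

open TensorProduct

/-- Localisations of flat modules are flat. -/
theorem flat_localizedModule {R S : Type u} [CommRing R] [CommRing S] [Algebra R S] (W : Submonoid S) (N : Type u)
    [AddCommGroup N] [Module S N] [Module R N] [IsScalarTower R S N] [Module.Flat R N] :
    Module.Flat R (LocalizedModule W N) := by
  haveI : Module.Flat S (Localization W) := IsLocalization.flat _ W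
  exact FlatFibres.flat_of_isBaseChange (R := R) (LocalizedModule.mkLinearMap W N)
    (IsLocalizedModule.isBaseChange W (Localization W) _)

end Groth.Agent.RG11
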