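import Groth.Agent.RG11.LocalNhd
import Mathlib

/-!
# Flat points of finite type algebras after étale localisation
-/

universe u

set_option linter.style.haveILetI false

namespace Groth.Agent.RG11

open TensorProduct

set_option maxHeartbeats 800000 in
/-- Near a flat point a finite type algebra becomes flat of finite presentation after étale localisation. -/
theorem exists_alg_nhd {R S : Type u} [CommRing R] [CommRing S] [Algebra R S] [Algebra.FiniteType R S]
    (p : Ideal R) [p.IsPrime] (q : Ideal S) [q.IsPrime] [q.LiesOver p] (hflat : FlatCA.FlatAt R q S) :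
    ∃ (R' : Type u) (_ : CommRing R') (_ : Algebra R R') (p' : Ideal R') (_ : p'.IsPrime), FlatCA.IsEtaleNhd R R' p p' ∧
      ∀ (SA : Type u) [CommRing SA] [Algebra R SA] [Algebra S SA] [Algebra (Localization.AtPrime p') SA]
        [IsScalarTower R S SA] [IsScalarTower R (Localization.AtPrime p') SA]
        [Algebra.IsPushout R S (Localization.AtPrime p') SA],
        ∃ g : SA, (∀ (Q : Ideal SA) [Q.IsPrime], Q.LiesOver q → Q.LiesOver (IsLocalRing.maximalIdeal (Localization.AtPrime p')) → g ∉ Q) ∧
          Module.Flat (Localization.AtPrime p') (Localization.Away g) ∧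
          Algebra.FinitePresentation (Localization.AtPrime p') (Localization.Away g) := by
  obtain ⟨n, π, hπ⟩ := Algebra.FiniteType.iff_quotient_mvPolynomial''.1 (inferInstance : Algebra.FiniteType R S)
  let P := MvPolynomial (Fin n) R
  letI : Algebra P S := π.toRingHom.toAlgebra
  haveI : IsScalarTower R P S := IsScalarTower.of_algebraMap_eq fun r => (π.commutes r).symm
  haveI : Module.Finite P S := Module.Finite.of_surjective (Algebra.linearMap P S) hπ
  let q' : Ideal P := q.comap (algebraMap P S)
  haveI : q'.LiesOver p := ⟨by
    rw [Ideal.under, Ideal.comap_comap, ← IsScalarTower.algebraMap_eq]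
    exact Ideal.LiesOver.over⟩
  have hflat' : FlatCA.FlatAt R q' S := (flatAt_iff_of_unique (T := S) q' q rfl (fun r _ hr =>
    Ideal.comap_injective_of_surjective _ hπ hr) S).2 hflat
  obtain ⟨R', _, _, p', _, hn, H⟩ := exists_local_nhd (R := R) (S := P) S p q' hflat'
  refine ⟨R', inferInstance, inferInstance, p', inferInstance, hn, ?_⟩
  intro SA _ _ _ _ _ _ _
  let A := Localization.AtPrime p'
  let PA := A ⊗[R] P
  letI : Algebra P PA := Algebra.TensorProduct.rightAlgebra
  haveI : IsScalarTower R P PA := IsScalarTower.of_algebraMap_eq fun r =>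
    ((Algebra.TensorProduct.includeRight : P →ₐ[R] PA).commutes r).symm
  haveI : Algebra.IsPushout R P A PA := Algebra.IsPushout.symm inferInstance
  letI : Algebra P SA := ((algebraMap S SA).comp (algebraMap P S)).toAlgebra
  haveI : IsScalarTower P S SA := IsScalarTower.of_algebraMap_eq fun _ => rfl
  haveI : IsScalarTower R P SA := IsScalarTower.of_algebraMap_eq fun r => by
    show algebraMap R SA r = algebraMap S SA (algebraMap P S (algebraMap R P r))
    rw [← IsScalarTower.algebraMap_apply R P S, ← IsScalarTower.algebraMap_apply R S SA]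
  let j : PA →ₐ[A] SA :=
    Algebra.TensorProduct.lift (Algebra.ofId A SA) (IsScalarTower.toAlgHom R P SA) fun _ _ => .all _ _
  letI : Algebra PA SA := j.toRingHom.toAlgebra
  haveI : IsScalarTower A PA SA := IsScalarTower.of_algebraMap_eq fun a => (j.commutes a).symm
  haveI : IsScalarTower P PA SA := IsScalarTower.of_algebraMap_eq fun x =>
    ((Algebra.TensorProduct.lift_tmul _ _ _ _ _).trans (by rw [map_one, one_mul]; rfl) :
      j ((1 : A) ⊗ₜ[R] x) = algebraMap P SA x).symm
  haveI : IsScalarTower R PA SA := IsScalarTower.of_algebraMap_eq fun r => by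
    show algebraMap R SA r = j (algebraMap R A r ⊗ₜ[R] (1 : P))
    exact (IsScalarTower.algebraMap_apply R A SA r).trans (j.commutes (algebraMap R A r)).symm
  haveI hPS : Algebra.IsPushout P S PA SA :=
    (Algebra.IsPushout.comp_iff R P A PA (T := S) (T' := SA)).1 inferInstance
  haveI : Algebra.IsPushout P PA S SA := hPS.symm
  obtain ⟨g, hg, hfp, hfl⟩ := H PA SA (IsScalarTower.toAlgHom P S SA).toLinearMap
    (Algebra.IsPushout.out (R := P) (S := PA) (R' := S) (S' := SA))
  refine ⟨algebraMap PA SA g, fun Q _ hQq hQm hgQ => ?_, ?_⟩
  · refine hg (Q.comap (algebraMap PA SA)) ⟨?_⟩ ⟨?_⟩ hgQ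
    · rw [Ideal.under, Ideal.comap_comap, ← IsScalarTower.algebraMap_eq, IsScalarTower.algebraMap_eq P S SA,
        ← Ideal.comap_comap]
      exact congrArg (Ideal.comap (algebraMap P S)) hQq.over
    · rw [Ideal.under, Ideal.comap_comap, ← IsScalarTower.algebraMap_eq]
      exact hQm.over
  let C := Localization.Away (algebraMap PA SA g)
  let B := Localization.Away g
  letI : Algebra B C := (IsLocalization.Away.lift g (g := algebraMap PA C) (by
    rw [IsScalarTower.algebraMap_apply PA SA C]
    exact IsLocalization.Away.algebraMap_isUnit (algebraMap PA SA g))).toAlgebra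
  haveI : IsScalarTower PA B C := IsScalarTower.of_algebraMap_eq fun w => (IsLocalization.Away.lift_eq g _ w).symm
  haveI : IsLocalization (Algebra.algebraMapSubmonoid SA (Submonoid.powers g)) C := by
    rw [Algebra.algebraMapSubmonoid_powers]
    infer_instance
  haveI : IsLocalizedModule (Submonoid.powers g) (IsScalarTower.toAlgHom PA SA C).toLinearMap :=
    isLocalizedModule_iff_isLocalization.2 inferInstance
  let eL : LocalizedModule (Submonoid.powers g) SA ≃ₗ[PA] C :=
    IsLocalizedModule.iso (Submonoid.powers g) (IsScalarTower.toAlgHom PA SA C).toLinearMap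
  constructor
  · haveI := hfl
    exact Module.Flat.of_linearEquiv (eL.restrictScalars A).symm
  · haveI := hfp
    haveI : Module.FinitePresentation B C :=
      Module.FinitePresentation.of_equiv (LinearEquiv.extendScalarsOfIsLocalization (Submonoid.powers g) B eL)
    haveI : IsScalarTower A B C := IsScalarTower.of_algebraMap_eq fun a => by
      rw [IsScalarTower.algebraMap_apply A PA B, ← IsScalarTower.algebraMap_apply PA B C,
        IsScalarTower.algebraMap_apply A SA C, IsScalarTower.algebraMap_apply A PA SA,
        ← IsScalarTower.algebraMap_apply PA SA C]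
    haveI : Algebra.FinitePresentation A B := by
      haveI : Algebra.FinitePresentation PA B := IsLocalization.Away.finitePresentation g
      exact Algebra.FinitePresentation.trans A PA B
    exact Algebra.FinitePresentation.trans A B C

end Groth.Agent.RG11
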