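import Groth.Agent.RG11.GlobalUI
import Mathlib

/-!
# Associated points of fibres of flat modules specialise
-/

universe u

set_option linter.style.haveILetI false

namespace Groth.Agent.RG11

open TensorProduct

attribute [local instance] Algebra.TensorProduct.rightAlgebra

/-- A prime over `p` is recovered from its extension to the fibre. -/
theorem fiberIdeal_comap' {R S : Type u} [CommRing R] [CommRing S] [Algebra R S] (p : Ideal R) [p.IsPrime] (q : Ideal S)
    [q.IsPrime] [q.LiesOver p] : (FlatCA.fiberIdeal p q).comap (algebraMap S (p.Fiber S)) = q := by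
  refine le_antisymm (fun s₀ hs₀ => ?_) Ideal.le_comap_map
  let inc : S →+* p.Fiber S := algebraMap S (p.Fiber S)
  have hinc : ∀ x : S, inc x = (1 : p.ResidueField) ⊗ₜ[R] x := fun _ => rfl
  have key : ∀ b ∈ FlatCA.fiberIdeal p q, ∃ r ∉ p, ∃ s ∈ q, inc (algebraMap R S r) * b = inc s := by
    intro b hb
    have hb' : b ∈ Submodule.span (p.Fiber S) (inc '' (q : Set S)) := hb
    induction hb' using Submodule.span_induction with
    | mem x hx =>
      obtain ⟨s, hs, rfl⟩ := hx
      exact ⟨1, fun h => ‹p.IsPrime›.ne_top ((Ideal.eq_top_iff_one _).2 h), s, hs, by simp⟩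
    | zero => exact ⟨1, fun h => ‹p.IsPrime›.ne_top ((Ideal.eq_top_iff_one _).2 h), 0, zero_mem _, by simp⟩
    | add x y _ _ hx hy =>
      obtain ⟨r, hr, s, hs, e⟩ := hx (by assumption)
      obtain ⟨r', hr', s', hs', e'⟩ := hy (by assumption)
      refine ⟨r * r', fun h => (‹p.IsPrime›.mem_or_mem h).elim hr hr', algebraMap R S r' * s + algebraMap R S r * s',
        add_mem (Ideal.mul_mem_left _ _ hs) (Ideal.mul_mem_left _ _ hs'), ?_⟩
      simp only [map_add, map_mul, ← e, ← e']
      ring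
    | smul c x _ hx =>
      obtain ⟨r, hr, s, hs, e⟩ := hx (by assumption)
      obtain ⟨r', hr', d, hd⟩ := AssFiber.exists_smul_eq_includeRight p c
      refine ⟨r * r', fun h => (‹p.IsPrime›.mem_or_mem h).elim hr hr', d * s, Ideal.mul_mem_left _ _ hs, ?_⟩
      rw [← hinc, ← hinc] at hd
      simp only [smul_eq_mul, map_mul, ← e, ← hd]
      ring
  obtain ⟨r, hr, s, hs, e⟩ := key _ hs₀
  rw [← map_mul, ← sub_eq_zero, ← map_sub] at e
  have h0 : FlatCA.toFiberMod p (S := S) S (algebraMap R S r * s₀ - s) = 0 := by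
    show ((1 : p.Fiber S) ⊗ₜ[S] (algebraMap R S r * s₀ - s) : (p.Fiber S) ⊗[S] S) = 0
    refine (TensorProduct.rid S (p.Fiber S)).injective ?_
    rw [map_zero, TensorProduct.rid_tmul, Algebra.smul_def, mul_one]
    exact e
  obtain ⟨c, hc, hmem⟩ := AssFiber.exists_smul_mem_of_toFiberMod_eq_zero p S h0
  have h1 : algebraMap R S c * (algebraMap R S r * s₀ - s) ∈ q := by
    refine Submodule.smul_induction_on (p := fun x => x ∈ q) (AssFiber.mem_smul_top_of_mem_pN p S hmem) (fun a ha z _ => ?_)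
      fun a b ha hb => add_mem ha hb
    rw [Algebra.smul_def]
    exact Ideal.mul_mem_right _ _ ((q.over_def p).le ha)
  rcases (‹q.IsPrime›).mem_or_mem h1 with h2 | h2
  · exact absurd ((q.over_def p).ge h2) hc
  · have h3 : algebraMap R S r * s₀ ∈ q := by simpa using add_mem h2 hs
    rcases (‹q.IsPrime›).mem_or_mem h3 with h4 | h4
    · exact absurd ((q.over_def p).ge h4) hr
    · exact h4

set_option maxHeartbeats 1000000 in
theorem exists_assoc_specialize {A B : Type u} [CommRing A] [CommRing B] [Algebra A B] [Algebra.FiniteType A B]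
    (N : Type u) [AddCommGroup N] [Module B N] [Module A N] [IsScalarTower A B N] [Module.Finite B N]
    (p : Ideal A) [p.IsPrime] (p' : Ideal A) [p'.IsPrime] (q' : Ideal B) [q'.IsPrime] [q'.LiesOver p']
    (hass : FlatCA.fiberIdeal p' q' ∈ associatedPrimes (p'.Fiber B) (FlatCA.fiberMod p' B N))
    (t : Ideal B) [t.IsPrime] (hle : q' ≤ t) [t.LiesOver p] (hflat : FlatCA.FlatAt A t N) :
    ∃ (q : Ideal B) (_ : q.IsPrime), q' ≤ q ∧ q.LiesOver p ∧
      FlatCA.fiberIdeal p q ∈ associatedPrimes (p.Fiber B) (FlatCA.fiberMod p B N) := by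
  classical
  obtain ⟨T, hT, hmem⟩ := exists_assoc_points N p t
  by_contra! hcon
  have hnot : ¬ (q' : Set B) ⊆ ⋃ r ∈ (↑T : Set (PrimeSpectrum B)), (r.asIdeal : Set B) := by
    intro hsub
    obtain ⟨r, hr, hle'⟩ := (Ideal.subset_union_prime (f := fun r : PrimeSpectrum B => r.asIdeal) ⟨t, inferInstance⟩
      ⟨t, inferInstance⟩ fun i _ _ _ => i.isPrime).1 hsub
    exact hcon r.asIdeal r.isPrime hle' (hT r hr).2.1 (hT r hr).2.2
  obtain ⟨s, hs, hsT⟩ := Set.not_subset.1 hnot
  simp only [Set.mem_iUnion, not_exists] at hsT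
  -- an element of the fibre over `p'`
  obtain ⟨hQ, ξ, hξ⟩ := hass
  have hsQ : algebraMap B (p'.Fiber B) s ∈ FlatCA.fiberIdeal p' q' := Ideal.mem_map_of_mem _ hs
  rw [hξ] at hsQ
  obtain ⟨k, hk⟩ := hsQ
  rw [Submodule.mem_colon_singleton, ← map_pow, AssFiber.algebraMap_smul_fiberMod] at hk
  have hk' : s ^ k • ξ = 0 := by simpa using hk
  have hξ0 : ∀ σ : B, σ • ξ = 0 → σ ∈ q' := by
    intro σ hσ
    have h1 : algebraMap B (p'.Fiber B) σ ∈ FlatCA.fiberIdeal p' q' := by
      rw [hξ]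
      refine Ideal.le_radical (Submodule.mem_colon_singleton.2 ?_)
      rw [AssFiber.algebraMap_smul_fiberMod, hσ]
      exact zero_mem _
    by_contra hσ'
    have hdis : Disjoint (q'.primeCompl : Set B) q' := Set.disjoint_left.2 fun x hx hx' => hx hx'
    have h2 : (FlatCA.fiberIdeal p' q').comap (algebraMap B (p'.Fiber B)) = q' := by
      have := fiberIdeal_comap' p' q'
      exact this
    exact hσ' (h2.le h1)
  -- lift to `N`
  haveI hloc := AssFiber.isLocalizedModule_quotToFiber p' (S := B) N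
  obtain ⟨⟨nn, ⟨w, hw⟩⟩, hwe⟩ := IsLocalizedModule.surj (Algebra.algebraMapSubmonoid B p'.primeCompl) (AssFiber.quotToFiber p' (S := B) N) ξ
  obtain ⟨n, rfl⟩ := Submodule.Quotient.mk_surjective _ nn
  have hwe' : w • ξ = FlatCA.toFiberMod p' (S := B) N n := hwe
  have hwq : w ∉ q' := by
    obtain ⟨r, hr, rfl⟩ := hw
    exact fun h => hr ((q'.over_def p').ge h)
  obtain ⟨c, hc, hcn⟩ := AssFiber.exists_smul_mem_of_toFiberMod_eq_zero p' N (n := s ^ k • n)
    (by rw [map_smul, ← hwe', smul_comm, hk', smul_zero])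
  have hcn' := AssFiber.mem_smul_top_of_mem_pN p' N hcn
  let L := LocalizedModule t.primeCompl N
  haveI : Module.Flat A L := hflat
  let mk := LocalizedModule.mkLinearMap t.primeCompl N
  let u : N →ₗ[B] L := (LinearMap.lsmul B L (s ^ k)) ∘ₗ mk
  have hzero : ∀ (m : N), m ∈ p' • (⊤ : Submodule A N) → m ⊗ₜ[A] (1 : A ⧸ p') = (0 : N ⊗[A] (A ⧸ p')) := by
    intro m hm
    rw [← (TensorProduct.tensorQuotEquivQuotSMul N p').map_eq_zero_iff, ← map_one (Ideal.Quotient.mk p'),
      TensorProduct.tensorQuotEquivQuotSMul_tmul_mk, one_smul, Submodule.Quotient.mk_eq_zero]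
    exact hm
  obtain ⟨σ, hσ, hσn⟩ := exists_smul_eq_zero_of_linear_map (R := A) N p t u (fun m hm => by
      refine hmem m fun r hr => ?_
      change s ^ k • mk m ∈ _ at hm
      rw [← map_smul] at hm
      obtain ⟨τ, hτ, h1⟩ := exists_smul_mem_of_localized_mem p t.primeCompl mk _ hm
      rw [← mul_smul] at h1
      exact ⟨τ * s ^ k, fun hmem' => (r.isPrime.mem_or_mem hmem').elim (fun h' => hτ ((hT r hr).1 h'))
        (fun h' => hsT r hr (r.isPrime.mem_of_pow_mem k h')), h1⟩)
    (A ⧸ p') ((algebraMap A B c • n) ⊗ₜ 1) (by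
      rw [LinearMap.rTensor_tmul]
      have h2 : s ^ k • (algebraMap A B c • n) ∈ p' • (⊤ : Submodule A N) := by rw [smul_comm]; exact hcn'
      have h3 := congrArg ((mk.restrictScalars A).rTensor (A ⧸ p')) (hzero _ h2)
      rw [map_zero, LinearMap.rTensor_tmul] at h3
      rw [← h3]
      exact congrArg (· ⊗ₜ[A] (1 : A ⧸ p')) (map_smul mk (s ^ k) _).symm)
  rw [TensorProduct.smul_tmul'] at hσn
  have h4 : σ • (algebraMap A B c • n) ∈ p' • (⊤ : Submodule A N) := by
    rw [← (TensorProduct.tensorQuotEquivQuotSMul N p').map_eq_zero_iff, ← map_one (Ideal.Quotient.mk p'),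
      TensorProduct.tensorQuotEquivQuotSMul_tmul_mk, one_smul, Submodule.Quotient.mk_eq_zero] at hσn
    exact hσn
  have h5 : (σ * algebraMap A B c * w) • ξ = 0 := by
    rw [mul_smul, hwe', ← map_smul, mul_smul]
    exact AssFiber.toFiberMod_eq_zero_of_mem p' N (AssFiber.smul_mem_pN p' N h4)
  rcases (‹q'.IsPrime›).mem_or_mem (hξ0 _ h5) with h6 | h6
  · rcases (‹q'.IsPrime›).mem_or_mem h6 with h7 | h7
    · exact hσ (hle h7)
    · exact hc ((q'.over_def p').ge h7)
  · exact hwq h6

end Groth.Agent.RG11
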