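import Groth.Agent.RG11.PureFibre
import Groth.Agent.RG11.AssocSpecialize
import Groth.Agent.AssFiber.Basic
import Mathlib

/-!
# Associated points of fibres under base change contract to associated points
-/

universe u

set_option linter.style.haveILetI false

namespace Groth.Agent.RG11

open TensorProduct

attribute [local instance] Algebra.TensorProduct.rightAlgebra

section

variable {R S : Type u} [CommRing R] [CommRing S] [Algebra R S] (p : Ideal R) [p.IsPrime] (N : Type u)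
  [AddCommGroup N] [Module S N] [Module R N] [IsScalarTower R S N]

theorem toFiberMod_eq_zero_iff_one_tmul (n : N) :
    FlatCA.toFiberMod p (S := S) N n = 0 ↔ (1 : p.ResidueField) ⊗ₜ[R] n = 0 := by
  refine ⟨fun h => ?_, toFiberMod_eq_zero_of_one_tmul (S := S) p N⟩
  obtain ⟨r, hr, hrn⟩ := AssFiber.exists_smul_mem_of_toFiberMod_eq_zero p (S := S) N h
  refine one_tmul_eq_zero_of_smul_mem p N hr ?_
  have := AssFiber.mem_smul_top_of_mem_pN p N hrn
  rwa [algebraMap_smul] at this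

theorem exists_smul_eq_one_tmul (z : p.ResidueField ⊗[R] N) :
    ∃ r ∉ p, ∃ n : N, r • z = (1 : p.ResidueField) ⊗ₜ[R] n := by
  induction z using TensorProduct.induction_on with
  | zero => exact ⟨1, fun h => Ideal.IsPrime.ne_top' ((Ideal.eq_top_iff_one _).2 h), 0, by simp⟩
  | tmul c n =>
    obtain ⟨⟨a, r⟩, h⟩ := (AssFiber.isLocalizedModule_residueField p).surj c
    obtain ⟨a, rfl⟩ := Ideal.Quotient.mk_surjective a
    refine ⟨r, r.2, a • n, ?_⟩
    have h' : (r : R) • c = algebraMap R p.ResidueField a := by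
      simp only [Submonoid.smul_def, LinearMap.coe_restrictScalars, Algebra.linearMap_apply] at h
      rw [h]
      exact (IsScalarTower.algebraMap_apply R (R ⧸ p) p.ResidueField a).symm
    rw [smul_tmul', h', tmul_smul, smul_tmul', Algebra.algebraMap_eq_smul_one]
  | add a b ha hb =>
    obtain ⟨r, hr, n, hn⟩ := ha
    obtain ⟨r', hr', n', hn'⟩ := hb
    refine ⟨r * r', Ideal.IsPrime.mul_notMem ‹_› hr hr', r' • n + r • n', ?_⟩
    rw [smul_add, mul_comm r r', mul_smul, hn, mul_comm r' r, mul_smul, hn', tmul_add, tmul_smul, tmul_smul]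

/-- An exact annihilator in the fibre module gives an associated point. -/
theorem assoc_of_ann (P : Ideal S) [P.IsPrime] (x : FlatCA.fiberMod p S N) (hx : ∀ s : S, s ∈ P ↔ s • x = 0) :
    FlatCA.fiberIdeal p P ∈ associatedPrimes (p.Fiber S) (FlatCA.fiberMod p S N) := by
  have hP : P ∈ FlatCA.ass S (FlatCA.fiberMod p S N) :=
    ⟨inferInstance, x, by ext s; rw [hx, Submodule.mem_annihilator_span_singleton]⟩
  rw [AssFiber.ass_fiberMod_eq] at hP
  obtain ⟨Q, ⟨hQ, y, hy⟩, rfl⟩ := hP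
  haveI := hQ
  have h1 := fiberIdeal_comap_fibre p Q
  erw [h1]
  refine ⟨hQ, y, ?_⟩
  conv_lhs => rw [← hQ.radical]
  congr 1
  ext a
  rw [hy, Submodule.mem_annihilator_span_singleton, Submodule.mem_colon_singleton, Submodule.mem_bot]

end

set_option maxHeartbeats 1600000 in
/-- The contraction of an associated point of a fibre of a base change is an associated point of the fibre. -/
theorem assoc_comap_baseChange {R S : Type u} [CommRing R] [CommRing S] [Algebra R S] (N : Type u) [AddCommGroup N]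
    [Module S N] [Module R N] [IsScalarTower R S N]
    {R₂ S₂ : Type u} [CommRing R₂] [CommRing S₂] [Algebra R R₂] [Algebra R₂ S₂] [Algebra S S₂]
    [Algebra.FiniteType R₂ S₂]
    (N₂ : Type u) [AddCommGroup N₂] [Module S₂ N₂] [Module R₂ N₂] [IsScalarTower R₂ S₂ N₂] [Module S N₂]
    [IsScalarTower S S₂ N₂] [Module R N₂] [IsScalarTower R R₂ N₂] [IsScalarTower R S N₂]
    (g : N →ₗ[S] N₂) (hg : IsBaseChange R₂ (g.restrictScalars R))
    (t : Ideal R₂) [t.IsPrime] (t₀ : Ideal R) [t₀.IsPrime] (ht : t.comap (algebraMap R R₂) = t₀)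
    (Q : Ideal S₂) [Q.IsPrime] [Q.LiesOver t]
    (hass : FlatCA.fiberIdeal t Q ∈ associatedPrimes (t.Fiber S₂) (FlatCA.fiberMod t S₂ N₂)) :
    FlatCA.fiberIdeal t₀ (Q.comap (algebraMap S S₂)) ∈
      associatedPrimes (t₀.Fiber S) (FlatCA.fiberMod t₀ S N) := by
  classical
  haveI : IsNoetherianRing (t.Fiber S₂) := Algebra.FiniteType.isNoetherianRing t.ResidueField (t.Fiber S₂)
  obtain ⟨hpr, ξ, hξ⟩ := isAssociatedPrime_iff.1 hass
  have := AssFiber.isLocalizedModule_quotToFiber t (S := S₂) N₂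
  obtain ⟨⟨y, ⟨_, w, hw, rfl⟩⟩, hy⟩ := IsLocalizedModule.surj (Algebra.algebraMapSubmonoid S₂ t.primeCompl)
    (AssFiber.quotToFiber t (S := S₂) N₂) ξ
  obtain ⟨n, rfl⟩ := Submodule.Quotient.mk_surjective _ y
  have hn : FlatCA.toFiberMod t (S := S₂) N₂ n = algebraMap R₂ S₂ w • ξ := hy.symm
  have hann : ∀ s : S₂, s ∈ Q ↔ (1 : t.ResidueField) ⊗ₜ[R₂] (s • n) = 0 := by
    intro s
    rw [← toFiberMod_eq_zero_iff_one_tmul (S := S₂) t N₂, map_smul, hn, ← mul_smul]
    have h1 : ∀ x : S₂, x ∈ Q ↔ x • ξ = 0 := by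
      intro x
      have h2 := fiberIdeal_comap' t Q
      conv_lhs => rw [← h2, Ideal.mem_comap, hξ, Submodule.mem_colon_singleton, Submodule.mem_bot,
        AssFiber.algebraMap_smul_fiberMod]
    refine ⟨fun hs => (h1 _).1 (Q.mul_mem_right _ hs), fun h => ?_⟩
    exact ((inferInstance : Q.IsPrime).mem_or_mem ((h1 _).2 h)).resolve_right fun h' => hw ((Q.over_def t).ge h')
  -- the field extension
  let K := t.ResidueField
  let K₀ := t₀.ResidueField
  letI : Algebra K₀ K := (Ideal.ResidueField.map t₀ t (algebraMap R R₂) ht.symm).toAlgebra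
  haveI : IsScalarTower R K₀ K := IsScalarTower.of_algebraMap_eq fun a =>
    ((Ideal.ResidueField.map_algebraMap _ _ _ ht.symm a).trans (IsScalarTower.algebraMap_apply R R₂ K a).symm).symm
  let b := Module.Basis.ofVectorSpace K₀ K
  let E₁ : K ⊗[R₂] N₂ ≃ₗ[R₂] K ⊗[R] N := (hg.equiv.symm.lTensor K).trans
    ((AlgebraTensorModule.cancelBaseChange R R₂ K K N).restrictScalars R₂)
  let E₂ : K ⊗[R] N ≃ₗ[R] K ⊗[K₀] (K₀ ⊗[R] N) :=
    ((AlgebraTensorModule.cancelBaseChange R K₀ K K N).symm).restrictScalars R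
  let E₃ : K ⊗[K₀] (K₀ ⊗[R] N) ≃ₗ[K₀] (_ →₀ (K₀ ⊗[R] N)) := TensorProduct.equivFinsuppOfBasisLeft b
  let E : K ⊗[R₂] N₂ → (_ →₀ (K₀ ⊗[R] N)) := fun v => E₃ (E₂ (E₁ v))
  have hE : ∀ (s : S) (v : K ⊗[R₂] N₂) (i), E ((((Algebra.lsmul R₂ R₂ N₂) (algebraMap S S₂ s)).lTensor K) v) i =
      (((Algebra.lsmul R R N) s).lTensor K₀) (E v i) := by
    intro s v i
    induction v using TensorProduct.induction_on with
    | zero => simp [E]
    | add a c ha hc =>
      simp only [E, map_add, Finsupp.add_apply] at ha hc ⊢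
      rw [ha, hc]
    | tmul c m =>
      revert c
      refine hg.inductionOn m (fun m => ∀ c : K, E ((((Algebra.lsmul R₂ R₂ N₂) (algebraMap S S₂ s)).lTensor K) (c ⊗ₜ[R₂] m)) i =
        (((Algebra.lsmul R R N) s).lTensor K₀) (E (c ⊗ₜ[R₂] m) i)) ?_ (fun m₀ c => ?_) (fun a m hm c => ?_) (fun m m' hm hm' c => ?_)
      · intro c
        simp [E]
      · have hone : ∀ (c : K) (n₀ : N), E (c ⊗ₜ[R₂] g n₀) i = b.repr c i • ((1 : K₀) ⊗ₜ[R] n₀) := fun c n₀ => by
          have h1 : hg.equiv.symm (g n₀) = (1 : R₂) ⊗ₜ[R] n₀ :=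
            hg.equiv.symm_apply_eq.2 (by rw [hg.equiv_tmul, one_smul]; rfl)
          show E₃ (E₂ (E₁ (c ⊗ₜ[R₂] g n₀))) i = _
          simp only [E₁, E₂, E₃, LinearEquiv.trans_apply, LinearEquiv.lTensor_tmul, h1, LinearEquiv.restrictScalars_apply,
            AlgebraTensorModule.cancelBaseChange_tmul, one_smul, AlgebraTensorModule.cancelBaseChange_symm_tmul,
            TensorProduct.equivFinsuppOfBasisLeft_apply_tmul_apply]
        show E (c ⊗ₜ[R₂] (algebraMap S S₂ s • g m₀)) i = _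
        rw [algebraMap_smul, ← map_smul g s m₀]
        erw [hone, hone]
        rw [TensorProduct.smul_tmul', TensorProduct.smul_tmul']
        rfl
      · rw [TensorProduct.tmul_smul, TensorProduct.smul_tmul']
        exact hm (a • c)
      · simp only [E, TensorProduct.tmul_add, map_add, Finsupp.add_apply] at hm hm' ⊢
        rw [hm c, hm' c]
  let v₀ : K ⊗[R₂] N₂ := (1 : K) ⊗ₜ[R₂] n
  let c := E v₀
  have hP : ∀ s : S, s ∈ Q.comap (algebraMap S S₂) ↔ ∀ i ∈ c.support, ((Algebra.lsmul R R N) s).lTensor K₀ (c i) = 0 := by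
    intro s
    rw [Ideal.mem_comap, hann]
    have h0 : (((Algebra.lsmul R₂ R₂ N₂) (algebraMap S S₂ s)).lTensor K) v₀ = 0 ↔
        ∀ i, E ((((Algebra.lsmul R₂ R₂ N₂) (algebraMap S S₂ s)).lTensor K) v₀) i = 0 := by
      refine ⟨fun h i => by rw [h]; simp [E], fun h => ?_⟩
      exact E₁.injective (E₂.injective (E₃.injective (Finsupp.ext fun i => (h i).trans (by simp))))
    refine h0.trans ⟨fun h i _ => (hE s v₀ i).symm.trans (h i), fun h i => (hE s v₀ i).trans ?_⟩
    by_cases hi : i ∈ c.support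
    · exact h i hi
    · show ((Algebra.lsmul R R N) s).lTensor K₀ (c i) = 0
      rw [Finsupp.notMem_support_iff.1 hi, map_zero]
  have hcoord : ∀ i, ∃ (n₀ : N), ∀ s : S, ((Algebra.lsmul R R N) s).lTensor K₀ (c i) = 0 ↔
      s • FlatCA.toFiberMod t₀ (S := S) N n₀ = 0 := by
    intro i
    obtain ⟨r, hr, n₀, hn₀⟩ := exists_smul_eq_one_tmul (R := R) t₀ N (c i)
    refine ⟨n₀, fun s => ?_⟩
    rw [← map_smul, toFiberMod_eq_zero_iff_one_tmul (S := S) t₀ N]
    show _ ↔ ((Algebra.lsmul R R N) s).lTensor K₀ ((1 : K₀) ⊗ₜ[R] n₀) = 0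
    rw [← hn₀, map_smul, ← algebraMap_smul K₀ r]
    have hne : algebraMap R K₀ r ≠ 0 := fun h => hr (Ideal.algebraMap_residueField_eq_zero.1 h)
    exact ((isUnit_iff_ne_zero.2 hne).smul_eq_zero).symm
  choose n₀ hn₀ using hcoord
  let I : _ → Ideal S := fun i => (Submodule.span S {FlatCA.toFiberMod t₀ (S := S) N (n₀ i)}).annihilator
  have hI : ∀ i s, s ∈ I i ↔ s • FlatCA.toFiberMod t₀ (S := S) N (n₀ i) = 0 := fun i s =>
    Submodule.mem_annihilator_span_singleton _ _
  have hle : c.support.inf I ≤ Q.comap (algebraMap S S₂) := fun s hs => (hP s).2 fun i hi =>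
    (hn₀ i s).2 ((hI i s).1 ((Finset.inf_le hi : c.support.inf I ≤ I i) hs))
  obtain ⟨i, hi, hIi⟩ := (Ideal.IsPrime.inf_le' (inferInstance : (Q.comap (algebraMap S S₂)).IsPrime)).1 hle
  refine assoc_of_ann t₀ N _ (FlatCA.toFiberMod t₀ (S := S) N (n₀ i)) fun s => ?_
  exact ⟨fun hs => (hn₀ i s).1 ((hP s).1 hs i hi), fun hs => hIi ((hI i s).2 hs)⟩

end Groth.Agent.RG11
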