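import Groth.Agent.RG11.AssBaseChange
import Mathlib

/-!
# Associated points of fibres lift to base changes
-/

universe u

set_option linter.style.haveILetI false

namespace Groth.Agent.RG11

open TensorProduct

attribute [local instance] Algebra.TensorProduct.rightAlgebra

/-- An associated point of a fibre is the exact annihilator of the class of an element. -/
theorem exists_ann_eq {R S : Type u} [CommRing R] [CommRing S] [Algebra R S] [Algebra.FiniteType R S] (N : Type u)
    [AddCommGroup N] [Module S N] [Module R N] [IsScalarTower R S N] (t : Ideal R) [t.IsPrime] (Q : Ideal S) [Q.IsPrime]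
    [Q.LiesOver t] (hass : FlatCA.fiberIdeal t Q ∈ associatedPrimes (t.Fiber S) (FlatCA.fiberMod t S N)) :
    ∃ n : N, ∀ s : S, s ∈ Q ↔ (1 : t.ResidueField) ⊗ₜ[R] (s • n) = 0 := by
  haveI : IsNoetherianRing (t.Fiber S) := Algebra.FiniteType.isNoetherianRing t.ResidueField (t.Fiber S)
  obtain ⟨hpr, ξ, hξ⟩ := isAssociatedPrime_iff.1 hass
  have := AssFiber.isLocalizedModule_quotToFiber t (S := S) N
  obtain ⟨⟨y, ⟨_, w, hw, rfl⟩⟩, hy⟩ := IsLocalizedModule.surj (Algebra.algebraMapSubmonoid S t.primeCompl)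
    (AssFiber.quotToFiber t (S := S) N) ξ
  obtain ⟨n, rfl⟩ := Submodule.Quotient.mk_surjective _ y
  have hn : FlatCA.toFiberMod t (S := S) N n = algebraMap R S w • ξ := hy.symm
  refine ⟨n, fun s => ?_⟩
  rw [← toFiberMod_eq_zero_iff_one_tmul (S := S) t N, map_smul, hn, ← mul_smul]
  have h1 : ∀ x : S, x ∈ Q ↔ x • ξ = 0 := by
    intro x
    have h2 := fiberIdeal_comap' t Q
    conv_lhs => rw [← h2, Ideal.mem_comap, hξ, Submodule.mem_colon_singleton, Submodule.mem_bot,
      AssFiber.algebraMap_smul_fiberMod]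
  refine ⟨fun hs => (h1 _).1 (Q.mul_mem_right _ hs), fun h => ?_⟩
  exact ((inferInstance : Q.IsPrime).mem_or_mem ((h1 _).2 h)).resolve_right fun h' => hw ((Q.over_def t).ge h')

set_option maxHeartbeats 1600000 in
/-- Over an associated point of a fibre lies an associated point of any base change at a point over it. -/
theorem exists_assoc_over_baseChange {R S : Type u} [CommRing R] [CommRing S] [Algebra R S] [Algebra.FiniteType R S]
    (N : Type u) [AddCommGroup N] [Module S N] [Module R N] [IsScalarTower R S N]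
    {R₂ S₂ : Type u} [CommRing R₂] [CommRing S₂] [Algebra R R₂] [Algebra R₂ S₂] [Algebra S S₂]
    [Algebra.FiniteType R₂ S₂]
    (N₂ : Type u) [AddCommGroup N₂] [Module S₂ N₂] [Module R₂ N₂] [IsScalarTower R₂ S₂ N₂] [Module S N₂]
    [IsScalarTower S S₂ N₂] [Module R N₂] [IsScalarTower R R₂ N₂] [IsScalarTower R S N₂] [Module.Finite S₂ N₂]
    (g : N →ₗ[S] N₂) (hg : IsBaseChange R₂ (g.restrictScalars R))
    (t : Ideal R₂) [t.IsPrime] (t₀ : Ideal R) [t₀.IsPrime] (ht : t.comap (algebraMap R R₂) = t₀)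
    (P : Ideal S) [P.IsPrime] [P.LiesOver t₀]
    (hass : FlatCA.fiberIdeal t₀ P ∈ associatedPrimes (t₀.Fiber S) (FlatCA.fiberMod t₀ S N)) :
    ∃ (Q : Ideal S₂) (_ : Q.IsPrime), Q.LiesOver t ∧ Q.comap (algebraMap S S₂) = P ∧
      FlatCA.fiberIdeal t Q ∈ associatedPrimes (t.Fiber S₂) (FlatCA.fiberMod t S₂ N₂) := by
  classical
  obtain ⟨n, hn⟩ := exists_ann_eq N t₀ P hass
  let F := t.Fiber S₂
  haveI : IsNoetherianRing F := Algebra.FiniteType.isNoetherianRing t.ResidueField F
  haveI : Module.Finite F (FlatCA.fiberMod t S₂ N₂) := inferInstanceAs (Module.Finite F (F ⊗[S₂] N₂))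
  let K := t.ResidueField
  let K₀ := t₀.ResidueField
  letI : Algebra K₀ K := (Ideal.ResidueField.map t₀ t (algebraMap R R₂) ht.symm).toAlgebra
  haveI : IsScalarTower R K₀ K := IsScalarTower.of_algebraMap_eq fun a =>
    ((Ideal.ResidueField.map_algebraMap _ _ _ ht.symm a).trans (IsScalarTower.algebraMap_apply R R₂ K a).symm).symm
  have hinj : ∀ m : N, (1 : K) ⊗ₜ[R₂] g m = 0 → (1 : K₀) ⊗ₜ[R] m = 0 := by
    intro m h0
    have h1 : (1 : K) ⊗ₜ[R] m = (0 : K ⊗[R] N) := by
      have h2 := congrArg (fun v => AlgebraTensorModule.cancelBaseChange R R₂ K K N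
        (hg.equiv.symm.lTensor K v)) h0
      have e : hg.equiv.symm (g m) = (1 : R₂) ⊗ₜ[R] m :=
        hg.equiv.symm_apply_eq.2 (by rw [hg.equiv_tmul, one_smul]; rfl)
      simpa [e] using h2
    refine Module.FaithfullyFlat.tensorProduct_mk_injective (A := K₀) (B := K) (K₀ ⊗[R] N) ?_
    rw [map_zero]
    apply (AlgebraTensorModule.cancelBaseChange R K₀ K K N).injective
    rw [map_zero, TensorProduct.mk_apply, AlgebraTensorModule.cancelBaseChange_tmul, one_smul]
    exact h1
  let x := FlatCA.toFiberMod t (S := S₂) N₂ (g n)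
  let J := (Submodule.span F {x}).annihilator
  let i : S →+* F := (algebraMap S₂ F).comp (algebraMap S S₂)
  have hJ : ∀ s : S, i s ∈ J → s ∈ P := by
    intro s hs
    rw [Submodule.mem_annihilator_span_singleton, show i s = algebraMap S₂ F (algebraMap S S₂ s) from rfl,
      AssFiber.algebraMap_smul_fiberMod, ← map_smul, toFiberMod_eq_zero_iff_one_tmul (S := S₂) t N₂, algebraMap_smul,
      ← map_smul g] at hs
    exact (hn s).2 (hinj _ hs)
  have hJP : ∀ s ∈ P, i s ∈ J := by
    intro s hs
    rw [Submodule.mem_annihilator_span_singleton, show i s = algebraMap S₂ F (algebraMap S S₂ s) from rfl,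
      AssFiber.algebraMap_smul_fiberMod, ← map_smul, toFiberMod_eq_zero_iff_one_tmul (S := S₂) t N₂, algebraMap_smul,
      ← map_smul g]
    have h := congrArg (fun v => hg.equiv.lTensor K
      ((AlgebraTensorModule.cancelBaseChange R R₂ K K N).symm (AlgebraTensorModule.cancelBaseChange R K₀ K K N
        ((1 : K) ⊗ₜ[K₀] v)))) ((hn s).1 hs)
    simpa [IsBaseChange.equiv_tmul] using h
  obtain ⟨W, hW, hJW, hWd⟩ := Ideal.exists_le_prime_disjoint J (P.primeCompl.map i) (by
    rw [Set.disjoint_left]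
    rintro _ hmem ⟨s, hs, rfl⟩
    exact hs (hJ s hmem))
  obtain ⟨r, hr, hrW⟩ := Ideal.exists_minimalPrimes_le hJW
  haveI hrp : r.IsPrime := hr.1.1
  have hrass : r ∈ associatedPrimes F (FlatCA.fiberMod t S₂ N₂) := by
    have h1 : r ∈ associatedPrimes F (Submodule.span F {x}) :=
      Module.associatedPrimes.minimalPrimes_annihilator_subset_associatedPrimes F (Submodule.span F {x}) hr
    exact associatedPrimes.subset_of_injective (f := (Submodule.span F {x}).subtype) Subtype.val_injective h1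
  refine ⟨r.comap (algebraMap S₂ F), inferInstance, liesOver_comap_fibre t r, ?_, ?_⟩
  · rw [Ideal.comap_comap]
    refine le_antisymm (fun s hs => by_contra fun hsP => ?_) fun s hs => hr.1.2 (hJP s hs)
    exact Set.disjoint_left.1 hWd (hrW hs) ⟨s, hsP, rfl⟩
  · rw [fiberIdeal_comap_fibre]; exact hrass

end Groth.Agent.RG11
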