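import Groth.Agent.RG11.FibreDim
import Mathlib

/-!
# Building complete dévissages layer by layer
-/

universe u

set_option linter.style.haveILetI false

namespace Groth.Agent.RG11

open TensorProduct

/-- One layer of a complete dévissage of `N/S/R` at `(p, q)`. -/
structure Layer (R S A B : Type u) [CommRing R] [CommRing S] [CommRing A] [CommRing B] [Algebra R S] [Algebra R A]
    [Algebra R B] [Algebra S A] [Algebra B A] (N M : Type u) [AddCommGroup N] [Module S N] [AddCommGroup M]
    [Module A M] [Module B M] [Module S M] (p : Ideal R) [p.IsPrime] (q : Ideal S) [q.IsPrime]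
    (qB : Ideal B) [qB.IsPrime] [qB.LiesOver p] (qA : Ideal A) [qA.IsPrime] (r : ℕ) : Type u where
  α : (Fin r → B) →ₗ[B] M
  surjSA : Function.Surjective (algebraMap S A)
  fpSA : Algebra.FinitePresentation S A
  finiteBA : Module.Finite B A
  finiteM : Module.Finite A M
  geomInt : FlatCA.GeomIrredFibres R B
  iso : N ≃ₗ[S] M
  hp : (p.map (algebraMap R B)).IsPrime
  fibreIso : Function.Bijective (α.baseChange (p.map (algebraMap R B)).ResidueField)
  gen : (⟨_, hp⟩ : PrimeSpectrum B) ∈ Module.support B M
  pureTrans : FlatCA.PurelyTranscendental p qB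
  overA : qA.LiesOver qB
  uniq : ∀ (Q : Ideal A) [Q.IsPrime], Q.LiesOver qB → Q = qA
  q0 : qA.comap (algebraMap S A) = q
  d : ℕ
  relDim : FlatCA.SmoothRelDim d R B

section

variable {R S A B : Type u} [CommRing R] [CommRing S] [CommRing A] [CommRing B] [Algebra R S] [Algebra R A]
    [Algebra R B] [Algebra S A] [Algebra B A] [IsScalarTower R S A] [IsScalarTower R B A]
    {N M : Type u} [AddCommGroup N] [Module S N] [AddCommGroup M]
    [Module A M] [Module B M] [Module S M] [IsScalarTower S A M] [IsScalarTower B A M]
    {p : Ideal R} [p.IsPrime] {q : Ideal S} [q.IsPrime]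
    {qB : Ideal B} [qB.IsPrime] [qB.LiesOver p] {qA : Ideal A} [qA.IsPrime] {r : ℕ}

theorem Layer.locDim (l : Layer R S A B N M p q qB qA r) :
    ∃ (x : PrimeSpectrum (p.Fiber B)) (hx : x ∈ Module.support (p.Fiber B) (FlatCA.fiberMod p B M)),
      x.asIdeal = FlatCA.fiberIdeal p qB ∧
      FlatMor.localDim (Module.support (p.Fiber B) (FlatCA.fiberMod p B M)) ⟨x, hx⟩ = l.d := by
  haveI := l.finiteBA
  haveI := l.finiteM
  haveI : Module.Finite B M := Module.Finite.trans A M
  have huniv : ∀ P : PrimeSpectrum B, P.asIdeal.comap (algebraMap R B) = p → P ∈ Module.support B M :=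
    fun P hP => Module.mem_support_mono
      (show (⟨_, l.hp⟩ : PrimeSpectrum B) ≤ P from Ideal.map_le_iff_le_comap.2 hP.ge) l.gen
  obtain ⟨e, he⟩ := exists_fibre_orderIso (S := B) p M
  let Q : FlatFibres.fibSupp p B M := ⟨⟨qB, inferInstance⟩, huniv _ (qB.over_def p).symm, (qB.over_def p).symm⟩
  exact ⟨(e Q).1, (e Q).2, (he Q).2, localDim_support_self l.relDim p M huniv _ _⟩

/-- A complete dévissage with one step. -/
theorem hasCDA_single [Module R M] [IsScalarTower R B M] (l : Layer R S A B N M p q qB qA r)
    (hsurj : Function.Surjective l.α) : FlatCA.HasCompleteDevissageAt R S N p q := by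
  haveI := l.hp
  haveI := l.overA
  haveI hsm := smooth_of_smoothRelDim l.relDim
  let D : FlatCA.CompleteDevissage R S N p :=
    { n := 1
      pos := Nat.one_pos
      A := fun _ => A
      B := fun _ => B
      M := fun _ => M
      r := fun _ => r
      cA := fun _ => inferInstanceAs (CommRing A)
      cB := fun _ => inferInstanceAs (CommRing B)
      aRA := fun _ => inferInstanceAs (Algebra R A)
      aRB := fun _ => inferInstanceAs (Algebra R B)
      aBA := fun _ => inferInstanceAs (Algebra B A)
      tRBA := fun _ => inferInstanceAs (IsScalarTower R B A)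
      aSA := inferInstanceAs (Algebra S A)
      tRSA := inferInstanceAs (IsScalarTower R S A)
      aBA' := fun _ => inferInstanceAs (Algebra B A)
      tRBA' := fun _ => inferInstanceAs (IsScalarTower R B A)
      gM := fun _ => inferInstanceAs (AddCommGroup M)
      mAM := fun _ => inferInstanceAs (Module A M)
      mBM := fun _ => inferInstanceAs (Module B M)
      tBAM := fun _ => inferInstanceAs (IsScalarTower B A M)
      mRM := fun _ => inferInstanceAs (Module R M)
      tRBM := fun _ => inferInstanceAs (IsScalarTower R B M)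
      mSM := inferInstanceAs (Module S M)
      tSAM := inferInstanceAs (IsScalarTower S A M)
      mB'M := fun _ => inferInstanceAs (Module B M)
      tB'AM := fun _ => inferInstanceAs (IsScalarTower B A M)
      hp := fun _ => l.hp
      α := fun _ => l.α
      surjSA := l.surjSA
      fpSA := l.fpSA
      surjBA' := fun i hi => absurd hi (by omega)
      fpBA' := fun i hi => absurd hi (by omega)
      finiteBA := fun _ _ => l.finiteBA
      smooth := fun _ _ => hsm
      geomIrred := fun _ _ => l.geomInt
      finiteM := fun _ _ => l.finiteM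
      isoN := l.iso
      isoCoker := fun i hi => absurd hi (by omega)
      fibreIso := fun _ _ => l.fibreIso
      cokerLast := hsurj }
  refine ⟨D, ⟨?_⟩⟩
  exact
    { qB := fun _ => qB
      qA := fun _ => qA
      hqB := fun _ => (inferInstance : qB.IsPrime)
      hqA := fun _ => (inferInstance : qA.IsPrime)
      overB := fun _ => (inferInstance : qB.LiesOver p)
      overA := fun _ => l.overA
      pureTrans := fun _ _ => l.pureTrans
      uniq := fun _ _ => l.uniq
      q0 := l.q0
      qStep := fun i hi => absurd hi (show ¬ i + 1 < 1 by omega)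
      d := fun _ => l.d
      relDim := fun _ _ => l.relDim
      locDim := fun _ _ => l.locDim }

set_option maxHeartbeats 3200000 in
/-- A complete dévissage of the cokernel extends to one of the module. -/
theorem hasCDA_cons [Module R M] [IsScalarTower R B M] (l : Layer R S A B N M p q qB qA r)
    (h : FlatCA.HasCompleteDevissageAt R B (M ⧸ LinearMap.range l.α) p qB) :
    FlatCA.HasCompleteDevissageAt R S N p q := by
  haveI := l.hp
  haveI := l.overA
  haveI hsm := smooth_of_smoothRelDim l.relDim
  obtain ⟨E, ⟨F⟩⟩ := h
  let A' : ℕ → Type u := fun i => Nat.casesOn (motive := fun _ => Type u) i A E.A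
  let B' : ℕ → Type u := fun i => Nat.casesOn (motive := fun _ => Type u) i B E.B
  let M' : ℕ → Type u := fun i => Nat.casesOn (motive := fun _ => Type u) i M E.M
  let r' : ℕ → ℕ := fun i => Nat.casesOn (motive := fun _ => ℕ) i r E.r
  letI cA : ∀ i, CommRing (A' i) := by intro i; cases i; exacts [inferInstanceAs (CommRing A), E.cA _]
  letI cB : ∀ i, CommRing (B' i) := by intro i; cases i; exacts [inferInstanceAs (CommRing B), E.cB _]
  letI aRA : ∀ i, Algebra R (A' i) := by intro i; cases i; exacts [inferInstanceAs (Algebra R A), E.aRA _]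
  letI aRB : ∀ i, Algebra R (B' i) := by intro i; cases i; exacts [inferInstanceAs (Algebra R B), E.aRB _]
  letI aBA : ∀ i, Algebra (B' i) (A' i) := by intro i; cases i; exacts [inferInstanceAs (Algebra B A), E.aBA _]
  letI aSA : Algebra S (A' 0) := inferInstanceAs (Algebra S A)
  letI aBA' : ∀ i, Algebra (B' i) (A' (i + 1)) := fun i => by cases i; exacts [E.aSA, E.aBA' _]
  letI gM : ∀ i, AddCommGroup (M' i) := by intro i; cases i; exacts [inferInstanceAs (AddCommGroup M), E.gM _]
  letI mAM : ∀ i, Module (A' i) (M' i) := by intro i; cases i; exacts [inferInstanceAs (Module A M), E.mAM _]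
  letI mBM : ∀ i, Module (B' i) (M' i) := by intro i; cases i; exacts [inferInstanceAs (Module B M), E.mBM _]
  letI mRM : ∀ i, Module R (M' i) := by intro i; cases i; exacts [inferInstanceAs (Module R M), E.mRM _]
  letI mSM : Module S (M' 0) := inferInstanceAs (Module S M)
  letI mB'M : ∀ i, Module (B' i) (M' (i + 1)) := fun i => by cases i; exacts [E.mSM, E.mB'M _]
  let α' : ∀ i, (Fin (r' i) → B' i) →ₗ[B' i] M' i := fun i => by cases i; exacts [l.α, E.α _]
  let D : FlatCA.CompleteDevissage R S N p :=
    { n := E.n + 1
      pos := Nat.succ_pos _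
      A := A'
      B := B'
      M := M'
      r := r'
      tRBA := fun i => by cases i; exacts [inferInstanceAs (IsScalarTower R B A), E.tRBA _]
      tRSA := inferInstanceAs (IsScalarTower R S A)
      tRBA' := fun i => by cases i; exacts [E.tRSA, E.tRBA' _]
      tBAM := fun i => by cases i; exacts [inferInstanceAs (IsScalarTower B A M), E.tBAM _]
      tRBM := fun i => by cases i; exacts [inferInstanceAs (IsScalarTower R B M), E.tRBM _]
      tSAM := inferInstanceAs (IsScalarTower S A M)
      tB'AM := fun i => by cases i; exacts [E.tSAM, E.tB'AM _]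
      hp := fun i => by cases i; exacts [l.hp, E.hp _]
      α := α'
      surjSA := l.surjSA
      fpSA := l.fpSA
      surjBA' := fun i hi => by cases i; exacts [E.surjSA, E.surjBA' _ (Nat.lt_of_succ_lt_succ hi)]
      fpBA' := fun i hi => by cases i; exacts [E.fpSA, E.fpBA' _ (Nat.lt_of_succ_lt_succ hi)]
      finiteBA := fun i hi => by cases i; exacts [l.finiteBA, E.finiteBA _ (Nat.lt_of_succ_lt_succ hi)]
      smooth := fun i hi => by cases i; exacts [hsm, E.smooth _ (Nat.lt_of_succ_lt_succ hi)]
      geomIrred := fun i hi => by cases i; exacts [l.geomInt, E.geomIrred _ (Nat.lt_of_succ_lt_succ hi)]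
      finiteM := fun i hi => by cases i; exacts [l.finiteM, E.finiteM _ (Nat.lt_of_succ_lt_succ hi)]
      isoN := l.iso
      isoCoker := fun i hi => by cases i; exacts [E.isoN, E.isoCoker _ (Nat.lt_of_succ_lt_succ hi)]
      fibreIso := fun i hi => by cases i; exacts [l.fibreIso, E.fibreIso _ (Nat.lt_of_succ_lt_succ hi)]
      cokerLast := by
        have hpos := E.pos
        have h := E.cokerLast
        show Function.Surjective (α' E.n)
        revert h
        generalize E.n = m at hpos ⊢
        obtain ⟨k, rfl⟩ : ∃ k, m = k + 1 := ⟨m - 1, by omega⟩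
        exact fun h => h }
  haveI := F.hqB
  haveI := F.hqA
  refine ⟨D, ⟨?_⟩⟩
  let qB' : ∀ i, Ideal (B' i) := fun i => by cases i; exacts [qB, F.qB _]
  let qA' : ∀ i, Ideal (A' i) := fun i => by cases i; exacts [qA, F.qA _]
  let d' : ℕ → ℕ := fun i => Nat.casesOn (motive := fun _ => ℕ) i l.d F.d
  exact
    { qB := qB'
      qA := qA'
      hqB := fun i => by cases i; exacts [inferInstance, F.hqB _]
      hqA := fun i => by cases i; exacts [inferInstance, F.hqA _]
      overB := fun i => by cases i; exacts [inferInstanceAs (qB.LiesOver p), F.overB _]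
      overA := fun i => by cases i; exacts [l.overA, F.overA _]
      pureTrans := fun i hi => by cases i; exacts [l.pureTrans, F.pureTrans _ (Nat.lt_of_succ_lt_succ hi)]
      uniq := fun i hi => by cases i; exacts [l.uniq, F.uniq _ (Nat.lt_of_succ_lt_succ hi)]
      q0 := l.q0
      qStep := fun i hi => by cases i; exacts [F.q0, F.qStep _ (Nat.lt_of_succ_lt_succ hi)]
      d := d'
      relDim := fun i hi => by cases i; exacts [l.relDim, F.relDim _ (Nat.lt_of_succ_lt_succ hi)]
      locDim := fun i hi => by cases i; exacts [l.locDim, F.locDim _ (Nat.lt_of_succ_lt_succ hi)] }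

end

/-- Complete dévissages only depend on the isomorphism class of the module. -/
theorem hasCDA_congr {R S : Type u} [CommRing R] [CommRing S] [Algebra R S] {N N' : Type u} [AddCommGroup N]
    [Module S N] [AddCommGroup N'] [Module S N'] (e : N' ≃ₗ[S] N) {p : Ideal R} [p.IsPrime] {q : Ideal S}
    [q.IsPrime] (h : FlatCA.HasCompleteDevissageAt R S N p q) : FlatCA.HasCompleteDevissageAt R S N' p q := by
  obtain ⟨E, ⟨F⟩⟩ := h
  haveI := F.hqB
  haveI := F.hqA
  refine ⟨{ n := E.n, pos := E.pos, A := E.A, B := E.B, M := E.M, r := E.r, α := E.α, surjSA := E.surjSA,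
            fpSA := E.fpSA, surjBA' := E.surjBA', fpBA' := E.fpBA', finiteBA := E.finiteBA, smooth := E.smooth,
            geomIrred := E.geomIrred, finiteM := E.finiteM, isoN := e.trans E.isoN, isoCoker := E.isoCoker,
            fibreIso := E.fibreIso, cokerLast := E.cokerLast }, ⟨?_⟩⟩
  exact { qB := F.qB, qA := F.qA, overB := F.overB, overA := F.overA, pureTrans := F.pureTrans, uniq := F.uniq,
          q0 := F.q0, qStep := F.qStep, d := F.d, relDim := F.relDim, locDim := F.locDim }

end Groth.Agent.RG11
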