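import Groth.Agent.RG11.StdGeneral
import Mathlib

/-!
# Shrinking smooth algebras at points with purely transcendental residue field
-/

universe u

set_option linter.style.haveILetI false

namespace Groth.Agent.RG11

open Polynomial TensorProduct

variable {n : ℕ}

/-- A point with purely transcendental residue field over `p` has, after an étale neighbourhood of `p`,
a standard étale neighbourhood with geometrically integral fibres, projective over the base. -/
theorem exists_std_shrink_rat {R : Type u} [CommRing R] (Q : StandardEtalePair (MvPolynomial (Fin n) R))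
    (p : Ideal R) [p.IsPrime]
    (L : Type u) [Field L] [Algebra p.ResidueField L] [Algebra R L] [IsScalarTower R p.ResidueField L]
    (u : Fin n → L) (x : L) {m : ℕ} (v : Fin m → L) (hv : AlgebraicIndependent p.ResidueField v)
    (hrat : ∀ w, (w = x ∨ ∃ i, w = u i) → ∃ a b : MvPolynomial (Fin m) p.ResidueField,
      MvPolynomial.aeval v b ≠ 0 ∧ w * MvPolynomial.aeval v b = MvPolynomial.aeval v a)
    (hf : evW (algebraMap R L) u x Q.f = 0) (hg : evW (algebraMap R L) u x Q.g ≠ 0) :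
    ∃ (R' : Type u) (_ : CommRing R') (_ : Algebra R R') (θ : R' →ₐ[R] p.ResidueField) (G : W n R'),
      Algebra.Etale R R' ∧
      evW ((algebraMap p.ResidueField L).comp θ.toRingHom) u x G ≠ 0 ∧
      FlatCA.GeomIntegralFibres R' (mulPair (mapPair Q (algebraMap R R')) G).Ring ∧
      Module.Projective R' (mulPair (mapPair Q (algebraMap R R')) G).Ring := by
  classical
  obtain ⟨p₁, p₂, mc, e⟩ := Q.cond
  let w : Option (Fin n) → L := fun o => o.elim x u
  have hw : ∀ o, ∃ (sa : R) (α : MvPolynomial (Fin m) R) (sb : R) (β : MvPolynomial (Fin m) R)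
      (a b : MvPolynomial (Fin m) p.ResidueField), sa ∉ p ∧ sb ∉ p ∧ MvPolynomial.aeval v b ≠ 0 ∧
      w o * MvPolynomial.aeval v b = MvPolynomial.aeval v a ∧
      MvPolynomial.map (algebraMap R p.ResidueField) α = MvPolynomial.C (algebraMap R p.ResidueField sa) * a ∧
      MvPolynomial.map (algebraMap R p.ResidueField) β = MvPolynomial.C (algebraMap R p.ResidueField sb) * b := by
    intro o
    obtain ⟨a, b, hb0, hab⟩ := hrat (w o) (by cases o <;> simp [w])
    obtain ⟨sa, α, hsa, hα⟩ := exists_lift_mul p a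
    obtain ⟨sb, β, hsb, hβ⟩ := exists_lift_mul p b
    exact ⟨sa, α, sb, β, a, b, hsa, hsb, hb0, hab, hα, hβ⟩
  choose sa α sb β a b hsa hsb hb0 hxab hα hβ using hw
  let co : Finset R := coeffsW Q.f ∪ coeffsW Q.g ∪ coeffsW p₁ ∪ coeffsW p₂ ∪
    Finset.univ.biUnion fun o => (α o).coeffs ∪ (β o).coeffs ∪ {sa o, sb o}
  let R₀ := Algebra.adjoin ℤ (co : Set R)
  haveI : Algebra.FiniteType ℤ R₀ :=
    R₀.fg_iff_finiteType.1 (Subalgebra.fg_adjoin_finset co)
  haveI : IsNoetherianRing R₀ := Algebra.FiniteType.isNoetherianRing ℤ R₀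
  have hmem : ∀ c ∈ co, c ∈ Set.range (algebraMap R₀ R) := fun c hc => ⟨⟨c, Algebra.subset_adjoin hc⟩, rfl⟩
  have hinj : Function.Injective (algebraMap R₀ R) := Subtype.val_injective
  obtain ⟨f₀, hf₀⟩ := mem_range_mapW (algebraMap R₀ R) Q.f fun c hc => hmem c (by simp [co, Finset.mem_coe.1 hc])
  obtain ⟨g₀, hg₀⟩ := mem_range_mapW (algebraMap R₀ R) Q.g fun c hc => hmem c (by simp [co, Finset.mem_coe.1 hc])
  obtain ⟨q₁, hq₁⟩ := mem_range_mapW (algebraMap R₀ R) p₁ fun c hc => hmem c (by simp [co, Finset.mem_coe.1 hc])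
  obtain ⟨q₂, hq₂⟩ := mem_range_mapW (algebraMap R₀ R) p₂ fun c hc => hmem c (by simp [co, Finset.mem_coe.1 hc])
  have hco : ∀ o c, c ∈ (α o).coeffs ∪ (β o).coeffs ∪ {sa o, sb o} → c ∈ co := fun o c hc =>
    Finset.mem_union_right _ (Finset.mem_biUnion.2 ⟨o, Finset.mem_univ o, hc⟩)
  have hex : ∀ o, ∃ (sa₀ sb₀ : R₀) (α₀ β₀ : MvPolynomial (Fin m) R₀), algebraMap R₀ R sa₀ = sa o ∧
      algebraMap R₀ R sb₀ = sb o ∧ MvPolynomial.map (algebraMap R₀ R) α₀ = α o ∧
      MvPolynomial.map (algebraMap R₀ R) β₀ = β o := fun o => by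
    obtain ⟨α₀, hα₀⟩ := MvPolynomial.mem_range_map_iff_coeffs_subset.2
      (fun c hc => hmem c (hco o c (by simp [Finset.mem_coe.1 hc])) : ((α o).coeffs : Set R) ⊆ Set.range (algebraMap R₀ R))
    obtain ⟨β₀, hβ₀⟩ := MvPolynomial.mem_range_map_iff_coeffs_subset.2
      (fun c hc => hmem c (hco o c (by simp [Finset.mem_coe.1 hc])) : ((β o).coeffs : Set R) ⊆ Set.range (algebraMap R₀ R))
    obtain ⟨sa₀, hsa₀⟩ := hmem (sa o) (hco o _ (by simp))
    obtain ⟨sb₀, hsb₀⟩ := hmem (sb o) (hco o _ (by simp))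
    exact ⟨sa₀, sb₀, α₀, β₀, hsa₀, hsb₀, hα₀, hβ₀⟩
  choose sa₀ sb₀ α₀ β₀ hsa₀ hsb₀ hα₀ hβ₀ using hex
  let Q₀ : StandardEtalePair (MvPolynomial (Fin n) R₀) :=
    { f := f₀
      monic_f := Polynomial.monic_of_injective (MvPolynomial.map_injective _ hinj) (by
        rw [show f₀.map (MvPolynomial.map (algebraMap R₀ R)) = Q.f from hf₀]; exact Q.monic_f)
      g := g₀
      cond := ⟨q₁, q₂, mc, mapW_injective _ hinj (by
        rw [map_add, map_mul, map_mul, map_pow, hf₀, hg₀, hq₁, hq₂, ← e]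
        congr 2
        show (derivative f₀).map (MvPolynomial.map (algebraMap R₀ R)) = derivative Q.f
        rw [← Polynomial.derivative_map, show f₀.map (MvPolynomial.map (algebraMap R₀ R)) = Q.f from hf₀])⟩ }
  let p₀ := p.comap (algebraMap R₀ R)
  let κι : p₀.ResidueField →+* p.ResidueField := Ideal.ResidueField.map p₀ p (algebraMap R₀ R) rfl
  letI : Algebra p₀.ResidueField L := ((algebraMap p.ResidueField L).comp κι).toAlgebra
  have hκι : ∀ c : R₀, κι (algebraMap R₀ p₀.ResidueField c) = algebraMap R p.ResidueField (algebraMap R₀ R c) :=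
    fun c => Ideal.ResidueField.map_algebraMap _ _ _ _ c
  haveI : IsScalarTower R₀ p₀.ResidueField L := IsScalarTower.of_algebraMap_eq fun c => by
    show algebraMap R L (algebraMap R₀ R c) = algebraMap p.ResidueField L (κι (algebraMap R₀ p₀.ResidueField c))
    rw [hκι]
    exact IsScalarTower.algebraMap_apply R p.ResidueField L _
  letI : Algebra p₀.ResidueField p.ResidueField := κι.toAlgebra
  haveI : IsScalarTower p₀.ResidueField p.ResidueField L := IsScalarTower.of_algebraMap_eq fun _ => rfl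
  have hu' : AlgebraicIndependent p₀.ResidueField v :=
    hv.restrictScalars κι.injective
  let L₀ := IntermediateField.adjoin p₀.ResidueField (Set.range v)
  have hevL : ∀ F : MvPolynomial (Fin m) R₀, MvPolynomial.eval₂ (algebraMap R₀ L) v F ∈ L₀ := fun F => by
    induction F using MvPolynomial.induction_on with
    | C c =>
      rw [MvPolynomial.eval₂_C, IsScalarTower.algebraMap_apply R₀ p₀.ResidueField L]
      exact L₀.algebraMap_mem _
    | add F G hF hG => rw [MvPolynomial.eval₂_add]; exact add_mem hF hG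
    | mul_X F i hF =>
      rw [MvPolynomial.eval₂_mul, MvPolynomial.eval₂_X]
      exact mul_mem hF (IntermediateField.subset_adjoin _ _ ⟨i, rfl⟩)
  have hev : ∀ (c : MvPolynomial (Fin m) p.ResidueField) (s : R) (γ : MvPolynomial (Fin m) R)
      (γ₀ : MvPolynomial (Fin m) R₀),
      MvPolynomial.map (algebraMap R p.ResidueField) γ = MvPolynomial.C (algebraMap R p.ResidueField s) * c →
      MvPolynomial.map (algebraMap R₀ R) γ₀ = γ →
      MvPolynomial.eval₂ (algebraMap R₀ L) v γ₀ = algebraMap R L s * MvPolynomial.aeval v c := by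
    intro c s γ γ₀ hγ hγ₀
    have h1 := congrArg (MvPolynomial.aeval (R := p.ResidueField) v) hγ
    rw [map_mul, MvPolynomial.aeval_C, ← IsScalarTower.algebraMap_apply, MvPolynomial.aeval_map_algebraMap,
      ← hγ₀, MvPolynomial.aeval_def, MvPolynomial.eval₂_map] at h1
    exact h1
  have hs0 : ∀ s : R, s ∉ p → algebraMap R L s ≠ 0 := fun s hs => by
    rw [IsScalarTower.algebraMap_apply R p.ResidueField L]
    exact (_root_.map_ne_zero _).2 fun h => hs (Ideal.algebraMap_residueField_eq_zero.1 h)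
  have hsL : ∀ (s : R) (s₀ : R₀), algebraMap R₀ R s₀ = s → algebraMap R L s ∈ L₀ := fun s s₀ hs => by
    have := hevL (MvPolynomial.C s₀)
    rw [MvPolynomial.eval₂_C] at this
    rw [← hs]
    exact this
  have hwL : ∀ o, w o ∈ L₀ := fun o => by
    have ha' := hev (a o) (sa o) (α o) (α₀ o) (hα o) (hα₀ o)
    have hb' := hev (b o) (sb o) (β o) (β₀ o) (hβ o) (hβ₀ o)
    have hx' : w o = MvPolynomial.eval₂ (algebraMap R₀ L) v (α₀ o) * algebraMap R L (sb o) /
        (MvPolynomial.eval₂ (algebraMap R₀ L) v (β₀ o) * algebraMap R L (sa o)) := by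
      rw [eq_div_iff (mul_ne_zero (hb'.symm ▸ mul_ne_zero (hs0 _ (hsb o)) (hb0 o)) (hs0 _ (hsa o))), ha', hb']
      linear_combination (algebraMap R L (sa o) * algebraMap R L (sb o)) * hxab o
    rw [hx']
    exact div_mem (mul_mem (hevL _) (hsL _ _ (hsb₀ o))) (mul_mem (hevL _) (hsL _ _ (hsa₀ o)))
  have hxL : x ∈ L₀ := hwL none
  have huL : ∀ i, u i ∈ L₀ := fun i => hwL (some i)
  have hval : L₀.val.toRingHom.comp (algebraMap R₀ L₀) = algebraMap R₀ L :=
    RingHom.ext fun c => rfl
  let u₀ : Fin n → L₀ := fun i => ⟨u i, huL i⟩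
  let x₀ : L₀ := ⟨x, hxL⟩
  have htr : ∀ F : W n R₀, L₀.val.toRingHom (evW (algebraMap R₀ L₀) u₀ x₀ F) =
      evW (algebraMap R L) u x (mapW (algebraMap R₀ R) F) := fun F => by
    rw [evW_mapW]
    rw [map_evW, hval]
    rfl
  obtain ⟨R₁, _, _, θ₁, G₁, het, hG₁, hgeom, hproj⟩ := exists_std_shrink_noeth Q₀ p₀ L₀
    (fun K _ _ _ => isDomain_tensor_adjoin _ hu') u₀ x₀
    (L₀.val.toRingHom.injective (by rw [map_zero, htr, hf₀]; exact hf))
    (fun h => hg (by rw [← hg₀, ← htr, h, map_zero]))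
  haveI := het
  haveI := hproj
  refine std_shrink_baseChange Q₀ Q (ext_pair hf₀ hg₀) p L u x R₁ (κι.comp θ₁.toRingHom)
    (RingHom.ext fun c => (congrArg κι (θ₁.commutes c)).trans (hκι c)) G₁ ?_ hgeom
  intro h
  refine hG₁ (L₀.val.toRingHom.injective ?_)
  rw [map_zero]
  rw [map_evW, ← h]
  rfl

/-- Multiplying the second polynomial is a principal localisation. -/
theorem nonempty_mulPair_equiv {T : Type u} [CommRing T] (P : StandardEtalePair T) (h : T[X]) :
    Nonempty (Localization.Away (aeval P.X h) ≃ₐ[T] (mulPair P h).Ring) := by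
  let M := mulPair P h
  let B := Localization.Away (aeval P.X h)
  have h1 : P.HasMap M.X := ⟨M.hasMap_X.1, by
    have := M.hasMap_X.2
    rw [show M.g = P.g * h from rfl, map_mul] at this
    exact isUnit_of_mul_isUnit_left this⟩
  let f : P.Ring →ₐ[T] M.Ring := P.lift M.X h1
  have hfh : IsUnit (f (aeval P.X h)) := by
    rw [← aeval_algHom_apply, StandardEtalePair.lift_X]
    have := M.hasMap_X.2
    rw [show M.g = P.g * h from rfl, map_mul] at this
    exact isUnit_of_mul_isUnit_right this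
  let g : B →ₐ[T] M.Ring := IsLocalization.liftAlgHom (M := Submonoid.powers (aeval P.X h)) (f := f) (by
    rintro ⟨_, k, rfl⟩
    simpa only [map_pow] using hfh.pow k)
  let j : P.Ring →ₐ[T] B := IsScalarTower.toAlgHom T P.Ring B
  have h2 : M.HasMap (j P.X) := ⟨by
    show aeval (j P.X) P.f = 0
    rw [aeval_algHom_apply, P.hasMap_X.1, map_zero], by
    show IsUnit (aeval (j P.X) (P.g * h))
    rw [aeval_algHom_apply, map_mul, map_mul]
    exact (P.hasMap_X.2.map j).mul (IsLocalization.Away.algebraMap_isUnit (aeval P.X h))⟩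
  refine ⟨AlgEquiv.ofAlgHom g (M.lift (j P.X) h2) ?_ ?_⟩
  · refine StandardEtalePair.hom_ext ?_
    show g (M.lift (j P.X) h2 M.X) = M.X
    rw [StandardEtalePair.lift_X]
    exact (IsLocalization.lift_eq _ _).trans (StandardEtalePair.lift_X _ _ _)
  · refine IsLocalization.algHom_ext (Submonoid.powers (aeval P.X h)) (StandardEtalePair.hom_ext ?_)
    show M.lift (j P.X) h2 (g (j P.X)) = j P.X
    rw [show g (j P.X) = f P.X from IsLocalization.lift_eq _ _, StandardEtalePair.lift_X, StandardEtalePair.lift_X]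

set_option maxHeartbeats 800000 in
/-- A smooth algebra has, at a point whose residue field is purely transcendental, after an étale
neighbourhood of the base, a principal open with geometrically integral fibres. -/
theorem exists_shrink_smooth {R₁ D₁ : Type u} [CommRing R₁] [CommRing D₁] [Algebra R₁ D₁] [Algebra.Smooth R₁ D₁]
    (p : Ideal R₁) [p.IsPrime] (L : Type u) [Field L] [Algebra p.ResidueField L] [Algebra R₁ L]
    [IsScalarTower R₁ p.ResidueField L] (χ : D₁ →ₐ[R₁] L) {m : ℕ} (v : Fin m → L)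
    (hv : AlgebraicIndependent p.ResidueField v)
    (hgen : ∀ z : L, ∃ a b : MvPolynomial (Fin m) p.ResidueField,
      MvPolynomial.aeval v b ≠ 0 ∧ z * MvPolynomial.aeval v b = MvPolynomial.aeval v a) :
    ∃ (R₂ : Type u) (_ : CommRing R₂) (_ : Algebra R₁ R₂) (θ₂ : R₂ →ₐ[R₁] p.ResidueField) (g₀ : R₂ ⊗[R₁] D₁),
      Algebra.Etale R₁ R₂ ∧
      Algebra.TensorProduct.lift ((IsScalarTower.toAlgHom R₁ p.ResidueField L).comp θ₂) χ
        (fun _ _ => .all _ _) g₀ ≠ 0 ∧
      FlatCA.GeomIntegralFibres R₂ (Localization.Away g₀) := by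
  haveI : (RingHom.ker χ.toRingHom).IsPrime := RingHom.ker_isPrime χ.toRingHom
  haveI : Algebra.IsSmoothAt R₁ (RingHom.ker χ.toRingHom) := inferInstance
  obtain ⟨f, hf, nn, _, _, hstd⟩ :=
    Algebra.IsSmoothAt.exists_isStandardEtale_mvPolynomial (R := R₁) (p := RingHom.ker χ.toRingHom)
  haveI := hstd
  obtain ⟨pres⟩ := hstd.nonempty_standardEtalePresentation
  let Q := pres.P
  let eQ : Q.Ring ≃ₐ[R₁] Localization.Away f :=
    AlgEquiv.ofRingEquiv (f := pres.equivRing.symm.toRingEquiv) fun r => by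
      show pres.equivRing.symm (algebraMap (MvPolynomial (Fin nn) R₁) Q.Ring (MvPolynomial.C r)) = _
      rw [AlgEquiv.commutes, ← MvPolynomial.algebraMap_eq, ← IsScalarTower.algebraMap_apply]
  let χf : Localization.Away f →ₐ[R₁] L := IsLocalization.liftAlgHom (M := Submonoid.powers f) (f := χ) (by
    rintro ⟨_, k, rfl⟩
    rw [map_pow]
    exact (isUnit_iff_ne_zero.2 hf).pow k)
  let χQ : Q.Ring →ₐ[R₁] L := χf.comp eQ.toAlgHom
  have hψ : χQ.toRingHom.comp (algebraMap R₁ Q.Ring) = algebraMap R₁ L := RingHom.ext χQ.commutes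
  obtain ⟨R₂, _, _, θ, G, het, hG, hgi, -⟩ := exists_std_shrink_rat Q p L (stdPt Q χQ.toRingHom).1
    (stdPt Q χQ.toRingHom).2 v hv (fun w _ => hgen w)
    (by rw [← hψ]; exact evW_f_eq_zero Q χQ.toRingHom)
    (by rw [← hψ]; exact (isUnit_evW_g Q χQ.toRingHom).ne_zero)
  haveI := het
  let P := mapPair Q (algebraMap R₁ R₂)
  let b : R₂ ⊗[R₁] D₁ := (1 : R₂) ⊗ₜ[R₁] f
  obtain ⟨eB, heBu, heBx⟩ := exists_baseEquiv (A := R₂) Q
  let eT : R₂ ⊗[R₁] Localization.Away f ≃ₐ[R₂] Localization.Away b :=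
    IsLocalization.Away.tensorProductEquivTMulRight R₁ R₂ f (Localization.Away f)
  let eP : P.Ring ≃ₐ[R₂] Localization.Away b :=
    eB.symm.trans ((Algebra.TensorProduct.congr (AlgEquiv.refl (R := R₂) (A₁ := R₂)) eQ).trans eT)
  let gG : P.Ring := aeval P.X G
  let g : Localization.Away b := eP gG
  obtain ⟨a, ⟨_, k, rfl⟩, hag⟩ := IsLocalization.exists_mk'_eq (Submonoid.powers b) g
  let g₀ := b * a
  haveI hg₀ : IsLocalization.Away g₀ (Localization.Away g) := by
    suffices IsLocalization.Away (algebraMap (R₂ ⊗[R₁] D₁) (Localization.Away b) a) (Localization.Away g) from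
      .mul' (Localization.Away b) _ b a
    refine IsLocalization.Away.of_associated (r := g)
      ⟨(IsLocalization.Away.algebraMap_pow_isUnit b k).unit, ?_⟩
    simp only [← hag, IsUnit.unit_spec, ← map_pow]
    exact IsLocalization.mk'_spec _ a _
  obtain ⟨eM⟩ := nonempty_mulPair_equiv P G
  let e1 : Localization.Away gG ≃ₐ[R₂] Localization.Away g :=
    IsLocalization.algEquivOfAlgEquiv (M := Submonoid.powers gG) (T := Submonoid.powers g)
      (Localization.Away gG) (Localization.Away g) eP (Submonoid.map_powers _ _)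
  let e2 : Localization.Away g ≃ₐ[R₂] Localization.Away g₀ :=
    (IsLocalization.algEquiv (Submonoid.powers g₀) (Localization.Away g) (Localization.Away g₀)).restrictScalars R₂
  refine ⟨R₂, _, _, θ, g₀, het, ?_, geomIntegralFibres_of_equiv
    (((eM.restrictScalars R₂).symm.trans e1).trans e2) hgi⟩
  let χ₂ := Algebra.TensorProduct.lift ((IsScalarTower.toAlgHom R₁ p.ResidueField L).comp θ) χ
    (fun _ _ => .all _ _)
  have hb : χ₂ b = χ f := by
    simp [χ₂, b]
  have hbu : IsUnit (χ₂ b) := by rw [hb]; exact isUnit_iff_ne_zero.2 hf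
  let χb : Localization.Away b →+* L := IsLocalization.Away.lift b (g := χ₂.toRingHom) hbu
  have hχb : ∀ z, χb (algebraMap _ _ z) = χ₂ z := IsLocalization.Away.lift_eq b hbu
  let ξ : P.Ring →+* L := χb.comp eP.toRingEquiv.toRingHom
  have hξt : ∀ (r : R₂) (w : Q.Ring),
      χb (eT ((Algebra.TensorProduct.congr (AlgEquiv.refl (R := R₂) (A₁ := R₂)) eQ) (r ⊗ₜ[R₁] w))) =
        algebraMap p.ResidueField L (θ r) * χQ w := fun r w => by
    show χb (eT (r ⊗ₜ[R₁] eQ w)) = algebraMap p.ResidueField L (θ r) * χf (eQ w)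
    generalize eQ w = z
    obtain ⟨a₁, s, rfl⟩ := IsLocalization.exists_mk'_eq (Submonoid.powers f) z
    have hs : IsUnit (χ (s : D₁)) := by
      obtain ⟨j, hj⟩ := s.2
      rw [← hj]
      show IsUnit (χ (f ^ j))
      rw [map_pow]
      exact (isUnit_iff_ne_zero.2 hf).pow j
    refine hs.mul_right_cancel ?_
    have h1 : ∀ d : D₁, eT ((1 : R₂) ⊗ₜ[R₁] algebraMap D₁ (Localization.Away f) d) =
        algebraMap _ (Localization.Away b) ((1 : R₂) ⊗ₜ[R₁] d) := fun d => by
      simp [eT, b]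
    have h2 : r ⊗ₜ[R₁] IsLocalization.mk' (Localization.Away f) a₁ s *
        ((1 : R₂) ⊗ₜ[R₁] algebraMap D₁ (Localization.Away f) (s : D₁)) =
        algebraMap R₂ _ r * ((1 : R₂) ⊗ₜ[R₁] algebraMap D₁ (Localization.Away f) a₁) := by
      rw [Algebra.TensorProduct.algebraMap_apply, Algebra.TensorProduct.tmul_mul_tmul,
        Algebra.TensorProduct.tmul_mul_tmul, mul_one, one_mul, IsLocalization.mk'_spec]
      simp
    have h3 := congrArg (fun z => χb (eT z)) h2
    simp only [map_mul, h1, hχb, eT.commutes] at h3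
    rw [IsScalarTower.algebraMap_apply R₂ (R₂ ⊗[R₁] D₁) (Localization.Away b), hχb] at h3
    have h4 : ∀ d : D₁, χ₂ ((1 : R₂) ⊗ₜ[R₁] d) = χ d := fun d => by simp [χ₂]
    have h5 : ∀ d : D₁, χf (algebraMap D₁ _ d) = χ d := fun d => IsLocalization.lift_eq _ _
    rw [show χ₂ (algebraMap R₂ (R₂ ⊗[R₁] D₁) r) = algebraMap p.ResidueField L (θ r) by simp [χ₂], h4, h4] at h3
    rw [mul_assoc, show χf (IsLocalization.mk' (Localization.Away f) a₁ s) * χ (s : D₁) = χ a₁ by
      rw [← h5 (s : D₁), ← map_mul, IsLocalization.mk'_spec, h5]]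
    exact h3
  have hξR : ξ.comp (algebraMap R₂ P.Ring) = (algebraMap p.ResidueField L).comp θ.toRingHom := RingHom.ext fun r => by
    show χb (eP (algebraMap R₂ P.Ring r)) = algebraMap p.ResidueField L (θ r)
    rw [AlgEquiv.commutes, IsScalarTower.algebraMap_apply R₂ (R₂ ⊗[R₁] D₁) (Localization.Away b), hχb]
    simp [χ₂]
  have hξp : stdPt P ξ = stdPt Q χQ.toRingHom := Prod.ext (funext fun i => by
    show χb (eT ((Algebra.TensorProduct.congr (AlgEquiv.refl (R := R₂) (A₁ := R₂)) eQ)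
      (eB.symm (algebraMap (MvPolynomial (Fin nn) R₂) P.Ring (MvPolynomial.X i))))) = χQ _
    rw [show eB.symm (algebraMap (MvPolynomial (Fin nn) R₂) P.Ring (MvPolynomial.X i)) = _ from heBu i, hξt, map_one,
      map_one, one_mul]) (by
    show χb (eT ((Algebra.TensorProduct.congr (AlgEquiv.refl (R := R₂) (A₁ := R₂)) eQ) (eB.symm P.X))) = χQ _
    rw [show eB.symm P.X = _ from heBx, hξt, map_one, map_one, one_mul])
  have hne : χb g ≠ 0 := by
    have h := comp_aeval_X P ξ G
    rw [hξR, hξp] at h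
    exact fun h0 => hG (h.symm.trans h0)
  intro h0
  refine hne ?_
  refine (hbu.pow k).mul_left_eq_zero.1 ?_
  rw [← map_pow, ← hχb, ← map_mul, ← hag, IsLocalization.mk'_spec, hχb]
  exact (mul_eq_zero.1 ((map_mul χ₂ b a).symm.trans h0)).resolve_left hbu.ne_zero

end Groth.Agent.RG11
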