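import Groth.Agent.RG11.ElemDev
import Groth.Agent.RG11.ShrinkSmooth
import Groth.Agent.RG11.GoodStep
import Groth.Agent.RG11.LiftEtale
import Groth.Agent.RG11.CDAux
import Mathlib

/-!
# Existence of complete dévissages after étale localisation
-/

universe u

set_option linter.style.haveILetI false

namespace Groth.Agent.RG11

open TensorProduct Order
open FlatFibres (fibSupp)

/-- After étale neighbourhoods, `N` has stable complete dévissages. -/
def HasGood {R S : Type u} [CommRing R] [CommRing S] [Algebra R S] (p : Ideal R) (q : Ideal S) (N : Type u)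
    [AddCommGroup N] [Module S N] : Prop :=
  ∃ (R₁ S₁ N₁ : Type u) (_ : CommRing R₁) (_ : CommRing S₁) (_ : Algebra R R₁) (_ : Algebra S S₁)
    (_ : Algebra R₁ S₁) (_ : AddCommGroup N₁) (_ : Module S₁ N₁) (_ : Module S N₁) (_ : IsScalarTower S S₁ N₁)
    (p₁ : Ideal R₁) (q₁ : Ideal S₁) (_ : p₁.IsPrime) (_ : q₁.IsPrime) (φ : N →ₗ[S] N₁),
    Algebra.Etale R R₁ ∧ Algebra.Etale S S₁ ∧ TrivExt p p₁ ∧ TrivExt q q₁ ∧
      q₁.comap (algebraMap R₁ S₁) = p₁ ∧
      (∀ r, algebraMap R₁ S₁ (algebraMap R R₁ r) = algebraMap S S₁ (algebraMap R S r)) ∧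
      IsBaseChange S₁ φ ∧ Good p₁ q₁ N₁

/-- A base change of a subsingleton module is subsingleton. -/
theorem subsingleton_of_isBaseChange {A B M N : Type u} [CommRing A] [CommRing B] [Algebra A B] [AddCommGroup M]
    [Module A M] [AddCommGroup N] [Module A N] [Module B N] [IsScalarTower A B N] (f : M →ₗ[A] N)
    (hf : IsBaseChange B f) [Subsingleton M] : Subsingleton N := by
  refine subsingleton_of_forall_eq 0 fun x => hf.inductionOn x (fun x => x = 0) rfl (fun m => ?_)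
    (fun c m hm => by rw [hm, smul_zero]) fun a c ha hc => by rw [ha, hc, add_zero]
  rw [Subsingleton.elim m 0, map_zero]

/-- The base change of a module along two compatible pushouts. -/
theorem exists_pushed_module {S' S₂ D D₂ C C₂ G : Type u} [CommRing S'] [CommRing S₂] [CommRing D] [CommRing D₂]
    [CommRing C] [CommRing C₂] [Algebra S' S₂] [Algebra D D₂] [Algebra S' C] [Algebra D C] [Algebra S₂ C₂]
    [Algebra D₂ C₂] [Algebra C C₂] [Algebra S' C₂] [Algebra D C₂] [IsScalarTower S' C C₂] [IsScalarTower S' S₂ C₂]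
    [IsScalarTower D C C₂] [IsScalarTower D D₂ C₂] [Algebra.IsPushout D D₂ C C₂] [Algebra.IsPushout S' S₂ C C₂]
    [AddCommGroup G] [Module C G] [Module.Finite C G] [Module D G] [IsScalarTower D C G] [Module S' G]
    [IsScalarTower S' C G] :
    ∃ (G₂ : Type u) (_ : AddCommGroup G₂) (_ : Module C₂ G₂) (_ : Module D₂ G₂) (_ : Module S₂ G₂) (_ : Module D G₂)
      (_ : Module S' G₂) (_ : IsScalarTower D₂ C₂ G₂) (_ : IsScalarTower S₂ C₂ G₂) (_ : IsScalarTower D D₂ G₂)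
      (_ : IsScalarTower S' S₂ G₂) (_ : Module.Finite C₂ G₂) (fD : G →ₗ[D] G₂) (fS : G →ₗ[S'] G₂),
      IsBaseChange D₂ fD ∧ IsBaseChange S₂ fS := by
  refine ⟨C₂ ⊗[C] G, inferInstance, inferInstance, inferInstance, inferInstance, inferInstance, inferInstance,
    inferInstance, inferInstance, inferInstance, inferInstance, inferInstance,
    (TensorProduct.mk C C₂ G 1).restrictScalars D, (TensorProduct.mk C C₂ G 1).restrictScalars S', ?_, ?_⟩
  · refine IsBaseChange.of_equiv (Algebra.IsPushout.cancelBaseChange D D₂ C C₂ G).symm fun w => ?_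
    rw [Algebra.IsPushout.cancelBaseChange_symm_tmul, map_one]
    rfl
  · refine IsBaseChange.of_equiv (Algebra.IsPushout.cancelBaseChange S' S₂ C C₂ G).symm fun w => ?_
    rw [Algebra.IsPushout.cancelBaseChange_symm_tmul, map_one]
    rfl

/-- The cokernel over a further localisation. -/
theorem good_or_subsingleton {R₁ D₁ R₂ D₂ : Type u} [CommRing R₁] [CommRing D₁] [CommRing R₂] [CommRing D₂]
    [Algebra R₁ D₁] [Algebra R₁ R₂] {p₁ : Ideal R₁} [p₁.IsPrime] {y₁ : Ideal D₁} {p₂ : Ideal R₂} [p₂.IsPrime]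
    (hp₂ : TrivExt p₁ p₂) (g₁ : R₂ ⊗[R₁] D₁) [Algebra (R₂ ⊗[R₁] D₁) D₂] [IsLocalization.Away g₁ D₂] [Algebra R₂ D₂]
    [IsScalarTower R₂ (R₂ ⊗[R₁] D₁) D₂] [Algebra D₁ D₂]
    (hD₁ : algebraMap D₁ D₂ = (algebraMap (R₂ ⊗[R₁] D₁) D₂).comp (incR R₂))
    {y₂ : Ideal D₂} (hy : y₂.comap (algebraMap D₁ D₂) = y₁) {D : Type u} [CommRing D] [Algebra D D₁] [Algebra D D₂]
    [IsScalarTower D D₁ D₂] {Q Q₁ Q₂ : Type u} [AddCommGroup Q] [Module D Q] [AddCommGroup Q₁] [Module D₁ Q₁]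
    [Module D Q₁] [IsScalarTower D D₁ Q₁] [AddCommGroup Q₂] [Module D₂ Q₂] [Module D Q₂] [IsScalarTower D D₂ Q₂]
    (ψ : Q →ₗ[D] Q₁) (hψ : IsBaseChange D₁ ψ) (ψ₂ : Q →ₗ[D] Q₂) (hψ₂ : IsBaseChange D₂ ψ₂)
    (h : Good p₁ y₁ Q₁ ∨ Subsingleton Q₁) : Good p₂ y₂ Q₂ ∨ Subsingleton Q₂ := by
  let T := D₂ ⊗[D₁] Q₁
  let g : Q₁ →ₗ[D₁] T := TensorProduct.mk D₁ D₂ Q₁ 1
  have hg : IsBaseChange D₂ g := TensorProduct.isBaseChange D₁ Q₁ D₂
  have hc := hψ.comp hg
  let e : T ≃ₗ[D₂] Q₂ := hc.equiv.symm.trans hψ₂.equiv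
  rcases h with h | h
  · exact Or.inl ((h.shrink hp₂ g₁ hD₁ hy g hg).congr e)
  · haveI := h
    haveI := subsingleton_of_isBaseChange g hg
    exact Or.inr e.symm.toEquiv.subsingleton

set_option maxHeartbeats 1600000 in
/-- One step of the construction. -/
theorem hasGood_step {R S : Type u} [CommRing R] [CommRing S] [Algebra R S] (N : Type u) [AddCommGroup N] [Module S N]
    (p : Ideal R) [p.IsPrime] (q : Ideal S) [q.IsPrime] (n : ℕ) (E : FlatCA.ElemDevissage R S N p q n)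
    {P : Ideal E.D} [P.IsPrime] (hP : P = E.p'.map (algebraMap E.R' E.D))
    (hgen : (⟨P, inferInstance⟩ : PrimeSpectrum E.D) ∈ Module.support E.D E.G)
    {r : ℕ} (α : (Fin r → E.D) →ₗ[E.D] E.G) (hα : Function.Bijective (α.baseChange P.ResidueField))
    (hQ : HasGood E.p' E.y (E.G ⧸ LinearMap.range α) ∨
      ∃ d ∉ E.y, ∀ m : E.G ⧸ LinearMap.range α, d • m = 0) :
    HasGood p q N := by
  obtain ⟨hetR, hover', hbij⟩ := E.etaleR
  obtain ⟨hetS, hoverS, hbijS⟩ := E.etaleS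
  haveI := hetR
  haveI := hetS
  haveI := E.finiteDC
  haveI := E.finiteG
  haveI : Module.Finite E.D E.G := Module.Finite.trans E.C E.G
  have hpp' : TrivExt p E.p' := TrivExt.of_bijective hover' hbij
  have hqq' : TrivExt q E.q' := TrivExt.of_bijective hoverS hbijS
  have hyp' : E.y.comap (algebraMap E.R' E.D) = E.p' := E.yOver.over.symm
  have hzy : E.z.comap (algebraMap E.D E.C) = E.y := E.zOverY.over.symm
  have huniq : ∀ Q : Ideal E.C, Q.IsPrime → Q.comap (algebraMap E.D E.C) = E.y → Q = E.z := fun Q hQ h =>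
    @FlatCA.ElemDevissage.uniq _ _ _ _ _ _ _ _ _ _ _ _ _ E Q hQ ⟨h.symm⟩
  let Q := E.G ⧸ LinearMap.range α
  -- the data for the cokernel
  obtain ⟨R₁, D₁, Q₁, _, _, _, _, _, _, _, _, _, p₁, y₁, _, _, ψ, hetR₁, hetD₁, hp₁, hy₁, hy₁p, hRD, hψ, hgood⟩ :
      ∃ (R₁ D₁ Q₁ : Type u) (_ : CommRing R₁) (_ : CommRing D₁) (_ : Algebra E.R' R₁) (_ : Algebra E.D D₁)
        (_ : Algebra R₁ D₁) (_ : AddCommGroup Q₁) (_ : Module D₁ Q₁) (_ : Module E.D Q₁) (_ : IsScalarTower E.D D₁ Q₁)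
        (p₁ : Ideal R₁) (y₁ : Ideal D₁) (_ : p₁.IsPrime) (_ : y₁.IsPrime) (ψ : Q →ₗ[E.D] Q₁),
        Algebra.Etale E.R' R₁ ∧ Algebra.Etale E.D D₁ ∧ TrivExt E.p' p₁ ∧ TrivExt E.y y₁ ∧
          y₁.comap (algebraMap R₁ D₁) = p₁ ∧
          (∀ r, algebraMap R₁ D₁ (algebraMap E.R' R₁ r) = algebraMap E.D D₁ (algebraMap E.R' E.D r)) ∧
          IsBaseChange D₁ ψ ∧ (Good p₁ y₁ Q₁ ∨ Subsingleton Q₁) := by
    rcases hQ with h | ⟨d, hd, hdQ⟩
    · obtain ⟨R₁, D₁, Q₁, _, _, _, _, _, _, _, _, _, p₁, y₁, _, _, ψ, h1, h2, h3, h4, h5, h6, h7, h8⟩ := h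
      exact ⟨R₁, D₁, Q₁, _, _, _, _, _, _, _, _, inferInstance, p₁, y₁, inferInstance, inferInstance, ψ,
        h1, h2, h3, h4, h5, h6, h7, Or.inl h8⟩
    · let D₁ := Localization.Away d
      have hdis : Disjoint (Submonoid.powers d : Set E.D) E.y :=
        (Ideal.disjoint_powers_iff_notMem_of_isPrime _).2 hd
      haveI : (E.y.map (algebraMap E.D D₁)).IsPrime :=
        IsLocalization.isPrime_of_isPrime_disjoint (Submonoid.powers d) _ _ inferInstance hdis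
      have hy₁ : TrivExt E.y (E.y.map (algebraMap E.D D₁)) := TrivExt.of_localization d hd
      refine ⟨E.R', D₁, D₁ ⊗[E.D] Q, _, _, Algebra.id _, _, inferInstance, _, _, _, inferInstance, E.p',
        E.y.map (algebraMap E.D D₁), inferInstance, inferInstance, TensorProduct.mk E.D D₁ Q 1,
        inferInstance, Algebra.Etale.of_isLocalizationAway d,
        TrivExt.of_surjective Function.surjective_id (Ideal.comap_id _), hy₁, ?_, fun r => ?_,
        TensorProduct.isBaseChange E.D Q D₁, Or.inr ?_⟩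
      · rw [IsScalarTower.algebraMap_eq E.R' E.D D₁, ← Ideal.comap_comap, hy₁.comap_eq, hyp']
      · exact IsScalarTower.algebraMap_apply E.R' E.D D₁ r
      · refine subsingleton_of_forall_eq 0 fun w => ?_
        induction w using TensorProduct.induction_on with
        | zero => rfl
        | add a b ha hb => rw [ha, hb, add_zero]
        | tmul c m =>
          refine (IsLocalization.Away.algebraMap_isUnit (S := D₁) d).smul_eq_zero.1 ?_
          rw [algebraMap_smul, ← TensorProduct.tmul_smul, hdQ, TensorProduct.tmul_zero]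
  haveI := hetR₁
  haveI := hetD₁
  letI : Algebra E.R' D₁ := ((algebraMap E.D D₁).comp (algebraMap E.R' E.D)).toAlgebra
  haveI : IsScalarTower E.R' E.D D₁ := IsScalarTower.of_algebraMap_eq fun _ => rfl
  haveI : IsScalarTower E.R' R₁ D₁ := IsScalarTower.of_algebraMap_eq fun r => (hRD r).symm
  haveI : y₁.LiesOver p₁ := ⟨hy₁p.symm⟩
  -- `D₁` is smooth over `R₁`
  have hsm₁ : FlatCA.SmoothRelDim n R₁ D₁ := by
    let κ : R₁ ⊗[E.R'] E.D →ₐ[R₁] D₁ :=
      Algebra.TensorProduct.lift (Algebra.ofId R₁ D₁) (IsScalarTower.toAlgHom E.R' E.D D₁) fun _ _ => .all _ _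
    letI : Algebra (R₁ ⊗[E.R'] E.D) D₁ := κ.toRingHom.toAlgebra
    haveI : IsScalarTower R₁ (R₁ ⊗[E.R'] E.D) D₁ := IsScalarTower.of_algebraMap_eq fun r => (κ.commutes r).symm
    letI : Algebra E.D (R₁ ⊗[E.R'] E.D) := Algebra.TensorProduct.rightAlgebra
    haveI : Algebra.Etale E.D (R₁ ⊗[E.R'] E.D) := Algebra.Etale.of_equiv (Algebra.TensorProduct.commRight E.R' E.D R₁)
    haveI : IsScalarTower E.D (R₁ ⊗[E.R'] E.D) D₁ := IsScalarTower.of_algebraMap_eq fun d =>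
      ((Algebra.TensorProduct.lift_tmul _ _ _ _ _).trans (by rw [map_one, one_mul]; rfl) :
        κ ((1 : R₁) ⊗ₜ[E.R'] d) = algebraMap E.D D₁ d).symm
    haveI : Algebra.Etale (R₁ ⊗[E.R'] E.D) D₁ := Algebra.Etale.of_restrictScalars E.D _ _
    exact smoothRelDim_of_etale E.smooth
  haveI := smooth_of_smoothRelDim hsm₁
  have hpure₁ : FlatCA.PurelyTranscendental p₁ y₁ := pureTrans_congr hp₁ hy₁ E.pureTrans
  let L := y₁.ResidueField
  letI : Algebra p₁.ResidueField L :=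
    (Ideal.ResidueField.mapₐ p₁ y₁ (Algebra.ofId R₁ D₁) (Ideal.LiesOver.over (P := y₁) (p := p₁))).toRingHom.toAlgebra
  haveI : IsScalarTower R₁ p₁.ResidueField L := IsScalarTower.of_algebraMap_eq fun r =>
    ((Ideal.ResidueField.mapₐ p₁ y₁ (Algebra.ofId R₁ D₁) (Ideal.LiesOver.over (P := y₁) (p := p₁))).commutes r).symm
  obtain ⟨m, v, hv, hvgen⟩ := exists_pureTrans_basis p₁ y₁ hpure₁
  let χ : D₁ →ₐ[R₁] L := IsScalarTower.toAlgHom R₁ D₁ L
  obtain ⟨R₂, _, _, θ₂, g₀, hetR₂, hg₀, hgi⟩ := exists_shrink_smooth p₁ L χ v hv hvgen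
  haveI := hetR₂
  let θL : R₂ →ₐ[R₁] L := (IsScalarTower.toAlgHom R₁ p₁.ResidueField L).comp θ₂
  let Λ := Algebra.TensorProduct.lift θL χ fun _ _ => .all _ _
  let p₂ := RingHom.ker θ₂.toRingHom
  haveI : p₂.IsPrime := RingHom.ker_isPrime _
  have hp₂ : TrivExt p₁ p₂ := TrivExt.of_point θ₂
  let X₂ := R₂ ⊗[R₁] D₁
  let y₂' : Ideal X₂ := RingHom.ker Λ.toRingHom
  haveI : y₂'.IsPrime := RingHom.ker_isPrime _
  have hy₂'p : y₂'.comap (algebraMap R₂ X₂) = p₂ := by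
    show _ = RingHom.ker θ₂.toRingHom
    rw [RingHom.comap_ker, ← RingHom.ker_comp_of_injective θ₂.toRingHom (algebraMap p₁.ResidueField L).injective]
    congr 1
    refine RingHom.ext fun r => ?_
    show Λ (r ⊗ₜ[R₁] (1 : D₁)) = θL r
    exact (Algebra.TensorProduct.lift_tmul _ _ _ _ _).trans (by rw [map_one, mul_one])
  have hy₂'y : y₂'.comap (incR R₂) = y₁ := by
    rw [RingHom.comap_ker]
    refine Eq.trans ?_ (Ideal.ker_algebraMap_residueField y₁)
    congr 1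
    refine RingHom.ext fun d => ?_
    show Λ ((1 : R₂) ⊗ₜ[R₁] d) = χ d
    exact (Algebra.TensorProduct.lift_tmul _ _ _ _ _).trans (by rw [map_one, one_mul])
  obtain ⟨D₂₀, _, _, _, _, _, hgi₀⟩ : ∃ (D₂₀ : Type u) (_ : CommRing D₂₀) (_ : Algebra X₂ D₂₀) (_ : Algebra R₂ D₂₀)
      (_ : IsScalarTower R₂ X₂ D₂₀) (_ : IsLocalization.Away g₀ D₂₀), FlatCA.GeomIntegralFibres R₂ D₂₀ :=
    ⟨Localization.Away g₀, inferInstance, inferInstance, inferInstance, inferInstance, inferInstance, hgi⟩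
  letI : Algebra D₁ D₂₀ := ((algebraMap X₂ D₂₀).comp (incR R₂)).toAlgebra
  obtain ⟨y₀, hy₀pr, hy₀p, hy₀y, hy₀t, -⟩ := exists_point_away hp₂ g₀ (B := D₂₀) rfl y₁ hy₁p
    (fun W hW hWp hWy hgW => by
      haveI := hW
      exact hg₀ ((eq_of_comap_eq hp₂ W y₂' hWp hy₂'p (hWy.trans hy₂'y.symm)).le hgW))
  haveI := hy₀pr
  -- structures over `E.R'` and `E.D`
  letI : Algebra E.R' R₂ := ((algebraMap R₁ R₂).comp (algebraMap E.R' R₁)).toAlgebra
  haveI : IsScalarTower E.R' R₁ R₂ := IsScalarTower.of_algebraMap_eq fun _ => rfl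
  haveI : Algebra.Etale E.R' R₂ := Algebra.Etale.comp E.R' R₁ R₂
  letI : Algebra E.D D₂₀ := ((algebraMap D₁ D₂₀).comp (algebraMap E.D D₁)).toAlgebra
  haveI : IsScalarTower E.D D₁ D₂₀ := IsScalarTower.of_algebraMap_eq fun _ => rfl
  haveI : Algebra.Etale D₁ D₂₀ := by
    letI : Algebra D₁ X₂ := Algebra.TensorProduct.rightAlgebra
    haveI : Algebra.Etale D₁ X₂ := Algebra.Etale.of_equiv (Algebra.TensorProduct.commRight R₁ D₁ R₂)
    haveI : IsScalarTower D₁ X₂ D₂₀ := IsScalarTower.of_algebraMap_eq fun _ => rfl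
    haveI : Algebra.Etale X₂ D₂₀ := Algebra.Etale.of_isLocalizationAway g₀
    exact Algebra.Etale.comp D₁ X₂ D₂₀
  haveI : Algebra.Etale E.D D₂₀ := Algebra.Etale.comp E.D D₁ D₂₀
  letI : Algebra E.R' D₂₀ := ((algebraMap E.D D₂₀).comp (algebraMap E.R' E.D)).toAlgebra
  haveI : IsScalarTower E.R' E.D D₂₀ := IsScalarTower.of_algebraMap_eq fun _ => rfl
  haveI : IsScalarTower E.R' R₂ D₂₀ := IsScalarTower.of_algebraMap_eq fun r => by
    show algebraMap X₂ D₂₀ ((1 : R₂) ⊗ₜ[R₁] algebraMap E.D D₁ (algebraMap E.R' E.D r)) =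
      algebraMap R₂ D₂₀ (algebraMap R₁ R₂ (algebraMap E.R' R₁ r))
    rw [← hRD, one_tmul_algebraMap, IsScalarTower.algebraMap_apply R₂ X₂ D₂₀]
    rfl
  letI : Algebra R₁ D₂₀ := ((algebraMap D₁ D₂₀).comp (algebraMap R₁ D₁)).toAlgebra
  haveI : IsScalarTower R₁ D₁ D₂₀ := IsScalarTower.of_algebraMap_eq fun _ => rfl
  haveI : IsScalarTower R₁ R₂ D₂₀ := IsScalarTower.of_algebraMap_eq fun r => by
    show algebraMap X₂ D₂₀ ((1 : R₂) ⊗ₜ[R₁] algebraMap R₁ D₁ r) = algebraMap R₂ D₂₀ (algebraMap R₁ R₂ r)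
    rw [one_tmul_algebraMap, IsScalarTower.algebraMap_apply R₂ X₂ D₂₀]
    rfl
  have hty₀ : TrivExt E.y y₀ := hy₁.trans hy₀t
  obtain ⟨d, hd, S₂, _, _, _, hetS₂, hRS₂, π, hπ, hπS, hπR, hπker⟩ :=
    exists_lift_etale (R' := E.R') (R₂ := R₂) (S' := E.S') (C := E.C) (D := E.D) (D₂ := D₂₀) E.surjC hty₀ hzy huniq
  haveI := hetS₂
  let D₂ := Localization.Away d
  -- the point of `D₂`
  haveI hy₂pr : (y₀.map (algebraMap D₂₀ D₂)).IsPrime :=
    IsLocalization.isPrime_of_isPrime_disjoint (Submonoid.powers d) _ _ inferInstance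
      ((Ideal.disjoint_powers_iff_notMem_of_isPrime _).2 hd)
  let y₂ : Ideal D₂ := y₀.map (algebraMap D₂₀ D₂)
  have ht : TrivExt y₀ y₂ := TrivExt.of_localization d hd
  have hy₂p : y₂.comap (algebraMap R₂ D₂) = p₂ := by
    rw [IsScalarTower.algebraMap_eq R₂ D₂₀ D₂, ← Ideal.comap_comap, ht.comap_eq, hy₀p]
  haveI : y₂.LiesOver p₂ := ⟨hy₂p.symm⟩
  have hty₂ : TrivExt E.y y₂ := hty₀.trans ht
  have hty₁₂ : TrivExt y₁ y₂ := hy₀t.trans ht
  have hp'p₂ : TrivExt E.p' p₂ := hp₁.trans hp₂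
  -- `D₂` is a principal open of `X₂`
  obtain ⟨a, ⟨_, k, rfl⟩, hag⟩ := IsLocalization.exists_mk'_eq (Submonoid.powers g₀) d
  haveI hg₁ : IsLocalization.Away (g₀ * a) D₂ := by
    suffices IsLocalization.Away (algebraMap X₂ D₂₀ a) D₂ from .mul' D₂₀ _ g₀ a
    refine IsLocalization.Away.of_associated (r := d)
      ⟨(IsLocalization.Away.algebraMap_pow_isUnit g₀ k).unit, ?_⟩
    simp only [← hag, IsUnit.unit_spec, ← map_pow]
    exact IsLocalization.mk'_spec _ a _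
  have hD₁₂ : algebraMap D₁ D₂ = (algebraMap X₂ D₂).comp (incR R₂) := RingHom.ext fun w => by
    rw [IsScalarTower.algebraMap_apply D₁ D₂₀ D₂, RingHom.comp_apply, IsScalarTower.algebraMap_apply X₂ D₂₀ D₂]
    rfl
  -- the closed subscheme and the module
  let C₂ := D₂ ⊗[E.D] E.C
  letI : Algebra E.C C₂ := Algebra.TensorProduct.rightAlgebra
  letI : Algebra S₂ C₂ := π.toAlgebra
  haveI : IsScalarTower R₂ S₂ C₂ := IsScalarTower.of_algebraMap_eq fun r => (hπR r).symm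
  haveI : Algebra.IsPushout E.D D₂ E.C C₂ := inferInstance
  letI : Algebra E.S' C₂ := ((algebraMap E.C C₂).comp (algebraMap E.S' E.C)).toAlgebra
  haveI : IsScalarTower E.S' E.C C₂ := IsScalarTower.of_algebraMap_eq fun _ => rfl
  haveI : IsScalarTower E.S' S₂ C₂ := IsScalarTower.of_algebraMap_eq fun s => (hπS s).symm
  haveI hpo : Algebra.IsPushout E.S' S₂ E.C C₂ := isPushout_of_surjective E.surjC hπ hπker.le
  haveI : IsScalarTower E.D E.C C₂ := IsScalarTower.of_algebraMap_eq fun w => (one_tmul_algebraMap w).symm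
  obtain ⟨G₂, _, _, _, _, _, _, _, _, _, _, _, fG, gG, hfG, hgG⟩ :=
    exists_pushed_module (S' := E.S') (S₂ := S₂) (D := E.D) (D₂ := D₂) (C := E.C) (C₂ := C₂) (G := E.G)
  obtain ⟨z₂, hz₂pr, hz₂y, hz₂z⟩ := exists_prime_over (T := E.C) hty₂ E.z hzy
  haveI := hz₂pr
  have huniq₂ : ∀ W : Ideal C₂, W.IsPrime → W.comap (algebraMap D₂ C₂) = y₂ → W = z₂ := fun W hW hWy => by
    haveI := hW
    refine eq_of_comap_eq hty₂ W z₂ hWy hz₂y ?_
    rw [hz₂z]
    refine huniq _ (Ideal.IsPrime.comap _) ?_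
    rw [← hty₂.comap_eq, ← hWy, Ideal.comap_comap, Ideal.comap_comap]
    congr 1
    exact RingHom.ext fun w => one_tmul_algebraMap w
  let q₂ : Ideal S₂ := z₂.comap (algebraMap S₂ C₂)
  have hsm : FlatCA.SmoothRelDim n R₂ D₂ := by
    let κ : R₂ ⊗[E.R'] E.D →ₐ[R₂] D₂ :=
      Algebra.TensorProduct.lift (Algebra.ofId R₂ D₂) (IsScalarTower.toAlgHom E.R' E.D D₂) fun _ _ => .all _ _
    letI : Algebra (R₂ ⊗[E.R'] E.D) D₂ := κ.toRingHom.toAlgebra
    haveI : IsScalarTower R₂ (R₂ ⊗[E.R'] E.D) D₂ := IsScalarTower.of_algebraMap_eq fun r => (κ.commutes r).symm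
    letI : Algebra E.D (R₂ ⊗[E.R'] E.D) := Algebra.TensorProduct.rightAlgebra
    haveI : Algebra.Etale E.D (R₂ ⊗[E.R'] E.D) := Algebra.Etale.of_equiv (Algebra.TensorProduct.commRight E.R' E.D R₂)
    haveI : IsScalarTower E.D (R₂ ⊗[E.R'] E.D) D₂ := IsScalarTower.of_algebraMap_eq fun d =>
      ((Algebra.TensorProduct.lift_tmul _ _ _ _ _).trans (by rw [map_one, one_mul]; rfl) :
        κ ((1 : R₂) ⊗ₜ[E.R'] d) = algebraMap E.D D₂ d).symm
    haveI : Algebra.Etale D₂₀ D₂ := Algebra.Etale.of_isLocalizationAway d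
    haveI : Algebra.Etale E.D D₂ := Algebra.Etale.comp E.D D₂₀ D₂
    haveI : Algebra.Etale (R₂ ⊗[E.R'] E.D) D₂ := Algebra.Etale.of_restrictScalars E.D _ _
    exact smoothRelDim_of_etale E.smooth
  haveI := smooth_of_smoothRelDim hsm
  have hnzd : NZDFibres R₂ D₂ := (NZDFibres.of_geomIntegral hgi₀).away d
  have hfg : (RingHom.ker (algebraMap S₂ C₂)).FG := by
    haveI := E.fpC
    rw [show RingHom.ker (algebraMap S₂ C₂) = _ from hπker]
    exact (Algebra.FinitePresentation.ker_fG_of_surjective (Algebra.ofId E.S' E.C) E.surjC).map _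
  haveI : IsScalarTower R₁ R₂ D₂ := IsScalarTower.of_algebraMap_eq fun r => by
    rw [IsScalarTower.algebraMap_apply R₁ D₂₀ D₂, IsScalarTower.algebraMap_apply R₁ R₂ D₂₀,
      ← IsScalarTower.algebraMap_apply R₂ D₂₀ D₂]
  have hpure : FlatCA.PurelyTranscendental p₂ y₂ := pureTrans_congr hp₂ hty₁₂ hpure₁
  -- the generic point of the fibre
  haveI hP₂pr : (p₂.map (algebraMap R₂ D₂)).IsPrime := isPrime_map_of_nzd hnzd p₂ y₂ hy₂p
  let P₂ : Ideal D₂ := p₂.map (algebraMap R₂ D₂)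
  have hPy : P ≤ E.y := hP ▸ Ideal.map_le_iff_le_comap.2 hyp'.ge
  have hPp : P.comap (algebraMap E.R' E.D) = E.p' :=
    le_antisymm ((Ideal.comap_mono hPy).trans hyp'.le) (hP ▸ Ideal.le_comap_map)
  have hP₂p : P₂.comap (algebraMap R₂ D₂) = p₂ :=
    le_antisymm ((Ideal.comap_mono (Ideal.map_le_iff_le_comap.2 hy₂p.ge)).trans hy₂p.le) Ideal.le_comap_map
  haveI : Algebra.Etale E.D D₂ := by
    haveI : Algebra.Etale D₂₀ D₂ := Algebra.Etale.of_isLocalizationAway d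
    exact Algebra.Etale.comp E.D D₂₀ D₂
  haveI : Module.Flat E.D D₂ := inferInstance
  have hP₂P : P₂.comap (algebraMap E.D D₂) = P := comap_map_generic hp'p₂.comap_eq hP hPp rfl hP₂p
  have hgen₂ : (⟨P₂, hP₂pr⟩ : PrimeSpectrum D₂) ∈ Module.support D₂ G₂ := by
    rw [hfG.equiv.symm.support_eq]
    refine (MorLib.UnrLocus.support_baseChange_iff (A := E.D) (B := D₂) E.G _).2 ?_
    rw [show PrimeSpectrum.comap (algebraMap E.D D₂) ⟨P₂, hP₂pr⟩ = ⟨P, inferInstance⟩ from PrimeSpectrum.ext hP₂P]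
    exact hgen
  obtain ⟨α₂, g₂, hg₂, hbij₂⟩ := exists_layer_baseChange fG hfG α
  have hgood₂ : Good p₂ y₂ (G₂ ⧸ LinearMap.range α₂) ∨ Subsingleton (G₂ ⧸ LinearMap.range α₂) :=
    good_or_subsingleton (Q := Q) hp₂ (g₀ * a) hD₁₂ hty₁₂.comap_eq ψ hψ g₂ hg₂ hgood
  have hG : Good p₂ q₂ G₂ := good_step hsm hnzd hπ hfg G₂ hpure hz₂y huniq₂ (q := q₂) rfl
    (P := P₂) rfl hgen₂ α₂ (hbij₂ P P₂ hP₂P hα) hgood₂
  -- back to `S`
  letI : Algebra S S₂ := ((algebraMap E.S' S₂).comp (algebraMap S E.S')).toAlgebra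
  haveI : IsScalarTower S E.S' S₂ := IsScalarTower.of_algebraMap_eq fun _ => rfl
  letI : Algebra R R₂ := ((algebraMap E.R' R₂).comp (algebraMap R E.R')).toAlgebra
  haveI : IsScalarTower R E.R' R₂ := IsScalarTower.of_algebraMap_eq fun _ => rfl
  letI : Module S G₂ := Module.compHom G₂ (algebraMap S S₂)
  haveI : IsScalarTower S S₂ G₂ := IsScalarTower.of_algebraMap_smul fun _ _ => rfl
  haveI : IsScalarTower S E.S' G₂ := IsScalarTower.of_algebraMap_smul fun a m => by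
    rw [← algebraMap_smul S₂ (algebraMap S E.S' a) m]
    rfl
  have hφ := E.isBaseChange.comp (hgG.comp_equiv E.iso)
  have hq₂ : TrivExt E.q' q₂ := by
    have h1 : TrivExt E.q' E.z := TrivExt.of_surjective E.surjC E.zOver.over.symm
    have h2 : TrivExt E.z z₂ := trivExt_incR hty₂ E.z hzy z₂ hz₂y hz₂z
    exact TrivExt.descend (h1.trans h2)
  refine ⟨R₂, S₂, G₂, inferInstance, inferInstance, inferInstance, inferInstance, inferInstance, inferInstance,
    inferInstance, _, _, p₂, q₂, inferInstance, inferInstance, _, Algebra.Etale.comp R E.R' R₂,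
    Algebra.Etale.comp S E.S' S₂, hpp'.trans hp'p₂, hqq'.trans hq₂, ?_, fun r => ?_, hφ, hG⟩
  · rw [Ideal.comap_comap, ← IsScalarTower.algebraMap_eq, IsScalarTower.algebraMap_eq R₂ D₂ C₂,
      ← Ideal.comap_comap, hz₂y, hy₂p]
  · show algebraMap R₂ S₂ (algebraMap E.R' R₂ (algebraMap R E.R' r)) =
      algebraMap E.S' S₂ (algebraMap S E.S' (algebraMap R S r))
    rw [hRS₂, ← IsScalarTower.algebraMap_apply R E.R' E.S', ← IsScalarTower.algebraMap_apply R S E.S']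

set_option maxHeartbeats 800000 in
/-- Complete dévissages exist after étale localisation. -/
theorem exists_hasGood : ∀ (h : ℕ) {R S : Type u} [CommRing R] [CommRing S] [Algebra R S] [Algebra.FiniteType R S]
    (N : Type u) [AddCommGroup N] [Module S N] [Module.Finite S N] (p : Ideal R) [p.IsPrime] (q : Ideal S)
    [q.IsPrime] [q.LiesOver p] (hq : (⟨q, inferInstance⟩ : PrimeSpectrum S) ∈ fibSupp p S N),
    height (⟨_, hq⟩ : fibSupp p S N) ≤ h → HasGood p q N := by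
  intro h
  induction h using Nat.strong_induction_on with
  | _ h ih =>
  intro R S _ _ _ _ N _ _ _ p _ q _ hover hq hh
  letI : Algebra p.ResidueField q.ResidueField :=
    (Ideal.ResidueField.mapₐ p q (Algebra.ofId R S) hover.over).toRingHom.toAlgebra
  haveI : IsScalarTower R p.ResidueField q.ResidueField := IsScalarTower.of_algebraMap_eq fun r =>
    ((Ideal.ResidueField.mapₐ p q (Algebra.ofId R S) hover.over).commutes r).symm
  obtain ⟨h₀, c, -, x, hx, hxq, hdim⟩ := exists_fibre_point N p q hq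
  obtain ⟨E, hproj⟩ := exists_elemDevissage N p q (h₀ + c) x hxq hx hdim
  haveI := hproj
  haveI : Module.Flat E.R' E.D := inferInstance
  obtain ⟨hP, hgen, hyG, hkey⟩ := elemDevissage_generic N p q hq (h₀ + c)
    (fun x' hx' hxq' => by
      obtain rfl : x' = x := PrimeSpectrum.ext (hxq'.trans hxq.symm)
      exact hdim) E
  haveI := hP
  haveI := E.finiteDC
  haveI := E.finiteG
  haveI : Module.Finite E.D E.G := Module.Finite.trans E.C E.G
  obtain ⟨r, α, hα, d₀, hd₀, hd₀α⟩ := exists_fibre_basis (G := E.G) (E.p'.map (algebraMap E.R' E.D))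
  let Q := E.G ⧸ LinearMap.range α
  have hη : (⟨_, hP⟩ : PrimeSpectrum E.D) ∉ Module.support E.D Q := by
    rw [Module.mem_support_iff']
    rintro ⟨m, hm⟩
    obtain ⟨m, rfl⟩ := Submodule.Quotient.mk_surjective _ m
    exact hm d₀ hd₀ ((Submodule.Quotient.mk_eq_zero _).2 (hd₀α m))
  refine hasGood_step N p q (h₀ + c) E rfl hgen α hα ?_
  by_cases hy : (⟨E.y, E.hy⟩ : PrimeSpectrum E.D) ∈ Module.support E.D Q
  · have hy' : (⟨E.y, E.hy⟩ : PrimeSpectrum E.D) ∈ fibSupp E.p' E.D Q := ⟨hy, E.yOver.over.symm⟩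
    have hlt := lt_of_lt_of_le (hkey Q hη hy') hh
    obtain ⟨h', hh'⟩ : ∃ h' : ℕ, height (⟨_, hy'⟩ : fibSupp E.p' E.D Q) = h' :=
      ⟨_, (ENat.natCast_toNat hlt.ne_top).symm⟩
    haveI := smooth_of_smoothRelDim E.smooth
    exact Or.inl (ih h' (by rw [hh'] at hlt; exact_mod_cast hlt) Q E.p' E.y hy' hh'.le)
  · rw [Module.support_eq_zeroLocus, PrimeSpectrum.mem_zeroLocus, Set.not_subset] at hy
    obtain ⟨d, hd, hdy⟩ := hy
    exact Or.inr ⟨d, hdy, fun m => Module.mem_annihilator.1 hd m⟩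

end Groth.Agent.RG11
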