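import Groth.Agent.RG11.Spread
import Groth.Agent.FlatApproxHx.Model
import Groth.Agent.QRepLib.Naive

/-!
# Flat finitely presented algebras with geometrically integral fibres are projective
-/

universe u

set_option linter.style.haveILetI false

namespace Groth.Agent.RG11

open TensorProduct

/-- Domain property of fibres is independent of the field. -/
theorem isDomain_fibre_of_common {R₀ B : Type u} [CommRing R₀] [CommRing B] [Algebra R₀ B] (M E : Type u) [Field M]
    [Field E] [Algebra R₀ M] [Algebra R₀ E]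
    (h : ∀ (M' : Type u) [Field M'] [Algebra E M'] [Algebra R₀ M'] [IsScalarTower R₀ E M'], IsDomain (M' ⊗[R₀] B))
    (hker : RingHom.ker (algebraMap R₀ E) = RingHom.ker (algebraMap R₀ M)) : IsDomain (M ⊗[R₀] B) := by
  obtain ⟨M', _, σ, τ, hστ⟩ := exists_common_field (algebraMap R₀ E) (algebraMap R₀ M) hker
  letI : Algebra E M' := σ.toAlgebra
  letI : Algebra M M' := τ.toAlgebra
  letI : Algebra R₀ M' := (σ.comp (algebraMap R₀ E)).toAlgebra
  haveI : IsScalarTower R₀ E M' := IsScalarTower.of_algebraMap_eq fun _ => rfl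
  haveI : IsScalarTower R₀ M M' := IsScalarTower.of_algebraMap_eq fun a => RingHom.congr_fun hστ a
  haveI := h M'
  exact (FlatMisc.SpreadRed.map_injective_of_fields M M' B).isDomain
    (Algebra.TensorProduct.map (IsScalarTower.toAlgHom R₀ M M') (AlgHom.id R₀ B)).toRingHom

set_option maxHeartbeats 800000 in
/-- Descent of geometric integrality to a finitely generated stage. -/
theorem exists_geomIntegral_stage {R₁ R B : Type u} [CommRing R₁] [IsNoetherianRing R₁] [CommRing R] [Algebra R₁ R]
    [CommRing B] [Algebra R₁ B] [Algebra.FiniteType R₁ B]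
    (h : ∀ (M : Type u) [Field M] [Algebra R M] [Algebra R₁ M] [IsScalarTower R₁ R M], IsDomain (M ⊗[R₁] B)) :
    ∃ T : Finset R, ∀ (M : Type u) [Field M] [Algebra (Algebra.adjoin R₁ (T : Set R)) M] [Algebra R₁ M]
      [IsScalarTower R₁ (Algebra.adjoin R₁ (T : Set R)) M], IsDomain (M ⊗[R₁] B) := by
  classical
  suffices H : ∀ J : Ideal R₁, ∃ T : Finset R, ∀ (M : Type u) [Field M] [Algebra R₁ M]
      (φ : Algebra.adjoin R₁ (T : Set R) →ₐ[R₁] M), J ≤ RingHom.ker (algebraMap R₁ M) → IsDomain (M ⊗[R₁] B) by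
    obtain ⟨T, hT⟩ := H ⊥
    exact ⟨T, fun M _ _ _ _ => hT M (IsScalarTower.toAlgHom R₁ (Algebra.adjoin R₁ (T : Set R)) M) bot_le⟩
  intro J
  induction J using WellFoundedGT.induction with
  | _ J ih =>
  have mono : ∀ {T T' : Finset R}, T ⊆ T' → ∀ {M : Type u} [Field M] [Algebra R₁ M],
      (Algebra.adjoin R₁ (T' : Set R) →ₐ[R₁] M) → (Algebra.adjoin R₁ (T : Set R) →ₐ[R₁] M) :=
    fun hsub _ _ _ φ => φ.comp (Subalgebra.inclusion (Algebra.adjoin_mono (Finset.coe_subset.2 hsub)))
  by_cases htop : J = ⊤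
  · refine ⟨∅, fun M _ _ _ hJ => absurd (hJ (htop ▸ Submodule.mem_top : (1 : R₁) ∈ J)) ?_⟩
    simp [RingHom.mem_ker]
  by_cases hp : J.IsPrime
  swap
  · obtain ⟨a, ha, b, hb, hab⟩ := (Ideal.not_isPrime_iff.1 hp).resolve_left htop
    obtain ⟨Ta, hTa⟩ := ih (J ⊔ Ideal.span {a})
      (lt_of_le_of_ne le_sup_left fun e => ha (e ▸ Ideal.mem_sup_right (Ideal.mem_span_singleton_self a)))
    obtain ⟨Tb, hTb⟩ := ih (J ⊔ Ideal.span {b})
      (lt_of_le_of_ne le_sup_left fun e => hb (e ▸ Ideal.mem_sup_right (Ideal.mem_span_singleton_self b)))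
    refine ⟨Ta ∪ Tb, fun M _ _ φ hJ => ?_⟩
    have h0 : algebraMap R₁ M a * algebraMap R₁ M b = 0 := by rw [← map_mul]; exact hJ hab
    rcases mul_eq_zero.1 h0 with h0 | h0
    · exact hTa M (mono Finset.subset_union_left φ) (sup_le hJ ((Ideal.span_singleton_le_iff_mem _).2 h0))
    · exact hTb M (mono Finset.subset_union_right φ) (sup_le hJ ((Ideal.span_singleton_le_iff_mem _).2 h0))
  haveI := hp
  by_cases hg : ∃ g, g ∉ J ∧ algebraMap R₁ R g ∈ (J.map (algebraMap R₁ R)).radical
  · obtain ⟨g, hgJ, k, hk⟩ := hg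
    obtain ⟨T, hT⟩ := ih (J ⊔ Ideal.span {g})
      (lt_of_le_of_ne le_sup_left fun e => hgJ (e ▸ Ideal.mem_sup_right (Ideal.mem_span_singleton_self g)))
    obtain ⟨c, hc⟩ := (Finsupp.mem_span_iff_linearCombination R _ _).1 (show algebraMap R₁ R g ^ k ∈
      Submodule.span R (algebraMap R₁ R '' (J : Set R₁)) from hk)
    let T' := T ∪ c.support.image c
    refine ⟨T', fun M _ _ φ hJ => ?_⟩
    refine hT M (mono Finset.subset_union_left φ) (sup_le hJ ((Ideal.span_singleton_le_iff_mem _).2 ?_))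
    have hmem : ∀ i, c i ∈ Algebra.adjoin R₁ (T' : Set R) := fun i => by
      by_cases hi : i ∈ c.support
      · exact Algebra.subset_adjoin (Finset.mem_coe.2 (Finset.mem_union_right _ (Finset.mem_image_of_mem _ hi)))
      · rw [Finsupp.notMem_support_iff.1 hi]; exact zero_mem _
    have he : algebraMap R₁ (Algebra.adjoin R₁ (T' : Set R)) g ^ k =
        ∑ i ∈ c.support, (⟨c i, hmem i⟩ : Algebra.adjoin R₁ (T' : Set R)) *
          algebraMap R₁ (Algebra.adjoin R₁ (T' : Set R)) i.2.choose := Subtype.ext (by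
      push_cast
      rw [← hc, Finsupp.linearCombination_apply, Finsupp.sum]
      exact Finset.sum_congr rfl fun i _ => by rw [smul_eq_mul, i.2.choose_spec.2])
    have := congrArg φ he
    simp only [map_pow, map_sum, map_mul, AlgHom.commutes] at this
    refine eq_zero_of_pow_eq_zero (n := k) (this.trans (Finset.sum_eq_zero fun i _ => ?_))
    rw [show algebraMap R₁ M i.2.choose = 0 from hJ i.2.choose_spec.1, mul_zero]
  push Not at hg
  -- a prime of `R` over `J`
  obtain ⟨P, hP, hle, hdisj⟩ : ∃ P : Ideal R, P.IsPrime ∧ J.map (algebraMap R₁ R) ≤ P ∧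
      ∀ g, g ∉ J → algebraMap R₁ R g ∉ P := by
    have hd : Disjoint ((J.map (algebraMap R₁ R)).radical : Set R) (J.primeCompl.map (algebraMap R₁ R) : Set R) := by
      rw [Set.disjoint_left]
      rintro _ hx ⟨g, hgJ, rfl⟩
      exact hg g hgJ hx
    obtain ⟨P, hP, hle, hd'⟩ := Ideal.exists_le_prime_disjoint _ _ hd
    exact ⟨P, hP, le_trans Ideal.le_radical hle, fun g hgJ hgP => Set.disjoint_left.1 hd' hgP ⟨g, hgJ, rfl⟩⟩
  haveI := hP
  let Rq := R₁ ⧸ J
  have hgen : ∀ (M : Type u) [Field M] [Algebra Rq M], Function.Injective (algebraMap Rq M) →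
      IsDomain (M ⊗[Rq] (Rq ⊗[R₁] B)) := by
    intro M _ _ hM
    letI : Algebra R₁ M := ((algebraMap Rq M).comp (Ideal.Quotient.mk J)).toAlgebra
    haveI : IsScalarTower R₁ Rq M := IsScalarTower.of_algebraMap_eq fun _ => rfl
    haveI : IsDomain (M ⊗[R₁] B) := by
      refine isDomain_fibre_of_common M P.ResidueField (fun M' _ _ _ _ => ?_) ?_
      · letI : Algebra R M' := ((algebraMap P.ResidueField M').comp (algebraMap R P.ResidueField)).toAlgebra
        haveI : IsScalarTower R₁ R M' := IsScalarTower.of_algebraMap_eq fun a => by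
          show algebraMap R₁ M' a = algebraMap P.ResidueField M' (algebraMap R P.ResidueField (algebraMap R₁ R a))
          rw [← IsScalarTower.algebraMap_apply R₁ R P.ResidueField, ← IsScalarTower.algebraMap_apply]
        exact h M'
      · ext a
        rw [RingHom.mem_ker, RingHom.mem_ker, IsScalarTower.algebraMap_apply R₁ R P.ResidueField,
          Ideal.algebraMap_residueField_eq_zero, IsScalarTower.algebraMap_apply R₁ Rq M,
          map_eq_zero_iff _ hM, Ideal.Quotient.algebraMap_eq, Ideal.Quotient.eq_zero_iff_mem]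
        exact ⟨fun ha => by_contra fun ha' => hdisj a ha' ha, fun ha => hle (Ideal.mem_map_of_mem _ ha)⟩
    let e := Algebra.TensorProduct.cancelBaseChange R₁ Rq M M B
    exact e.toRingEquiv.injective.isDomain e.toRingEquiv.toRingHom
  obtain ⟨f, hf, hfib⟩ := exists_spread_geomIntegral (R₀ := Rq) (B := Rq ⊗[R₁] B) hgen
  obtain ⟨f, rfl⟩ := Ideal.Quotient.mk_surjective f
  have hfJ : f ∉ J := fun h0 => hf (Ideal.Quotient.eq_zero_iff_mem.2 h0)
  obtain ⟨T, hT⟩ := ih (J ⊔ Ideal.span {f})
    (lt_of_le_of_ne le_sup_left fun e => hfJ (e ▸ Ideal.mem_sup_right (Ideal.mem_span_singleton_self f)))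
  refine ⟨T, fun M _ _ φ hJ => ?_⟩
  by_cases hfM : algebraMap R₁ M f = 0
  · exact hT M φ (sup_le hJ ((Ideal.span_singleton_le_iff_mem _).2 hfM))
  letI : Algebra Rq M := (Ideal.Quotient.lift J (algebraMap R₁ M) fun a ha => hJ ha).toAlgebra
  haveI : IsScalarTower R₁ Rq M := IsScalarTower.of_algebraMap_eq fun _ => rfl
  haveI := hfib M hfM
  let e := (Algebra.TensorProduct.cancelBaseChange R₁ Rq M M B).symm
  exact e.toRingEquiv.injective.isDomain e.toRingEquiv.toRingHom

section FlatAlgebraModel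

open MvPolynomial Groth.Agent.FlatModel Groth.Agent.FlatApproxHx

/-- A quotient of polynomial rings as a module of relations in one coordinate. -/
theorem nonempty_relations_equiv {n : ℕ} {R : Type u} [CommRing R] (F : Set (MvPolynomial (Fin n) R))
    (K : Submodule (MvPolynomial (Fin n) R) (V 1 n R)) (hK : ∀ v, v ∈ K ↔ v 0 ∈ Ideal.span F) :
    Nonempty ((V 1 n R ⧸ K) ≃ₗ[R] (MvPolynomial (Fin n) R ⧸ Ideal.span F)) :=
  ⟨(Submodule.Quotient.equiv K (Ideal.span F) (LinearEquiv.funUnique (Fin 1) (MvPolynomial (Fin n) R) (MvPolynomial (Fin n) R))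
    (by
      ext x
      refine ⟨fun ⟨v, hv, hvx⟩ => hvx ▸ (hK v).1 hv,
        fun hx => ⟨fun _ => x, (hK _).2 hx, rfl⟩⟩)).restrictScalars R⟩

/-- Base change of relations in one coordinate. -/
theorem mem_KK_single {n : ℕ} {R₀ R' : Type u} [CommRing R₀] [CommRing R'] [Algebra R₀ R']
    (F : Set (MvPolynomial (Fin n) R₀)) (v : V 1 n R') :
    v ∈ KK (Submodule.span _ ((fun g => (fun _ => g : V 1 n R₀)) '' F)) R' ↔
      v 0 ∈ Ideal.span (MvPolynomial.map (algebraMap R₀ R') '' F) := by
  constructor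
  · intro hv
    induction hv using Submodule.span_induction with
    | mem x hx =>
      obtain ⟨w, hw, rfl⟩ := hx
      rw [mapV_apply]
      have : w 0 ∈ Ideal.span F := by
        induction hw using Submodule.span_induction with
        | mem y hy => obtain ⟨g, hg, rfl⟩ := hy; exact Ideal.subset_span hg
        | zero => exact zero_mem _
        | add a b _ _ ha hb => exact add_mem ha hb
        | smul c a _ ha => exact Ideal.mul_mem_left _ c ha
      rw [← Ideal.map_span]
      exact Ideal.mem_map_of_mem _ this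
    | zero => exact zero_mem _
    | add a b _ _ ha hb => exact add_mem ha hb
    | smul c a _ ha => exact Ideal.mul_mem_left _ c ha
  · intro hv
    rw [show v = (fun _ => v 0 : V 1 n R') from funext fun j => by rw [Subsingleton.elim j 0]]
    generalize v 0 = x at hv ⊢
    induction hv using Submodule.span_induction with
    | mem y hy =>
      obtain ⟨g, hg, rfl⟩ := hy
      exact Submodule.subset_span ⟨fun _ => g, Submodule.subset_span ⟨g, hg, rfl⟩, funext fun j => rfl⟩
    | zero => exact zero_mem _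
    | add a b _ _ ha hb => exact add_mem ha hb
    | smul c a _ ha =>
      exact Submodule.smul_mem (KK (Submodule.span _ ((fun g => (fun _ => g : V 1 n R₀)) '' F)) R') c ha

/-- A flat finitely presented algebra comes from a flat algebra over a ring of finite type over `ℤ`. -/
theorem exists_flat_model (R B : Type u) [CommRing R] [CommRing B] [Algebra R B] [Algebra.FinitePresentation R B]
    [Module.Flat R B] :
    ∃ (R₁ A : Type u) (_ : CommRing R₁) (_ : CommRing A) (_ : Algebra R₁ R) (_ : Algebra R₁ A),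
      Algebra.FiniteType ℤ R₁ ∧ Algebra.FiniteType R₁ A ∧ Module.Flat R₁ A ∧ Nonempty (R ⊗[R₁] A ≃ₐ[R] B) := by
  classical
  obtain ⟨n, φ, hφ, f, hf⟩ := Algebra.FinitePresentation.out (R := R) (A := B)
  let R₀ : Subalgebra ℤ R := Algebra.adjoin ℤ ((f.biUnion fun p => p.coeffs : Finset R) : Set R)
  haveI hft : Algebra.FiniteType ℤ R₀ := R₀.fg_iff_finiteType.1 (Subalgebra.fg_adjoin_finset _)
  haveI : IsNoetherianRing R₀ := Algebra.FiniteType.isNoetherianRing ℤ R₀
  have hdesc : ∀ p ∈ f, ∃ q : MvPolynomial (Fin n) R₀, MvPolynomial.map (algebraMap R₀ R) q = p := fun p hp =>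
    MvPolynomial.mem_range_map_iff_coeffs_subset.2 fun x hx =>
      ⟨⟨x, Algebra.subset_adjoin (Finset.mem_biUnion.2 ⟨p, hp, hx⟩)⟩, rfl⟩
  choose! l hl using hdesc
  let F₀ : Set (MvPolynomial (Fin n) R₀) := l '' (f : Set (MvPolynomial (Fin n) R))
  let K₀ : Submodule (MvPolynomial (Fin n) R₀) (V 1 n R₀) := Submodule.span _ ((fun g => (fun _ => g : V 1 n R₀)) '' F₀)
  have hF₀ : MvPolynomial.map (algebraMap R₀ R) '' F₀ = (f : Set (MvPolynomial (Fin n) R)) := by
    rw [Set.image_image]
    exact (Set.image_congr fun p hp => hl p hp).trans (Set.image_id _)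
  have hkerφ : RingHom.ker φ = Ideal.span (MvPolynomial.map (algebraMap R₀ R) '' F₀) := by
    rw [hF₀]; exact hf.symm
  have hFC : FlatC K₀ R := by
    refine (flatC_iff_flat K₀).2 ?_
    obtain ⟨e⟩ := nonempty_relations_equiv (MvPolynomial.map (algebraMap R₀ R) '' F₀) (KK K₀ R) (mem_KK_single F₀)
    let e' : (MvPolynomial (Fin n) R ⧸ Ideal.span (MvPolynomial.map (algebraMap R₀ R) '' F₀)) ≃ₐ[R] B :=
      (Ideal.quotientEquivAlgOfEq R hkerφ.symm).trans (Ideal.quotientKerAlgEquivOfSurjective hφ)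
    exact Module.Flat.of_linearEquiv (e.trans e'.toLinearEquiv)
  obtain ⟨R₁, hR₁, hflat⟩ := exists_fg_flatC K₀ hFC
  haveI : Algebra.FiniteType R₀ R₁ := R₁.fg_iff_finiteType.1 hR₁
  let F : Set (MvPolynomial (Fin n) R₁) := MvPolynomial.map (algebraMap R₀ R₁) '' F₀
  have hker : RingHom.ker φ = Ideal.span (MvPolynomial.map (algebraMap R₁ R) '' F) := by
    rw [hkerφ]
    refine congrArg Ideal.span (Eq.trans ?_ (Set.image_image _ _ F₀).symm)
    refine Set.image_congr fun q _ => ?_
    rw [MvPolynomial.map_map, ← IsScalarTower.algebraMap_eq]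
  obtain ⟨e₁⟩ := nonempty_relations_equiv F (KK K₀ R₁) (mem_KK_single F₀)
  haveI : Module.Flat R₁ (A₁ F) :=
    haveI := (flatC_iff_flat K₀).1 hflat
    Module.Flat.of_linearEquiv e₁.symm
  letI : Algebra (A₁ F) B := (toA φ F hker).toAlgebra
  haveI : IsScalarTower R₁ (A₁ F) B := .of_algebraMap_eq fun r => (toA_algebraMap φ F hker r).symm
  haveI h1 : Algebra.IsPushout R₁ R (A₁ F) B := isPushout φ hφ F hker (fun _ => rfl)
  exact ⟨R₁, A₁ F, inferInstance, inferInstance, inferInstance, inferInstance, Algebra.FiniteType.trans hft inferInstance,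
    inferInstance, inferInstance, ⟨Algebra.IsPushout.equiv R₁ R (A₁ F) B⟩⟩

end FlatAlgebraModel

/-- A flat finitely presented algebra with geometrically integral fibres is projective over the base. -/
theorem projective_of_geomIntegralFibres_fp (R B : Type u) [CommRing R] [CommRing B] [Algebra R B]
    [Algebra.FinitePresentation R B] [Module.Flat R B] (h : FlatCA.GeomIntegralFibres R B) :
    Module.Projective R B := by
  obtain ⟨R₁, A₁, _, _, _, _, hft, hA, hflat, ⟨eA⟩⟩ := exists_flat_model R B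
  haveI : IsNoetherianRing R₁ := Algebra.FiniteType.isNoetherianRing ℤ R₁
  obtain ⟨T, hT⟩ := exists_geomIntegral_stage (R₁ := R₁) (R := R) (B := A₁) (fun M _ _ _ _ => by
    haveI := geomIntegralFibres_iff.1 h M
    let e : M ⊗[R₁] A₁ ≃ₐ[M] M ⊗[R] B :=
      (Algebra.TensorProduct.cancelBaseChange R₁ R M M A₁).symm.trans
        (Algebra.TensorProduct.congr (AlgEquiv.refl (R := M) (A₁ := M)) eA)
    exact e.toRingEquiv.injective.isDomain e.toRingEquiv.toRingHom)
  let R₂ := Algebra.adjoin R₁ (T : Set R)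
  haveI : Algebra.FiniteType R₁ R₂ := R₂.fg_iff_finiteType.1 (Subalgebra.fg_adjoin_finset T)
  haveI : IsNoetherianRing R₂ := Algebra.FiniteType.isNoetherianRing R₁ R₂
  let B₂ := R₂ ⊗[R₁] A₁
  have hgeom : FlatCA.GeomIntegralFibres R₂ B₂ := by
    rw [geomIntegralFibres_iff]
    intro M _ _
    letI : Algebra R₁ M := ((algebraMap R₂ M).comp (algebraMap R₁ R₂)).toAlgebra
    haveI : IsScalarTower R₁ R₂ M := IsScalarTower.of_algebraMap_eq fun _ => rfl
    haveI := hT M
    let e := Algebra.TensorProduct.cancelBaseChange R₁ R₂ M M A₁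
    exact e.toRingEquiv.injective.isDomain e.toRingEquiv.toRingHom
  haveI := projective_of_geomIntegralFibres R₂ B₂ hgeom
  let e : R ⊗[R₂] B₂ ≃ₐ[R] B := (Algebra.TensorProduct.cancelBaseChange R₁ R₂ R R A₁).trans eA
  exact Module.Projective.of_equiv e.toLinearEquiv

/-- A smooth algebra with geometrically irreducible fibres has geometrically integral fibres. -/
theorem geomIntegralFibres_of_smooth (R B : Type u) [CommRing R] [CommRing B] [Algebra R B] [Algebra.Smooth R B]
    (h : FlatCA.GeomIrredFibres R B) : FlatCA.GeomIntegralFibres R B := by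
  rw [geomIrredFibres_iff] at h
  rw [geomIntegralFibres_iff]
  intro K _ _
  haveI := h K
  haveI : _root_.IsReduced (K ⊗[R] B) := QRepLib.isReduced_of_smooth_algebra K (K ⊗[R] B)
  have hp : (nilradical (K ⊗[R] B)).IsPrime :=
    PrimeSpectrum.irreducibleSpace_iff_isPrime_nilradical.1 inferInstance
  rw [nilradical_eq_zero] at hp
  haveI : (⊥ : Ideal (K ⊗[R] B)).IsPrime := hp
  exact IsDomain.of_bot_isPrime _

/-- Smooth algebras with geometrically irreducible fibres are projective. -/
theorem projective_of_smooth_geomIrred (R B : Type u) [CommRing R] [CommRing B] [Algebra R B] [Algebra.Smooth R B]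
    (h : FlatCA.GeomIrredFibres R B) : Module.Projective R B :=
  projective_of_geomIntegralFibres_fp R B (geomIntegralFibres_of_smooth R B h)

end Groth.Agent.RG11
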