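import Groth.Agent.RG11.DevissageIff
import Groth.Agent.RG11.GIProj
import Groth.Agent.S0582
import Groth.Agent.CAlgUI.Basic
import Groth.Agent.S0448

/-!
# Freeness along complete dévissages
-/

universe u

set_option linter.style.haveILetI false

namespace Groth.Agent.RG11

open TensorProduct

section Coker

variable {R S : Type u} [CommRing R] [CommRing S] [Algebra R S] {X M : Type u} [AddCommGroup X] [Module R X]
  [Module S X] [IsScalarTower R S X] [AddCommGroup M] [Module R M] [Module S M] [IsScalarTower R S M]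

/-- The cokernel of a universally injective map is flat where the target is. -/
theorem flatAt_coker_of_ui (f : X →ₗ[S] M) (hf : CAlgX.UniversallyInjective R (f.restrictScalars R)) (q : Ideal S)
    [q.IsPrime] (h : FlatCA.FlatAt R q M) : FlatCA.FlatAt R q (M ⧸ LinearMap.range f) := by
  rw [FlatFibres.flatAt_iff_forall] at h ⊢
  intro I z hz
  let π : M →ₗ[S] M ⧸ LinearMap.range f := (LinearMap.range f).mkQ
  have hπ : Function.Surjective π := Submodule.mkQ_surjective _
  have hex : Function.Exact (f.restrictScalars R) (π.restrictScalars R) := fun m => by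
    show π m = 0 ↔ m ∈ Set.range f
    rw [Submodule.mkQ_apply, Submodule.Quotient.mk_eq_zero]; rfl
  let πI := AlgebraTensorModule.rTensor R (I : Submodule R R) π
  obtain ⟨w, rfl⟩ := LinearMap.rTensor_surjective (↥I) (g := π.restrictScalars R) hπ z
  have hw : (π.restrictScalars R).rTensor R (I.subtype.lTensor M w) = 0 := by
    rw [← LinearMap.comp_apply, LinearMap.rTensor_comp_lTensor, ← LinearMap.lTensor_comp_rTensor]
    exact hz
  obtain ⟨m, hm⟩ := (rTensor_exact R hex hπ _).1 hw
  have hI : Function.Exact I.subtype (Submodule.mkQ (I : Submodule R R)) := fun x => by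
    rw [Submodule.mkQ_apply, Submodule.Quotient.mk_eq_zero]
    exact ⟨fun hx => ⟨⟨x, hx⟩, rfl⟩, fun ⟨y, hy⟩ => hy ▸ y.2⟩
  have hm0 : (Submodule.mkQ (I : Submodule R R)).lTensor X m = 0 := by
    refine hf (R ⧸ (I : Submodule R R)) ?_
    rw [map_zero, ← LinearMap.comp_apply, LinearMap.rTensor_comp_lTensor, ← LinearMap.lTensor_comp_rTensor,
      LinearMap.comp_apply, hm]
    exact (lTensor_exact M hI (Submodule.mkQ_surjective _) _).2 ⟨w, rfl⟩
  obtain ⟨m', hm'⟩ := (lTensor_exact X hI (Submodule.mkQ_surjective _) _).1 hm0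
  obtain ⟨s, hs, hsw⟩ := h I (w - (f.restrictScalars R).rTensor I m') (by
    rw [map_sub, ← hm, ← hm', ← LinearMap.comp_apply, LinearMap.rTensor_comp_lTensor,
      ← LinearMap.comp_apply, LinearMap.lTensor_comp_rTensor, sub_self])
  refine ⟨s, hs, ?_⟩
  have h0 : (π.restrictScalars R).rTensor I ((f.restrictScalars R).rTensor I m') = 0 :=
    (rTensor_exact (↥I) hex hπ _).2 ⟨m', rfl⟩
  have := congrArg πI hsw
  rw [map_smul, map_zero, map_sub] at this
  rw [show πI ((f.restrictScalars R).rTensor I m') = 0 from h0, sub_zero] at this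
  exact this

end Coker

/-- Injectivity modulo the maximal ideal in terms of elements. -/
theorem lTensor_residue_injective {R X L : Type u} [CommRing R] [IsLocalRing R] [AddCommGroup X] [Module R X]
    [AddCommGroup L] [Module R L] (β : X →ₗ[R] L)
    (h : ∀ x, β x ∈ IsLocalRing.maximalIdeal R • (⊤ : Submodule R L) →
      x ∈ IsLocalRing.maximalIdeal R • (⊤ : Submodule R X)) :
    Function.Injective (β.lTensor (IsLocalRing.ResidueField R)) := by
  let 𝔪 := IsLocalRing.maximalIdeal R
  have key : ∀ (Y : Type u) [AddCommGroup Y] [Module R Y] (y : Y),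
      ((1 : R ⧸ 𝔪) ⊗ₜ[R] y : (R ⧸ 𝔪) ⊗[R] Y) = 0 ↔ y ∈ 𝔪 • (⊤ : Submodule R Y) := by
    intro Y _ _ y
    rw [← (TensorProduct.quotTensorEquivQuotSMul Y 𝔪).map_eq_zero_iff]
    have : TensorProduct.quotTensorEquivQuotSMul Y 𝔪 ((1 : R ⧸ 𝔪) ⊗ₜ[R] y) = Submodule.Quotient.mk y := by
      rw [← map_one (Ideal.Quotient.mk 𝔪), TensorProduct.quotTensorEquivQuotSMul_mk_tmul, one_smul]
    rw [this, Submodule.Quotient.mk_eq_zero]
  suffices H : Function.Injective (β.lTensor (R ⧸ 𝔪)) from H
  rw [injective_iff_map_eq_zero]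
  intro z hz
  obtain ⟨x, rfl⟩ := TensorProduct.mk_surjective R X (R ⧸ 𝔪) Ideal.Quotient.mk_surjective z
  rw [TensorProduct.mk_apply, LinearMap.lTensor_tmul, key] at hz
  exact (key X x).2 (h x hz)

/-- The universal injectivity of a dévissage map. -/
theorem ui_of_fibre_bijective {R B M : Type u} [CommRing R] [IsLocalRing R] [CommRing B] [Algebra R B]
    [Module.Projective R B] [AddCommGroup M] [Module R M] [Module B M] [IsScalarTower R B M]
    [hP : ((IsLocalRing.maximalIdeal R).map (algebraMap R B)).IsPrime] {r : ℕ} (α : (Fin r → B) →ₗ[B] M)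
    (hα : Function.Bijective (α.baseChange ((IsLocalRing.maximalIdeal R).map (algebraMap R B)).ResidueField))
    (qB : Ideal B) [qB.IsPrime] [qB.LiesOver (IsLocalRing.maximalIdeal R)] (hflat : FlatCA.FlatAt R qB M) :
    CAlgX.UniversallyInjective R (α.restrictScalars R) := by
  set P := (IsLocalRing.maximalIdeal R).map (algebraMap R B) with hPdef
  let T := P.ResidueField
  haveI : Module.Flat R (LocalizedModule qB.primeCompl M) := hflat
  haveI : Module.Projective R (Fin r → B) :=
    Module.Projective.of_equiv (DFinsupp.linearEquivFunOnFintype (R := R) (M := fun _ : Fin r => B))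
  let L := LocalizedModule qB.primeCompl M
  let mkL : M →ₗ[B] L := LocalizedModule.mkLinearMap qB.primeCompl M
  refine CAlgUI.ui_of_comp (g := mkL.restrictScalars R) ?_
  refine Groth.Agent.S0448.result ((mkL.restrictScalars R) ∘ₗ (α.restrictScalars R)) (lTensor_residue_injective _ ?_)
  intro x hx
  have hle : P ≤ qB := Ideal.map_le_iff_le_comap.2 (qB.over_def (IsLocalRing.maximalIdeal R)).le
  have hu : ∀ s : qB.primeCompl, IsUnit (algebraMap B (Module.End B (T ⊗[B] M)) s) := by
    intro s
    have hne : algebraMap B T s ≠ 0 := fun h0 => s.2 (hle (Ideal.algebraMap_residueField_eq_zero.1 h0))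
    refine (Module.End.isUnit_iff _).2 ⟨fun a b hab => ?_, fun a => ⟨(algebraMap B T s)⁻¹ • a, ?_⟩⟩
    · rw [Module.algebraMap_end_apply, Module.algebraMap_end_apply, ← IsScalarTower.algebraMap_smul T (s : B) a,
        ← IsScalarTower.algebraMap_smul T (s : B) b] at hab
      exact (IsUnit.smul_left_cancel (isUnit_iff_ne_zero.2 hne)).1 hab
    · rw [Module.algebraMap_end_apply, ← IsScalarTower.algebraMap_smul T (s : B), smul_smul, mul_inv_cancel₀ hne,
        one_smul]
  let θ : L →ₗ[B] T ⊗[B] M := LocalizedModule.lift qB.primeCompl (TensorProduct.mk B T M 1) hu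
  have hθ : ∀ m, θ (mkL m) = (1 : T) ⊗ₜ[B] m := fun m =>
    LinearMap.congr_fun (LocalizedModule.lift_comp qB.primeCompl (TensorProduct.mk B T M 1) hu) m
  have hkill : ∀ l : L, l ∈ IsLocalRing.maximalIdeal R • (⊤ : Submodule R L) → θ l = 0 := fun l hl => by
    refine Submodule.smul_induction_on hl (fun a ha y _ => ?_) fun a b ha hb => by rw [map_add, ha, hb, add_zero]
    rw [← IsScalarTower.algebraMap_smul B a y, map_smul, ← IsScalarTower.algebraMap_smul T (algebraMap R B a),
      Ideal.algebraMap_residueField_eq_zero.2 (Ideal.mem_map_of_mem _ ha), zero_smul]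
  have h1 : α.baseChange T ((1 : T) ⊗ₜ[B] x) = 0 := by
    rw [LinearMap.baseChange_tmul, ← hθ]
    exact hkill _ hx
  have h2 : ((1 : T) ⊗ₜ[B] x) = 0 := hα.1 (h1.trans (map_zero _).symm)
  have h3 : ∀ i, x i ∈ P := fun i => by
    have := congrArg (fun z => TensorProduct.piScalarRight B B T (Fin r) z i) h2
    simp only [map_zero, TensorProduct.piScalarRight_apply, Pi.zero_apply] at this
    simp only [TensorProduct.piScalarRightHom_tmul, Algebra.smul_def, mul_one] at this
    exact Ideal.algebraMap_residueField_eq_zero.1 this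
  rw [show x = ∑ i, LinearMap.single R (fun _ : Fin r => B) i (x i) from (Finset.univ_sum_single x).symm]
  refine Submodule.sum_mem _ fun i _ => ?_
  have h4 : x i ∈ IsLocalRing.maximalIdeal R • (⊤ : Submodule R B) := by
    rw [Ideal.smul_top_eq_map]; exact h3 i
  have h5 := Submodule.mem_map_of_mem (f := LinearMap.single R (fun _ : Fin r => B) i) h4
  rw [Submodule.map_smul''] at h5
  exact Submodule.smul_mono le_rfl le_top h5

/-- An extension by a projective module splits. -/
theorem nonempty_equiv_prod_of_exact {R X M Y : Type u} [CommRing R] [AddCommGroup X] [Module R X] [AddCommGroup M]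
    [Module R M] [AddCommGroup Y] [Module R Y] [Module.Projective R Y] (f : X →ₗ[R] M) (g : M →ₗ[R] Y)
    (hf : Function.Injective f) (hg : Function.Surjective g) (hex : Function.Exact f g) :
    Nonempty (M ≃ₗ[R] X × Y) := by
  obtain ⟨s, hs⟩ := Module.projective_lifting_property g LinearMap.id hg
  have hs' : ∀ y, g (s y) = y := fun y => LinearMap.congr_fun hs y
  refine ⟨(LinearEquiv.ofBijective (f.coprod s) ⟨?_, fun m => ?_⟩).symm⟩
  · rw [injective_iff_map_eq_zero]
    rintro ⟨x, y⟩ h
    rw [LinearMap.coprod_apply] at h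
    have hy : y = 0 := by
      have := congrArg g h
      rwa [map_add, (hex _).2 ⟨x, rfl⟩, hs', zero_add, map_zero] at this
    rw [hy, map_zero, add_zero] at h
    have hx : x = 0 := hf (h.trans (map_zero f).symm)
    rw [hx, hy]
    rfl
  · obtain ⟨x, hx⟩ := (hex (m - s (g m))).1 (by rw [map_sub, hs', sub_self])
    exact ⟨(x, g m), by rw [LinearMap.coprod_apply, hx, sub_add_cancel]⟩

/-- A chain of split extensions gives a product. -/
theorem nonempty_equiv_pi_of_chain {R : Type u} [CommRing R] :
    ∀ (n : ℕ) (M X : ℕ → Type u) [∀ i, AddCommGroup (M i)] [∀ i, Module R (M i)] [∀ i, AddCommGroup (X i)]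
      [∀ i, Module R (X i)], 0 < n → (∀ i, i + 1 < n → Nonempty (M i ≃ₗ[R] X i × M (i + 1))) →
      Nonempty (M (n - 1) ≃ₗ[R] X (n - 1)) → Nonempty (M 0 ≃ₗ[R] ∀ i : Fin n, X i) := by
  intro n
  induction n with
  | zero => intro M X _ _ _ _ h; omega
  | succ k ih =>
    intro M X _ _ _ _ _ hstep hlast
    cases k with
    | zero =>
      obtain ⟨e⟩ := hlast
      exact ⟨e ≪≫ₗ (LinearEquiv.piUnique R fun i : Fin 1 => X i).symm⟩
    | succ k =>
      obtain ⟨e'⟩ := ih (fun i => M (i + 1)) (fun i => X (i + 1)) (Nat.succ_pos k)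
        (fun i hi => hstep (i + 1) (by omega)) hlast
      obtain ⟨e⟩ := hstep 0 (by omega)
      exact ⟨e ≪≫ₗ LinearEquiv.prodCongr (LinearEquiv.refl R _) e' ≪≫ₗ
        Fin.consLinearEquiv R (fun i : Fin (k + 2) => X i)⟩

/-- Finite presentation passes to finite algebras under the module. -/
theorem fp_of_restrict {A C M : Type u} [CommRing A] [CommRing C] [Algebra A C] [Module.Finite A C] [AddCommGroup M]
    [Module A M] [Module C M] [IsScalarTower A C M] [Module.Finite C M] (h : Module.FinitePresentation A M) :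
    Module.FinitePresentation C M := by
  obtain ⟨k, π, hπ⟩ := Module.Finite.exists_fin' C M
  refine Module.finitePresentation_of_surjective π hπ ?_
  obtain ⟨s, hs⟩ : (LinearMap.ker (π.restrictScalars A)).FG := Module.FinitePresentation.fg_ker _ hπ
  refine ⟨s, le_antisymm (Submodule.span_le.2 fun x hx => ?_) fun x hx => ?_⟩
  · exact hs.le (Submodule.subset_span hx)
  · exact Submodule.span_le_restrictScalars A C (s : Set (Fin k → C)) (hs.ge hx)

end Groth.Agent.RG11

namespace Groth.Agent.RG11

open TensorProduct IsLocalRing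

set_option maxHeartbeats 1000000 in
/-- Over a local ring, flatness at the point of a complete dévissage gives freeness and finite presentation. -/
theorem free_fp_of_completeDevissageAt {R S : Type u} [CommRing R] [IsLocalRing R] [CommRing S] [Algebra R S]
    [Algebra.FiniteType R S] (N : Type u) [AddCommGroup N] [Module S N] [Module R N] [IsScalarTower R S N]
    (q : Ideal S) [q.IsPrime] (hflat : FlatCA.FlatAt R q N)
    (D : FlatCA.CompleteDevissage R S N (maximalIdeal R))
    (E : FlatCA.CompleteDevissageAt R S N (maximalIdeal R) q D) :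
    Module.FinitePresentation S N ∧ Module.Free R N ∧
      Nonempty (N ≃ₗ[R] (∀ i : Fin D.n, Fin (D.r i) → D.B i)) := by
  letI := E.hqB
  letI := E.hqA
  haveI := E.overB
  haveI := E.overA
  have hpos : 0 < D.n := D.pos
  -- scalar towers
  haveI tA : ∀ i, IsScalarTower R (D.A i) (D.M i) := fun i => IsScalarTower.of_algebraMap_smul fun a m => by
    rw [IsScalarTower.algebraMap_apply R (D.B i) (D.A i), algebraMap_smul, algebraMap_smul]
  haveI tB' : ∀ i, IsScalarTower R (D.B i) (D.M (i + 1)) := fun i => IsScalarTower.of_algebraMap_smul fun a m => by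
    rw [← algebraMap_smul (D.A (i + 1)) (algebraMap R (D.B i) a) m, ← IsScalarTower.algebraMap_apply, algebraMap_smul]
  haveI tS : IsScalarTower R S (D.M 0) := IsScalarTower.of_algebraMap_smul fun a m => by
    rw [← algebraMap_smul (D.A 0) (algebraMap R S a) m, ← IsScalarTower.algebraMap_apply, algebraMap_smul]
  -- flatness at the first point
  haveI : Module.Finite S (D.A 0) := Module.Finite.of_surjective (Algebra.linearMap S (D.A 0)) D.surjSA
  have hfl : ∀ i, i < D.n → FlatCA.FlatAt R (E.qB i) (D.M i) := by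
    intro i
    induction i with
    | zero =>
      intro hi
      haveI := D.finiteBA 0 hi
      rw [flatAt_iff_of_unique (E.qB 0) (E.qA 0) ((E.qA 0).over_def (E.qB 0)).symm
        (fun r hr hr' => @FlatCA.CompleteDevissageAt.uniq _ _ _ _ _ _ _ _ _ _ _ _ _ E 0 hi r hr ⟨hr'.symm⟩) (D.M 0)]
      exact (FlatFibres.flatAt_iff_forall_over (T := D.A 0) q (D.M 0)).1 ((flatAt_congr N D.isoN q).1 hflat)
        (E.qA 0) E.q0
    | succ i ih =>
      intro hi
      haveI := D.finiteBA i (by omega)
      haveI := D.finiteBA (i + 1) hi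
      haveI : Module.Finite (D.B i) (D.A (i + 1)) :=
        Module.Finite.of_surjective (Algebra.linearMap (D.B i) (D.A (i + 1))) (D.surjBA' i hi)
      haveI := D.smooth i (by omega)
      haveI := projective_of_smooth_geomIrred R (D.B i) (D.geomIrred i (by omega))
      have h1 := flatAt_coker_of_ui (D.α i)
        (ui_of_fibre_bijective (D.α i) (D.fibreIso i (by omega)) (E.qB i) (ih (by omega))) (E.qB i) (ih (by omega))
      rw [flatAt_congr _ (D.isoCoker i hi) (E.qB i)] at h1
      rw [flatAt_iff_of_unique (E.qB (i + 1)) (E.qA (i + 1)) ((E.qA (i + 1)).over_def (E.qB (i + 1))).symm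
        (fun r hr hr' => @FlatCA.CompleteDevissageAt.uniq _ _ _ _ _ _ _ _ _ _ _ _ _ E (i + 1) hi r hr ⟨hr'.symm⟩)
        (D.M (i + 1))]
      exact (FlatFibres.flatAt_iff_forall_over (T := D.A (i + 1)) (E.qB i) (D.M (i + 1))).1 h1
        (E.qA (i + 1)) (E.qStep i hi)
  have hproj : ∀ i, i < D.n → Module.Projective R (D.B i) := fun i hi => by
    haveI := D.smooth i hi
    exact projective_of_smooth_geomIrred R (D.B i) (D.geomIrred i hi)
  have hui : ∀ i, i < D.n → Function.Injective (D.α i) := fun i hi => by
    haveI := hproj i hi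
    exact CAlgUI.ui_injective (f := (D.α i).restrictScalars R)
      (ui_of_fibre_bijective (D.α i) (D.fibreIso i hi) (E.qB i) (hfl i hi))
  have hfreeX : ∀ i, i < D.n → Module.Free R (Fin (D.r i) → D.B i) := fun i hi => by
    haveI := hproj i hi
    haveI : Module.Free R (D.B i) := Groth.Agent.S0582.result R (D.B i)
    infer_instance
  let g : ∀ i, i + 1 < D.n → (D.M i →ₗ[D.B i] D.M (i + 1)) := fun i hi =>
    (D.isoCoker i hi).toLinearMap ∘ₗ (LinearMap.range (D.α i)).mkQ
  have hg : ∀ i hi, Function.Surjective (g i hi) := fun i hi =>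
    (D.isoCoker i hi).surjective.comp (Submodule.mkQ_surjective _)
  have hex : ∀ i hi, Function.Exact (D.α i) (g i hi) := fun i hi m => by
    show (D.isoCoker i hi) ((LinearMap.range (D.α i)).mkQ m) = 0 ↔ _
    rw [LinearEquiv.map_eq_zero_iff, Submodule.mkQ_apply, Submodule.Quotient.mk_eq_zero]; rfl
  -- downward induction
  have hdown : ∀ j i, i + j + 1 = D.n → Module.FinitePresentation (D.B i) (D.M i) ∧ Module.Free R (D.M i) := by
    intro j
    induction j with
    | zero =>
      intro i hi
      obtain rfl : i = D.n - 1 := by omega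
      let e := LinearEquiv.ofBijective (D.α (D.n - 1)) ⟨hui _ (by omega), D.cokerLast⟩
      haveI := hfreeX (D.n - 1) (by omega)
      exact ⟨Module.FinitePresentation.of_equiv e, Module.Free.of_equiv (e.restrictScalars R)⟩
    | succ j ih =>
      intro i hi
      have hi' : i + 1 < D.n := by omega
      obtain ⟨h1, h2⟩ := ih (i + 1) (by omega)
      haveI := D.finiteBA (i + 1) hi'
      haveI := D.finiteM (i + 1) hi'
      haveI := fp_of_restrict (A := D.B (i + 1)) (C := D.A (i + 1)) (M := D.M (i + 1)) h1
      haveI := D.fpBA' i hi'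
      haveI : Module.Finite (D.B i) (D.A (i + 1)) :=
        Module.Finite.of_surjective (Algebra.linearMap (D.B i) (D.A (i + 1))) (D.surjBA' i hi')
      haveI : Module.FinitePresentation (D.B i) (D.A (i + 1)) := Module.FinitePresentation.of_finite_of_finitePresentation _ _
      haveI : Module.FinitePresentation (D.B i) (D.M (i + 1)) :=
        Module.FinitePresentation.trans (D.B i) (D.M (i + 1)) (D.A (i + 1))
      haveI : Module.FinitePresentation (D.B i) (LinearMap.ker (g i hi')) := Module.FinitePresentation.of_equiv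
        ((LinearEquiv.ofInjective (D.α i) (hui i (by omega))).trans
          (LinearEquiv.ofEq _ _ (LinearMap.exact_iff.1 (hex i hi')).symm))
      refine ⟨Module.finitePresentation_of_ker (g i hi') (hg i hi'), ?_⟩
      haveI := hfreeX i (by omega)
      obtain ⟨e⟩ := nonempty_equiv_prod_of_exact ((D.α i).restrictScalars R) ((g i hi').restrictScalars R)
        (hui i (by omega)) (hg i hi') (hex i hi')
      exact Module.Free.of_equiv e.symm
  obtain ⟨hfp0, hfree0⟩ := hdown (D.n - 1) 0 (by omega)
  have hchain : ∀ i, i + 1 < D.n → Nonempty (D.M i ≃ₗ[R] (Fin (D.r i) → D.B i) × D.M (i + 1)) := fun i hi => by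
    haveI := (hdown (D.n - 1 - (i + 1)) (i + 1) (by omega)).2
    exact nonempty_equiv_prod_of_exact ((D.α i).restrictScalars R) ((g i hi).restrictScalars R)
      (hui i (by omega)) (hg i hi) (hex i hi)
  obtain ⟨e⟩ := nonempty_equiv_pi_of_chain D.n D.M (fun i => Fin (D.r i) → D.B i) hpos hchain
    ⟨((LinearEquiv.ofBijective (D.α (D.n - 1)) ⟨hui _ (by omega), D.cokerLast⟩).restrictScalars R).symm⟩
  refine ⟨?_, Module.Free.of_equiv ((D.isoN.restrictScalars R).symm), ⟨(D.isoN.restrictScalars R).trans e⟩⟩
  haveI := D.finiteBA 0 hpos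
  haveI := D.finiteM 0 hpos
  haveI := fp_of_restrict (A := D.B 0) (C := D.A 0) (M := D.M 0) hfp0
  haveI := D.fpSA
  haveI : Module.FinitePresentation S (D.A 0) := Module.FinitePresentation.of_finite_of_finitePresentation _ _
  haveI : Module.FinitePresentation S (D.M 0) := Module.FinitePresentation.trans S (D.M 0) (D.A 0)
  exact Module.FinitePresentation.of_equiv D.isoN.symm

end Groth.Agent.RG11
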