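import Groth.Agent.RG11.UIBasic
import Groth.Agent.CAlgOdd.FreeComplUI
import Groth.Agent.CAlgOdd.NilProj
import Groth.Agent.CAlgUI.FlatML
import Groth.Agent.CAlgUI.Projective
import Mathlib

/-!
# Completions of modules which are flat and projective modulo the ideal
-/

universe u

set_option linter.style.haveILetI false
set_option linter.unusedSimpArgs false

namespace Groth.Agent.RG11

open TensorProduct

variable (R : Type u) [CommRing R] (I : Ideal R)

theorem flat_ml_completion_finsupp [IsNoetherianRing R] [IsAdicComplete I R] (α : Type u) :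
    Module.Flat R (AdicCompletion I (α →₀ R)) ∧ CAlg.IsMittagLeffler R (AdicCompletion I (α →₀ R)) := by
  refine ⟨FreeCompl.flat_adicCompletion_finsupp I, ?_⟩
  refine CAlgUI.ml_of_ui _ (CAlgOdd.FreeComplUI.universallyInjective I α) ?_
  let e : (α → AdicCompletion I R) ≃ₗ[R] (α → R) :=
    LinearEquiv.piCongrRight fun _ => (AdicCompletion.ofLinearEquiv I R).symm
  exact CAlgUI.ml_of_ui e.toLinearMap (CAlgUI.ui_of_leftInverse e.symm.toLinearMap (by ext x; simp))
    (CAlgUI.ml_powers (R := R) α)

variable {R} {M : Type u} [AddCommGroup M] [Module R M]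

/-- A flat module which is projective modulo a nilpotent ideal is projective there. -/
theorem projective_quot_pow [Module.Flat R M]
    [Module.Projective (R ⧸ I) (M ⧸ (I • ⊤ : Submodule R M))] (n : ℕ) :
    Module.Projective (R ⧸ I ^ (n + 1)) ((R ⧸ I ^ (n + 1)) ⊗[R] M) := by
  classical
  let Rn := R ⧸ I ^ (n + 1)
  let J : Ideal Rn := I.map (algebraMap R Rn)
  have hJ : IsNilpotent J := ⟨n + 1, by
    rw [← Ideal.map_pow, Ideal.zero_eq_bot, Ideal.Quotient.algebraMap_eq]; exact Ideal.map_quotient_self _⟩
  let A := Rn ⧸ J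
  haveI hP1 : Module.Projective (R ⧸ I) ((R ⧸ I) ⊗[R] M) := by
    exact Module.Projective.of_equiv ((TensorProduct.quotTensorEquivQuotSMul M I).extendScalarsOfSurjective
      Ideal.Quotient.mk_surjective).symm
  letI : Algebra (R ⧸ I) A := RingHom.toAlgebra (Ideal.Quotient.lift I (algebraMap R A) (fun a ha => by
    rw [IsScalarTower.algebraMap_apply R Rn A, Ideal.Quotient.algebraMap_eq (R := Rn)]
    exact Ideal.Quotient.eq_zero_iff_mem.2 (Ideal.mem_map_of_mem _ ha)))
  haveI : IsScalarTower R (R ⧸ I) A := IsScalarTower.of_algebraMap_eq fun r => rfl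
  haveI hP2 : Module.Projective A (A ⊗[Rn] (Rn ⊗[R] M)) := by
    exact Module.Projective.of_equiv
      ((TensorProduct.AlgebraTensorModule.cancelBaseChange R (R ⧸ I) A A M).trans
        (TensorProduct.AlgebraTensorModule.cancelBaseChange R Rn A A M).symm)
  obtain ⟨π, hπ⟩ : ∃ π : ((Rn ⊗[R] M) →₀ Rn) →ₗ[Rn] Rn ⊗[R] M, Function.Surjective π :=
    ⟨_, Finsupp.linearCombination_id_surjective Rn _⟩
  let K := LinearMap.ker π
  obtain ⟨t, ht⟩ := CAlgOdd.exists_section_of_flat_of_nilpotent (K := K) J hJ π hπ K.subtype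
    K.subtype_injective (LinearMap.exact_subtype_ker_map π) hP2
  exact Module.Projective.of_split t π ht

theorem projective_quot_pow' [Module.Flat R M]
    [Module.Projective (R ⧸ I) (M ⧸ (I • ⊤ : Submodule R M))] (n : ℕ) :
    Module.Projective (R ⧸ I ^ (n + 1)) (M ⧸ (I ^ (n + 1) • ⊤ : Submodule R M)) := by
  haveI := projective_quot_pow I (M := M) n
  exact Module.Projective.of_equiv ((TensorProduct.quotTensorEquivQuotSMul M (I ^ (n + 1))).extendScalarsOfSurjective
      Ideal.Quotient.mk_surjective)

/-- The completion of a flat module which is projective modulo the ideal is a retract of the completion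
of a free module. -/
theorem exists_retract_completion [Module.Flat R M]
    [Module.Projective (R ⧸ I) (M ⧸ (I • ⊤ : Submodule R M))] :
    ∃ (s : AdicCompletion I M →ₗ[R] AdicCompletion I (M →₀ R))
      (p : AdicCompletion I (M →₀ R) →ₗ[R] AdicCompletion I M), p ∘ₗ s = LinearMap.id := by
  classical
  let π : (M →₀ R) →ₗ[R] M := Finsupp.linearCombination R id
  have hπ : Function.Surjective π := Finsupp.linearCombination_id_surjective R M
  let F := M →₀ R
  let G : ℕ → Type u := fun n => M →ₗ[R] F ⧸ (I ^ n • ⊤ : Submodule R F)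
  let OK : ∀ n, G n → Prop := fun n s =>
    (LinearMap.reduceModIdeal (I ^ n) π).restrictScalars R ∘ₗ s = (I ^ n • ⊤ : Submodule R M).mkQ
  have hred : ∀ n (f : F), LinearMap.reduceModIdeal (I ^ n) π (Submodule.Quotient.mk f) = Submodule.Quotient.mk (π f) :=
    fun _ _ => rfl
  have step : ∀ n (s : {s : G n // OK n s}), ∃ s' : {s' : G (n + 1) // OK (n + 1) s'},
      AdicCompletion.transitionMap I F (Nat.le_succ n) ∘ₗ s'.1 = s.1 := by
    rintro n ⟨s, hs⟩
    haveI := projective_quot_pow' I (M := M) n
    let J := I ^ (n + 1)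
    have hs0 : (J • ⊤ : Submodule R M) ≤ LinearMap.ker s := by
      refine Submodule.smul_le.2 fun r hr m _ => ?_
      rw [LinearMap.mem_ker, map_smul]
      obtain ⟨f, hf⟩ := Submodule.Quotient.mk_surjective _ (s m)
      rw [← hf, ← Submodule.Quotient.mk_smul, Submodule.Quotient.mk_eq_zero]
      exact Submodule.smul_mem_smul (Ideal.pow_le_pow_right (Nat.le_succ n) hr) Submodule.mem_top
    let tr := AdicCompletion.transitionMap I F (Nat.le_succ n)
    let rp := (LinearMap.reduceModIdeal J π).restrictScalars R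
    let P := LinearMap.range (tr.prod rp)
    have hmem : ∀ m : M, ((s m), (J • ⊤ : Submodule R M).mkQ m) ∈ P := by
      intro m
      obtain ⟨f, hf⟩ := Submodule.Quotient.mk_surjective _ (s m)
      have h1 := LinearMap.congr_fun hs m
      rw [LinearMap.comp_apply, ← hf, LinearMap.restrictScalars_apply, hred, Submodule.mkQ_apply,
        Submodule.Quotient.eq] at h1
      have h2 : π f - m ∈ (I ^ n • ⊤ : Submodule R F).map π := by
        rw [Submodule.map_smul'', Submodule.map_top, LinearMap.range_eq_top.2 hπ]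
        exact h1
      obtain ⟨g, hg, hg'⟩ := h2
      refine ⟨Submodule.Quotient.mk (f - g), ?_⟩
      refine Prod.ext ?_ ?_
      · show tr (Submodule.Quotient.mk (f - g)) = s m
        rw [← hf]
        show Submodule.Quotient.mk (f - g) = Submodule.Quotient.mk f
        rw [Submodule.Quotient.eq]
        rw [sub_sub_cancel_left]; exact neg_mem hg
      · show rp (Submodule.Quotient.mk (f - g)) = _
        rw [show rp _ = _ from hred _ _, map_sub, hg', sub_sub_cancel]
        rfl
    let sb : (M ⧸ (J • ⊤ : Submodule R M)) →ₗ[R] (F ⧸ (I ^ n • ⊤ : Submodule R F)) :=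
      (J • ⊤ : Submodule R M).liftQ s hs0
    let tgt : (M ⧸ (J • ⊤ : Submodule R M)) →ₗ[R] P :=
      LinearMap.codRestrict P (sb.prod LinearMap.id) (fun q => by
        obtain ⟨m, rfl⟩ := Submodule.Quotient.mk_surjective _ q
        exact hmem m)
    have hJP : ∀ (r : R) (_ : r ∈ J) (q : P), r • q = 0 := by
      rintro r hr ⟨q, ⟨f, rfl⟩⟩
      obtain ⟨f, rfl⟩ := Submodule.Quotient.mk_surjective _ f
      apply Subtype.ext
      show r • (tr.prod rp) (Submodule.Quotient.mk f) = 0
      rw [← map_smul, ← Submodule.Quotient.mk_smul,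
        (Submodule.Quotient.mk_eq_zero _).2 (Submodule.smul_mem_smul hr Submodule.mem_top), map_zero]
    haveI hTP : Module.IsTorsionBySet R P J := fun q r => hJP r r.2 q
    letI : Module (R ⧸ J) P := hTP.module
    haveI : IsScalarTower R (R ⧸ J) P := Module.IsTorsionBySet.isScalarTower hTP
    have hsurj : Function.Surjective
        ((tr.prod rp).rangeRestrict.extendScalarsOfSurjective (Ideal.Quotient.mk_surjective (I := J))) :=
      (tr.prod rp).surjective_rangeRestrict
    obtain ⟨l, hl⟩ := Module.projective_lifting_property _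
      (tgt.extendScalarsOfSurjective (Ideal.Quotient.mk_surjective (I := J))) hsurj
    have key : ∀ q, (tr.prod rp) (l q) = (sb q, q) := fun q =>
      congrArg Subtype.val (LinearMap.congr_fun hl q)
    refine ⟨⟨l.restrictScalars R ∘ₗ (J • ⊤ : Submodule R M).mkQ, ?_⟩, ?_⟩
    · ext m
      exact congrArg Prod.snd (key (Submodule.Quotient.mk m))
    · ext m
      exact congrArg Prod.fst (key (Submodule.Quotient.mk m))
  choose next hnext using step
  haveI : Subsingleton (F ⧸ (I ^ 0 • ⊤ : Submodule R F)) :=
    Submodule.Quotient.subsingleton_iff.2 (by simp)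
  haveI : Subsingleton (M ⧸ (I ^ 0 • ⊤ : Submodule R M)) :=
    Submodule.Quotient.subsingleton_iff.2 (by simp)
  let seq : ∀ n, {s : G n // OK n s} :=
    fun n => Nat.rec ⟨0, LinearMap.ext fun _ => Subsingleton.elim _ _⟩ (fun n s => next n s) n
  let σ : ∀ n, AdicCompletion I M →ₗ[R] F ⧸ (I ^ n • ⊤ : Submodule R F) := fun n =>
    (I ^ n • ⊤ : Submodule R M).liftQ (seq n).1 (by
      refine Submodule.smul_le.2 fun r hr m _ => ?_
      rw [LinearMap.mem_ker, map_smul]
      obtain ⟨f, hf⟩ := Submodule.Quotient.mk_surjective _ ((seq n).1 m)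
      rw [← hf, ← Submodule.Quotient.mk_smul, Submodule.Quotient.mk_eq_zero]
      exact Submodule.smul_mem_smul hr Submodule.mem_top) ∘ₗ AdicCompletion.eval I M n
  have hσ : ∀ {m n : ℕ} (h : m ≤ n), AdicCompletion.transitionMap I F h ∘ₗ σ n = σ m := by
    intro m n h
    induction n, h using Nat.le_induction with
    | base => ext x; simp
    | succ n h ih =>
      rw [← ih]
      refine LinearMap.ext fun x => ?_
      obtain ⟨y, hy⟩ := Submodule.Quotient.mk_surjective _ (AdicCompletion.eval I M (n + 1) x)
      have hy' : AdicCompletion.eval I M n x = Submodule.Quotient.mk y := by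
        rw [show AdicCompletion.eval I M n x = AdicCompletion.transitionMap I M (Nat.le_succ n)
          (AdicCompletion.eval I M (n + 1) x) from (x.property (Nat.le_succ n)).symm, ← hy]
        rfl
      simp only [LinearMap.comp_apply, σ, hy', ← hy, Submodule.liftQ_apply]
      rw [← LinearMap.congr_fun (hnext n (seq n)) y, LinearMap.comp_apply]
      obtain ⟨w, hw⟩ := Submodule.Quotient.mk_surjective _ ((next n (seq n)).1 y)
      show AdicCompletion.transitionMap I F (le_trans h (Nat.le_succ n)) ((next n (seq n)).1 y) = _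
      rw [← hw]
      rfl
  refine ⟨AdicCompletion.lift I σ hσ, (AdicCompletion.map I π).restrictScalars R, ?_⟩
  refine LinearMap.ext fun x => AdicCompletion.ext fun {n} => ?_
  obtain ⟨y, hy⟩ := Submodule.Quotient.mk_surjective _ (AdicCompletion.eval I M n x)
  show LinearMap.reduceModIdeal (I ^ n) π (σ n x) = AdicCompletion.eval I M n x
  simp only [σ, LinearMap.comp_apply, ← hy, Submodule.liftQ_apply]
  exact LinearMap.congr_fun (seq n).2 y

theorem flat_ml_completion [IsNoetherianRing R] [IsAdicComplete I R] [Module.Flat R M]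
    [Module.Projective (R ⧸ I) (M ⧸ (I • ⊤ : Submodule R M))] :
    Module.Flat R (AdicCompletion I M) ∧ CAlg.IsMittagLeffler R (AdicCompletion I M) := by
  obtain ⟨s, p, h⟩ := exists_retract_completion I (M := M)
  obtain ⟨h1, h2⟩ := flat_ml_completion_finsupp R I M
  haveI := h1
  exact ⟨Module.Flat.of_retract s p h, CAlgUI.ml_of_ui s (CAlgUI.ui_of_leftInverse p h) h2⟩

end Groth.Agent.RG11
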