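import Groth.Agent.AssFiber.Basic
import Groth.Prelude.Def_FlatCA
import Mathlib

/-!
# Projective modules have no impurities
-/

universe u

set_option linter.style.haveILetI false

namespace Groth.Agent.RG11

open TensorProduct

attribute [local instance] Algebra.TensorProduct.rightAlgebra

section Coord

variable {A N : Type u} [CommRing A] [AddCommGroup N] [Module A N]

/-- Membership in `I • ⊤` is tested by coordinates. -/
theorem mem_smul_top_iff_forall_dual [Module.Projective A N] (I : Ideal A) (n : N) :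
    n ∈ I • (⊤ : Submodule A N) ↔ ∀ φ : N →ₗ[A] A, φ n ∈ I := by
  constructor
  · intro h φ
    induction h using Submodule.smul_induction_on' with
    | smul r hr m _ => rw [map_smul, smul_eq_mul]; exact Ideal.mul_mem_right _ _ hr
    | add a _ b _ ha hb => rw [map_add]; exact add_mem ha hb
  · intro h
    obtain ⟨s, hs⟩ := Module.projective_def.1 ‹Module.Projective A N›
    rw [← hs n, Finsupp.linearCombination_apply]
    exact Submodule.sum_mem _ fun i _ => Submodule.smul_mem_smul (h ((Finsupp.lapply i).comp s)) Submodule.mem_top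

theorem mem_smul_top_of_smul_mem [Module.Projective A N] (t : Ideal A) [t.IsPrime] {r : A} (hr : r ∉ t) {n : N}
    (h : r • n ∈ t • (⊤ : Submodule A N)) : n ∈ t • (⊤ : Submodule A N) := by
  rw [mem_smul_top_iff_forall_dual] at h ⊢
  intro φ
  have := h φ
  rw [map_smul, smul_eq_mul] at this
  exact ((inferInstance : t.IsPrime).mem_or_mem this).resolve_left hr

/-- An element which, up to `t'`, is moved deeper into `t` by a unit at `t` lies in `t' • ⊤`. -/
theorem mem_smul_top_of_content_end [Module.Projective A N] (t' t : Ideal A) [t'.IsPrime] [t.IsPrime] (hle : t' ≤ t)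
    (n : N) (a : A) (ha : a ∉ t) (c : Module.End A N) (hc : c ∈ t • (⊤ : Submodule A (Module.End A N)))
    (h : a • n - c n ∈ t' • (⊤ : Submodule A N)) : n ∈ t' • (⊤ : Submodule A N) := by
  classical
  obtain ⟨s, hs⟩ := Module.projective_def.1 ‹Module.Projective A N›
  let J : Ideal A := Ideal.span ((s n).support.image (fun i => s n i) : Finset A)
  have hnJ : n ∈ J • (⊤ : Submodule A N) := by
    rw [← hs n, Finsupp.linearCombination_apply]
    exact Submodule.sum_mem _ fun i hi => Submodule.smul_mem_smul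
      (Ideal.subset_span (Finset.mem_coe.2 (Finset.mem_image.2 ⟨i, hi, rfl⟩))) Submodule.mem_top
  have hbn : ∀ d : Module.End A N, d n ∈ J • (⊤ : Submodule A N) := fun d => by
    have h1 := Submodule.mem_map_of_mem (f := d) hnJ
    rw [Submodule.map_smul''] at h1
    exact Submodule.smul_mono le_rfl le_top h1
  have hcn : c n ∈ (t * J) • (⊤ : Submodule A N) := by
    clear h
    induction hc using Submodule.smul_induction_on' with
    | smul r hr d _ =>
      rw [LinearMap.smul_apply, Submodule.mul_smul]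
      exact Submodule.smul_mem_smul hr (hbn d)
    | add d _ e _ hd he => rw [LinearMap.add_apply]; exact add_mem hd he
  have hsub : ∀ φ : N →ₗ[A] A, a * φ n ∈ t * J ⊔ t' := fun φ => by
    have h1 := (mem_smul_top_iff_forall_dual _ _).1 hcn φ
    have h2 := (mem_smul_top_iff_forall_dual _ _).1 h φ
    rw [map_sub, map_smul, smul_eq_mul] at h2
    have := add_mem (Ideal.mem_sup_right h2 : _ ∈ t * J ⊔ t') (Ideal.mem_sup_left h1)
    rwa [sub_add_cancel] at this
  have hJ : ∀ x ∈ J, a * x ∈ t * J ⊔ t' := by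
    intro x hx
    refine Submodule.span_induction (p := fun x _ => a * x ∈ t * J ⊔ t') ?_ ?_ ?_ ?_ hx
    · intro y hy
      obtain ⟨i, -, rfl⟩ := Finset.mem_image.1 (Finset.mem_coe.1 hy)
      exact hsub ((Finsupp.lapply i).comp s)
    · rw [mul_zero]; exact zero_mem _
    · intro y z _ _ hy hz; rw [mul_add]; exact add_mem hy hz
    · intro d y _ hy; rw [smul_eq_mul, mul_left_comm]; exact Ideal.mul_mem_left _ _ hy
  -- Nakayama
  let L := Localization.AtPrime t
  let m := IsLocalRing.maximalIdeal L
  let J' := J.map (algebraMap A L)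
  let T' := t'.map (algebraMap A L)
  have hmt : t.map (algebraMap A L) = m := Localization.AtPrime.map_eq_maximalIdeal
  have hJ' : J' ≤ T' ⊔ m • J' := by
    refine Ideal.map_le_iff_le_comap.2 fun x hx => ?_
    rw [Ideal.mem_comap]
    obtain ⟨v, hv⟩ := (IsLocalization.map_units L (⟨a, ha⟩ : t.primeCompl)).exists_left_inv
    have h1 : algebraMap A L (a * x) ∈ T' ⊔ m • J' := by
      have := Ideal.mem_map_of_mem (algebraMap A L) (hJ x hx)
      rw [Ideal.map_sup, Ideal.map_mul, hmt, sup_comm] at this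
      exact this
    have h2 := Ideal.mul_mem_left _ v h1
    rwa [map_mul, ← mul_assoc, hv, one_mul] at h2
  have hle' : J' ≤ T' := by
    refine Submodule.le_of_le_smul_of_le_jacobson_bot ?_ ?_ hJ'
    · exact Ideal.FG.map (Submodule.fg_span (Finset.finite_toSet _)) (algebraMap A L)
    · exact (IsLocalRing.jacobson_eq_maximalIdeal ⊥ bot_ne_top).ge
  have hJt : J ≤ t' := by
    refine (Ideal.map_le_iff_le_comap.1 hle').trans (le_of_eq ?_)
    exact IsLocalization.comap_map_of_isPrime_disjoint t.primeCompl L inferInstance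
      (Set.disjoint_left.2 fun x hx hx' => hx (hle hx'))
  exact (Submodule.smul_mono_left hJt) hnJ

variable {B : Type u} [CommRing B] [Algebra A B] [Module B N] [IsScalarTower A B N]

/-- The same, for the action of an algebra. -/
theorem mem_smul_top_of_content [Module.Projective A N] (t' t : Ideal A) [t'.IsPrime] [t.IsPrime] (hle : t' ≤ t)
    (n : N) (a : A) (ha : a ∉ t) (c : B) (hc : c ∈ t.map (algebraMap A B))
    (h : a • n - c • n ∈ t' • (⊤ : Submodule A N)) : n ∈ t' • (⊤ : Submodule A N) := by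
  refine mem_smul_top_of_content_end t' t hle n a ha (Algebra.lsmul A A N c) ?_ h
  have h1 := Submodule.mem_map_of_mem (f := (Algebra.lsmul A A N : B →ₐ[A] Module.End A N).toLinearMap)
    (show c ∈ (t • ⊤ : Submodule A B) by rw [Ideal.smul_top_eq_map]; exact hc)
  rw [Submodule.map_smul''] at h1
  exact Submodule.smul_mono le_rfl le_top h1

end Coord

/-- A projective module has no impurity. -/
theorem exists_over_of_projective {A B N : Type u} [CommRing A] [CommRing B] [Algebra A B] [AddCommGroup N]
    [Module B N] [Module A N] [IsScalarTower A B N] [Module.Projective A N] (t' t : Ideal A) [t'.IsPrime] [t.IsPrime]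
    (hle : t' ≤ t) (P : Ideal B)
    (hass : FlatCA.fiberIdeal t' P ∈ associatedPrimes (t'.Fiber B) (FlatCA.fiberMod t' B N)) :
    ∃ P' : Ideal B, P'.IsPrime ∧ P ≤ P' ∧ P'.LiesOver t := by
  classical
  let S' : Submonoid B := Algebra.algebraMapSubmonoid B t.primeCompl
  let J : Ideal B := P ⊔ t.map (algebraMap A B)
  by_contra hcon
  push Not at hcon
  obtain ⟨z, hzJ, a, ha, rfl⟩ : ∃ z ∈ J, ∃ a ∉ t, algebraMap A B a = z := by
    by_contra! hne
    have hdisj : Disjoint (J : Set B) (S' : Set B) := by
      rw [Set.disjoint_left]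
      rintro _ hJ ⟨r, hr, rfl⟩
      exact hne _ hJ r hr rfl
    obtain ⟨Q, hQ, hJQ, hdQ⟩ := Ideal.exists_le_prime_disjoint J _ hdisj
    refine hcon Q hQ (le_sup_left.trans hJQ) ⟨le_antisymm (Ideal.map_le_iff_le_comap.1 (le_sup_right.trans hJQ)) ?_⟩
    exact fun r hr => by_contra fun h => Set.disjoint_left.1 hdQ hr ⟨r, h, rfl⟩
  obtain ⟨b, hb, c, hc, hbc⟩ := Submodule.mem_sup.1 hzJ
  obtain ⟨hpr, x, hx⟩ := hass
  have := AssFiber.isLocalizedModule_quotToFiber t' (S := B) N
  obtain ⟨⟨y, ⟨_, u, hu, rfl⟩⟩, hy⟩ := IsLocalizedModule.surj (Algebra.algebraMapSubmonoid B t'.primeCompl)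
    (AssFiber.quotToFiber t' (S := B) N) x
  obtain ⟨n, rfl⟩ := Submodule.Quotient.mk_surjective _ y
  have hn : FlatCA.toFiberMod t' (S := B) N n = algebraMap A B u • x := hy.symm
  let inc : B →+* t'.Fiber B := (Algebra.TensorProduct.includeRight (R := A) (A := t'.ResidueField) (B := B)).toRingHom
  have hsmul : ∀ (w : B) (v : FlatCA.fiberMod t' B N), inc w • v = w • v := fun w v =>
    IsScalarTower.algebraMap_smul (M := (t'.Fiber B) ⊗[B] N) (t'.Fiber B) w v
  have hbP : inc b ∈ (Submodule.colon (⊥ : Submodule (t'.Fiber B) (FlatCA.fiberMod t' B N)) {x}).radical :=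
    hx.le (Ideal.mem_map_of_mem inc hb)
  obtain ⟨k, hk⟩ := hbP
  rw [Submodule.mem_colon_singleton, Submodule.mem_bot, ← map_pow, hsmul] at hk
  -- `a ^ k = b ^ k + c'`
  have hc' : algebraMap A B a ^ k - b ^ k ∈ t.map (algebraMap A B) := by
    obtain ⟨d, hd⟩ := sub_dvd_pow_sub_pow (algebraMap A B a) b k
    rw [hd, ← hbc, add_sub_cancel_left]
    exact Ideal.mul_mem_right _ _ hc
  obtain ⟨r, hr, hrn⟩ := AssFiber.exists_smul_mem_of_toFiberMod_eq_zero t' (S := B) N (n := b ^ k • n) (by
    rw [map_smul, hn, smul_comm, hk, smul_zero])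
  have h1 := AssFiber.mem_smul_top_of_mem_pN t' N hrn
  rw [algebraMap_smul] at h1
  have h2 : b ^ k • n ∈ t' • (⊤ : Submodule A N) := mem_smul_top_of_smul_mem t' hr h1
  have hak : a ^ k ∉ t := fun h => ha ((inferInstance : t.IsPrime).mem_of_pow_mem k h)
  have h3 : n ∈ t' • (⊤ : Submodule A N) := by
    refine mem_smul_top_of_content t' t hle n (a ^ k) hak (algebraMap A B a ^ k - b ^ k) hc' ?_
    rwa [sub_smul, ← map_pow, algebraMap_smul, sub_sub_cancel]
  have h4 := AssFiber.toFiberMod_eq_zero_of_mem t' (S := B) N (AssFiber.smul_mem_pN t' N h3)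
  -- so `x = 0`
  have hunit : IsUnit (inc (algebraMap A B u)) := by
    show IsUnit ((1 : t'.ResidueField) ⊗ₜ[A] algebraMap A B u)
    rw [Algebra.algebraMap_eq_smul_one, ← smul_tmul, ← Algebra.algebraMap_eq_smul_one]
    have hne : algebraMap A t'.ResidueField u ≠ 0 := fun h => hu (Ideal.algebraMap_residueField_eq_zero.1 h)
    exact (isUnit_iff_ne_zero.2 hne).map
      (Algebra.TensorProduct.includeLeftRingHom (R := A) (A := t'.ResidueField) (B := B))
  have hx0 : x = 0 := hunit.smul_eq_zero.1 (by rw [hsmul, ← hn, h4])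
  refine hpr.ne_top ?_
  rw [hx, hx0, Submodule.colon_singleton_zero, Ideal.radical_top]

end Groth.Agent.RG11
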