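import Groth.Agent.RG11.LocalNhd
import Mathlib

/-!
# Flatness and finite presentation along a fibre after étale localisation
-/

universe u

set_option linter.style.haveILetI false

namespace Groth.Agent.RG11

open TensorProduct

/-- Finitely many étale neighbourhoods are dominated by one. -/
theorem exists_common_nhd {R : Type u} [CommRing R] (p : Ideal R) [p.IsPrime] {ι : Type u} (Ri : ι → Type u)
    [∀ i, CommRing (Ri i)] [∀ i, Algebra R (Ri i)] (pi : ∀ i, Ideal (Ri i)) [∀ i, (pi i).IsPrime]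
    (h : ∀ i, FlatCA.IsEtaleNhd R (Ri i) p (pi i)) (s : Finset ι) :
    ∃ (R' : Type u) (_ : CommRing R') (_ : Algebra R R') (p' : Ideal R') (_ : p'.IsPrime),
      FlatCA.IsEtaleNhd R R' p p' ∧ ∀ i ∈ s, ∃ e : Ri i →ₐ[R] R', p'.comap e.toRingHom = pi i := by
  classical
  induction s using Finset.induction_on with
  | empty =>
    exact ⟨R, _, Algebra.id R, p, inferInstance,
      (TrivExt.of_surjective Function.surjective_id (Ideal.comap_id _)).isEtaleNhd,
      fun i hi => absurd hi (Finset.notMem_empty i)⟩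
  | insert a s _ ih =>
    obtain ⟨R', _, _, p', _, hn, hs⟩ := ih
    haveI := (h a).1
    haveI := hn.1
    have ha : TrivExt p (pi a) := TrivExt.of_isEtaleNhd (h a)
    have hp' : TrivExt p p' := TrivExt.of_isEtaleNhd hn
    let X := Ri a ⊗[R] R'
    obtain ⟨P, hP, hPa, hPb⟩ := exists_prime_over (T := R') ha p' hp'.comap_eq
    haveI := hP
    haveI : Algebra.Etale R X := Algebra.Etale.comp R (Ri a) X
    letI : Algebra R' X := (incR (Ri a)).toAlgebra
    haveI : IsScalarTower R R' X := IsScalarTower.of_algebraMap_eq fun r =>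
      ((Algebra.TensorProduct.includeRight : R' →ₐ[R] X).commutes r).symm
    have hX : TrivExt p P := hp'.trans (trivExt_incR ha p' hp'.comap_eq P hPa hPb)
    refine ⟨X, inferInstance, inferInstance, P, hP, hX.isEtaleNhd, fun i hi => ?_⟩
    obtain rfl | hi := Finset.mem_insert.1 hi
    · exact ⟨IsScalarTower.toAlgHom R (Ri i) X, hPa⟩
    · obtain ⟨e, he⟩ := hs i hi
      refine ⟨(Algebra.TensorProduct.includeRight : R' →ₐ[R] X).comp e, ?_⟩
      rw [← he, ← hPb, Ideal.comap_comap]
      rfl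

set_option maxHeartbeats 1600000 in
/-- A neighbourhood in the fibre of a point of flatness, on which the conclusions hold after any finer étale
neighbourhood. -/
theorem exists_fibre_open {R S : Type u} [CommRing R] [CommRing S] [Algebra R S] [Algebra.FiniteType R S]
    (N : Type u) [AddCommGroup N] [Module S N] [Module R N] [IsScalarTower R S N] [Module.Finite S N]
    (p : Ideal R) [p.IsPrime] (q : Ideal S) [q.IsPrime] [q.LiesOver p] (hflat : FlatCA.FlatAt R q N) :
    ∃ (R₁ : Type u) (_ : CommRing R₁) (_ : Algebra R R₁) (p₁ : Ideal R₁) (_ : p₁.IsPrime),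
      FlatCA.IsEtaleNhd R R₁ p p₁ ∧ ∃ t ∉ q,
      ∀ (R' : Type u) [CommRing R'] [Algebra R R'] (p' : Ideal R') [p'.IsPrime], FlatCA.IsEtaleNhd R R' p p' →
      ∀ e : R₁ →ₐ[R] R', p'.comap e.toRingHom = p₁ →
      ∀ (SA NA : Type u) [CommRing SA] [Algebra R SA] [Algebra S SA] [Algebra (Localization.AtPrime p') SA]
        [IsScalarTower R S SA] [IsScalarTower R (Localization.AtPrime p') SA]
        [Algebra.IsPushout R S (Localization.AtPrime p') SA]
        [AddCommGroup NA] [Module SA NA] [Module S NA] [IsScalarTower S SA NA]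
        [Module (Localization.AtPrime p') NA] [IsScalarTower (Localization.AtPrime p') SA NA]
        (f : N →ₗ[S] NA), IsBaseChange SA f →
        ∀ (Q : Ideal SA) [Q.IsPrime], Q.LiesOver (IsLocalRing.maximalIdeal (Localization.AtPrime p')) →
          algebraMap S SA t ∉ Q → ∃ g : SA, g ∉ Q ∧
            Module.FinitePresentation (Localization.Away g) (LocalizedModule (Submonoid.powers g) NA) ∧
            Module.Flat (Localization.AtPrime p') (LocalizedModule (Submonoid.powers g) NA) := by
  obtain ⟨R₁, _, _, p₁, _, hn₁, H⟩ := exists_local_nhd N p q hflat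
  refine ⟨R₁, _, _, p₁, inferInstance, hn₁, ?_⟩
  have hp₁ : TrivExt p p₁ := TrivExt.of_isEtaleNhd hn₁
  haveI := hn₁.1
  let A₁ := Localization.AtPrime p₁
  have hA₁ : TrivExt p (IsLocalRing.maximalIdeal A₁) := hp₁.trans (trivExt_atPrime p₁)
  let S₁ := A₁ ⊗[R] S
  letI : Algebra S S₁ := Algebra.TensorProduct.rightAlgebra
  haveI : IsScalarTower R S S₁ := IsScalarTower.of_algebraMap_eq fun r =>
    ((Algebra.TensorProduct.includeRight : S →ₐ[R] S₁).commutes r).symm
  haveI : Algebra.IsPushout R S A₁ S₁ := Algebra.IsPushout.symm inferInstance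
  haveI : Module.Flat R₁ A₁ := IsLocalization.flat A₁ p₁.primeCompl
  haveI : Module.Flat R A₁ := Module.Flat.trans R R₁ A₁
  haveI : Module.Flat S S₁ := Module.Flat.of_linearEquiv (Algebra.TensorProduct.commRight R S A₁).symm.toLinearEquiv
  obtain ⟨N₁, _, _, _, _, _, _, f₁, hf₁⟩ : ∃ (N₁ : Type u) (_ : AddCommGroup N₁) (_ : Module S₁ N₁) (_ : Module S N₁)
      (_ : IsScalarTower S S₁ N₁) (_ : Module A₁ N₁) (_ : IsScalarTower A₁ S₁ N₁) (f : N →ₗ[S] N₁), IsBaseChange S₁ f :=
    ⟨S₁ ⊗[S] N, inferInstance, inferInstance, inferInstance, inferInstance, inferInstance, inferInstance,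
      TensorProduct.mk S S₁ N 1, TensorProduct.isBaseChange S N S₁⟩
  letI : Module R N₁ := Module.compHom N₁ (algebraMap R S₁)
  haveI : IsScalarTower R S₁ N₁ := ⟨fun r s m => by
    show (r • s) • m = algebraMap R S₁ r • s • m
    rw [← algebraMap_smul S₁ r s, smul_eq_mul, mul_smul]⟩
  haveI : IsScalarTower R A₁ N₁ := IsScalarTower.of_algebraMap_smul fun r m => by
    rw [← algebraMap_smul S₁ (algebraMap R A₁ r) m, ← IsScalarTower.algebraMap_apply]
    rfl
  obtain ⟨g₁, hg₁, hfp₁, hfl₁⟩ := H S₁ N₁ f₁ hf₁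
  obtain ⟨Q₁, hQ₁, hQ₁A, hQ₁q⟩ := exists_prime_over (T := S) hA₁ q (Ideal.LiesOver.over (P := q) (p := p)).symm
  haveI := hQ₁
  obtain ⟨a, ha, t, hat⟩ := exists_smul_sub_mem hA₁ g₁
  have hmQ : ∀ Q : Ideal S₁, Q.comap (algebraMap A₁ S₁) = IsLocalRing.maximalIdeal A₁ →
      algebraMap R S₁ a * g₁ - (1 : A₁) ⊗ₜ[R] t ∈ Q := fun Q hQ => Ideal.map_le_iff_le_comap.2 hQ.ge hat
  have ht : t ∉ q := fun htq => by
    have h1 := hmQ Q₁ hQ₁A
    have h2 : (1 : A₁) ⊗ₜ[R] t ∈ Q₁ := (hQ₁q.ge htq :)
    have h3 : algebraMap R S₁ a * g₁ ∈ Q₁ := by simpa using add_mem h1 h2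
    rcases hQ₁.mem_or_mem h3 with h4 | h4
    · refine ha (hA₁.comap_eq.le ?_)
      rw [Ideal.mem_comap, ← hQ₁A, Ideal.mem_comap, ← IsScalarTower.algebraMap_apply]
      exact h4
    · exact hg₁ Q₁ ⟨hQ₁q.symm⟩ ⟨hQ₁A.symm⟩ h4
  refine ⟨t, ht, ?_⟩
  intro R' _ _ p' _ hn' e he SA NA _ _ _ _ _ _ _ _ _ _ _ _ _ f hf Q _ hQm htQ
  have hp' : TrivExt p p' := TrivExt.of_isEtaleNhd hn'
  haveI := hn'.1
  let A := Localization.AtPrime p'
  let l : A₁ →+* A := Localization.localRingHom p₁ p' e.toRingHom he.symm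
  haveI hl : IsLocalHom l := Localization.isLocalHom_localRingHom p₁ p' e.toRingHom he.symm
  have hlR : ∀ r, l (algebraMap R A₁ r) = algebraMap R A r := fun r => by
    rw [IsScalarTower.algebraMap_apply R R₁ A₁, Localization.localRingHom_to_map]
    show algebraMap R' A (e (algebraMap R R₁ r)) = _
    rw [e.commutes, ← IsScalarTower.algebraMap_apply]
  let lA : A₁ →ₐ[R] SA := ((IsScalarTower.toAlgHom R A SA)).comp { l with commutes' := hlR }
  let j : S₁ →ₐ[R] SA := Algebra.TensorProduct.lift lA (IsScalarTower.toAlgHom R S SA) fun _ _ => .all _ _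
  have hjA : ∀ c : A₁, j (algebraMap A₁ S₁ c) = algebraMap A SA (l c) := fun c => by
    show j (c ⊗ₜ[R] (1 : S)) = _
    exact (Algebra.TensorProduct.lift_tmul _ _ _ _ _).trans (by rw [map_one, mul_one]; rfl)
  have hjS : ∀ x : S, j ((1 : A₁) ⊗ₜ[R] x) = algebraMap S SA x := fun x =>
    (Algebra.TensorProduct.lift_tmul _ _ _ _ _).trans (by rw [map_one, one_mul]; rfl)
  letI : Algebra S₁ SA := j.toRingHom.toAlgebra
  haveI : IsScalarTower S S₁ SA := IsScalarTower.of_algebraMap_eq fun x => (hjS x).symm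
  have hQ' : (Q.comap j.toRingHom).comap (algebraMap A₁ S₁) = IsLocalRing.maximalIdeal A₁ := by
    rw [Ideal.comap_comap, show j.toRingHom.comp (algebraMap A₁ S₁) = (algebraMap A SA).comp l from RingHom.ext hjA,
      ← Ideal.comap_comap, show Q.comap (algebraMap A SA) = IsLocalRing.maximalIdeal A from hQm.over.symm]
    exact IsLocalRing.maximalIdeal_comap l
  have hg : j g₁ ∉ Q := fun hgQ => htQ <| by
    have h1 : algebraMap R S₁ a * g₁ - (1 : A₁) ⊗ₜ[R] t ∈ Q.comap j.toRingHom := hmQ _ hQ'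
    have h2 : algebraMap R S₁ a * g₁ ∈ Q.comap j.toRingHom := Ideal.mul_mem_left _ _ hgQ
    have h3 : (1 : A₁) ⊗ₜ[R] t ∈ Q.comap j.toRingHom := by simpa using sub_mem h2 h1
    rw [← hjS]
    exact h3
  -- the module
  letI : Module S₁ NA := Module.compHom NA (algebraMap S₁ SA)
  haveI : IsScalarTower S₁ SA NA := IsScalarTower.of_algebraMap_smul fun _ _ => rfl
  haveI : IsScalarTower S S₁ NA := IsScalarTower.of_algebraMap_smul fun x m => by
    show algebraMap S₁ SA (algebraMap S S₁ x) • m = x • m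
    rw [← IsScalarTower.algebraMap_apply, algebraMap_smul]
  let φ : N₁ →ₗ[S₁] NA := hf₁.lift f
  have hφ : IsBaseChange SA φ := IsBaseChange.of_comp hf₁ (by
    rw [show (φ.restrictScalars S).comp f₁ = f from LinearMap.ext fun m => hf₁.lift_eq f m]
    exact hf)
  refine ⟨j g₁, hg, ?_, (flat_away_iff_forall NA _).2 fun Q' _ hQ'g => ?_⟩
  · let B₁ := Localization.Away g₁
    let B := Localization.Away (j g₁)
    letI : Algebra B₁ B := (IsLocalization.Away.lift g₁ (g := algebraMap S₁ B) (by
      rw [IsScalarTower.algebraMap_apply S₁ SA B]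
      exact IsLocalization.Away.algebraMap_isUnit (j g₁))).toAlgebra
    haveI : IsScalarTower S₁ B₁ B := IsScalarTower.of_algebraMap_eq fun w => (IsLocalization.Away.lift_eq g₁ _ w).symm
    rw [fp_localizedModule_iff NA _ B, fp_tensor_baseChange_iff φ hφ B₁ B]
    haveI := (fp_localizedModule_iff N₁ (Submonoid.powers g₁) B₁).1 hfp₁
    infer_instance
  · let P₁ := Q'.comap j.toRingHom
    have h1 : FlatCA.FlatAt A₁ P₁ N₁ := (flat_away_iff_forall N₁ g₁).1 hfl₁ P₁ hQ'g
    have h2 : FlatCA.FlatAt R P₁ N₁ := by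
      haveI : Module.Flat A₁ (LocalizedModule P₁.primeCompl N₁) := h1
      exact Module.Flat.trans R A₁ (LocalizedModule P₁.primeCompl N₁)
    haveI : P₁.LiesOver (Q'.comap (algebraMap S SA)) := ⟨by
      rw [Ideal.under, Ideal.comap_comap]
      exact congrArg (fun φ => Ideal.comap φ Q') (RingHom.ext fun x => (hjS x).symm)⟩
    have h3 : FlatCA.FlatAt R (Q'.comap (algebraMap S SA)) N :=
      (FlatFibres.flatAt_iff_of_isBaseChange f₁ hf₁ _ P₁).2 h2
    haveI : Module.Flat R' A := IsLocalization.flat A p'.primeCompl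
    haveI : Module.Flat R A := Module.Flat.trans R R' A
    haveI : Module.Flat S SA := by
      haveI : Algebra.IsPushout R A S SA := Algebra.IsPushout.symm inferInstance
      haveI : Algebra.IsPushout R S A SA := inferInstance
      exact Module.Flat.of_linearEquiv (Algebra.IsPushout.equiv R S A SA).symm.toLinearEquiv
    haveI : Q'.LiesOver (Q'.comap (algebraMap S SA)) := ⟨rfl⟩
    letI : Module R NA := Module.compHom NA (algebraMap R SA)
    haveI : IsScalarTower R SA NA := IsScalarTower.of_algebraMap_smul fun _ _ => rfl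
    have h4 : FlatCA.FlatAt R Q' NA := (FlatFibres.flatAt_iff_of_isBaseChange f hf _ Q').1 h3
    letI : Algebra R' SA := ((algebraMap A SA).comp (algebraMap R' A)).toAlgebra
    haveI : IsScalarTower R' A SA := IsScalarTower.of_algebraMap_eq fun _ => rfl
    haveI : IsScalarTower R R' SA := IsScalarTower.of_algebraMap_eq fun r => by
      show algebraMap R SA r = algebraMap A SA (algebraMap R' A (algebraMap R R' r))
      rw [← IsScalarTower.algebraMap_apply R R' A, ← IsScalarTower.algebraMap_apply]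
    letI : Module R' NA := Module.compHom NA (algebraMap R' SA)
    haveI : IsScalarTower R' SA NA := IsScalarTower.of_algebraMap_smul fun _ _ => rfl
    haveI : IsScalarTower R R' NA := IsScalarTower.of_algebraMap_smul fun r m => by
      show algebraMap R' SA (algebraMap R R' r) • m = algebraMap R SA r • m
      rw [← IsScalarTower.algebraMap_apply]
    haveI : IsScalarTower R' A NA := IsScalarTower.of_algebraMap_smul fun r m => by
      rw [← algebraMap_smul SA (algebraMap R' A r) m]
      rfl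
    exact (Module.flat_iff_of_isLocalization A p'.primeCompl (LocalizedModule Q'.primeCompl NA)).2
      ((Groth.Agent.S1231.result (R := R) (T := R') NA Q').1.1 h4)

/-- Flatness and finite presentation along a fibre after étale localisation. -/
theorem exists_fibre_nhd {R S : Type u} [CommRing R] [CommRing S] [Algebra R S] [Algebra.FiniteType R S]
    (N : Type u) [AddCommGroup N] [Module S N] [Module R N] [IsScalarTower R S N] [Module.Finite S N]
    (p : Ideal R) [p.IsPrime] (hflat : ∀ (q : Ideal S) [q.IsPrime], q.LiesOver p → FlatCA.FlatAt R q N) :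
    ∃ (R' : Type u) (_ : CommRing R') (_ : Algebra R R') (p' : Ideal R') (_ : p'.IsPrime), FlatCA.IsEtaleNhd R R' p p' ∧
      ∀ (SA NA : Type u) [CommRing SA] [Algebra R SA] [Algebra S SA] [Algebra (Localization.AtPrime p') SA]
        [IsScalarTower R S SA] [IsScalarTower R (Localization.AtPrime p') SA]
        [Algebra.IsPushout R S (Localization.AtPrime p') SA]
        [AddCommGroup NA] [Module SA NA] [Module S NA] [IsScalarTower S SA NA]
        [Module (Localization.AtPrime p') NA] [IsScalarTower (Localization.AtPrime p') SA NA]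
        (f : N →ₗ[S] NA), IsBaseChange SA f →
        ∀ (Q : Ideal SA) [Q.IsPrime], Q.LiesOver (IsLocalRing.maximalIdeal (Localization.AtPrime p')) →
        ∃ g : SA, g ∉ Q ∧
          Module.FinitePresentation (Localization.Away g) (LocalizedModule (Submonoid.powers g) NA) ∧
          Module.Flat (Localization.AtPrime p') (LocalizedModule (Submonoid.powers g) NA) := by
  classical
  let ι := { q : PrimeSpectrum S // q.asIdeal.comap (algebraMap R S) = p }
  have hq : ∀ i : ι, _ := fun i => haveI : i.1.asIdeal.LiesOver p := ⟨i.2.symm⟩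
    exists_fibre_open N p i.1.asIdeal (hflat i.1.asIdeal inferInstance)
  choose Ri c1 c2 pi c3 hn t ht H using hq
  let J : Ideal S := Ideal.span (Set.range t) ⊔ p.map (algebraMap R S)
  obtain ⟨u, huJ, hup⟩ : ∃ u ∈ J.comap (algebraMap R S), u ∉ p := by
    by_contra! hne
    have hdisj : Disjoint (J : Set S) (Algebra.algebraMapSubmonoid S p.primeCompl : Set S) := by
      rw [Set.disjoint_left]
      rintro _ hJ ⟨r, hr, rfl⟩
      exact hr (hne r hJ)
    obtain ⟨P, hP, hJP, hdP⟩ := Ideal.exists_le_prime_disjoint J _ hdisj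
    have hPp : P.comap (algebraMap R S) = p := le_antisymm
      (fun r hr => by_contra fun h => Set.disjoint_left.1 hdP hr ⟨r, h, rfl⟩)
      (Ideal.map_le_iff_le_comap.1 (le_sup_right.trans hJP))
    exact ht ⟨⟨P, hP⟩, hPp⟩ (hJP (Ideal.mem_sup_left (Ideal.subset_span ⟨_, rfl⟩)))
  obtain ⟨x, hx, y, hy, hxy⟩ := Submodule.mem_sup.1 huJ
  obtain ⟨T, hT, hxT⟩ := Submodule.mem_span_finite_of_mem_span hx
  obtain ⟨s, -, rfl⟩ : ∃ s : Finset ι, ↑s ⊆ (Set.univ : Set ι) ∧ s.image t = T := by
    refine Finset.subset_set_image_iff.1 ?_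
    rwa [Set.image_univ]
  obtain ⟨R', _, _, p', _, hn', he⟩ := exists_common_nhd p Ri pi hn s
  refine ⟨R', inferInstance, inferInstance, p', inferInstance, hn', ?_⟩
  intro SA NA _ _ _ _ _ _ _ _ _ _ _ _ _ f hf Q _ hQm
  have hQp : (Q.comap (algebraMap S SA)).comap (algebraMap R S) = p := by
    rw [Ideal.comap_comap, ← IsScalarTower.algebraMap_eq, IsScalarTower.algebraMap_eq R (Localization.AtPrime p') SA,
      ← Ideal.comap_comap, show Q.comap (algebraMap (Localization.AtPrime p') SA) = _ from hQm.over.symm]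
    exact ((TrivExt.of_isEtaleNhd hn').trans (trivExt_atPrime p')).comap_eq
  obtain ⟨i, hi, hit⟩ : ∃ i ∈ s, algebraMap S SA (t i) ∉ Q := by
    by_contra! hall
    refine hup (hQp.le ?_)
    rw [Ideal.mem_comap, ← hxy]
    refine add_mem ?_ (Ideal.map_le_iff_le_comap.2 hQp.ge hy)
    refine (Submodule.span_le.2 ?_) hxT
    intro w hw
    obtain ⟨i, hi, rfl⟩ := Finset.mem_image.1 hw
    exact hall i hi
  obtain ⟨e, he'⟩ := he i hi
  exact H i R' p' hn' e he' SA NA f hf Q hQm hit

end Groth.Agent.RG11
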