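import Groth.Agent.RG11.LocalNhd
import Groth.Agent.RG11.FibreNhd
import Mathlib

/-!
# Étale covers of a fibre by algebras with complete dévissages
-/

universe u

set_option linter.style.haveILetI false

namespace Groth.Agent.RG11

open TensorProduct
open FlatFibres (fibSupp)

/-- The zero module has a complete dévissage. -/
theorem devissage_of_subsingleton {R S : Type u} [CommRing R] [CommRing S] [Algebra R S] (N : Type u) [AddCommGroup N]
    [Module S N] [Subsingleton N] (p : Ideal R) [p.IsPrime] : Nonempty (FlatCA.CompleteDevissage R S N p) := by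
  haveI hp : (p.map (algebraMap R R)).IsPrime := by rw [Algebra.algebraMap_self, Ideal.map_id]; infer_instance
  let T := PUnit.{u + 1}
  letI : Algebra R T := { algebraMap := { toFun := fun _ => PUnit.unit, map_one' := rfl, map_mul' := fun _ _ => rfl, map_zero' := rfl, map_add' := fun _ _ => rfl }, smul := fun _ _ => PUnit.unit, commutes' := fun _ _ => rfl, smul_def' := fun _ _ => rfl }
  letI : Algebra S T := { algebraMap := { toFun := fun _ => PUnit.unit, map_one' := rfl, map_mul' := fun _ _ => rfl, map_zero' := rfl, map_add' := fun _ _ => rfl }, smul := fun _ _ => PUnit.unit, commutes' := fun _ _ => rfl, smul_def' := fun _ _ => rfl }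
  haveI : IsScalarTower R S T := IsScalarTower.of_algebraMap_eq fun _ => rfl
  haveI : IsScalarTower R R T := IsScalarTower.of_algebraMap_eq fun _ => rfl
  have hS : Function.Surjective (algebraMap S T) := fun _ => ⟨0, rfl⟩
  have hfp : Algebra.FinitePresentation S T :=
    Algebra.FinitePresentation.of_surjective (f := Algebra.ofId S T) hS
      (by
        rw [show RingHom.ker (Algebra.ofId S T).toRingHom = ⊤ from eq_top_iff.2 fun x _ => rfl]
        exact ⟨{1}, by simp⟩)
  refine ⟨
    { n := 1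
      pos := Nat.one_pos
      A := fun _ => T
      B := fun _ => R
      M := fun _ => T
      r := fun _ => 0
      cA := fun _ => inferInstanceAs (CommRing T)
      cB := fun _ => inferInstanceAs (CommRing R)
      aRA := fun _ => inferInstanceAs (Algebra R T)
      aRB := fun _ => inferInstanceAs (Algebra R R)
      aBA := fun _ => inferInstanceAs (Algebra R T)
      tRBA := fun _ => inferInstanceAs (IsScalarTower R R T)
      aSA := inferInstanceAs (Algebra S T)
      tRSA := inferInstanceAs (IsScalarTower R S T)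
      aBA' := fun _ => inferInstanceAs (Algebra R T)
      tRBA' := fun _ => inferInstanceAs (IsScalarTower R R T)
      gM := fun _ => inferInstanceAs (AddCommGroup T)
      mAM := fun _ => inferInstanceAs (Module T T)
      mBM := fun _ => inferInstanceAs (Module R T)
      tBAM := fun _ => inferInstanceAs (IsScalarTower R T T)
      mRM := fun _ => inferInstanceAs (Module R T)
      tRBM := fun _ => inferInstanceAs (IsScalarTower R R T)
      mSM := inferInstanceAs (Module S T)
      tSAM := inferInstanceAs (IsScalarTower S T T)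
      mB'M := fun _ => inferInstanceAs (Module R T)
      tB'AM := fun _ => inferInstanceAs (IsScalarTower R T T)
      hp := fun _ => hp
      α := fun _ => 0
      surjSA := hS
      fpSA := hfp
      surjBA' := fun i hi => absurd hi (by omega)
      fpBA' := fun i hi => absurd hi (by omega)
      finiteBA := fun _ _ => Module.Finite.of_surjective (Algebra.linearMap R T) fun _ => ⟨0, rfl⟩
      smooth := fun _ _ => inferInstanceAs (Algebra.Smooth R R)
      geomIrred := fun _ _ => geomIrredFibres_iff.2 fun K _ _ => by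
        haveI : IsDomain (K ⊗[R] R) := (Algebra.TensorProduct.rid R R K).toRingEquiv.injective.isDomain
          (Algebra.TensorProduct.rid R R K).toRingEquiv.toRingHom
        infer_instance
      finiteM := fun _ _ => Module.Finite.self T
      isoN :=
        { toFun := fun _ => PUnit.unit, invFun := fun _ => 0, map_add' := fun _ _ => rfl, map_smul' := fun _ _ => rfl,
          left_inv := fun _ => Subsingleton.elim _ _, right_inv := fun _ => rfl }
      isoCoker := fun i hi => absurd hi (by omega)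
      fibreIso := fun i _ => ?_
      cokerLast := fun _ => ⟨0, rfl⟩ }⟩
  haveI : Subsingleton ((p.map (algebraMap R R)).ResidueField ⊗[R] (Fin 0 → R)) :=
    subsingleton_of_forall_eq 0 fun w => by
      induction w using TensorProduct.induction_on with
      | zero => rfl
      | add a b ha hb => rw [ha, hb, add_zero]
      | tmul c x => rw [Subsingleton.elim x 0, TensorProduct.tmul_zero]
  haveI : Subsingleton ((p.map (algebraMap R R)).ResidueField ⊗[R] T) :=
    subsingleton_of_forall_eq 0 fun w => by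
      induction w using TensorProduct.induction_on with
      | zero => rfl
      | add a b ha hb => rw [ha, hb, add_zero]
      | tmul c x => rw [Subsingleton.elim x 0, TensorProduct.tmul_zero]
  exact ⟨fun a b _ => Subsingleton.elim a b, fun b => ⟨0, Subsingleton.elim _ _⟩⟩

set_option maxHeartbeats 1600000 in
/-- An étale algebra with a complete dévissage, covering an open of the fibre, after any finer étale
neighbourhood. -/
theorem exists_devissage_open {R S : Type u} [CommRing R] [CommRing S] [Algebra R S] [Algebra.FiniteType R S]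
    (N : Type u) [AddCommGroup N] [Module S N] [Module.Finite S N]
    (p : Ideal R) [p.IsPrime] (q : Ideal S) [q.IsPrime] [q.LiesOver p] :
    ∃ (R₂ : Type u) (_ : CommRing R₂) (_ : Algebra R R₂) (p₂ : Ideal R₂) (_ : p₂.IsPrime),
      FlatCA.IsEtaleNhd R R₂ p p₂ ∧ ∃ t ∉ q,
      ∀ (A' : Type u) [CommRing A'] [Algebra R A'] (p' : Ideal A') [p'.IsPrime], FlatCA.IsEtaleNhd R A' p p' →
      ∀ e : R₂ →ₐ[R] A', p'.comap e.toRingHom = p₂ →
      ∀ (SA NA : Type u) [CommRing SA] [Algebra S SA] [Algebra A' SA] [Algebra R SA]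
        [IsScalarTower R S SA] [IsScalarTower R A' SA] [Algebra.IsPushout R S A' SA]
        [AddCommGroup NA] [Module SA NA] [Module S NA] [IsScalarTower S SA NA]
        (f : N →ₗ[S] NA), IsBaseChange SA f →
        ∃ (C : Type u) (_ : CommRing C) (_ : Algebra SA C) (_ : Algebra A' C) (_ : IsScalarTower A' SA C)
          (Nc : Type u) (_ : AddCommGroup Nc) (_ : Module C Nc) (_ : Module SA Nc) (_ : IsScalarTower SA C Nc)
          (g : NA →ₗ[SA] Nc),
          Algebra.Etale SA C ∧ IsBaseChange C g ∧ Nonempty (FlatCA.CompleteDevissage A' C Nc p') ∧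
          ∀ (Q : Ideal SA) [Q.IsPrime], Q.LiesOver p' → algebraMap S SA t ∉ Q →
            ∃ Q' : Ideal C, Q'.IsPrime ∧ Q'.comap (algebraMap SA C) = Q := by
  by_cases hsupp : (⟨q, inferInstance⟩ : PrimeSpectrum S) ∈ Module.support S N
  swap
  · rw [Module.support_eq_zeroLocus, PrimeSpectrum.mem_zeroLocus, Set.not_subset] at hsupp
    obtain ⟨d, hd, hdq⟩ := hsupp
    refine ⟨R, inferInstance, Algebra.id R, p, inferInstance,
      (TrivExt.of_surjective Function.surjective_id (Ideal.comap_id _)).isEtaleNhd, d, hdq, ?_⟩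
    intro A' _ _ p' _ _ _ _ SA NA _ _ _ _ _ _ _ _ _ _ _ f hf
    let u := algebraMap S SA d
    let C := Localization.Away u
    have hkill : ∀ m : NA, u • m = 0 := fun m => by
      refine hf.inductionOn m (fun m => u • m = 0) (smul_zero _) (fun n => ?_)
        (fun c m hm => by rw [smul_comm, hm, smul_zero]) fun a b ha hb => by rw [smul_add, ha, hb, add_zero]
      rw [algebraMap_smul, ← map_smul, Module.mem_annihilator.1 hd n, map_zero]
    haveI : Subsingleton (C ⊗[SA] NA) := subsingleton_of_forall_eq 0 fun w => by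
      induction w using TensorProduct.induction_on with
      | zero => rfl
      | add a b ha hb => rw [ha, hb, add_zero]
      | tmul c m =>
        refine (IsLocalization.Away.algebraMap_isUnit (S := C) u).smul_eq_zero.1 ?_
        rw [algebraMap_smul, ← TensorProduct.tmul_smul, hkill, TensorProduct.tmul_zero]
    refine ⟨C, inferInstance, inferInstance, inferInstance, inferInstance, C ⊗[SA] NA, inferInstance, inferInstance,
      inferInstance, inferInstance, TensorProduct.mk SA C NA 1, Algebra.Etale.of_isLocalizationAway u,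
      TensorProduct.isBaseChange SA NA C, devissage_of_subsingleton _ p', fun Q _ _ hQ => ?_⟩
    have hdis : Disjoint (Submonoid.powers u : Set SA) Q := (Ideal.disjoint_powers_iff_notMem_of_isPrime _).2 hQ
    exact ⟨Q.map (algebraMap SA C), IsLocalization.isPrime_of_isPrime_disjoint (Submonoid.powers u) _ _ inferInstance hdis,
      IsLocalization.comap_map_of_isPrime_disjoint (Submonoid.powers u) C (I := Q) inferInstance hdis⟩
  letI : Algebra p.ResidueField q.ResidueField :=
    (Ideal.ResidueField.mapₐ p q (Algebra.ofId R S) (Ideal.LiesOver.over (P := q) (p := p))).toRingHom.toAlgebra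
  haveI : IsScalarTower R p.ResidueField q.ResidueField := IsScalarTower.of_algebraMap_eq fun r =>
    ((Ideal.ResidueField.mapₐ p q (Algebra.ofId R S) (Ideal.LiesOver.over (P := q) (p := p))).commutes r).symm
  have hq : (⟨q, inferInstance⟩ : PrimeSpectrum S) ∈ fibSupp p S N := ⟨hsupp, (Ideal.LiesOver.over (P := q) (p := p)).symm⟩
  obtain ⟨hh', c, hh, -, -⟩ := exists_dims N p q.ResidueField (IsScalarTower.toAlgHom R S q.ResidueField)
    (isAlgebraic_residueField q) ⟨_, hq⟩ (Ideal.ker_algebraMap_residueField q)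
  obtain ⟨R₁, S₁, N₁, _, _, _, _, _, _, _, _, _, p₁, q₁, _, _, φ, hetR₁, hetS₁, hp₁, hq₁, hq₁p, hRS, hφ, hgood⟩ :=
    exists_hasGood hh' N p q hq hh.le
  haveI := hetR₁
  haveI := hetS₁
  haveI := hp₁.liesOver
  obtain ⟨h, hh1, hiso⟩ := Ideal.exists_not_mem_forall_mem_of_ne_of_liesOver p p₁
  have h11 : TrivExt p₁ p₁ := TrivExt.of_surjective Function.surjective_id (Ideal.comap_id _)
  obtain ⟨q₃, hq₃pr, hq₃p, hq₃q⟩ := exists_prime_over (T := S₁) h11 q₁ hq₁p
  haveI := hq₃pr
  let h₁ := algebraMap R₁ S₁ h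
  have hh3 : incR R₁ h₁ ∉ q₃ := fun hm => hh1 (hq₁p.le (hq₃q.le hm))
  obtain ⟨f₀, hf₀, s, hds, hs, H⟩ := hgood R₁ p₁ h11 q₃ hq₃p hq₃q (incR R₁ h₁) hh3
  let s₁ : S₁ := Algebra.TensorProduct.lid R₁ S₁ s
  have hss : s = (1 : R₁) ⊗ₜ[R₁] s₁ := ((Algebra.TensorProduct.lid R₁ S₁).symm_apply_apply s).symm
  have hh1s : h₁ ∣ s₁ := by
    have h5 := map_dvd (Algebra.TensorProduct.lid R₁ S₁) hds
    rwa [show Algebra.TensorProduct.lid R₁ S₁ (incR R₁ h₁) = h₁ by
      show Algebra.TensorProduct.lid R₁ S₁ ((1 : R₁) ⊗ₜ[R₁] h₁) = h₁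
      simp] at h5
  have hsq : s₁ ∉ q₁ := fun hm => hs (by rw [hss]; exact (hq₃q.ge hm :))
  have hopen := PrimeSpectrum.isOpenMap_comap_of_hasGoingDown_of_finitePresentation (R := S) (S := S₁) _
    (PrimeSpectrum.basicOpen s₁).2
  obtain ⟨_, ⟨t, rfl⟩, ht, hsub⟩ := PrimeSpectrum.isTopologicalBasis_basic_opens.exists_subset_of_mem_open
    (show (⟨q, inferInstance⟩ : PrimeSpectrum S) ∈ PrimeSpectrum.comap (algebraMap S S₁) ''
        (PrimeSpectrum.basicOpen s₁ : Set (PrimeSpectrum S₁)) from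
      ⟨⟨q₁, inferInstance⟩, hsq, PrimeSpectrum.ext hq₁.comap_eq⟩) hopen
  let R₂ := Localization.Away f₀
  haveI : Algebra.Etale R₁ R₂ := Algebra.Etale.of_isLocalizationAway f₀
  haveI : Algebra.Etale R R₂ := Algebra.Etale.comp R R₁ R₂
  haveI hp₂pr : (p₁.map (algebraMap R₁ R₂)).IsPrime :=
    IsLocalization.isPrime_of_isPrime_disjoint (Submonoid.powers f₀) _ _ inferInstance
      ((Ideal.disjoint_powers_iff_notMem_of_isPrime _).2 hf₀)
  have hp₁₂ : TrivExt p₁ (p₁.map (algebraMap R₁ R₂)) := TrivExt.of_localization f₀ hf₀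
  refine ⟨R₂, inferInstance, inferInstance, p₁.map (algebraMap R₁ R₂), hp₂pr, (hp₁.trans hp₁₂).isEtaleNhd, t, ht, ?_⟩
  intro A' _ _ p' _ hn' e he SA NA _ _ _ _ _ _ _ _ _ _ _ f hf
  haveI := hn'.1
  have hp' : TrivExt p p' := TrivExt.of_isEtaleNhd hn'
  letI : Algebra R₁ A' := (e.toRingHom.comp (algebraMap R₁ R₂)).toAlgebra
  haveI : IsScalarTower R R₁ A' := IsScalarTower.of_algebraMap_eq fun r => by
    show algebraMap R A' r = e (algebraMap R₁ R₂ (algebraMap R R₁ r))
    rw [← IsScalarTower.algebraMap_apply, e.commutes]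
  have hp'₁ : p'.comap (algebraMap R₁ A') = p₁ := by
    show p'.comap (e.toRingHom.comp (algebraMap R₁ R₂)) = p₁
    rw [← Ideal.comap_comap, he, hp₁₂.comap_eq]
  have h₄ : TrivExt p₁ p' := ⟨hp'₁, fun r => by
    obtain ⟨a, b, ha, hab⟩ := hp'.exists_sub_mem r
    refine ⟨algebraMap R R₁ a, algebraMap R R₁ b, (hp₁.not_mem_iff a).2 ha, ?_⟩
    rwa [← IsScalarTower.algebraMap_apply, ← IsScalarTower.algebraMap_apply]⟩
  let e₄ : R₁ →ₐ[R₁] A' := Algebra.ofId R₁ A'
  have hef : IsUnit (e₄ f₀) := (IsLocalization.Away.algebraMap_isUnit (S := R₂) f₀).map e.toRingHom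
  let Y := A' ⊗[R₁] S₁
  let s₄ := Algebra.TensorProduct.map e₄ (AlgHom.id R₁ S₁) s
  have hs₄ : s₄ = incR A' s₁ := by
    show Algebra.TensorProduct.map e₄ (AlgHom.id R₁ S₁) s = _
    rw [hss, Algebra.TensorProduct.map_tmul, map_one]
    rfl
  obtain ⟨S₄, _, _, _, _, _⟩ : ∃ (S₄ : Type u) (_ : CommRing S₄) (_ : Algebra Y S₄) (_ : Algebra A' S₄)
      (_ : IsScalarTower A' Y S₄), IsLocalization.Away s₄ S₄ :=
    ⟨Localization.Away s₄, inferInstance, inferInstance, inferInstance, inferInstance, inferInstance⟩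
  letI : Algebra S₁ S₄ := ((algebraMap Y S₄).comp (incR A')).toAlgebra
  obtain ⟨q₄, hq₄pr, hq₄p, hq₄q, hq₄t, -⟩ := exists_point_away h₄ s₄ (B := S₄) rfl q₁ hq₁p (fun W hW hWp hWq hsW =>
    hsq (hWq.le (show incR A' s₁ ∈ W from hs₄ ▸ hsW)))
  haveI := hq₄pr
  letI : Algebra S₁ Y := (incR A').toAlgebra
  haveI : IsScalarTower S₁ Y S₄ := IsScalarTower.of_algebraMap_eq fun _ => rfl
  haveI : Algebra.Etale R₁ A' := Algebra.Etale.of_restrictScalars R _ _
  haveI : Algebra.Etale S₁ Y := Algebra.Etale.of_equiv (Algebra.TensorProduct.commRight R₁ S₁ A')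
  haveI : Algebra.Etale Y S₄ := Algebra.Etale.of_isLocalizationAway s₄
  haveI : Algebra.Etale S₁ S₄ := Algebra.Etale.comp S₁ Y S₄
  letI : Algebra S S₄ := ((algebraMap S₁ S₄).comp (algebraMap S S₁)).toAlgebra
  haveI : IsScalarTower S S₁ S₄ := IsScalarTower.of_algebraMap_eq fun _ => rfl
  haveI : Algebra.Etale S S₄ := Algebra.Etale.comp S S₁ S₄
  letI : Algebra R S₄ := ((algebraMap A' S₄).comp (algebraMap R A')).toAlgebra
  haveI : IsScalarTower R A' S₄ := IsScalarTower.of_algebraMap_eq fun _ => rfl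
  haveI : IsScalarTower R S S₄ := IsScalarTower.of_algebraMap_eq fun r => by
    show algebraMap A' S₄ (algebraMap R A' r) = algebraMap Y S₄ (incR A' (algebraMap S S₁ (algebraMap R S r)))
    rw [← hRS, IsScalarTower.algebraMap_apply R R₁ A', IsScalarTower.algebraMap_apply A' Y S₄,
      ← IsScalarTower.algebraMap_apply R₁ A' Y]
    exact congrArg _ ((Algebra.TensorProduct.includeRight : S₁ →ₐ[R₁] Y).commutes _).symm
  -- the map from the base change
  haveI : Algebra.IsPushout R A' S SA := Algebra.IsPushout.symm inferInstance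
  let l : A' ⊗[R] S →ₐ[A'] S₄ :=
    Algebra.TensorProduct.lift (Algebra.ofId A' S₄) (IsScalarTower.toAlgHom R S S₄) fun _ _ => .all _ _
  let E := Algebra.IsPushout.equiv R A' S SA
  let ι : SA →ₐ[A'] S₄ := l.comp E.symm.toAlgHom
  have hE : ∀ x, E.symm (algebraMap S SA x) = (1 : A') ⊗ₜ[R] x := fun x =>
    (AlgEquiv.symm_apply_eq _).2 (by rw [Algebra.IsPushout.equiv_tmul, map_one, one_mul])
  have hιS : ∀ x, ι (algebraMap S SA x) = algebraMap S S₄ x := fun x => by
    show l (E.symm (algebraMap S SA x)) = _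
    rw [hE]
    exact (Algebra.TensorProduct.lift_tmul _ _ _ _ _).trans (by rw [map_one, one_mul]; rfl)
  letI : Algebra SA S₄ := ι.toRingHom.toAlgebra
  haveI : IsScalarTower A' SA S₄ := IsScalarTower.of_algebraMap_eq fun a => (ι.commutes a).symm
  haveI : IsScalarTower S SA S₄ := IsScalarTower.of_algebraMap_eq fun x => (hιS x).symm
  haveI : Algebra.Etale S SA := Algebra.Etale.of_equiv (Algebra.IsPushout.equiv R S A' SA)
  haveI : Algebra.Etale SA S₄ := Algebra.Etale.of_restrictScalars S _ _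
  let Nc := S₄ ⊗[S] N
  let ψ : N₁ →ₗ[S₁] Nc := hφ.lift (TensorProduct.mk S S₄ N 1)
  have hψ : IsBaseChange S₄ ψ := IsBaseChange.of_comp hφ (by
    rw [show (ψ.restrictScalars S) ∘ₗ φ = TensorProduct.mk S S₄ N 1 from hφ.lift_comp _]
    exact TensorProduct.isBaseChange S N S₄)
  let g : NA →ₗ[SA] Nc := hf.lift (TensorProduct.mk S S₄ N 1)
  have hg : IsBaseChange S₄ g := IsBaseChange.of_comp hf (by
    rw [show (g.restrictScalars S) ∘ₗ f = TensorProduct.mk S S₄ N 1 from hf.lift_comp _]
    exact TensorProduct.isBaseChange S N S₄)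
  obtain ⟨D, -⟩ := H A' e₄ p' h₄ hp'₁ hef S₄ rfl q₄ hq₄p hq₄q Nc ψ hψ
  refine ⟨S₄, inferInstance, inferInstance, inferInstance, inferInstance, Nc, inferInstance, inferInstance,
    inferInstance, inferInstance, g, inferInstance, hg, ⟨D⟩, fun Q _ hQp htQ => ?_⟩
  -- the covering
  have hQS : (Q.comap (algebraMap S SA)).comap (algebraMap R S) = p := by
    rw [Ideal.comap_comap, ← IsScalarTower.algebraMap_eq, IsScalarTower.algebraMap_eq R A' SA, ← Ideal.comap_comap,
      ← hp'.comap_eq]
    exact congrArg (Ideal.comap _) hQp.over.symm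
  obtain ⟨Q₁, hQ₁, hQ₁q⟩ := hsub (show (⟨Q.comap (algebraMap S SA), inferInstance⟩ : PrimeSpectrum S) ∈ _ from htQ)
  have hQ₁q' : Q₁.asIdeal.comap (algebraMap S S₁) = Q.comap (algebraMap S SA) := congrArg PrimeSpectrum.asIdeal hQ₁q
  have hQ₁p : Q₁.asIdeal.comap (algebraMap R₁ S₁) = p₁ := by_contra fun hne => hQ₁
    (Ideal.mem_of_dvd _ hh1s (hiso _ (Ideal.IsPrime.comap _) hne ⟨by
      rw [Ideal.under_def, Ideal.comap_comap, show (algebraMap R₁ S₁).comp (algebraMap R R₁) =
        (algebraMap S S₁).comp (algebraMap R S) from RingHom.ext hRS, ← Ideal.comap_comap, hQ₁q', hQS]⟩))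
  obtain ⟨W, hW, hWp, hWQ⟩ := exists_prime_over (T := S₁) h₄ Q₁.asIdeal hQ₁p
  haveI := hW
  have hsW : s₄ ∉ W := fun hm => hQ₁ (hWQ.le (show incR A' s₁ ∈ W from hs₄ ▸ hm))
  have hdis : Disjoint (Submonoid.powers s₄ : Set Y) W := (Ideal.disjoint_powers_iff_notMem_of_isPrime _).2 hsW
  haveI : (W.map (algebraMap Y S₄)).IsPrime :=
    IsLocalization.isPrime_of_isPrime_disjoint (Submonoid.powers s₄) _ _ inferInstance hdis
  have hcW : (W.map (algebraMap Y S₄)).comap (algebraMap Y S₄) = W :=
    IsLocalization.comap_map_of_isPrime_disjoint (Submonoid.powers s₄) S₄ (I := W) inferInstance hdis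
  refine ⟨W.map (algebraMap Y S₄), inferInstance, ?_⟩
  let W' := (W.map (algebraMap Y S₄)).comap (algebraMap SA S₄)
  show W' = Q
  have hWA : W'.comap (algebraMap A' SA) = p' := by
    rw [Ideal.comap_comap, ← IsScalarTower.algebraMap_eq, IsScalarTower.algebraMap_eq A' Y S₄, ← Ideal.comap_comap,
      hcW, hWp]
  have hWS : W'.comap (algebraMap S SA) = Q.comap (algebraMap S SA) := by
    rw [Ideal.comap_comap, ← IsScalarTower.algebraMap_eq, IsScalarTower.algebraMap_eq S S₁ S₄,
      show algebraMap S₁ S₄ = (algebraMap Y S₄).comp (incR A') from rfl, ← Ideal.comap_comap, ← Ideal.comap_comap,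
      hcW, hWQ, hQ₁q']
  have hEeq : W'.comap E.toRingEquiv.toRingHom = Q.comap E.toRingEquiv.toRingHom := by
    have hA : E.toRingEquiv.toRingHom.comp (algebraMap A' (A' ⊗[R] S)) = algebraMap A' SA :=
      RingHom.ext fun a => E.commutes a
    have hS : E.toRingEquiv.toRingHom.comp (incR A') = algebraMap S SA := RingHom.ext fun x => by
      show E ((1 : A') ⊗ₜ[R] x) = _
      rw [Algebra.IsPushout.equiv_tmul, map_one, one_mul]
    refine eq_of_comap_eq hp' _ _ ?_ ?_ ?_
    · rw [Ideal.comap_comap, hA, hWA]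
    · rw [Ideal.comap_comap, hA]; exact hQp.over.symm
    · rw [Ideal.comap_comap (I := W'), Ideal.comap_comap (I := Q), hS, hWS]
  exact Ideal.comap_injective_of_surjective _ E.surjective hEeq

set_option maxHeartbeats 1600000 in
/-- Finitely many such algebras cover the fibre. -/
theorem exists_devissage_cover {R S : Type u} [CommRing R] [CommRing S] [Algebra R S] [Algebra.FiniteType R S]
    (N : Type u) [AddCommGroup N] [Module S N] [Module.Finite S N] (p : Ideal R) [p.IsPrime] :
    ∃ (R' : Type u) (_ : CommRing R') (_ : Algebra R R') (p' : Ideal R') (_ : p'.IsPrime), FlatCA.IsEtaleNhd R R' p p' ∧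
      ∀ (SA NA : Type u) [CommRing SA] [Algebra S SA] [Algebra R' SA] [Algebra R SA] [IsScalarTower R S SA]
        [IsScalarTower R R' SA] [Algebra.IsPushout R S R' SA]
        [AddCommGroup NA] [Module SA NA] [Module S NA] [IsScalarTower S SA NA]
        (fA : N →ₗ[S] NA), IsBaseChange SA fA →
        ∃ (k : ℕ) (C : Fin k → Type u) (_ : ∀ i, CommRing (C i)) (_ : ∀ i, Algebra SA (C i)) (_ : ∀ i, Algebra R' (C i))
          (_ : ∀ i, IsScalarTower R' SA (C i))
          (Nc : Fin k → Type u) (_ : ∀ i, AddCommGroup (Nc i)) (_ : ∀ i, Module (C i) (Nc i)) (_ : ∀ i, Module SA (Nc i))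
          (_ : ∀ i, IsScalarTower SA (C i) (Nc i)) (g : ∀ i, NA →ₗ[SA] Nc i),
          (∀ i, Algebra.Etale SA (C i) ∧ IsBaseChange (C i) (g i) ∧ Nonempty (FlatCA.CompleteDevissage R' (C i) (Nc i) p')) ∧
          ∀ (Q : Ideal SA) [Q.IsPrime], Q.LiesOver p' → ∃ (i : Fin k) (Q' : Ideal (C i)), Q'.IsPrime ∧ Q'.comap (algebraMap SA (C i)) = Q := by
  classical
  let ι := { q : PrimeSpectrum S // q.asIdeal.comap (algebraMap R S) = p }
  have hq : ∀ i : ι, _ := fun i => haveI : i.1.asIdeal.LiesOver p := ⟨i.2.symm⟩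
    exists_devissage_open N p i.1.asIdeal
  choose Ri c1 c2 pi c3 hn t ht H using hq
  let J : Ideal S := Ideal.span (Set.range t) ⊔ p.map (algebraMap R S)
  obtain ⟨u, huJ, hup⟩ : ∃ u ∈ J.comap (algebraMap R S), u ∉ p := by
    by_contra! hne
    have hdisj : Disjoint (J : Set S) (Algebra.algebraMapSubmonoid S p.primeCompl : Set S) := by
      rw [Set.disjoint_left]
      rintro _ hJ ⟨r, hr, rfl⟩
      exact hr (hne r hJ)
    obtain ⟨P, hP, hJP, hdP⟩ := Ideal.exists_le_prime_disjoint J _ hdisj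
    have hPp : P.comap (algebraMap R S) = p := le_antisymm
      (fun r hr => by_contra fun h => Set.disjoint_left.1 hdP hr ⟨r, h, rfl⟩)
      (Ideal.map_le_iff_le_comap.1 (le_sup_right.trans hJP))
    exact ht ⟨⟨P, hP⟩, hPp⟩ (hJP (Ideal.mem_sup_left (Ideal.subset_span ⟨_, rfl⟩)))
  obtain ⟨x, hx, y, hy, hxy⟩ := Submodule.mem_sup.1 huJ
  obtain ⟨T, hT, hxT⟩ := Submodule.mem_span_finite_of_mem_span hx
  obtain ⟨s, -, rfl⟩ : ∃ s : Finset ι, ↑s ⊆ (Set.univ : Set ι) ∧ s.image t = T := by
    refine Finset.subset_set_image_iff.1 ?_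
    rwa [Set.image_univ]
  obtain ⟨R', _, _, p', _, hn', he⟩ := exists_common_nhd p Ri pi hn s
  have hp' : TrivExt p p' := TrivExt.of_isEtaleNhd hn'
  refine ⟨R', inferInstance, inferInstance, p', inferInstance, hn', ?_⟩
  intro SA NA _ _ _ _ _ _ _ _ _ _ _ fA hfA
  let σ := s.equivFin.symm
  have hC : ∀ j : Fin s.card, _ := fun j =>
    H (σ j).1 R' p' hn' (he (σ j).1 (σ j).2).choose (he (σ j).1 (σ j).2).choose_spec SA NA fA hfA
  choose C d1 d2 d3 d4 Nc d5 d6 d7 d8 g het hbc hdev hpts using hC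
  refine ⟨s.card, C, d1, d2, d3, d4, Nc, d5, d6, d7, d8, g, fun j => ⟨het j, hbc j, hdev j⟩, fun Q _ hQp => ?_⟩
  obtain ⟨i, hi⟩ : ∃ i : s, algebraMap S SA (t i.1) ∉ Q := by
    by_contra! hall
    have hQS : (Q.comap (algebraMap S SA)).comap (algebraMap R S) = p := by
      rw [Ideal.comap_comap, ← IsScalarTower.algebraMap_eq, IsScalarTower.algebraMap_eq R R' SA, ← Ideal.comap_comap,
        ← hp'.comap_eq]
      exact congrArg (Ideal.comap _) hQp.over.symm
    refine hup (hQS.le ?_)
    rw [Ideal.mem_comap, ← hxy]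
    refine add_mem ?_ (Ideal.map_le_iff_le_comap.2 hQS.ge hy)
    refine (Submodule.span_le.2 ?_) hxT
    intro w hw
    obtain ⟨i, hi, rfl⟩ := Finset.mem_image.1 hw
    exact hall ⟨i, hi⟩
  have key : σ (s.equivFin i) = i := s.equivFin.symm_apply_apply i
  obtain ⟨Q', hQ', hQ'Q⟩ := hpts (s.equivFin i) Q hQp (by rw [key]; exact hi)
  exact ⟨_, Q', hQ', hQ'Q⟩

end Groth.Agent.RG11
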