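import Groth.Agent.RG11.DevSpread
import Mathlib

/-!
# Projectivity near a complete dévissage of a flat module
-/

universe u

set_option linter.style.haveILetI false

namespace Groth.Agent.RG11

open TensorProduct

section Coker

variable {R S X M : Type u} [CommRing R] [CommRing S] [Algebra R S] [AddCommGroup X] [Module R X] [Module S X]
  [IsScalarTower R S X] [AddCommGroup M] [Module R M] [Module S M] [IsScalarTower R S M]

/-- The cokernel of a map universally injective at `q` is flat at `q` where the target is. -/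
theorem flatAt_coker_of_local_ui (f : X →ₗ[S] M) (q : Ideal S) [q.IsPrime]
    (hf : ∀ (Q : Type u) [AddCommGroup Q] [Module R Q] (z : X ⊗[R] Q),
      (f.restrictScalars R).rTensor Q z = 0 → ∃ s ∉ q, s • z = 0)
    (h : FlatCA.FlatAt R q M) : FlatCA.FlatAt R q (M ⧸ LinearMap.range f) := by
  rw [FlatFibres.flatAt_iff_forall] at h ⊢
  intro I z hz
  let π : M →ₗ[S] M ⧸ LinearMap.range f := (LinearMap.range f).mkQ
  have hπ : Function.Surjective π := Submodule.mkQ_surjective _
  have hex : Function.Exact (f.restrictScalars R) (π.restrictScalars R) := fun m => by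
    show π m = 0 ↔ m ∈ Set.range f
    rw [Submodule.mkQ_apply, Submodule.Quotient.mk_eq_zero]; rfl
  let πI := AlgebraTensorModule.rTensor R (I : Submodule R R) π
  obtain ⟨w, rfl⟩ := LinearMap.rTensor_surjective (↥I) (g := π.restrictScalars R) hπ z
  have hw : (π.restrictScalars R).rTensor R (I.subtype.lTensor M w) = 0 := by
    rw [← LinearMap.comp_apply, LinearMap.rTensor_comp_lTensor, ← LinearMap.lTensor_comp_rTensor]
    exact hz
  obtain ⟨m, hm⟩ := (rTensor_exact R hex hπ _).1 hw
  have hI : Function.Exact I.subtype (Submodule.mkQ (I : Submodule R R)) := fun x => by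
    rw [Submodule.mkQ_apply, Submodule.Quotient.mk_eq_zero]
    exact ⟨fun hx => ⟨⟨x, hx⟩, rfl⟩, fun ⟨y, hy⟩ => hy ▸ y.2⟩
  obtain ⟨σ, hσ, hm0⟩ : ∃ σ ∉ q, σ • (Submodule.mkQ (I : Submodule R R)).lTensor X m = 0 := by
    refine hf (R ⧸ (I : Submodule R R)) _ ?_
    rw [← LinearMap.comp_apply, LinearMap.rTensor_comp_lTensor, ← LinearMap.lTensor_comp_rTensor,
      LinearMap.comp_apply, hm]
    exact (lTensor_exact M hI (Submodule.mkQ_surjective _) _).2 ⟨w, rfl⟩
  have hm0' : (Submodule.mkQ (I : Submodule R R)).lTensor X (σ • m) = 0 := by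
    rw [← hm0]
    exact (AlgebraTensorModule.lTensor S X (Submodule.mkQ (I : Submodule R R))).map_smul σ m
  obtain ⟨m', hm'⟩ := (lTensor_exact X hI (Submodule.mkQ_surjective _) _).1 hm0'
  obtain ⟨s, hs, hsw⟩ := h I (σ • w - (f.restrictScalars R).rTensor I m') (by
    rw [map_sub, show I.subtype.lTensor M (σ • w) = σ • I.subtype.lTensor M w from
        (AlgebraTensorModule.lTensor S M (I.subtype)).map_smul σ w,
      ← hm, ← show (f.restrictScalars R).rTensor R (σ • m) = σ • (f.restrictScalars R).rTensor R m from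
        (AlgebraTensorModule.rTensor R R f).map_smul σ m, ← hm', ← LinearMap.comp_apply,
      LinearMap.rTensor_comp_lTensor, ← LinearMap.comp_apply, LinearMap.lTensor_comp_rTensor, sub_self])
  refine ⟨s * σ, fun h' => (‹q.IsPrime›.mem_or_mem h').elim hs hσ, ?_⟩
  have h0 : (π.restrictScalars R).rTensor I ((f.restrictScalars R).rTensor I m') = 0 :=
    (rTensor_exact (↥I) hex hπ _).2 ⟨m', rfl⟩
  have := congrArg πI hsw
  rw [map_smul, map_zero, map_sub] at this
  rw [show πI ((f.restrictScalars R).rTensor I m') = 0 from h0, sub_zero, map_smul] at this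
  rw [mul_smul]
  exact this

end Coker

/-- Flatness at all primes where `f` is invertible. -/
def FlatOff (R : Type u) {S : Type u} [CommRing R] [CommRing S] [Algebra R S] (f : R) (N : Type u) [AddCommGroup N]
    [Module S N] [Module R N] [IsScalarTower R S N] : Prop :=
  ∀ (q : Ideal S) [q.IsPrime], algebraMap R S f ∉ q → FlatCA.FlatAt R q N

/-- `FlatOff` passes between algebras along finite maps. -/
theorem flatOff_iff {R S T : Type u} [CommRing R] [CommRing S] [CommRing T] [Algebra R S] [Algebra R T] [Algebra S T]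
    [IsScalarTower R S T] [Algebra.IsIntegral S T] (f : R) (X : Type u) [AddCommGroup X] [Module T X] [Module S X]
    [IsScalarTower S T X] [Module R X] [IsScalarTower R T X] [IsScalarTower R S X] :
    FlatOff R (S := S) f X ↔ FlatOff R (S := T) f X := by
  constructor
  · intro h r _ hr
    have hq : algebraMap R S f ∉ r.comap (algebraMap S T) := by
      rw [Ideal.mem_comap, ← IsScalarTower.algebraMap_apply]; exact hr
    exact (FlatFibres.flatAt_iff_forall_over (T := T) _ X).1 (h _ hq) r rfl
  · intro h q _ hq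
    refine (FlatFibres.flatAt_iff_forall_over (T := T) q X).2 fun r _ hr => h r fun hr' => hq ?_
    rw [← hr, Ideal.mem_comap, ← IsScalarTower.algebraMap_apply]
    exact hr'

theorem flatOff_congr {R S : Type u} [CommRing R] [CommRing S] [Algebra R S] (f : R) {X Y : Type u} [AddCommGroup X]
    [Module S X] [Module R X] [IsScalarTower R S X] [AddCommGroup Y] [Module S Y] [Module R Y] [IsScalarTower R S Y]
    (e : X ≃ₗ[S] Y) (h : FlatOff R (S := S) f X) : FlatOff R (S := S) f Y := fun q _ hq =>
  (flatAt_congr X e q).1 (h q hq)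

/-- A vanishing that holds at every prime off `f` holds up to a power of `f`. -/
theorem exists_pow_smul_eq_zero {R S Y : Type u} [CommRing R] [CommRing S] [Algebra R S] [AddCommGroup Y] [Module S Y]
    (f : R) (y : Y) (h : ∀ (q : Ideal S) [q.IsPrime], algebraMap R S f ∉ q → ∃ s ∉ q, s • y = 0) :
    ∃ k : ℕ, algebraMap R S f ^ k • y = 0 := by
  let J : Ideal S := (Submodule.span S {y}).annihilator
  have hrad : algebraMap R S f ∈ J.radical := by
    rw [Ideal.radical_eq_sInf, Ideal.mem_sInf]
    rintro q ⟨hJq, hq⟩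
    haveI := hq
    by_contra hne
    obtain ⟨s, hs, hsy⟩ := h q hne
    exact hs (hJq ((Submodule.mem_annihilator_span_singleton y s).2 hsy))
  obtain ⟨k, hk⟩ := hrad
  exact ⟨k, (Submodule.mem_annihilator_span_singleton y _).1 hk⟩

/-- A layer of a dévissage, localised at `f`, splits. -/
theorem exists_layer_split {R B X : Type u} [CommRing R] [CommRing B] [Algebra R B] [AddCommGroup X] [Module R X]
    [Module B X] [IsScalarTower R B X] {r : ℕ} (f : R) (α : (Fin r → B) →ₗ[B] X)
    (hui : ∀ (q : Ideal B) [q.IsPrime], algebraMap R B f ∉ q →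
      ∀ (Q : Type u) [AddCommGroup Q] [Module R Q] (z : (Fin r → B) ⊗[R] Q),
        (α.restrictScalars R).rTensor Q z = 0 → ∃ s ∉ q, s • z = 0) :
    Function.Injective (IsLocalizedModule.map (Submonoid.powers f)
      (LocalizedModule.mkLinearMap (Submonoid.powers f) (Fin r → B))
      (LocalizedModule.mkLinearMap (Submonoid.powers f) X) (α.restrictScalars R)) := by
  let gL := LocalizedModule.mkLinearMap (Submonoid.powers f) (Fin r → B)
  let gX := LocalizedModule.mkLinearMap (Submonoid.powers f) X
  rw [injective_iff_map_eq_zero]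
  intro y hy
  obtain ⟨⟨x, s⟩, hs⟩ := IsLocalizedModule.surj (Submonoid.powers f) gL y
  have h1 : gX (α x) = 0 := by
    rw [← LinearMap.restrictScalars_apply R α x,
      ← IsLocalizedModule.map_apply (Submonoid.powers f) gL gX (α.restrictScalars R), ← hs, Submonoid.smul_def,
      map_smul, hy, smul_zero]
  obtain ⟨⟨_, k, rfl⟩, hk⟩ := (IsLocalizedModule.eq_zero_iff (Submonoid.powers f) gX).1 h1
  have hk' : α (f ^ k • x) = 0 := by rw [LinearMap.map_smul_of_tower]; exact hk
  obtain ⟨l, hl⟩ := exists_pow_smul_eq_zero (S := B) f (f ^ k • x) fun q _ hq => by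
    obtain ⟨σ, hσ, h0⟩ := hui q hq R ((f ^ k • x) ⊗ₜ 1) (by
      rw [LinearMap.rTensor_tmul, LinearMap.restrictScalars_apply, hk', TensorProduct.zero_tmul])
    refine ⟨σ, hσ, ?_⟩
    rw [TensorProduct.smul_tmul'] at h0
    simpa using congrArg (TensorProduct.rid R (Fin r → B)) h0
  rw [← map_pow, algebraMap_smul, smul_smul, ← pow_add] at hl
  obtain ⟨d, hd⟩ := (IsLocalizedModule.map_units gL
    ((⟨f ^ (l + k), l + k, rfl⟩ : Submonoid.powers f) * s)).exists_left_inv
  have h3 : d ((f ^ (l + k) * (s : R)) • y) = y := LinearMap.congr_fun hd y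
  rw [← h3, mul_smul, show (s : R) • y = gL x from hs, ← map_smul, hl, map_zero, map_zero]

set_option maxHeartbeats 1600000 in
/-- Near `rr`, the localisation of a flat module with a complete dévissage is a product of free modules over the
smooth algebras. -/
theorem exists_spread_devissage {R S : Type u} [CommRing R] [CommRing S] [Algebra R S]
    [Algebra.FinitePresentation R S]
    (N : Type u) [AddCommGroup N] [Module S N] [Module R N] [IsScalarTower R S N] [Module.FinitePresentation S N]
    [Module.Flat R N] (rr : Ideal R) [rr.IsPrime] (D : FlatCA.CompleteDevissage R S N rr) :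
    ∃ f : R, f ∉ rr ∧ Nonempty (LocalizedModule (Submonoid.powers f) N ≃ₗ[R]
      ∀ i : Fin D.n, LocalizedModule (Submonoid.powers f) (Fin (D.r i) → D.B i)) ∧
      ∀ i, i < D.n → Module.Projective R (D.B i) := by
  have hpos : 0 < D.n := D.pos
  haveI tA : ∀ i, IsScalarTower R (D.A i) (D.M i) := fun i => IsScalarTower.of_algebraMap_smul fun a m => by
    rw [IsScalarTower.algebraMap_apply R (D.B i) (D.A i), algebraMap_smul, algebraMap_smul]
  haveI tB' : ∀ i, IsScalarTower R (D.B i) (D.M (i + 1)) := fun i => IsScalarTower.of_algebraMap_smul fun a m => by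
    rw [← algebraMap_smul (D.A (i + 1)) (algebraMap R (D.B i) a) m, ← IsScalarTower.algebraMap_apply, algebraMap_smul]
  haveI tS : IsScalarTower R S (D.M 0) := IsScalarTower.of_algebraMap_smul fun a m => by
    rw [← algebraMap_smul (D.A 0) (algebraMap R S a) m, ← IsScalarTower.algebraMap_apply, algebraMap_smul]
  haveI : Module.Finite S (D.A 0) := Module.Finite.of_surjective (Algebra.linearMap S (D.A 0)) D.surjSA
  have hproj : ∀ i, i < D.n → Module.Projective R (D.B i) := fun i hi => by
    haveI := D.smooth i hi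
    exact projective_of_smooth_geomIrred R (D.B i) (D.geomIrred i hi)
  let g : ∀ i, i + 1 < D.n → (D.M i →ₗ[D.B i] D.M (i + 1)) := fun i hi =>
    (D.isoCoker i hi).toLinearMap ∘ₗ (LinearMap.range (D.α i)).mkQ
  have hg : ∀ i hi, Function.Surjective (g i hi) := fun i hi =>
    (D.isoCoker i hi).surjective.comp (Submodule.mkQ_surjective _)
  have hex : ∀ i hi, Function.Exact (D.α i) (g i hi) := fun i hi m => by
    show (D.isoCoker i hi) ((LinearMap.range (D.α i)).mkQ m) = 0 ↔ _
    rw [LinearEquiv.map_eq_zero_iff, Submodule.mkQ_apply, Submodule.Quotient.mk_eq_zero]; rfl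
  -- finite presentation of the layers
  have hfp : ∀ i, i < D.n → Module.FinitePresentation (D.B i) (D.M i) := by
    intro i
    induction i with
    | zero =>
      intro hi
      haveI := D.finiteBA 0 hi
      haveI := D.finiteM 0 hi
      haveI : Module.FinitePresentation S (D.M 0) := Module.FinitePresentation.of_equiv D.isoN
      haveI : Module.FinitePresentation (D.A 0) (D.M 0) := fp_of_restrict (A := S) ‹_›
      haveI := D.smooth 0 hi
      haveI := D.fpSA
      haveI : Algebra.FinitePresentation R (D.A 0) := Algebra.FinitePresentation.trans R S (D.A 0)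
      haveI : Algebra.FinitePresentation (D.B 0) (D.A 0) :=
        Algebra.FinitePresentation.of_restrict_scalars_finitePresentation R _ _
      haveI : Module.FinitePresentation (D.B 0) (D.A 0) := Module.FinitePresentation.of_finite_of_finitePresentation _ _
      exact Module.FinitePresentation.trans (D.B 0) (D.M 0) (D.A 0)
    | succ i ih =>
      intro hi
      haveI := ih (by omega)
      haveI := D.finiteBA (i + 1) hi
      haveI := D.finiteM (i + 1) hi
      haveI : Module.FinitePresentation (D.B i) (D.M (i + 1)) :=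
        Module.finitePresentation_of_surjective (g i hi) (hg i hi)
          (by rw [LinearMap.exact_iff.1 (hex i hi)]; exact Module.Finite.iff_fg.1 inferInstance)
      haveI : Module.Finite (D.B i) (D.A (i + 1)) :=
        Module.Finite.of_surjective (Algebra.linearMap (D.B i) (D.A (i + 1))) (D.surjBA' i hi)
      haveI : Module.FinitePresentation (D.A (i + 1)) (D.M (i + 1)) := fp_of_restrict (A := D.B i) ‹_›
      haveI := D.smooth i (by omega)
      haveI := D.smooth (i + 1) hi
      haveI := D.fpBA' i hi
      haveI : Algebra.FinitePresentation R (D.A (i + 1)) := Algebra.FinitePresentation.trans R (D.B i) (D.A (i + 1))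
      haveI : Algebra.FinitePresentation (D.B (i + 1)) (D.A (i + 1)) :=
        Algebra.FinitePresentation.of_restrict_scalars_finitePresentation R _ _
      haveI : Module.FinitePresentation (D.B (i + 1)) (D.A (i + 1)) :=
        Module.FinitePresentation.of_finite_of_finitePresentation _ _
      exact Module.FinitePresentation.trans (D.B (i + 1)) (D.M (i + 1)) (D.A (i + 1))
  -- flatness at the generic points
  have key : ∀ i, i < D.n → ∃ f : R, f ∉ rr ∧ FlatOff R (S := D.B i) f (D.M i) ∧
      ∀ j, j < i → ∀ (q : Ideal (D.B j)) [q.IsPrime], algebraMap R (D.B j) f ∉ q →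
        ∀ (Q : Type u) [AddCommGroup Q] [Module R Q] (z : (Fin (D.r j) → D.B j) ⊗[R] Q),
          ((D.α j).restrictScalars R).rTensor Q z = 0 → ∃ s ∉ q, s • z = 0 := by
    intro i
    induction i with
    | zero =>
      intro hi
      refine ⟨1, fun h => ‹rr.IsPrime›.ne_top ((Ideal.eq_top_iff_one _).2 h), ?_, fun j hj => by omega⟩
      haveI := D.finiteBA 0 hi
      haveI : Module.Flat R (D.M 0) := Module.Flat.of_linearEquiv (D.isoN.restrictScalars R).symm
      intro q _ _
      exact flat_localizedModule q.primeCompl (D.M 0)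
    | succ i ih =>
      intro hi
      obtain ⟨f, hf, hoff, hprev⟩ := ih (by omega)
      haveI := hfp i (by omega)
      haveI := D.smooth i (by omega)
      have hgen : algebraMap R (D.B i) f ∉ rr.map (algebraMap R (D.B i)) := fun h =>
        hf ((map_isPrime_and_comap (B := D.B i) (by exact (D.geomIrred i (by omega))) rr).2.le h)
      obtain ⟨h, hh, H⟩ := exists_spread rr (D.smooth i (by omega)) (D.geomIrred i (by omega)) (D.α i)
        (D.fibreIso i (by omega)) (hoff _ hgen)
      have hfh : f * h ∉ rr := fun h' => (‹rr.IsPrime›.mem_or_mem h').elim hf hh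
      have hdiv : ∀ {T : Type u} [CommRing T] [Algebra R T] (q : Ideal T), algebraMap R T (f * h) ∉ q →
          algebraMap R T f ∉ q ∧ algebraMap R T h ∉ q := fun {T} _ _ q hq =>
        ⟨fun h' => hq (by rw [map_mul]; exact Ideal.mul_mem_right _ _ h'),
          fun h' => hq (by rw [map_mul]; exact Ideal.mul_mem_left _ _ h')⟩
      refine ⟨f * h, hfh, ?_, fun j hj q _ hq => ?_⟩
      · have h1 : FlatOff R (S := D.B i) (f * h) (D.M (i + 1)) := by
          refine flatOff_congr _ (D.isoCoker i hi) fun q _ hq => ?_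
          exact flatAt_coker_of_local_ui (D.α i) q (H q (hdiv q hq).2 (hoff q (hdiv q hq).1)) (hoff q (hdiv q hq).1)
        haveI := D.finiteBA (i + 1) hi
        haveI : Module.Finite (D.B i) (D.A (i + 1)) :=
          Module.Finite.of_surjective (Algebra.linearMap (D.B i) (D.A (i + 1))) (D.surjBA' i hi)
        exact (flatOff_iff (T := D.A (i + 1)) (f * h) (D.M (i + 1))).2 ((flatOff_iff (T := D.A (i + 1)) (f * h) (D.M (i + 1))).1 h1)
      · rcases Nat.lt_succ_iff_lt_or_eq.1 hj with hj' | rfl
        · exact hprev j hj' q (hdiv q hq).1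
        · exact H q (hdiv q hq).2 (hoff q (hdiv q hq).1)
  obtain ⟨f, hf, hoff, hprev⟩ := key (D.n - 1) (by omega)
  haveI := hfp (D.n - 1) (by omega)
  have hgen : algebraMap R (D.B (D.n - 1)) f ∉ rr.map (algebraMap R (D.B (D.n - 1))) := fun h =>
    haveI := D.smooth (D.n - 1) (by omega)
    hf ((map_isPrime_and_comap (B := D.B (D.n - 1)) (D.geomIrred _ (by omega)) rr).2.le h)
  obtain ⟨h, hh, H⟩ := exists_spread rr (D.smooth _ (by omega)) (D.geomIrred _ (by omega)) (D.α (D.n - 1))
    (D.fibreIso _ (by omega)) (hoff _ hgen)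
  let W := Submonoid.powers (f * h)
  have hdiv : ∀ {T : Type u} [CommRing T] [Algebra R T] (q : Ideal T), algebraMap R T (f * h) ∉ q →
      algebraMap R T f ∉ q ∧ algebraMap R T h ∉ q := fun {T} _ _ q hq =>
    ⟨fun h' => hq (by rw [map_mul]; exact Ideal.mul_mem_right _ _ h'),
      fun h' => hq (by rw [map_mul]; exact Ideal.mul_mem_left _ _ h')⟩
  have hui : ∀ i, i < D.n → ∀ (q : Ideal (D.B i)) [q.IsPrime], algebraMap R (D.B i) (f * h) ∉ q →
      ∀ (Q : Type u) [AddCommGroup Q] [Module R Q] (z : (Fin (D.r i) → D.B i) ⊗[R] Q),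
        ((D.α i).restrictScalars R).rTensor Q z = 0 → ∃ s ∉ q, s • z = 0 := fun i hi q _ hq => by
    rcases Nat.lt_or_eq_of_le (Nat.le_sub_one_of_lt hi) with h' | rfl
    · exact hprev i h' q (hdiv q hq).1
    · exact H q (hdiv q hq).2 (hoff q (hdiv q hq).1)
  refine ⟨f * h, fun h' => (‹rr.IsPrime›.mem_or_mem h').elim hf hh, ?_, hproj⟩
  -- localisation of the chain
  let ML := fun i => LocalizedModule W (D.M i)
  let XL := fun i => LocalizedModule W (Fin (D.r i) → D.B i)
  haveI hXR : ∀ i, i < D.n → Module.Projective R (Fin (D.r i) → D.B i) := fun i hi => by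
    haveI := hproj i hi
    exact Module.Projective.of_equiv (DFinsupp.linearEquivFunOnFintype (R := R) (M := fun _ : Fin (D.r i) => D.B i))
  let Rf := Localization W
  have hXp : ∀ i, i < D.n → Module.Projective Rf (XL i) := fun i hi => by
    haveI := hXR i hi
    exact Module.projective_of_isLocalizedModule W (LocalizedModule.mkLinearMap W (Fin (D.r i) → D.B i))
  let aL : ∀ i, XL i →ₗ[R] ML i := fun i => IsLocalizedModule.map W (LocalizedModule.mkLinearMap W (Fin (D.r i) → D.B i))
    (LocalizedModule.mkLinearMap W (D.M i)) ((D.α i).restrictScalars R)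
  have haL : ∀ i, i < D.n → Function.Injective (aL i) := fun i hi => exists_layer_split (f * h) (D.α i) (hui i hi)
  let last : ML (D.n - 1) ≃ₗ[Rf] XL (D.n - 1) :=
    (LinearEquiv.ofBijective ((aL (D.n - 1)).extendScalarsOfIsLocalization W Rf)
      ⟨haL _ (by omega), IsLocalizedModule.map_surjective W _ _ _ D.cokerLast⟩).symm
  have hchain : ∀ j i, i + j + 1 = D.n → Module.Projective Rf (ML i) ∧
      (i + 1 < D.n → Nonempty (ML i ≃ₗ[Rf] XL i × ML (i + 1))) := by
    intro j
    induction j with
    | zero =>
      intro i hi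
      obtain rfl : i = D.n - 1 := by omega
      haveI := hXp _ (show D.n - 1 < D.n by omega)
      exact ⟨Module.Projective.of_equiv last.symm, fun h' => absurd h' (by omega)⟩
    | succ j ih =>
      intro i hi
      have hi' : i + 1 < D.n := by omega
      haveI := (ih (i + 1) (by omega)).1
      haveI := hXp i (by omega)
      let gL : ML i →ₗ[R] ML (i + 1) := IsLocalizedModule.map W (LocalizedModule.mkLinearMap W (D.M i))
        (LocalizedModule.mkLinearMap W (D.M (i + 1))) ((g i hi').restrictScalars R)
      have hgsur : Function.Surjective gL := IsLocalizedModule.map_surjective W _ _ _ (hg i hi')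
      have hexL : Function.Exact (aL i) gL := IsLocalizedModule.map_exact W _ _ _ _ _ (hex i hi')
      obtain ⟨e⟩ := nonempty_equiv_prod_of_exact ((aL i).extendScalarsOfIsLocalization W Rf)
        (gL.extendScalarsOfIsLocalization W Rf) (haL i (by omega)) hgsur hexL
      exact ⟨Module.Projective.of_equiv e.symm, fun _ => ⟨e⟩⟩
  obtain ⟨e⟩ := nonempty_equiv_pi_of_chain (R := Rf) D.n ML XL hpos
    (fun i hi => (hchain (D.n - 1 - i) i (by omega)).2 hi) ⟨last⟩
  let mkN := LocalizedModule.mkLinearMap W N
  let mk0 := LocalizedModule.mkLinearMap W (D.M 0)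
  let e0 : LocalizedModule W N ≃ₗ[R] ML 0 :=
    IsLocalizedModule.linearEquiv W mkN (mk0 ∘ₗ (D.isoN.restrictScalars R).toLinearMap)
  exact ⟨e0 ≪≫ₗ e.restrictScalars R⟩

end Groth.Agent.RG11
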