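import Groth.Agent.RG11.GlobalUI
import Groth.Agent.RG11.ChainFree
import Groth.Agent.RG11.LayerBC
import Groth.Agent.RG11.CDAux
import Mathlib

/-!
# Spreading out a complete dévissage of a flat module
-/

universe u

set_option linter.style.haveILetI false

namespace Groth.Agent.RG11

open TensorProduct

/-- Extensions of primes to smooth algebras with geometrically irreducible fibres. -/
theorem map_isPrime_and_comap {R B : Type u} [CommRing R] [CommRing B] [Algebra R B] [Algebra.Smooth R B]
    (h : FlatCA.GeomIrredFibres R B) (P : Ideal R) [P.IsPrime] :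
    (P.map (algebraMap R B)).IsPrime ∧ (P.map (algebraMap R B)).comap (algebraMap R B) = P := by
  haveI := geomIntegralFibres_iff.1 (geomIntegralFibres_of_smooth R B h) P.ResidueField
  obtain ⟨Q₀⟩ : Nonempty (PrimeSpectrum (P.ResidueField ⊗[R] B)) := inferInstance
  let Q : Ideal B := Q₀.asIdeal.comap (Algebra.TensorProduct.includeRight (R := R) (A := P.ResidueField) (B := B)).toRingHom
  have hQ : Q.comap (algebraMap R B) = P := by
    ext r
    rw [Ideal.mem_comap, Ideal.mem_comap]
    have hr : (Algebra.TensorProduct.includeRight (R := R) (A := P.ResidueField) (B := B)).toRingHom (algebraMap R B r)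
        = algebraMap P.ResidueField (P.ResidueField ⊗[R] B) (algebraMap R P.ResidueField r) := by
      rw [← IsScalarTower.algebraMap_apply]
      exact (Algebra.TensorProduct.includeRight : B →ₐ[R] P.ResidueField ⊗[R] B).commutes r
    rw [hr]
    constructor
    · intro hmem
      by_contra hr'
      exact Q₀.isPrime.ne_top (Q₀.asIdeal.eq_top_of_isUnit_mem hmem (RingHom.isUnit_map _
        (isUnit_iff_ne_zero.2 fun h0 => hr' (Ideal.algebraMap_residueField_eq_zero.1 h0))))
    · intro hmem
      rw [Ideal.algebraMap_residueField_eq_zero.2 hmem, map_zero]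
      exact zero_mem _
  haveI : Module.Flat R B := Algebra.Smooth.flat R B
  refine ⟨isPrime_map_of_nzd (NZDFibres.of_geomIntegral (geomIntegralFibres_of_smooth R B h)) P Q hQ, ?_⟩
  refine le_antisymm ?_ Ideal.le_comap_map
  calc (P.map (algebraMap R B)).comap (algebraMap R B) ≤ Q.comap (algebraMap R B) :=
      Ideal.comap_mono (Ideal.map_le_iff_le_comap.2 hQ.ge)
    _ = P := hQ

variable {R B M : Type u} [CommRing R] [CommRing B] [Algebra R B] [AddCommGroup M] [Module R M] [Module B M]
  [IsScalarTower R B M] {r : ℕ}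

/-- Vectors with coordinates in `PB` lie in `P Bʳ`. -/
theorem mem_smul_top_of_coords (P : Ideal R) (x : Fin r → B) (h : ∀ i, x i ∈ P.map (algebraMap R B)) :
    x ∈ P • (⊤ : Submodule R (Fin r → B)) := by
  rw [show x = ∑ i, LinearMap.single R (fun _ : Fin r => B) i (x i) from (Finset.univ_sum_single x).symm]
  refine Submodule.sum_mem _ fun i _ => ?_
  have h4 : x i ∈ P • (⊤ : Submodule R B) := by rw [Ideal.smul_top_eq_map]; exact h i
  have h5 := Submodule.mem_map_of_mem (f := LinearMap.single R (fun _ : Fin r => B) i) h4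
  rw [Submodule.map_smul''] at h5
  exact Submodule.smul_mono le_rfl le_top h5

/-- The dévissage map is injective modulo `rr`. -/
theorem mem_smul_top_of_fibre_bijective_prime (rr : Ideal R) [rr.IsPrime] [(rr.map (algebraMap R B)).IsPrime]
    (α : (Fin r → B) →ₗ[B] M) (hα : Function.Bijective (α.baseChange (rr.map (algebraMap R B)).ResidueField))
    (x : Fin r → B) (w : B) (hw : w ∉ rr.map (algebraMap R B)) (hx : w • α x ∈ rr • (⊤ : Submodule R M)) :
    x ∈ rr • (⊤ : Submodule R (Fin r → B)) := by
  set P := rr.map (algebraMap R B) with hPdef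
  let T := P.ResidueField
  have hne : algebraMap B T w ≠ 0 := fun h0 => hw (Ideal.algebraMap_residueField_eq_zero.1 h0)
  have hkill : ∀ m : M, m ∈ rr • (⊤ : Submodule R M) → (1 : T) ⊗ₜ[B] m = 0 := fun m hm => by
    refine Submodule.smul_induction_on hm (fun a ha y _ => ?_) fun a b ha hb => by rw [tmul_add, ha, hb, add_zero]
    rw [← IsScalarTower.algebraMap_smul B a y, TensorProduct.tmul_smul, ← IsScalarTower.algebraMap_smul T (algebraMap R B a),
      Ideal.algebraMap_residueField_eq_zero.2 (Ideal.mem_map_of_mem _ ha), zero_smul]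
  have h1 : α.baseChange T ((1 : T) ⊗ₜ[B] x) = 0 := by
    rw [LinearMap.baseChange_tmul]
    have h0 := hkill _ hx
    rw [TensorProduct.tmul_smul, ← IsScalarTower.algebraMap_smul T w] at h0
    exact (smul_eq_zero.1 h0).resolve_left hne
  have h2 : ((1 : T) ⊗ₜ[B] x) = 0 := hα.1 (h1.trans (map_zero _).symm)
  refine mem_smul_top_of_coords rr x fun i => ?_
  have := congrArg (fun z => TensorProduct.piScalarRight B B T (Fin r) z i) h2
  simp only [map_zero, TensorProduct.piScalarRight_apply, Pi.zero_apply] at this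
  simp only [TensorProduct.piScalarRightHom_tmul, Algebra.smul_def, mul_one] at this
  exact Ideal.algebraMap_residueField_eq_zero.1 this

variable (rr : Ideal R) [rr.IsPrime] [(rr.map (algebraMap R B)).IsPrime]

/-- Universal injectivity of a dévissage map near every prime outside some `V(f)`. -/
theorem exists_spread (hsm : Algebra.Smooth R B) (hgi : FlatCA.GeomIrredFibres R B) [Module.FinitePresentation B M]
    (α : (Fin r → B) →ₗ[B] M) (hα : Function.Bijective (α.baseChange (rr.map (algebraMap R B)).ResidueField))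
    (hflat : FlatCA.FlatAt R (rr.map (algebraMap R B)) M) :
    ∃ f : R, f ∉ rr ∧ ∀ (q : Ideal B) [q.IsPrime], algebraMap R B f ∉ q → FlatCA.FlatAt R q M →
      ∀ (Q : Type u) [AddCommGroup Q] [Module R Q] (z : (Fin r → B) ⊗[R] Q),
        (α.restrictScalars R).rTensor Q z = 0 → ∃ s ∉ q, s • z = 0 := by
  classical
  haveI := hsm
  haveI : Algebra.FiniteType R B := inferInstance
  set 𝔭 := rr.map (algebraMap R B) with h𝔭
  have h𝔭R : 𝔭.comap (algebraMap R B) = rr := (map_isPrime_and_comap hgi rr).2
  haveI : 𝔭.LiesOver rr := ⟨h𝔭R.symm⟩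
  let M𝔭 := LocalizedModule 𝔭.primeCompl M
  let mk : M →ₗ[B] M𝔭 := LocalizedModule.mkLinearMap 𝔭.primeCompl M
  haveI : Module.Flat R M𝔭 := hflat
  -- injective at the generic point of the fibre
  have hinj : ∀ x, mk (α x) = 0 → ∃ s ∉ 𝔭, s • x = 0 := fun x hx => by
    obtain ⟨s, hs, h0⟩ := exists_smul_eq_zero_of_linear_map (R := R) (Fin r → B) rr 𝔭 (mk ∘ₗ α) (fun n hn => by
      obtain ⟨w, hw, h⟩ := exists_smul_mem_of_localized_mem rr 𝔭.primeCompl mk _ hn
      exact ⟨1, fun h1 => ‹𝔭.IsPrime›.ne_top ((Ideal.eq_top_iff_one _).2 h1),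
        by rw [one_smul]; exact mem_smul_top_of_fibre_bijective_prime rr α hα n w hw h⟩) R (x ⊗ₜ 1) (by
        rw [LinearMap.rTensor_tmul]
        show mk (α x) ⊗ₜ[R] (1 : R) = 0
        rw [hx, TensorProduct.zero_tmul])
    refine ⟨s, hs, ?_⟩
    rw [TensorProduct.smul_tmul'] at h0
    simpa using congrArg (TensorProduct.rid R (Fin r → B)) h0
  have hbij : Function.Bijective (LocalizedModule.map 𝔭.primeCompl α) := by
    let g := LocalizedModule.mkLinearMap 𝔭.primeCompl (Fin r → B)
    have hmap : ∀ x, LocalizedModule.map 𝔭.primeCompl α (g x) = mk (α x) := fun x =>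
      LocalizedModule.map_mk _ _ _ _
    refine ⟨(injective_iff_map_eq_zero _).2 fun y hy => ?_, ?_⟩
    · obtain ⟨⟨x, s⟩, hs⟩ := IsLocalizedModule.surj 𝔭.primeCompl g y
      have h1 : mk (α x) = 0 := by
        rw [← hmap, ← hs, Submonoid.smul_def, LinearMap.map_smul_of_tower, hy, smul_zero]
      obtain ⟨t, ht, htx⟩ := hinj x h1
      have h2 : ((t * (s : B)) • y) = 0 := by rw [mul_smul, show (s : B) • y = g x from hs, ← map_smul, htx, map_zero]
      obtain ⟨d, hd⟩ := (IsLocalizedModule.map_units g (⟨t * s, 𝔭.primeCompl.mul_mem ht s.2⟩ : 𝔭.primeCompl)).exists_left_inv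
      have h3 : d ((t * (s : B)) • y) = y := LinearMap.congr_fun hd y
      rw [← h3, h2, map_zero]
    · -- surjectivity by Nakayama
      let L := LinearMap.range α
      have hsur : ∀ m : M, ∃ w ∉ 𝔭, w • m ∈ L := by
        have hC : Function.Surjective ((LinearMap.range α).mkQ) := Submodule.mkQ_surjective _
        haveI : Module.Finite B (M ⧸ L) := Module.Finite.of_surjective _ hC
        have hsub : Subsingleton (𝔭.ResidueField ⊗[B] (M ⧸ L)) := by
          refine subsingleton_of_forall_eq 0 fun z => ?_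
          obtain ⟨w, rfl⟩ := LinearMap.lTensor_surjective 𝔭.ResidueField hC z
          obtain ⟨v, rfl⟩ := hα.2 w
          show ((LinearMap.range α).mkQ.lTensor _) (α.baseChange _ v) = 0
          induction v using TensorProduct.induction_on with
          | zero => simp
          | add a b ha hb => simp only [map_add, ha, hb, add_zero]
          | tmul c x =>
            rw [LinearMap.baseChange_tmul, LinearMap.lTensor_tmul, Submodule.mkQ_apply,
              (Submodule.Quotient.mk_eq_zero _).2 (LinearMap.mem_range_self α x), TensorProduct.tmul_zero]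
        have hnot : (⟨𝔭, inferInstance⟩ : PrimeSpectrum B) ∉ Module.support B (M ⧸ L) := by
          rw [Module.mem_support_iff_nontrivial_residueField_tensorProduct]
          exact not_nontrivial_iff_subsingleton.2 hsub
        intro m
        rw [Module.notMem_support_iff'] at hnot
        obtain ⟨w, hw, hwm⟩ := hnot (Submodule.Quotient.mk m)
        rw [← Submodule.Quotient.mk_smul, Submodule.Quotient.mk_eq_zero] at hwm
        exact ⟨w, hw, hwm⟩
      intro y
      obtain ⟨⟨m, s⟩, hs⟩ := IsLocalizedModule.surj 𝔭.primeCompl mk y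
      obtain ⟨w, hw, x, hx⟩ := hsur m
      refine ⟨IsLocalizedModule.mk' g x (⟨w * s, 𝔭.primeCompl.mul_mem hw s.2⟩ : 𝔭.primeCompl), ?_⟩
      have h1 : (w * (s : B)) • LocalizedModule.map 𝔭.primeCompl α
          (IsLocalizedModule.mk' g x (⟨w * s, 𝔭.primeCompl.mul_mem hw s.2⟩ : 𝔭.primeCompl)) = (w * (s : B)) • y := by
        rw [← LinearMap.map_smul_of_tower]
        have := IsLocalizedModule.mk'_cancel' g x (⟨w * s, 𝔭.primeCompl.mul_mem hw s.2⟩ : 𝔭.primeCompl)
        rw [Submonoid.smul_def] at this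
        rw [this, hmap, hx, map_smul, mul_smul, show (s : B) • y = mk m from hs]
      obtain ⟨d, hd⟩ := (IsLocalizedModule.map_units mk (⟨w * s, 𝔭.primeCompl.mul_mem hw s.2⟩ : 𝔭.primeCompl)).exists_left_inv
      have h2 := congrArg d h1
      have h3 : ∀ v, d ((w * (s : B)) • v) = v := fun v => LinearMap.congr_fun hd v
      rwa [h3, h3] at h2
  obtain ⟨g, hg, hgbij⟩ := Module.FinitePresentation.exists_notMem_bijective α 𝔭
    (LocalizedModule.mkLinearMap 𝔭.primeCompl (Fin r → B)) mk hbij
  -- the content of `g`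
  haveI : Module.Projective R B := projective_of_smooth_geomIrred R B hgi
  obtain ⟨f, φ, hfg, hf⟩ : ∃ (f : R) (φ : B →ₗ[R] R), φ g = f ∧ f ∉ rr := by
    obtain ⟨σ, hσ⟩ := Module.projective_def'.1 (inferInstance : Module.Projective R B)
    by_contra! hall
    apply hg
    have h := LinearMap.congr_fun hσ g
    rw [LinearMap.comp_apply, LinearMap.id_apply, Finsupp.linearCombination_apply] at h
    rw [← h]
    refine Submodule.sum_mem _ fun i _ => ?_
    simp only [id, Algebra.smul_def]
    exact Ideal.mul_mem_right _ _ (Ideal.mem_map_of_mem _ (hall _ (Finsupp.lapply i ∘ₗ σ) rfl))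
  refine ⟨f, hf, fun q _ hfq hflatq Q _ _ z hz => ?_⟩
  let P := q.comap (algebraMap R B)
  haveI : q.LiesOver P := ⟨rfl⟩
  obtain ⟨hPB, -⟩ := map_isPrime_and_comap hgi P
  haveI := hPB
  have hgP : g ∉ P.map (algebraMap R B) := fun hmem => hfq (by
    rw [← hfg]
    have : ∀ b ∈ P • (⊤ : Submodule R B), φ b ∈ P := fun b hb => by
      refine Submodule.smul_induction_on hb (fun a ha y _ => ?_) fun a b ha hb => by rw [map_add]; exact add_mem ha hb
      rw [map_smul, smul_eq_mul]
      exact Ideal.mul_mem_right _ _ ha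
    exact this g (by rw [Ideal.smul_top_eq_map]; exact hmem))
  haveI : Module.Flat R (LocalizedModule q.primeCompl M) := hflatq
  let mkq := LocalizedModule.mkLinearMap q.primeCompl M
  refine exists_smul_eq_zero_of_linear_map (R := R) (Fin r → B) P q (mkq ∘ₗ α) (fun n hn => ?_) Q z (by
    rw [LinearMap.restrictScalars_comp, LinearMap.rTensor_comp, LinearMap.comp_apply, hz, map_zero])
  refine ⟨1, fun h1 => ‹q.IsPrime›.ne_top ((Ideal.eq_top_iff_one _).2 h1), ?_⟩
  rw [one_smul]
  obtain ⟨w, hw, hwn⟩ := exists_smul_mem_of_localized_mem P q.primeCompl mkq _ hn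
  -- invert `g`
  let gM := LocalizedModule.mkLinearMap (Submonoid.powers g) M
  let gL := LocalizedModule.mkLinearMap (Submonoid.powers g) (Fin r → B)
  have hLM : ∀ x, LocalizedModule.map (Submonoid.powers g) α (gL x) = gM (α x) := fun x => LocalizedModule.map_mk _ _ _ _
  have key : ∀ y ∈ P • (⊤ : Submodule R M), ∃ (k : ℕ) (x : Fin r → B),
      x ∈ P • (⊤ : Submodule R (Fin r → B)) ∧ g ^ k • y = α x := by
    intro y hy
    refine Submodule.smul_induction_on hy (fun a ha m _ => ?_) ?_
    · obtain ⟨v, hv⟩ := hgbij.2 (gM m)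
      obtain ⟨⟨x, ⟨_, k, rfl⟩⟩, hx⟩ := IsLocalizedModule.surj (Submonoid.powers g) gL v
      have h1 : gM (g ^ k • m) = gM (α x) := by
        rw [map_smul, ← hv, ← hLM, ← show g ^ k • v = gL x from hx, LinearMap.map_smul_of_tower]
      obtain ⟨⟨_, l, rfl⟩, hl⟩ := (IsLocalizedModule.eq_iff_exists (Submonoid.powers g) gM).1 h1
      refine ⟨l + k, a • g ^ l • x, Submodule.smul_mem_smul ha Submodule.mem_top, ?_⟩
      rw [LinearMap.map_smul_of_tower, map_smul, smul_comm (g ^ (l + k)) a m, pow_add, mul_smul]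
      exact congrArg (a • ·) hl
    · rintro a b ⟨k, x, hx, e⟩ ⟨l, x', hx', e'⟩
      refine ⟨k + l, g ^ l • x + g ^ k • x', add_mem (smul_mem_ideal_smul_top P _ hx) (smul_mem_ideal_smul_top P _ hx'), ?_⟩
      rw [map_add, map_smul, map_smul, ← e, ← e', smul_add, smul_smul, smul_smul, ← pow_add, ← pow_add, add_comm l k]
  obtain ⟨k, x, hx, hkx⟩ := key _ hwn
  have h1 : gL ((g ^ k * w) • n) = gL x := hgbij.1 (by rw [hLM, hLM, map_smul, mul_smul, hkx])
  obtain ⟨⟨_, l, rfl⟩, hl⟩ := (IsLocalizedModule.eq_iff_exists (Submonoid.powers g) gL).1 h1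
  refine mem_smul_top_of_coords P n fun i => ?_
  have hxi : ∀ (v : Fin r → B), v ∈ P • (⊤ : Submodule R (Fin r → B)) → v i ∈ P.map (algebraMap R B) := fun v hv => by
    have h5 := Submodule.mem_map_of_mem (f := (LinearMap.proj i : (Fin r → B) →ₗ[R] B)) hv
    rw [Submodule.map_smul''] at h5
    have h6 := Submodule.smul_mono le_rfl le_top h5
    rw [Ideal.smul_top_eq_map] at h6
    exact h6
  have h2 : g ^ l * (g ^ k * w) * n i ∈ P.map (algebraMap R B) := by
    have h3 := congrFun hl i
    simp only [Submonoid.smul_def, Pi.smul_apply, smul_eq_mul] at h3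
    rw [mul_assoc, h3]
    exact Ideal.mul_mem_left _ _ (hxi x hx)
  refine (hPB.mem_or_mem h2).resolve_left fun h => ?_
  rcases hPB.mem_or_mem h with h | h
  · exact hgP (hPB.mem_of_pow_mem _ h)
  · rcases hPB.mem_or_mem h with h | h
    · exact hgP (hPB.mem_of_pow_mem _ h)
    · exact hw (Ideal.map_le_iff_le_comap.2 le_rfl h)

end Groth.Agent.RG11
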