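import Groth.Prelude.Def_FlatCA
import Mathlib

/-!
# Residue fields of points with values in a given field
-/

universe u

set_option linter.style.haveILetI false

namespace Groth.Agent.RG11

/-- A `κ(p)`-valued point has bijective residue field map. -/
theorem residue_bijective_of_point {R R' : Type u} [CommRing R] [CommRing R'] [Algebra R R'] (p : Ideal R)
    [p.IsPrime] (θ : R' →ₐ[R] p.ResidueField) [(RingHom.ker θ.toRingHom).IsPrime]
    [hover : (RingHom.ker θ.toRingHom).LiesOver p] :
    Function.Bijective (Ideal.ResidueField.mapₐ p (RingHom.ker θ.toRingHom) (Algebra.ofId R R') hover.over) := by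
  refine ⟨RingHom.injective _, ?_⟩
  let θb : (RingHom.ker θ.toRingHom).ResidueField →+* p.ResidueField :=
    Ideal.ResidueField.lift _ θ.toRingHom le_rfl fun a ha => isUnit_iff_ne_zero.2 ha
  have hcomp : θb.comp (Ideal.ResidueField.mapₐ p (RingHom.ker θ.toRingHom) (Algebra.ofId R R') hover.over).toRingHom =
      RingHom.id _ := by
    refine Ideal.ResidueField.ringHom_ext (RingHom.ext fun a => ?_)
    show θb ((Ideal.ResidueField.mapₐ p (RingHom.ker θ.toRingHom) (Algebra.ofId R R') hover.over)
      (algebraMap R p.ResidueField a)) = algebraMap R p.ResidueField a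
    rw [AlgHom.commutes, IsScalarTower.algebraMap_apply R R' (RingHom.ker θ.toRingHom).ResidueField]
    exact (Ideal.ResidueField.lift_algebraMap _ _ _ _ _).trans (θ.commutes a)
  exact fun z => ⟨θb z, θb.injective (RingHom.congr_fun hcomp (θb z))⟩

/-- A point of the base change along a point with values in the residue field. -/
theorem point_comp_map {R R' : Type u} [CommRing R] [CommRing R'] [Algebra R R'] (p : Ideal R) [p.IsPrime]
    (q : Ideal R') [q.IsPrime] [hover : q.LiesOver p] (χ : R' →ₐ[R] p.ResidueField)
    (hker : RingHom.ker χ.toRingHom = q) (a : R') :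
    Ideal.ResidueField.map p q (algebraMap R R') hover.over (χ a) = algebraMap R' q.ResidueField a := by
  subst hker
  obtain ⟨z, hz⟩ := (residue_bijective_of_point p χ).2 (algebraMap R' _ a)
  rw [← hz]
  let θb : (RingHom.ker χ.toRingHom).ResidueField →+* p.ResidueField :=
    Ideal.ResidueField.lift _ χ.toRingHom le_rfl fun a ha => isUnit_iff_ne_zero.2 ha
  have hcomp : θb.comp (Ideal.ResidueField.map p (RingHom.ker χ.toRingHom) (algebraMap R R') hover.over) =
      RingHom.id _ := by
    refine Ideal.ResidueField.ringHom_ext (RingHom.ext fun b => ?_)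
    simp only [RingHom.comp_apply, RingHom.id_apply, Ideal.ResidueField.map_algebraMap]
    exact (Ideal.ResidueField.lift_algebraMap _ _ _ _ _).trans (χ.commutes b)
  have h1 : θb (algebraMap R' _ a) = χ a := Ideal.ResidueField.lift_algebraMap _ _ _ _ a
  have h2 : θb (Ideal.ResidueField.map p (RingHom.ker χ.toRingHom) (algebraMap R R') hover.over z) = z :=
    RingHom.congr_fun hcomp z
  rw [← h1, ← hz]
  exact congrArg _ h2

/-- Purely transcendental residue extensions from coordinates. -/
theorem pureTrans_of_point {R' D : Type u} [CommRing R'] [CommRing D] [Algebra R' D] (p' : Ideal R') [p'.IsPrime]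
    (y : Ideal D) [y.IsPrime] [hover : y.LiesOver p'] {k L : Type u} [Field k] [Field L] [Algebra k L]
    (θ : R' →+* k) (hθ : RingHom.ker θ = p')
    (χ : D →+* L) (hχ : RingHom.ker χ = y) (hcomp : χ.comp (algebraMap R' D) = (algebraMap k L).comp θ)
    {ι : Type u} (X : ι → D) (hind : AlgebraicIndependent k fun i => χ (X i))
    (hgen : ∀ z : L, ∃ a b : MvPolynomial ι R',
      χ (MvPolynomial.aeval X b) ≠ 0 ∧ z * χ (MvPolynomial.aeval X b) = χ (MvPolynomial.aeval X a)) :
    FlatCA.PurelyTranscendental p' y := by
  let β : y.ResidueField →+* L := Ideal.ResidueField.lift y χ hχ.ge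
    fun a ha => isUnit_iff_ne_zero.2 fun h0 => ha (hχ.le h0)
  have hβ : ∀ a, β (algebraMap D y.ResidueField a) = χ a := fun a => Ideal.ResidueField.lift_algebraMap _ _ _ _ a
  let α : p'.ResidueField →+* k := Ideal.ResidueField.lift p' θ hθ.ge
    fun a ha => isUnit_iff_ne_zero.2 fun h0 => ha (hθ.le h0)
  have hα : ∀ a, α (algebraMap R' p'.ResidueField a) = θ a := fun a => Ideal.ResidueField.lift_algebraMap _ _ _ _ a
  letI : Algebra p'.ResidueField y.ResidueField :=
    (Ideal.ResidueField.mapₐ p' y (Algebra.ofId R' D) hover.over).toRingHom.toAlgebra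
  haveI : IsScalarTower R' p'.ResidueField y.ResidueField := IsScalarTower.of_algebraMap_eq fun a =>
    ((Ideal.ResidueField.mapₐ p' y (Algebra.ofId R' D) hover.over).commutes a).symm
  let x : ι → y.ResidueField := fun i => algebraMap D y.ResidueField (X i)
  have hcompat : (algebraMap k L).comp α = β.comp (algebraMap p'.ResidueField y.ResidueField) := by
    refine Ideal.ResidueField.ringHom_ext (RingHom.ext fun a => ?_)
    simp only [RingHom.comp_apply]
    rw [hα, ← IsScalarTower.algebraMap_apply, IsScalarTower.algebraMap_apply R' D y.ResidueField, hβ]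
    exact (RingHom.congr_fun hcomp a).symm
  have hindep : AlgebraicIndependent p'.ResidueField x := by
    rw [algebraicIndependent_iff]
    intro F hF
    have h1 : MvPolynomial.aeval (fun i => χ (X i)) (MvPolynomial.map α F) = 0 := by
      rw [MvPolynomial.aeval_def, MvPolynomial.eval₂_map, hcompat]
      have h2 := congrArg β hF
      rw [map_zero, MvPolynomial.aeval_def, MvPolynomial.hom_eval₂] at h2
      refine Eq.trans ?_ h2
      exact congrArg (fun v => MvPolynomial.eval₂ _ v F) (funext fun i => (hβ (X i)).symm)
    exact MvPolynomial.map_injective α α.injective (by rw [algebraicIndependent_iff.1 hind _ h1, map_zero])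
  have hgen' : IntermediateField.adjoin p'.ResidueField (Set.range x) = ⊤ := by
    refine eq_top_iff.2 fun z _ => ?_
    obtain ⟨a, b, hb, hab⟩ := hgen (β z)
    have hev : ∀ c : MvPolynomial ι R', algebraMap D y.ResidueField (MvPolynomial.aeval X c) =
        MvPolynomial.aeval x c := fun c =>
      DFunLike.congr_fun (MvPolynomial.comp_aeval (R := R') X (IsScalarTower.toAlgHom R' D y.ResidueField)) c
    have hz : z = MvPolynomial.aeval x a / MvPolynomial.aeval x b := by
      have hb' : MvPolynomial.aeval x b ≠ 0 := fun h => hb (by rw [← hβ, hev, h, map_zero])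
      rw [eq_div_iff hb', ← hev, ← hev]
      exact β.injective (by rw [map_mul, hβ, hβ, hab])
    have hmem : ∀ c : MvPolynomial ι R', MvPolynomial.aeval x c ∈
        IntermediateField.adjoin p'.ResidueField (Set.range x) := fun c => by
      rw [← MvPolynomial.aeval_map_algebraMap p'.ResidueField]
      exact IntermediateField.algebra_adjoin_le_adjoin _ _
        ((Algebra.adjoin_range_eq_range_aeval p'.ResidueField x).symm ▸ ⟨_, rfl⟩)
    rw [hz]
    exact div_mem (hmem a) (hmem b)
  refine ⟨ι, x, hindep.isTranscendenceBasis_iff_isAlgebraic.2 ?_, hgen'⟩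
  rw [← IntermediateField.isAlgebraic_adjoin_iff_top, hgen', Algebra.isAlgebraic_iff_isIntegral]
  exact Algebra.isIntegral_of_surjective IntermediateField.topEquiv.surjective

end Groth.Agent.RG11
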