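import Groth.Agent.RG11.StdBase

/-!
# Standard étale algebras over affine space are smooth
-/

universe u
namespace Groth.Agent.RG11
open MvPolynomial

theorem isStandardSmooth_mvPolynomial (R : Type u) [CommRing R] (n : ℕ) :
    Algebra.IsStandardSmoothOfRelativeDimension n R (MvPolynomial (Fin n) R) := by
  let G : Algebra.Generators R (MvPolynomial (Fin n) R) (Fin n) :=
    Algebra.Generators.ofSurjective MvPolynomial.X (fun x => ⟨x, MvPolynomial.aeval_X_left_apply x⟩)
  have hker : G.ker = ⊥ := by
    rw [Algebra.Generators.ker_eq_ker_aeval_val]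
    exact (RingHom.injective_iff_ker_eq_bot _).1 (fun a b h => by
      simpa [G, Algebra.Generators.ofSurjective, MvPolynomial.aeval_X_left_apply] using h)
  let P : Algebra.Presentation R (MvPolynomial (Fin n) R) (Fin n) (Fin 0) :=
    { toGenerators := G
      relation := Fin.elim0
      span_range_relation_eq_ker := by rw [hker, Set.range_eq_empty, Ideal.span_empty] }
  let Q : Algebra.PreSubmersivePresentation R (MvPolynomial (Fin n) R) (Fin n) (Fin 0) :=
    { toPresentation := P
      map := Fin.elim0
      map_inj := fun a => a.elim0 }
  let Q' : Algebra.SubmersivePresentation R (MvPolynomial (Fin n) R) (Fin n) (Fin 0) :=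
    { toPreSubmersivePresentation := Q
      jacobian_isUnit := by
        rw [Algebra.PreSubmersivePresentation.jacobian_eq_jacobiMatrix_det, Matrix.det_fin_zero, map_one]
        exact isUnit_one }
  exact Q'.isStandardSmoothOfRelativeDimension (by simp [Algebra.Presentation.dimension])

/-- A standard étale algebra over affine space is smooth of that relative dimension. -/
theorem std_smoothRelDim {R : Type u} [CommRing R] {n : ℕ} (Q : StandardEtalePair (MvPolynomial (Fin n) R)) :
    FlatCA.SmoothRelDim n R Q.Ring := by
  haveI := isStandardSmooth_mvPolynomial R n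
  haveI : Algebra.IsStandardSmoothOfRelativeDimension 0 (MvPolynomial (Fin n) R) Q.Ring :=
    Algebra.Etale.iff_isStandardSmoothOfRelativeDimension_zero.1 inferInstance
  have h : Algebra.IsStandardSmoothOfRelativeDimension (0 + n) R Q.Ring :=
    Algebra.IsStandardSmoothOfRelativeDimension.trans n 0 R (MvPolynomial (Fin n) R) Q.Ring
  rw [zero_add] at h
  rw [FlatCA.SmoothRelDim, AlgebraicGeometry.HasRingHomProperty.Spec_iff (P := @AlgebraicGeometry.SmoothOfRelativeDimension n)]
  refine RingHom.locally_of RingHom.isStandardSmoothOfRelativeDimension_respectsIso _ ?_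
  exact (RingHom.isStandardSmoothOfRelativeDimension_algebraMap n).2 h

end Groth.Agent.RG11
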