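import Groth.Agent.RG11.ElemPrep
import Groth.Agent.RG11.PointFields
import Groth.Agent.RG11.SmoothStd

/-!
# Existence of elementary dévissages
-/

universe u

set_option linter.style.haveILetI false

namespace Groth.Agent.RG11

open TensorProduct

/-- The map to the residue field of a prime over `p` of a quotient prime is that of the prime. -/
theorem exists_residue_section {S : Type u} [CommRing S] (J q : Ideal S) [q.IsPrime] (hJq : J ≤ q)
    [(q.map (Ideal.Quotient.mk J)).IsPrime] :
    ∃ ξ : (q.map (Ideal.Quotient.mk J)).ResidueField →+* q.ResidueField,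
      ∀ s, ξ (algebraMap (S ⧸ J) _ (Ideal.Quotient.mk J s)) = algebraMap S q.ResidueField s := by
  let f : S ⧸ J →+* q.ResidueField := Ideal.Quotient.lift J (algebraMap S q.ResidueField)
    fun a ha => Ideal.algebraMap_residueField_eq_zero.2 (hJq ha)
  have hker : RingHom.ker f = q.map (Ideal.Quotient.mk J) := by
    refine (Ideal.ker_quotient_lift (algebraMap S q.ResidueField)
      fun a ha => Ideal.algebraMap_residueField_eq_zero.2 (hJq ha)).trans ?_
    rw [Ideal.ker_algebraMap_residueField]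
  exact ⟨Ideal.ResidueField.lift _ f hker.ge fun a ha => isUnit_iff_ne_zero.2 fun h0 => ha (hker.le h0),
    fun s => (Ideal.ResidueField.lift_algebraMap _ _ _ _ _).trans (Ideal.Quotient.lift_mk _ _ _)⟩

/-- Bijectivity of the residue field map at the kernel of a point. -/
theorem residue_bijective_of_point' {R R' : Type u} [CommRing R] [CommRing R'] [Algebra R R'] (p : Ideal R)
    [p.IsPrime] (y : Ideal R') [y.IsPrime] [hover : y.LiesOver p] (θ : R' →ₐ[R] p.ResidueField)
    (hker : RingHom.ker θ.toRingHom = y) :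
    Function.Bijective (Ideal.ResidueField.mapₐ p y (Algebra.ofId R R') hover.over) := by
  subst hker
  exact residue_bijective_of_point p θ

set_option maxHeartbeats 2000000 in
/-- The elementary dévissage from the data of the quasi-finite splitting. -/
theorem exists_elemDevissage_core {R S : Type u} [CommRing R] [CommRing S] [Algebra R S]
    (N : Type u) [AddCommGroup N] [Module S N] [Module.Finite S N]
    (p : Ideal R) [p.IsPrime] (q : Ideal S) [q.IsPrime] [hover : q.LiesOver p] (n : ℕ)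
    (J : Ideal S) (hJfg : J.FG) (hann : J ≤ Module.annihilator S N)
    (ts : Fin n → S) (Sset : Set (Fin n)) (hts : ∀ i ∉ Sset, ts i ∈ q)
    [Algebra (MvPolynomial (Fin n) R) (S ⧸ J)] [IsScalarTower R (MvPolynomial (Fin n) R) (S ⧸ J)]
    (htq : ∀ i, algebraMap (MvPolynomial (Fin n) R) (S ⧸ J) (MvPolynomial.X i) = Ideal.Quotient.mk J (ts i))
    (y₀ : Ideal (MvPolynomial (Fin n) R)) [y₀.IsPrime] [hy₀p : y₀.LiesOver p]
    (ε : y₀.ResidueField →+* q.ResidueField)
    (hεR : ∀ a, ε (algebraMap R y₀.ResidueField a) = algebraMap R q.ResidueField a)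
    (hεX : ∀ i, ε (algebraMap (MvPolynomial (Fin n) R) y₀.ResidueField (MvPolynomial.X i)) =
      algebraMap S q.ResidueField (ts i))
    (hind : ∀ F : MvPolynomial Sset p.ResidueField,
      MvPolynomial.eval₂ (Ideal.ResidueField.map p q (algebraMap R S) hover.over)
        (fun i : Sset => algebraMap S q.ResidueField (ts i)) F = 0 → F = 0)
    (Q : StandardEtalePair (MvPolynomial (Fin n) R)) (C₂ : Type u) [CommRing C₂] [Algebra (S ⧸ J) C₂]
    [Algebra Q.Ring C₂] [Algebra (MvPolynomial (Fin n) R) C₂] [IsScalarTower (MvPolynomial (Fin n) R) Q.Ring C₂]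
    [IsScalarTower (MvPolynomial (Fin n) R) (S ⧸ J) C₂] [Module.Finite Q.Ring C₂]
    [Algebra.IsStandardEtale (S ⧸ J) C₂]
    (χ : Q.Ring →ₐ[MvPolynomial (Fin n) R] y₀.ResidueField) (Φ : C₂ →+* q.ResidueField)
    (hΦC : ∀ s, Φ (algebraMap (S ⧸ J) C₂ (Ideal.Quotient.mk J s)) = algebraMap S q.ResidueField s)
    (hΦQ : ∀ a, Φ (algebraMap Q.Ring C₂ a) = ε (χ a))
    (huniq : ∀ z : Ideal C₂, z.IsPrime → z.comap (algebraMap Q.Ring C₂) = RingHom.ker χ.toRingHom → z = RingHom.ker Φ) :
    ∃ d : FlatCA.ElemDevissage R S N p q n,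
      letI := d.cR'; letI := d.cD; letI := d.aR'D
      Module.Projective d.R' d.D := by
  classical
  letI : Algebra S C₂ := ((algebraMap (S ⧸ J) C₂).comp (Ideal.Quotient.mk J)).toAlgebra
  haveI : IsScalarTower S (S ⧸ J) C₂ := IsScalarTower.of_algebraMap_eq fun _ => rfl
  obtain ⟨P₂, ρS, hρS, hliftC⟩ := exists_std_lift (C₂ := C₂) J
  -- the point in the residue field of `y₀`
  let L := y₀.ResidueField
  letI : Algebra p.ResidueField L :=
    (Ideal.ResidueField.map p y₀ (algebraMap R (MvPolynomial (Fin n) R)) hy₀p.over).toAlgebra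
  haveI : IsScalarTower R p.ResidueField L := IsScalarTower.of_algebraMap_eq fun a => by
    show _ = Ideal.ResidueField.map p y₀ (algebraMap R (MvPolynomial (Fin n) R)) hy₀p.over (algebraMap R p.ResidueField a)
    rw [Ideal.ResidueField.map_algebraMap, ← IsScalarTower.algebraMap_apply]
  let u : Fin n → L := fun i => algebraMap (MvPolynomial (Fin n) R) L (MvPolynomial.X i)
  let x : L := χ Q.X
  let εk : p.ResidueField →+* q.ResidueField := Ideal.ResidueField.map p q (algebraMap R S) hover.over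
  have hεk : ε.comp (algebraMap p.ResidueField L) = εk := Ideal.ResidueField.ringHom_ext (RingHom.ext fun a => by
    simp only [RingHom.comp_apply, εk, Ideal.ResidueField.map_algebraMap]
    rw [← IsScalarTower.algebraMap_apply, hεR, IsScalarTower.algebraMap_apply R S q.ResidueField])
  have hu : AlgebraicIndependent p.ResidueField fun i : Sset => u i := algebraicIndependent_iff.2 fun F hF => by
    refine hind F ?_
    have h2 := congrArg ε hF
    rw [map_zero, MvPolynomial.aeval_def, MvPolynomial.hom_eval₂, hεk] at h2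
    refine Eq.trans ?_ h2
    exact congrArg (fun v => MvPolynomial.eval₂ _ v F) (funext fun i => (hεX i).symm)
  have hu0 : ∀ i ∉ Sset, u i = 0 := fun i hi => ε.injective (by
    rw [map_zero]; exact (hεX i).trans (Ideal.algebraMap_residueField_eq_zero.2 (hts i hi)))
  have hevT : ∀ F : MvPolynomial (Fin n) R, algebraMap (MvPolynomial (Fin n) R) L F = MvPolynomial.aeval u F :=
    fun F => DFunLike.congr_fun (MvPolynomial.aeval_unique (IsScalarTower.toAlgHom R (MvPolynomial (Fin n) R) L)) F
  have hgenL : ∀ z : L, ∃ a b : MvPolynomial (Fin n) R,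
      MvPolynomial.aeval u b ≠ 0 ∧ z * MvPolynomial.aeval u b = MvPolynomial.aeval u a := fun z => by
    obtain ⟨a, b, hb, rfl⟩ := IsFractionRing.div_surjective (MvPolynomial (Fin n) R ⧸ y₀) z
    obtain ⟨a, rfl⟩ := Ideal.Quotient.mk_surjective a
    obtain ⟨b, rfl⟩ := Ideal.Quotient.mk_surjective b
    have hb' : MvPolynomial.aeval u b ≠ 0 := by
      rw [← hevT]
      exact fun h => nonZeroDivisors.ne_zero hb
        (Ideal.Quotient.eq_zero_iff_mem.2 (Ideal.algebraMap_residueField_eq_zero.1 h))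
    refine ⟨a, b, hb', ?_⟩
    rw [Ideal.algebraMap_quotient_residueField_mk, Ideal.algebraMap_quotient_residueField_mk, hevT, hevT,
      div_mul_cancel₀ _ hb']
  have hx : ∃ a b : MvPolynomial (Fin n) p.ResidueField,
      MvPolynomial.aeval u b ≠ 0 ∧ x * MvPolynomial.aeval u b = MvPolynomial.aeval u a := by
    obtain ⟨a, b, hb, hab⟩ := hgenL x
    exact ⟨MvPolynomial.map (algebraMap R p.ResidueField) a, MvPolynomial.map (algebraMap R p.ResidueField) b,
      by rw [MvPolynomial.aeval_map_algebraMap]; exact hb,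
      by rw [MvPolynomial.aeval_map_algebraMap, MvPolynomial.aeval_map_algebraMap]; exact hab⟩
  have hχR : χ.toRingHom.comp (algebraMap R Q.Ring) = algebraMap R L :=
    RingHom.ext fun a => (χ.commutes (algebraMap R (MvPolynomial (Fin n) R) a)).trans
      (IsScalarTower.algebraMap_apply R (MvPolynomial (Fin n) R) L a).symm
  have hpt : stdPt Q χ.toRingHom = (u, x) := Prod.ext (funext fun i => χ.commutes _) rfl
  have hf : evW (algebraMap R L) u x Q.f = 0 := by
    have := evW_f_eq_zero Q χ.toRingHom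
    rwa [hpt, hχR] at this
  have hg : evW (algebraMap R L) u x Q.g ≠ 0 := by
    have := isUnit_evW_g Q χ.toRingHom
    rw [hpt, hχR] at this
    exact this.ne_zero
  obtain ⟨R', _, _, θ, G, het, hG, hgeom, hproj⟩ := exists_std_shrink Q p L u x Sset hu hu0 hx hf hg
  haveI := het
  let Q' := mulPair (mapPair Q (algebraMap R R')) G
  let ψL : R' →+* L := (algebraMap p.ResidueField L).comp θ.toRingHom
  have hψL : ψL.comp (algebraMap R R') = algebraMap R L := RingHom.ext fun a => by
    show algebraMap p.ResidueField L (θ (algebraMap R R' a)) = algebraMap R L a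
    rw [θ.commutes, ← IsScalarTower.algebraMap_apply]
  obtain ⟨χD, hχD, hχDu, hχDx⟩ := exists_stdHom Q' ψL u x
    (by
      show evW ψL u x (Q.f.map (MvPolynomial.map (algebraMap R R'))) = 0
      rw [evW_comp_map, hψL]; exact hf)
    (by
      show IsUnit (evW ψL u x (Q.g.map (MvPolynomial.map (algebraMap R R')) * G))
      rw [map_mul, evW_comp_map, hψL]
      exact isUnit_iff_ne_zero.2 (mul_ne_zero hg hG))
  -- the map `Q.Ring → D`
  let ptD := stdPt Q' (RingHom.id Q'.Ring)
  have hidD : ∀ F : W n R, evW ((algebraMap R' Q'.Ring).comp (algebraMap R R')) ptD.1 ptD.2 F =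
      evW ((RingHom.id Q'.Ring).comp (algebraMap R' Q'.Ring)) ptD.1 ptD.2 (F.map (MvPolynomial.map (algebraMap R R'))) :=
    fun F => by rw [evW_comp_map]; rfl
  obtain ⟨φQ, hφQ, hφQu, hφQx⟩ := exists_stdHom Q ((algebraMap R' Q'.Ring).comp (algebraMap R R')) ptD.1 ptD.2
    (by rw [hidD]; exact evW_f_eq_zero Q' (RingHom.id _))
    (by
      rw [hidD]
      have := isUnit_evW_g Q' (RingHom.id Q'.Ring)
      rw [show Q'.g = Q.g.map (MvPolynomial.map (algebraMap R R')) * G from rfl, map_mul] at this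
      exact isUnit_of_mul_isUnit_left this)
  letI : Algebra Q.Ring Q'.Ring := φQ.toAlgebra
  have hχQ : χD.comp φQ = χ.toRingHom := by
    refine stdHom_ext Q ?_ ?_
    · rw [RingHom.comp_assoc, hφQ, ← RingHom.comp_assoc, hχD, hψL, hχR]
    · rw [hpt]
      refine Prod.ext (funext fun i => ?_) ?_
      · show χD (φQ _) = u i
        rw [show φQ (algebraMap _ Q.Ring (MvPolynomial.X i)) = ptD.1 i from congrFun hφQu i]
        exact congrFun hχDu i
      · show χD (φQ Q.X) = x
        rw [show φQ Q.X = ptD.2 from hφQx]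
        exact hχDx
  -- the étale algebra over `S`
  letI : Algebra R P₂.Ring := ((algebraMap S P₂.Ring).comp (algebraMap R S)).toAlgebra
  haveI : IsScalarTower R S P₂.Ring := IsScalarTower.of_algebraMap_eq fun _ => rfl
  let S₀ := P₂.Ring ⊗[R] R'
  let ψS : R' →+* S₀ := (Algebra.TensorProduct.includeRight : R' →ₐ[R] S₀).toRingHom
  obtain ⟨w, hw⟩ := hρS (algebraMap Q.Ring C₂ Q.X)
  let Gt : S₀ := evW ψS (fun i => algebraMap S P₂.Ring (ts i) ⊗ₜ[R] (1 : R')) (w ⊗ₜ[R] (1 : R')) G
  let S' := Localization.Away Gt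
  letI : Algebra R' S₀ := Algebra.TensorProduct.rightAlgebra
  haveI : Algebra.Etale S P₂.Ring := inferInstance
  haveI : Algebra.Etale S S₀ := Algebra.Etale.comp S P₂.Ring S₀
  haveI : Algebra.Etale S S' := inferInstance
  -- the point of `S'`
  let ρq : P₂.Ring →ₐ[R] q.ResidueField :=
    { Φ.comp ρS.toRingHom with
      commutes' := fun a => (congrArg Φ (ρS.commutes (algebraMap R S a))).trans
        ((hΦC _).trans (IsScalarTower.algebraMap_apply R S q.ResidueField a).symm) }
  let θq : R' →ₐ[R] q.ResidueField :=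
    { εk.comp θ.toRingHom with
      commutes' := fun a => (congrArg εk (θ.commutes a)).trans
        ((Ideal.ResidueField.map_algebraMap _ _ _ _ a).trans (IsScalarTower.algebraMap_apply R S q.ResidueField a).symm) }
  let Φ₀ : S₀ →ₐ[R] q.ResidueField := Algebra.TensorProduct.lift ρq θq fun _ _ => .all _ _
  have hΦ₀l : ∀ a, Φ₀ (a ⊗ₜ[R] (1 : R')) = Φ (ρS a) := fun a => by
    show Algebra.TensorProduct.lift ρq θq (fun _ _ => .all _ _) (a ⊗ₜ[R] (1 : R')) = _
    rw [Algebra.TensorProduct.lift_tmul, map_one, mul_one]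
    rfl
  have hΦ₀r : ∀ r, Φ₀ ((1 : P₂.Ring) ⊗ₜ[R] r) = εk (θ r) := fun r => by
    show Algebra.TensorProduct.lift ρq θq (fun _ _ => .all _ _) ((1 : P₂.Ring) ⊗ₜ[R] r) = _
    rw [Algebra.TensorProduct.lift_tmul, map_one, one_mul]
    rfl
  have hΦ₀S : ∀ s, Φ₀ (algebraMap S P₂.Ring s ⊗ₜ[R] (1 : R')) = algebraMap S q.ResidueField s := fun s => by
    rw [hΦ₀l, ρS.commutes]; exact hΦC s
  have hGt : Φ₀.toRingHom Gt = ε (evW ψL u x G) := by
    simp only [Gt]
    rw [map_evW, map_evW]
    have e1 : Φ₀.toRingHom.comp ψS = ε.comp ψL :=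
      RingHom.ext fun r => (hΦ₀r r).trans (RingHom.congr_fun hεk (θ r)).symm
    have e2 : (fun i => Φ₀.toRingHom (algebraMap S P₂.Ring (ts i) ⊗ₜ[R] (1 : R'))) = fun i => ε (u i) :=
      funext fun i => (hΦ₀S (ts i)).trans (hεX i).symm
    have e3 : Φ₀.toRingHom (w ⊗ₜ[R] (1 : R')) = ε x := by
      show Φ₀ (w ⊗ₜ[R] (1 : R')) = ε x
      rw [hΦ₀l, hw, hΦQ]
    rw [e1, e2, e3]
  have hGtu : IsUnit (Φ₀.toRingHom Gt) := by
    rw [hGt]; exact (isUnit_iff_ne_zero.2 hG).map ε
  let Φ' : S' →+* q.ResidueField := IsLocalization.Away.lift Gt (g := Φ₀.toRingHom) hGtu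
  have hΦ' : ∀ a, Φ' (algebraMap S₀ S' a) = Φ₀ a := IsLocalization.Away.lift_eq Gt hGtu
  have hΦ'S : ∀ s, Φ' (algebraMap S S' s) = algebraMap S q.ResidueField s := fun s =>
    (congrArg Φ' (IsScalarTower.algebraMap_apply S S₀ S' s)).trans ((hΦ' _).trans (hΦ₀S s))
  let Φ'a : S' →ₐ[S] q.ResidueField := { Φ' with commutes' := hΦ'S }
  obtain ⟨hq', hetS⟩ : ∃ _ : (RingHom.ker Φ'a.toRingHom).IsPrime,
      FlatCA.IsEtaleNhd S S' q (RingHom.ker Φ'a.toRingHom) := isEtaleNhd_of_point q Φ'a
  obtain ⟨hp', hetR⟩ := isEtaleNhd_of_point p θ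
  -- the closed subscheme
  let I : Ideal S' := J.map (algebraMap S S')
  let C := S' ⧸ I
  letI : Algebra (S ⧸ J) C := (Ideal.quotientMap I (algebraMap S S') Ideal.le_comap_map).toAlgebra
  haveI : IsScalarTower S (S ⧸ J) C := IsScalarTower.of_algebraMap_eq fun _ => rfl
  let π : S₀ →+* C := (Ideal.Quotient.mk I).comp (algebraMap S₀ S')
  let η : P₂.Ring →ₐ[S] C :=
    { π.comp (Algebra.TensorProduct.includeLeftRingHom : P₂.Ring →+* S₀) with
      commutes' := fun s => congrArg (Ideal.Quotient.mk I) (IsScalarTower.algebraMap_apply S S₀ S' s).symm }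
  obtain ⟨ρC, hρC⟩ := hliftC C η
  have hρCη : ∀ a, ρC (ρS a) = π (a ⊗ₜ[R] (1 : R')) := fun a => DFunLike.congr_fun hρC a
  let φ₂ : Q.Ring →+* C := ρC.toRingHom.comp (algebraMap Q.Ring C₂)
  let ψC : R' →+* C := π.comp ψS
  let uC : Fin n → C := fun i => π (algebraMap S P₂.Ring (ts i) ⊗ₜ[R] (1 : R'))
  let xC : C := π (w ⊗ₜ[R] (1 : R'))
  have hφ₂pt : stdPt Q φ₂ = (uC, xC) := by
    refine Prod.ext (funext fun i => ?_) ?_
    · show ρC (algebraMap Q.Ring C₂ (algebraMap (MvPolynomial (Fin n) R) Q.Ring (MvPolynomial.X i))) = uC i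
      rw [← IsScalarTower.algebraMap_apply, IsScalarTower.algebraMap_apply (MvPolynomial (Fin n) R) (S ⧸ J) C₂, htq,
        show algebraMap (S ⧸ J) C₂ (Ideal.Quotient.mk J (ts i)) = ρS (algebraMap S P₂.Ring (ts i)) from
          (ρS.commutes (ts i)).symm, hρCη]
    · show ρC (algebraMap Q.Ring C₂ Q.X) = xC
      rw [← hw, hρCη]
  have hφ₂R : φ₂.comp (algebraMap R Q.Ring) = ψC.comp (algebraMap R R') := RingHom.ext fun a => by
    show ρC (algebraMap Q.Ring C₂ (algebraMap (MvPolynomial (Fin n) R) Q.Ring (MvPolynomial.C a))) =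
      π ((1 : P₂.Ring) ⊗ₜ[R] algebraMap R R' a)
    rw [← IsScalarTower.algebraMap_apply, IsScalarTower.algebraMap_apply (MvPolynomial (Fin n) R) (S ⧸ J) C₂,
      show algebraMap (MvPolynomial (Fin n) R) (S ⧸ J) (MvPolynomial.C a) = Ideal.Quotient.mk J (algebraMap R S a) from
        (IsScalarTower.algebraMap_apply R (MvPolynomial (Fin n) R) (S ⧸ J) a).symm,
      show algebraMap (S ⧸ J) C₂ (Ideal.Quotient.mk J (algebraMap R S a)) = ρS (algebraMap S P₂.Ring (algebraMap R S a)) from
        (ρS.commutes _).symm, hρCη]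
    refine congrArg π ?_
    show algebraMap R P₂.Ring a ⊗ₜ[R] (1 : R') = _
    rw [Algebra.algebraMap_eq_smul_one, Algebra.algebraMap_eq_smul_one, TensorProduct.smul_tmul]
  have hGC : evW ψC uC xC G = π Gt := by
    simp only [Gt]
    rw [map_evW ψS π]
  obtain ⟨γD, hγD, hγDu, hγDx⟩ := exists_stdHom Q' ψC uC xC
    (by
      show evW ψC uC xC (Q.f.map (MvPolynomial.map (algebraMap R R'))) = 0
      rw [evW_comp_map, ← hφ₂R]
      have := evW_f_eq_zero Q φ₂
      rwa [hφ₂pt] at this)
    (by
      show IsUnit (evW ψC uC xC (Q.g.map (MvPolynomial.map (algebraMap R R')) * G))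
      rw [map_mul, evW_comp_map, ← hφ₂R, hGC]
      have := isUnit_evW_g Q φ₂
      rw [hφ₂pt] at this
      exact this.mul ((IsLocalization.Away.algebraMap_isUnit (S := S') Gt).map (Ideal.Quotient.mk I)))
  have hγφ : γD.comp φQ = φ₂ := by
    refine stdHom_ext Q ?_ ?_
    · rw [RingHom.comp_assoc, hφQ, ← RingHom.comp_assoc, hγD, hφ₂R]
    · rw [hφ₂pt]
      refine Prod.ext (funext fun i => ?_) ?_
      · show γD (φQ _) = uC i
        rw [show φQ (algebraMap _ Q.Ring (MvPolynomial.X i)) = ptD.1 i from congrFun hφQu i]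
        exact congrFun hγDu i
      · show γD (φQ Q.X) = xC
        rw [show φQ Q.X = ptD.2 from hφQx]
        exact hγDx
  letI : Algebra Q.Ring C := φ₂.toAlgebra
  let γDa : Q'.Ring →ₐ[Q.Ring] C := { γD with commutes' := RingHom.congr_fun hγφ }
  let ρCa : C₂ →ₐ[Q.Ring] C := { ρC.toRingHom with commutes' := fun _ => rfl }
  let γ : Q'.Ring ⊗[Q.Ring] C₂ →ₐ[Q.Ring] C :=
    Algebra.TensorProduct.lift γDa ρCa fun _ _ => .all _ _
  have hγl : ∀ d, γ (d ⊗ₜ[Q.Ring] (1 : C₂)) = γD d := fun d => by
    show Algebra.TensorProduct.lift γDa ρCa (fun _ _ => .all _ _) _ = _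
    rw [Algebra.TensorProduct.lift_tmul, map_one, mul_one]
    rfl
  have hγr : ∀ c, γ ((1 : Q'.Ring) ⊗ₜ[Q.Ring] c) = ρC c := fun c => by
    show Algebra.TensorProduct.lift γDa ρCa (fun _ _ => .all _ _) _ = _
    rw [Algebra.TensorProduct.lift_tmul, map_one, one_mul]
    rfl
  have hrange : ∀ a : S₀, π a ∈ γ.range := by
    intro a
    induction a using TensorProduct.induction_on with
    | zero => rw [map_zero]; exact zero_mem _
    | tmul a r =>
      have : π (a ⊗ₜ[R] r) = π (a ⊗ₜ[R] (1 : R')) * ψC r := by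
        show _ = π _ * π ((1 : P₂.Ring) ⊗ₜ[R] r)
        rw [← map_mul, Algebra.TensorProduct.tmul_mul_tmul, mul_one, one_mul]
      rw [this, ← hρCη, ← hγr, ← hγD, RingHom.comp_apply, ← hγl]
      exact mul_mem ⟨_, rfl⟩ ⟨_, rfl⟩
    | add a b ha hb => rw [map_add]; exact add_mem ha hb
  have hγ : Function.Surjective γ := by
    intro c
    obtain ⟨s, rfl⟩ := Ideal.Quotient.mk_surjective c
    obtain ⟨⟨a, ⟨_, k, rfl⟩⟩, hs⟩ := IsLocalization.surj (Submonoid.powers Gt) s
    obtain ⟨z, hz⟩ := hrange a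
    let gD : Q'.Ring := evW (algebraMap R' Q'.Ring) ptD.1 ptD.2 G
    have hgD : IsUnit gD := by
      have := isUnit_evW_g Q' (RingHom.id Q'.Ring)
      rw [show Q'.g = Q.g.map (MvPolynomial.map (algebraMap R R')) * G from rfl, map_mul] at this
      exact isUnit_of_mul_isUnit_right this
    have hγgD : γD gD = π Gt := by
      rw [← hGC]
      show γD (evW _ _ _ G) = _
      rw [map_evW, hγD]
      exact congrArg₂ (fun a b => evW ψC a b G) hγDu hγDx
    refine ⟨z * ((↑(hgD.pow k).unit⁻¹ : Q'.Ring) ⊗ₜ[Q.Ring] (1 : C₂)), ?_⟩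
    have hu' : IsUnit (γD (gD ^ k)) := (hgD.pow k).map γD
    refine hu'.mul_right_cancel ?_
    rw [map_mul, hγl, mul_assoc, ← map_mul γD, IsUnit.val_inv_mul, map_one, mul_one, map_pow, hγgD]
    refine hz.trans ?_
    show π a = Ideal.Quotient.mk I s * π Gt ^ k
    rw [← map_pow π]
    exact ((congrArg (Ideal.Quotient.mk I) hs).symm.trans (map_mul _ _ _))
  letI : Algebra Q'.Ring C := γD.toAlgebra
  haveI : IsScalarTower R' Q'.Ring C := IsScalarTower.of_algebraMap_eq fun r => (RingHom.congr_fun hγD r).symm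
  haveI : Module.Finite Q'.Ring C :=
    Module.Finite.of_surjective (M := Q'.Ring ⊗[Q.Ring] C₂)
      ({ γ.toRingHom with commutes' := fun d => hγl d } : Q'.Ring ⊗[Q.Ring] C₂ →ₐ[Q'.Ring] C).toLinearMap hγ
  -- the points of `C` and `D`
  have hI : ∀ a ∈ I, Φ' a = 0 := by
    have : I ≤ RingHom.ker Φ' := Ideal.map_le_iff_le_comap.2 fun s hs => by
      show Φ' (algebraMap S S' s) = 0
      rw [hΦ'S, ← hΦC,
        Ideal.Quotient.eq_zero_iff_mem.2 hs, map_zero, map_zero]
    exact fun a ha => this ha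
  let ΦC : C →+* q.ResidueField := Ideal.Quotient.lift I Φ' hI
  have hΦCπ : ∀ a, ΦC (π a) = Φ₀ a := fun a => (Ideal.Quotient.lift_mk _ _ _).trans (hΦ' a)
  have hΦCD : ΦC.comp γD = ε.comp χD := by
    refine stdHom_ext Q' ?_ ?_
    · rw [RingHom.comp_assoc, hγD, RingHom.comp_assoc, hχD]
      refine RingHom.ext fun r => ?_
      show ΦC (π ((1 : P₂.Ring) ⊗ₜ[R] r)) = ε (algebraMap p.ResidueField L (θ r))
      rw [hΦCπ, hΦ₀r, ← hεk]
      rfl
    · refine Prod.ext (funext fun i => ?_) ?_
      · show ΦC ((stdPt Q' γD).1 i) = ε ((stdPt Q' χD).1 i)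
        rw [hγDu, hχDu]
        show ΦC (π _) = ε (u i)
        rw [hΦCπ, hΦ₀S]
        exact (hεX i).symm
      · show ΦC ((stdPt Q' γD).2) = ε ((stdPt Q' χD).2)
        rw [hγDx, hχDx]
        show ΦC (π _) = ε x
        rw [hΦCπ, hΦ₀l, hw, hΦQ]
  haveI : (RingHom.ker χD).IsPrime := RingHom.ker_isPrime χD
  haveI : (RingHom.ker ΦC).IsPrime := RingHom.ker_isPrime ΦC
  haveI hzy : (RingHom.ker ΦC).LiesOver (RingHom.ker χD) := ⟨by
    show RingHom.ker χD = Ideal.comap γD (RingHom.ker ΦC)
    rw [RingHom.comap_ker, hΦCD, RingHom.ker_comp_of_injective _ ε.injective]⟩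
  haveI hyp : (RingHom.ker χD).LiesOver (RingHom.ker θ.toRingHom) := ⟨by
    rw [Ideal.under, RingHom.comap_ker, hχD, RingHom.ker_comp_of_injective _ (algebraMap p.ResidueField L).injective]⟩
  haveI : (RingHom.ker Φ'a.toRingHom).LiesOver (RingHom.ker θ.toRingHom) := ⟨by
    rw [Ideal.under, RingHom.comap_ker]
    refine ((RingHom.ker_comp_of_injective θ.toRingHom εk.injective).symm).trans (congrArg RingHom.ker ?_)
    exact RingHom.ext fun r => ((hΦ' _).trans (hΦ₀r r)).symm⟩
  haveI hzq : (RingHom.ker ΦC).LiesOver (RingHom.ker Φ'a.toRingHom) := ⟨by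
    rw [Ideal.under, RingHom.comap_ker]
    exact congrArg RingHom.ker (RingHom.ext fun s => (Ideal.Quotient.lift_mk I Φ' hI).symm)⟩
  -- residue fields of the points of `Q.Ring` and `D`
  haveI : (RingHom.ker χ.toRingHom).IsPrime := RingHom.ker_isPrime χ.toRingHom
  haveI hy₁y₀ : (RingHom.ker χ.toRingHom).LiesOver y₀ := ⟨by
    rw [Ideal.under, RingHom.comap_ker,
      show χ.toRingHom.comp (algebraMap _ Q.Ring) = algebraMap (MvPolynomial (Fin n) R) L from χ.comp_algebraMap,
      Ideal.ker_algebraMap_residueField]⟩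
  haveI hyy₁ : (RingHom.ker χD).LiesOver (RingHom.ker χ.toRingHom) := ⟨by
    rw [Ideal.under, RingHom.comap_ker]; exact congrArg RingHom.ker hχQ.symm⟩
  let m01 := Ideal.ResidueField.map y₀ (RingHom.ker χ.toRingHom) (algebraMap _ Q.Ring) hy₁y₀.over
  let θD : Q'.Ring →ₐ[Q.Ring] (RingHom.ker χ.toRingHom).ResidueField :=
    { m01.comp χD with
      commutes' := fun a => (congrArg m01 (RingHom.congr_fun hχQ a)).trans
        (point_comp_map y₀ (RingHom.ker χ.toRingHom) χ rfl a) }
  have hkerθD : RingHom.ker θD.toRingHom = RingHom.ker χD := RingHom.ker_comp_of_injective χD m01.injective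
  have hbijD := residue_bijective_of_point' (RingHom.ker χ.toRingHom) (RingHom.ker χD) θD hkerθD
  -- the module
  let N' := S' ⊗[S] N
  have htor : Module.IsTorsionBySet S' N' (I : Set S') := by
    have : I ≤ Module.annihilator S' N' := Ideal.map_le_iff_le_comap.2 fun s hs => by
      rw [Ideal.mem_comap, Module.mem_annihilator]
      intro m
      induction m using TensorProduct.induction_on with
      | zero => rw [smul_zero]
      | tmul a b =>
        rw [algebraMap_smul, TensorProduct.smul_tmul', TensorProduct.smul_tmul,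
          Module.mem_annihilator.1 (hann hs) b, TensorProduct.tmul_zero]
      | add a b ha hb => rw [smul_add, ha, hb, add_zero]
    exact fun m a => Module.mem_annihilator.1 (this a.2) m
  letI : Module C N' := htor.module
  haveI : IsScalarTower S' C N' := htor.isScalarTower
  letI : Module Q'.Ring N' := Module.compHom N' (algebraMap Q'.Ring C)
  haveI : IsScalarTower Q'.Ring C N' := IsScalarTower.of_algebraMap_smul fun _ _ => rfl
  haveI : IsScalarTower R' C N' := IsScalarTower.of_algebraMap_smul (R := R') (A := C) (M := N') fun r m => by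
    show Ideal.Quotient.mk I (algebraMap R' S' r) • m = r • m
    rw [Module.IsTorsionBySet.mk_smul, algebraMap_smul]
  haveI : IsScalarTower R' Q'.Ring N' := IsScalarTower.of_algebraMap_smul fun r m => by
    show algebraMap Q'.Ring C (algebraMap R' Q'.Ring r) • m = r • m
    rw [← IsScalarTower.algebraMap_apply, algebraMap_smul]
  haveI : Module.Finite C N' := Module.Finite.of_restrictScalars_finite S' C N'
  haveI hfpC : Algebra.FinitePresentation S' C := Algebra.FinitePresentation.quotient (hJfg.map _)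
  refine ⟨{ R' := R', S' := S', C := C, D := Q'.Ring, N' := N', G := N',
            p' := RingHom.ker θ.toRingHom, q' := RingHom.ker Φ'a.toRingHom,
            z := RingHom.ker ΦC, y := RingHom.ker χD,
            etaleR := hetR, etaleS := hetS,
            f := TensorProduct.mk S S' N 1, isBaseChange := TensorProduct.isBaseChange S N S',
            surjC := Ideal.Quotient.mk_surjective, fpC := hfpC, iso := LinearEquiv.refl S' N',
            finiteDC := inferInstance, finiteG := inferInstance, uniq := ?_, pureTrans := ?_,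
            smooth := std_smoothRelDim Q', geomInt := hgeom }, hproj⟩
  · intro z₁ _ hz₁
    refine Ideal.comap_injective_of_surjective γ.toRingHom hγ ?_
    have hprime : ∀ z : Ideal C, z.IsPrime → z.LiesOver (RingHom.ker χD) →
        (z.comap γ.toRingHom).LiesOver (RingHom.ker χD) ∧
          (z.comap γ.toRingHom).comap (Algebra.TensorProduct.includeRight : C₂ →ₐ[Q.Ring] Q'.Ring ⊗[Q.Ring] C₂).toRingHom =
            RingHom.ker Φ := by
      intro z hz hzo
      refine ⟨⟨?_⟩, ?_⟩
      · refine hzo.over.trans ?_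
        ext d
        show γD d ∈ z ↔ γ (d ⊗ₜ[Q.Ring] (1 : C₂)) ∈ z
        rw [hγl]
      · haveI := hz
        refine huniq _ inferInstance ?_
        rw [← hχQ, ← RingHom.comap_ker, hzo.over, Ideal.under, Ideal.comap_comap, Ideal.comap_comap, Ideal.comap_comap]
        ext a
        show γ ((1 : Q'.Ring) ⊗ₜ[Q.Ring] algebraMap Q.Ring C₂ a) ∈ z ↔ γD (φQ a) ∈ z
        rw [hγr, show γD (φQ a) = φ₂ a from RingHom.congr_fun hγφ a]
        rfl
    obtain ⟨h1, h1'⟩ := hprime z₁ inferInstance hz₁
    obtain ⟨h2, h2'⟩ := hprime (RingHom.ker ΦC) inferInstance hzy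
    haveI := h1
    haveI := h2
    exact Ideal.eq_of_comap_eq_comap_of_bijective_residueFieldMap hbijD _ _ (h1'.trans h2'.symm)
  · refine pureTrans_of_point (RingHom.ker θ.toRingHom) (RingHom.ker χD) θ.toRingHom rfl χD rfl hχD
      (fun i : ULift.{u} Sset => algebraMap (MvPolynomial (Fin n) R') Q'.Ring (MvPolynomial.X i.down.1)) ?_ ?_
    · rw [show (fun i : ULift.{u} Sset => χD (algebraMap (MvPolynomial (Fin n) R') Q'.Ring (MvPolynomial.X i.down.1))) =
        (fun i : Sset => u i) ∘ ULift.down from funext fun i => congrFun hχDu i.down.1]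
      exact hu.comp _ ULift.down_injective
    · intro z
      obtain ⟨a, b, hb, hab⟩ := hgenL z
      let F : Fin n → MvPolynomial (ULift.{u} Sset) R' := fun i =>
        if h : i ∈ Sset then MvPolynomial.X ⟨⟨i, h⟩⟩ else 0
      have hF : ∀ c : MvPolynomial (Fin n) R, χD (MvPolynomial.aeval
          (fun i : ULift.{u} Sset => algebraMap (MvPolynomial (Fin n) R') Q'.Ring (MvPolynomial.X i.down.1))
          (MvPolynomial.aeval F (MvPolynomial.map (algebraMap R R') c))) = MvPolynomial.aeval u c := by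
        intro c
        suffices h : χD.comp (((MvPolynomial.aeval (R := R') (fun i : ULift.{u} Sset =>
            algebraMap (MvPolynomial (Fin n) R') Q'.Ring (MvPolynomial.X i.down.1))).comp
            (MvPolynomial.aeval (R := R') F)).toRingHom.comp (MvPolynomial.map (algebraMap R R'))) =
            (MvPolynomial.aeval (R := R) u).toRingHom from RingHom.congr_fun h c
        refine MvPolynomial.ringHom_ext (fun r => ?_) fun i => ?_
        · simp only [RingHom.comp_apply, MvPolynomial.map_C, AlgHom.toRingHom_eq_coe, RingHom.coe_coe,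
            AlgHom.comp_apply, MvPolynomial.aeval_C, AlgHom.commutes]
          exact (RingHom.congr_fun hχD _).trans (RingHom.congr_fun hψL r)
        · simp only [RingHom.comp_apply, MvPolynomial.map_X, AlgHom.toRingHom_eq_coe, RingHom.coe_coe,
            AlgHom.comp_apply, MvPolynomial.aeval_X]
          by_cases h : i ∈ Sset
          · rw [show F i = MvPolynomial.X ⟨⟨i, h⟩⟩ from dif_pos h, MvPolynomial.aeval_X]
            exact congrFun hχDu i
          · rw [show F i = 0 from dif_neg h, map_zero, map_zero]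
            exact (hu0 i h).symm
      exact ⟨MvPolynomial.aeval F (MvPolynomial.map (algebraMap R R') a),
        MvPolynomial.aeval F (MvPolynomial.map (algebraMap R R') b),
        by rw [hF b]; exact hb, by rw [hF b, hF a]; exact hab⟩

/-- Elementary dévissages exist. -/
theorem exists_elemDevissage {R S : Type u} [CommRing R] [CommRing S] [Algebra R S] [Algebra.FiniteType R S]
    (N : Type u) [AddCommGroup N] [Module S N] [Module.Finite S N]
    (p : Ideal R) [p.IsPrime] (q : Ideal S) [q.IsPrime] [hover : q.LiesOver p] (n : ℕ)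
    (x : PrimeSpectrum (p.Fiber S)) (hxq : x.asIdeal = FlatCA.fiberIdeal p q)
    (hx : x ∈ Module.support (p.Fiber S) (FlatCA.fiberMod p S N))
    (hn : FlatMor.localDim (Module.support (p.Fiber S) (FlatCA.fiberMod p S N)) ⟨x, hx⟩ = n) :
    ∃ d : FlatCA.ElemDevissage R S N p q n,
      letI := d.cR'; letI := d.cD; letI := d.aR'D
      Module.Projective d.R' d.D := by
  obtain ⟨J, hJfg, hann, hJq, x₀, hx₀, hn₀⟩ := exists_support_model N p q n x hxq hx hn
  haveI hq₀ : (q.map (Ideal.Quotient.mk J)).IsPrime :=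
    Ideal.map_isPrime_of_surjective Ideal.Quotient.mk_surjective (by rw [Ideal.mk_ker]; exact hJq)
  have hq₀c : (q.map (Ideal.Quotient.mk J)).comap (Ideal.Quotient.mk J) = q := by
    rw [Ideal.comap_map_of_surjective _ Ideal.Quotient.mk_surjective, ← RingHom.ker_eq_comap_bot, Ideal.mk_ker,
      sup_eq_left.2 hJq]
  haveI hover₀ : (q.map (Ideal.Quotient.mk J)).LiesOver p := ⟨by
    rw [Ideal.under, IsScalarTower.algebraMap_eq R S (S ⧸ J), ← Ideal.comap_comap, Ideal.Quotient.algebraMap_eq, hq₀c]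
    exact hover.over⟩
  obtain ⟨t, Sset, ht, hind, hqf⟩ := exists_qf_coordinates p (q.map (Ideal.Quotient.mk J)) x₀ hx₀ n hn₀
  choose ts hts using fun i => Ideal.Quotient.mk_surjective (t i)
  letI : Algebra (MvPolynomial (Fin n) R) (S ⧸ J) := (MvPolynomial.aeval (R := R) t).toRingHom.toAlgebra
  haveI : IsScalarTower R (MvPolynomial (Fin n) R) (S ⧸ J) :=
    IsScalarTower.of_algebraMap_eq fun b => ((MvPolynomial.aeval (R := R) t).commutes b).symm
  haveI : Algebra.FiniteType (MvPolynomial (Fin n) R) (S ⧸ J) :=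
    Algebra.FiniteType.of_restrictScalars_finiteType R _ _
  haveI := hqf
  let y₀ := (q.map (Ideal.Quotient.mk J)).under (MvPolynomial (Fin n) R)
  haveI hy₀ : (q.map (Ideal.Quotient.mk J)).LiesOver y₀ := ⟨rfl⟩
  haveI : y₀.LiesOver p := ⟨by
    rw [Ideal.under, Ideal.comap_comap, ← IsScalarTower.algebraMap_eq]; exact hover₀.over⟩
  obtain ⟨Q, C₂, _, _, _, _, _, _, _, _, χ, Φ, hΦC, hΦQ, huniq⟩ :=
    exists_split_quasiFinite y₀ (q.map (Ideal.Quotient.mk J))
  obtain ⟨ξ, hξ⟩ := exists_residue_section J q hJq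
  have hξR : ξ.comp (Ideal.ResidueField.map p (q.map (Ideal.Quotient.mk J)) (algebraMap R (S ⧸ J)) hover₀.over) =
      Ideal.ResidueField.map p q (algebraMap R S) hover.over :=
    Ideal.ResidueField.ringHom_ext (RingHom.ext fun a => by
      simp only [RingHom.comp_apply, Ideal.ResidueField.map_algebraMap]
      exact hξ (algebraMap R S a))
  refine exists_elemDevissage_core N p q n J hJfg hann ts Sset
    (fun i hi => by rw [← hq₀c, Ideal.mem_comap, hts]; exact ht i hi)
    (fun i => by rw [RingHom.algebraMap_toAlgebra, hts]; exact MvPolynomial.aeval_X _ i) y₀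
    (ξ.comp (Ideal.ResidueField.map y₀ (q.map (Ideal.Quotient.mk J)) (algebraMap _ (S ⧸ J)) hy₀.over))
    (fun a => ?_) (fun i => ?_) (fun F hF => hind F ?_) Q C₂ χ (ξ.comp Φ)
    (fun s => (congrArg ξ (RingHom.congr_fun hΦC _)).trans (hξ s))
    (fun a => congrArg ξ (RingHom.congr_fun hΦQ a))
    (fun z hz h => (huniq z hz h).trans (RingHom.ker_comp_of_injective Φ ξ.injective).symm)
  · rw [RingHom.comp_apply, IsScalarTower.algebraMap_apply R (MvPolynomial (Fin n) R) y₀.ResidueField,
      Ideal.ResidueField.map_algebraMap, ← IsScalarTower.algebraMap_apply R (MvPolynomial (Fin n) R) (S ⧸ J),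
      IsScalarTower.algebraMap_apply R S q.ResidueField]
    exact hξ (algebraMap R S a)
  · rw [RingHom.comp_apply, Ideal.ResidueField.map_algebraMap, RingHom.algebraMap_toAlgebra]
    show ξ (algebraMap _ _ (MvPolynomial.aeval t (MvPolynomial.X i))) = _
    rw [MvPolynomial.aeval_X, ← hts]
    exact hξ (ts i)
  · refine ξ.injective ?_
    rw [map_zero, MvPolynomial.hom_eval₂, hξR]
    refine Eq.trans ?_ hF
    exact congrArg (fun v => MvPolynomial.eval₂ _ v F) (funext fun i => by
      show ξ (algebraMap _ _ (t i)) = _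
      rw [← hts]
      exact hξ (ts i))

end Groth.Agent.RG11
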