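import Mathlib

/-!
# The finite algebra of factorizations into monic factors of a monic polynomial over a polynomial ring
-/

universe u

set_option linter.style.haveILetI false

namespace Groth.Agent.RG11

open Polynomial

/-- Polynomials in one distinguished variable over a polynomial ring in `n` variables. -/
abbrev W (n : ℕ) (A : Type u) [CommRing A] : Type u := Polynomial (MvPolynomial (Fin n) A)

variable {n : ℕ} {A A' : Type u} [CommRing A] [CommRing A']

/-- Change of coefficients. -/
noncomputable def mapW (φ : A →+* A') : W n A →+* W n A' := Polynomial.mapRingHom (MvPolynomial.map φ)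

/-- Evaluation at a point. -/
noncomputable def evW (φ : A →+* A') (u : Fin n → A') (x : A') : W n A →+* A' :=
  Polynomial.eval₂RingHom (MvPolynomial.eval₂Hom φ u) x

theorem mapW_comp {A'' : Type u} [CommRing A''] (φ : A →+* A') (ψ : A' →+* A'') (P : W n A) :
    mapW ψ (mapW φ P) = mapW (ψ.comp φ) P := by
  simp only [mapW, coe_mapRingHom, Polynomial.map_map]
  congr 1
  ext <;> simp

theorem evW_mapW {A'' : Type u} [CommRing A''] (φ : A →+* A') (ψ : A' →+* A'') (u : Fin n → A'') (x : A'')
    (P : W n A) : evW ψ u x (mapW φ P) = evW (ψ.comp φ) u x P := by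
  suffices h : (evW ψ u x).comp (mapW φ) = evW (ψ.comp φ) u x from RingHom.congr_fun h P
  refine Polynomial.ringHom_ext' (MvPolynomial.ringHom_ext (fun a => ?_) fun i => ?_) ?_ <;>
    simp [evW, mapW]

theorem map_evW {A'' : Type u} [CommRing A''] (φ : A →+* A') (σ : A' →+* A'') (u : Fin n → A') (x : A')
    (P : W n A) : σ (evW φ u x P) = evW (σ.comp φ) (fun i => σ (u i)) (σ x) P := by
  suffices h : σ.comp (evW φ u x) = evW (σ.comp φ) (fun i => σ (u i)) (σ x) from RingHom.congr_fun h P
  refine Polynomial.ringHom_ext' (MvPolynomial.ringHom_ext (fun a => ?_) fun i => ?_) ?_ <;>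
    simp [evW]

theorem totalDegree_map_le (φ : A →+* A') (q : MvPolynomial (Fin n) A) :
    (MvPolynomial.map φ q).totalDegree ≤ q.totalDegree :=
  Finset.sup_mono (MvPolynomial.support_map_subset φ q)

/-- A bound on the total degree in all variables. -/
noncomputable def degBound (P : W n A) : ℕ :=
  P.support.sup fun i => (P.coeff i).totalDegree + i

theorem totalDegree_symm_le (P : W n A) :
    ((MvPolynomial.optionEquivLeft A (Fin n)).symm P).totalDegree ≤ degBound P := by
  classical
  conv_lhs => rw [P.as_sum_support]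
  rw [map_sum]
  refine (MvPolynomial.totalDegree_finsetSum _ _).trans (Finset.sup_le fun i hi => ?_)
  refine le_trans ?_ (Finset.le_sup (f := fun i => (P.coeff i).totalDegree + i) hi)
  rw [← C_mul_X_pow_eq_monomial, map_mul, map_pow]
  refine (MvPolynomial.totalDegree_mul _ _).trans (add_le_add ?_ ((MvPolynomial.totalDegree_pow _ _).trans ?_))
  · rw [MvPolynomial.optionEquivLeft_symm_apply]
    simp only [Polynomial.aevalTower_C]
    exact MvPolynomial.totalDegree_rename_le _ _
  · rw [MvPolynomial.optionEquivLeft_symm_apply]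
    simp only [Polynomial.aevalTower_X]
    calc i * (MvPolynomial.X (none : Option (Fin n)) : MvPolynomial _ A).totalDegree ≤ i * 1 :=
          Nat.mul_le_mul_left _ (by
            rcases subsingleton_or_nontrivial A with h | h
            · simp [Subsingleton.elim (MvPolynomial.X (none : Option (Fin n)) : MvPolynomial _ A) 0]
            · rw [MvPolynomial.totalDegree_X])
      _ = i := mul_one i

theorem degBound_mapW_le (φ : A →+* A') (P : W n A) : degBound (mapW φ P) ≤ degBound P := by
  refine Finset.sup_le fun i hi => ?_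
  have hi' : i ∈ P.support := Polynomial.support_map_subset _ _ hi
  refine le_trans ?_ (Finset.le_sup (f := fun i => (P.coeff i).totalDegree + i) hi')
  simp only [mapW, coe_mapRingHom, Polynomial.coeff_map]
  exact Nat.add_le_add_right (totalDegree_map_le φ _) i

/-- In a domain, the coefficients of a factor have bounded degree. -/
theorem totalDegree_coeff_le_of_dvd {K : Type u} [CommRing K] [IsDomain K] (φ : A →+* K) (P : W n A)
    (hP : mapW φ P ≠ 0) {G : W n K} (hG : G ∣ mapW φ P) (j : ℕ) : (G.coeff j).totalDegree ≤ degBound P := by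
  obtain ⟨H, hH⟩ := hG
  let e := MvPolynomial.optionEquivLeft K (Fin n)
  have hne : G ≠ 0 ∧ H ≠ 0 := by rw [hH] at hP; exact mul_ne_zero_iff.1 hP
  have h1 := MvPolynomial.totalDegree_mul_of_isDomain (f := e.symm G) (g := e.symm H)
    (by simpa using hne.1) (by simpa using hne.2)
  rw [← map_mul, ← hH] at h1
  have h2 := MvPolynomial.totalDegree_coeff_optionEquivLeft_le _ _ (e.symm G) j
  rw [AlgEquiv.apply_symm_apply] at h2
  exact h2.trans ((Nat.le_add_right _ _).trans (h1.symm.le.trans
    ((totalDegree_symm_le _).trans (degBound_mapW_le φ P))))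

/-- The exponents with all entries at most `N`. -/
noncomputable def expo (N : ℕ) (a : Fin n → Fin (N + 1)) : Fin n →₀ ℕ :=
  Finsupp.equivFunOnFinite.symm fun i => (a i : ℕ)

theorem expo_injective (N : ℕ) : Function.Injective (expo (n := n) N) := fun a b h =>
  funext fun i => Fin.ext (DFunLike.congr_fun h i)

theorem sum_monomial_expo (N : ℕ) (q : MvPolynomial (Fin n) A) (hq : q.totalDegree ≤ N) :
    ∑ a : Fin n → Fin (N + 1), MvPolynomial.monomial (expo N a) (q.coeff (expo N a)) = q := by
  classical
  ext e
  rw [MvPolynomial.coeff_sum]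
  simp only [MvPolynomial.coeff_monomial]
  by_cases he : ∀ i, e i ≤ N
  · let a : Fin n → Fin (N + 1) := fun i => ⟨e i, Nat.lt_succ_of_le (he i)⟩
    have ha : expo N a = e := Finsupp.ext fun i => rfl
    rw [Finset.sum_eq_single a]
    · rw [if_pos ha, ha]
    · intro b _ hb
      rw [if_neg]
      exact fun h => hb (expo_injective N (h.trans ha.symm))
    · simp
  · rw [Finset.sum_eq_zero]
    · by_contra hc
      push Not at he
      obtain ⟨i, hi⟩ := he
      have h1 := MvPolynomial.le_totalDegree (MvPolynomial.mem_support_iff.2 (Ne.symm hc))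
      have h2 : e i ≤ e.sum fun _ b => b := by
        by_cases h0 : i ∈ e.support
        · exact Finset.single_le_sum (f := fun j => e j) (fun j _ => Nat.zero_le _) h0
        · simp [Finsupp.notMem_support_iff.1 h0]
      omega
    · intro b _
      rw [if_neg]
      intro hb
      refine he fun i => ?_
      rw [← hb]
      exact Nat.le_of_lt_succ (b i).2

variable (R : Type u) [CommRing R] {k : ℕ} (d : Fin k → ℕ) (N : ℕ)

/-- Indices of the coefficients. -/
abbrev CoeffVar (n : ℕ) : Type := Σ i : Fin k, Fin (d i) × (Fin n → Fin (N + 1))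

/-- The generic monic factors. -/
noncomputable def genFactor (i : Fin k) : W n (MvPolynomial (CoeffVar d N n) R) :=
  X ^ d i + ∑ j : Fin (d i), C (∑ a, MvPolynomial.monomial (expo N a) (MvPolynomial.X ⟨i, j, a⟩)) * X ^ (j : ℕ)

theorem monic_genFactor (i : Fin k) : (genFactor (n := n) R d N i).Monic :=
  Polynomial.monic_X_pow_add (Polynomial.degree_sum_fin_lt _)

variable {R} (P : W n R)

/-- The relations saying that the product of the generic factors is `P`. -/
noncomputable def factorRel : Ideal (MvPolynomial (CoeffVar d N n) R) :=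
  Ideal.span (Set.range fun je : ℕ × (Fin n →₀ ℕ) =>
    ((((∏ i, genFactor R d N i) - mapW (algebraMap R _) P).coeff je.1).coeff je.2))

/-- The algebra of factorizations of `P`. -/
noncomputable abbrev FRing : Type u := MvPolynomial (CoeffVar d N n) R ⧸ factorRel d N P

/-- The universal factors. -/
noncomputable def ufac (i : Fin k) : W n (FRing d N P) :=
  mapW (Ideal.Quotient.mk (factorRel d N P)) (genFactor R d N i)

theorem monic_ufac (i : Fin k) : (ufac d N P i).Monic := (monic_genFactor R d N i).map _

theorem prod_ufac : ∏ i, ufac d N P i = mapW (algebraMap R (FRing d N P)) P := by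
  rw [← sub_eq_zero]
  simp only [ufac, ← map_prod]
  rw [show algebraMap R (FRing d N P) = (Ideal.Quotient.mk (factorRel d N P)).comp (algebraMap R _) from rfl,
    ← mapW_comp, ← map_sub]
  ext j e
  simp only [mapW, coe_mapRingHom, Polynomial.coeff_map, MvPolynomial.coeff_map, Polynomial.coeff_zero,
    MvPolynomial.coeff_zero]
  exact Ideal.Quotient.eq_zero_iff_mem.2 (Ideal.subset_span ⟨(j, e), rfl⟩)

theorem exists_point {S : Type u} [CommRing S] [Algebra R S] (G : Fin k → W n S) (hm : ∀ i, (G i).Monic)
    (hd : ∀ i, (G i).natDegree ≤ d i) (hd' : ∀ i, (G i).coeff (d i) = 1)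
    (hN : ∀ i j, ((G i).coeff j).totalDegree ≤ N)
    (hprod : ∏ i, G i = mapW (algebraMap R S) P) :
    ∃ φ : FRing d N P →ₐ[R] S, ∀ i, mapW φ.toRingHom (ufac d N P i) = G i := by
  let φ₀ : MvPolynomial (CoeffVar d N n) R →ₐ[R] S :=
    MvPolynomial.aeval fun v => ((G v.1).coeff v.2.1).coeff (expo N v.2.2)
  have hG : ∀ i, mapW φ₀.toRingHom (genFactor R d N i) = G i := by
    intro i
    simp only [genFactor, mapW, coe_mapRingHom, Polynomial.map_add, Polynomial.map_sum, Polynomial.map_pow,
      Polynomial.map_X, Polynomial.map_mul, Polynomial.map_C, map_sum, MvPolynomial.map_monomial]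
    simp only [φ₀, AlgHom.toRingHom_eq_coe, RingHom.coe_coe, MvPolynomial.aeval_X]
    simp only [← map_sum, sum_monomial_expo N _ (hN i _)]
    conv_rhs => rw [(G i).as_sum_range_C_mul_X_pow' (Nat.lt_succ_of_le (hd i))]
    rw [Finset.sum_range_succ, hd', map_one, one_mul, ← Fin.sum_univ_eq_sum_range (fun j => C ((G i).coeff j) * X ^ j),
      add_comm]
  have hle : factorRel d N P ≤ RingHom.ker φ₀.toRingHom := by
    refine Ideal.span_le.2 ?_
    rintro _ ⟨⟨j, e⟩, rfl⟩
    have h0 : mapW φ₀.toRingHom ((∏ i, genFactor R d N i) - mapW (algebraMap R _) P) = 0 := by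
      rw [map_sub, map_prod, mapW_comp, Finset.prod_congr rfl fun i _ => hG i, hprod,
        show φ₀.toRingHom.comp (algebraMap R _) = algebraMap R S from φ₀.comp_algebraMap, sub_self]
    have := congrArg (fun Q : W n S => (Q.coeff j).coeff e) h0
    simpa [mapW, Polynomial.coeff_map, MvPolynomial.coeff_map] using this
  refine ⟨Ideal.Quotient.liftₐ _ φ₀ hle, fun i => ?_⟩
  rw [ufac, mapW_comp]
  exact hG i

variable (hP : P.Monic)

include hP in
theorem isIntegral_fRing : Algebra.IsIntegral R (FRing d N P) := by
  letI : Algebra (MvPolynomial (Fin n) R) (MvPolynomial (Fin n) (FRing d N P)) := MvPolynomial.algebraMvPolynomial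
  have hdvd : ∀ i j a, IsIntegral R ((Ideal.Quotient.mk (factorRel d N P)) (MvPolynomial.X ⟨i, j, a⟩)) := by
    intro i j a
    have h1 : IsIntegral (MvPolynomial (Fin n) R) ((ufac d N P i).coeff (j : ℕ)) :=
      Polynomial.isIntegral_coeff_of_dvd P _ hP (monic_ufac d N P i) (by
        refine (Dvd.intro _ (Finset.mul_prod_erase Finset.univ _ (Finset.mem_univ i))).trans ?_
        rw [prod_ufac]; exact dvd_refl _) _
    have h2 := (MvPolynomial.isIntegral_iff_isIntegral_coeff.1 h1) (expo N a)
    suffices hkey : MvPolynomial.coeff (expo N a) ((ufac d N P i).coeff (j : ℕ)) =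
        (Ideal.Quotient.mk (factorRel d N P)) (MvPolynomial.X ⟨i, j, a⟩) by rw [← hkey]; exact h2
    simp only [ufac, mapW, coe_mapRingHom, Polynomial.coeff_map, genFactor, Polynomial.coeff_add,
      Polynomial.coeff_X_pow, Polynomial.finsetSum_coeff, Polynomial.coeff_C_mul, MvPolynomial.coeff_map]
    have hne : (j : ℕ) ≠ d i := j.2.ne
    simp only [hne, if_false, zero_add]
    rw [Finset.sum_eq_single j (fun b _ hb => by
        rw [if_neg (fun h => hb (Fin.ext h.symm)), mul_zero]) (by simp), if_pos rfl, mul_one,
      MvPolynomial.coeff_sum]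
    simp only [MvPolynomial.coeff_monomial]
    rw [Finset.sum_eq_single a (fun b _ hb => by rw [if_neg (fun h => hb (expo_injective N h))]) (by simp),
      if_pos rfl]
  refine ⟨fun z => ?_⟩
  obtain ⟨q, rfl⟩ := Ideal.Quotient.mk_surjective z
  induction q using MvPolynomial.induction_on with
  | C r => exact isIntegral_algebraMap
  | add a b ha hb => rw [map_add]; exact ha.add hb
  | mul_X a v ha => rw [map_mul]; exact ha.mul (hdvd v.1 v.2.1 v.2.2)

include hP in
theorem finite_fRing : Module.Finite R (FRing d N P) := by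
  haveI := isIntegral_fRing d N P hP
  exact Algebra.IsIntegral.finite

end Groth.Agent.RG11
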