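import Groth.Agent.RG11.FreeNhdUse
import Groth.Agent.RG11.FibreNhd
import Mathlib

/-!
# Free étale covers of a fibre after étale localisation
-/

universe u

set_option linter.style.haveILetI false

namespace Groth.Agent.RG11

open TensorProduct

set_option maxHeartbeats 1600000 in
/-- An étale algebra over the base change with free module, covering an open of the fibre, after any finer étale
neighbourhood. -/
theorem exists_free_open {R S : Type u} [CommRing R] [CommRing S] [Algebra R S] [Algebra.FiniteType R S]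
    (N : Type u) [AddCommGroup N] [Module S N] [Module R N] [IsScalarTower R S N] [Module.Finite S N]
    (p : Ideal R) [p.IsPrime] (q : Ideal S) [q.IsPrime] [q.LiesOver p] (hflat : FlatCA.FlatAt R q N) :
    ∃ (R₁ : Type u) (_ : CommRing R₁) (_ : Algebra R R₁) (p₁ : Ideal R₁) (_ : p₁.IsPrime),
      FlatCA.IsEtaleNhd R R₁ p p₁ ∧ ∃ t ∉ q,
      ∀ (R' : Type u) [CommRing R'] [Algebra R R'] (p' : Ideal R') [p'.IsPrime], FlatCA.IsEtaleNhd R R' p p' →
      ∀ e : R₁ →ₐ[R] R', p'.comap e.toRingHom = p₁ →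
      ∀ (SA NA : Type u) [CommRing SA] [Algebra R SA] [Algebra S SA] [Algebra (Localization.AtPrime p') SA]
        [IsScalarTower R S SA] [IsScalarTower R (Localization.AtPrime p') SA]
        [Algebra.IsPushout R S (Localization.AtPrime p') SA]
        [AddCommGroup NA] [Module SA NA] [Module S NA] [IsScalarTower S SA NA]
        (f : N →ₗ[S] NA), IsBaseChange SA f →
        ∃ (C : Type u) (_ : CommRing C) (_ : Algebra SA C) (_ : Algebra (Localization.AtPrime p') C)
          (_ : IsScalarTower (Localization.AtPrime p') SA C),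
          Algebra.Etale SA C ∧ Module.FinitePresentation C (C ⊗[SA] NA) ∧
          Module.Free (Localization.AtPrime p') (C ⊗[SA] NA) ∧
          ∀ (q' : Ideal S) [q'.IsPrime], q'.LiesOver p → t ∉ q' →
            ∃ x' : Ideal C, x'.IsPrime ∧ (x'.comap (algebraMap SA C)).comap (algebraMap S SA) = q' ∧
              x'.LiesOver (IsLocalRing.maximalIdeal (Localization.AtPrime p')) := by
  obtain ⟨R₁, _, _, p₁, _, hn₁, H⟩ := exists_free_nhd N p q hflat
  refine ⟨R₁, inferInstance, inferInstance, p₁, inferInstance, hn₁, ?_⟩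
  have hp₁ : TrivExt p p₁ := TrivExt.of_isEtaleNhd hn₁
  haveI := hn₁.1
  let A₁ := Localization.AtPrime p₁
  have hA₁ : TrivExt p (IsLocalRing.maximalIdeal A₁) := hp₁.trans (trivExt_atPrime p₁)
  let S₁ := A₁ ⊗[R] S
  letI : Algebra S S₁ := Algebra.TensorProduct.rightAlgebra
  haveI : IsScalarTower R S S₁ := IsScalarTower.of_algebraMap_eq fun r =>
    ((Algebra.TensorProduct.includeRight : S →ₐ[R] S₁).commutes r).symm
  haveI : Algebra.IsPushout R S A₁ S₁ := Algebra.IsPushout.symm inferInstance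
  obtain ⟨N₁, _, _, _, _, f₁, hf₁⟩ : ∃ (N₁ : Type u) (_ : AddCommGroup N₁) (_ : Module S₁ N₁) (_ : Module S N₁)
      (_ : IsScalarTower S S₁ N₁) (f : N →ₗ[S] N₁), IsBaseChange S₁ f :=
    ⟨S₁ ⊗[S] N, inferInstance, inferInstance, inferInstance, inferInstance,
      TensorProduct.mk S S₁ N 1, TensorProduct.isBaseChange S N S₁⟩
  obtain ⟨C₁, _, _, _, _, _, _, x₁, hx₁, htx₁, hx₁m, het₁, NC₁, _, _, _, _, _, _, φ₁, hφ₁, hfp₁, hfree₁⟩ := H S₁ N₁ f₁ hf₁
  haveI := hx₁
  haveI := het₁
  haveI := hfree₁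
  let Q₁ : Ideal S₁ := x₁.comap (algebraMap S₁ C₁)
  have hQ₁A : Q₁.comap (algebraMap A₁ S₁) = IsLocalRing.maximalIdeal A₁ := by
    rw [Ideal.comap_comap, ← IsScalarTower.algebraMap_eq, hx₁m]
  have hQ₁q : Q₁.comap (incR A₁) = q := by
    show Q₁.comap (algebraMap S S₁) = q
    rw [Ideal.comap_comap, ← IsScalarTower.algebraMap_eq, htx₁.comap_eq]
  have hopen := PrimeSpectrum.isOpenMap_comap_of_hasGoingDown_of_finitePresentation (R := S₁) (S := C₁) _ isOpen_univ
  obtain ⟨_, ⟨g₁, rfl⟩, hg₁, hsub⟩ := PrimeSpectrum.isTopologicalBasis_basic_opens.exists_subset_of_mem_open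
    (show (⟨Q₁, inferInstance⟩ : PrimeSpectrum S₁) ∈ PrimeSpectrum.comap (algebraMap S₁ C₁) '' Set.univ from
      ⟨⟨x₁, hx₁⟩, trivial, rfl⟩) hopen
  obtain ⟨a, ha, t, hat⟩ := exists_smul_sub_mem hA₁ g₁
  have hmQ : ∀ Q : Ideal S₁, Q.comap (algebraMap A₁ S₁) = IsLocalRing.maximalIdeal A₁ →
      algebraMap R S₁ a * g₁ - (1 : A₁) ⊗ₜ[R] t ∈ Q := fun Q hQ => Ideal.map_le_iff_le_comap.2 hQ.ge hat
  have ht : t ∉ q := fun htq => by
    have h1 := hmQ Q₁ hQ₁A
    have h2 : (1 : A₁) ⊗ₜ[R] t ∈ Q₁ := (hQ₁q.ge htq :)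
    have h3 : algebraMap R S₁ a * g₁ ∈ Q₁ := by simpa using add_mem h1 h2
    rcases (inferInstance : Q₁.IsPrime).mem_or_mem h3 with h4 | h4
    · refine ha (hA₁.comap_eq.le ?_)
      rw [Ideal.mem_comap, ← hQ₁A, Ideal.mem_comap, ← IsScalarTower.algebraMap_apply]
      exact h4
    · exact hg₁ h4
  refine ⟨t, ht, ?_⟩
  intro R' _ _ p' _ hn' e he SA NA _ _ _ _ _ _ _ _ _ _ _ f hf
  have hp' : TrivExt p p' := TrivExt.of_isEtaleNhd hn'
  haveI := hn'.1
  let A := Localization.AtPrime p'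
  have hA : TrivExt p (IsLocalRing.maximalIdeal A) := hp'.trans (trivExt_atPrime p')
  let l : A₁ →+* A := Localization.localRingHom p₁ p' e.toRingHom he.symm
  haveI hl : IsLocalHom l := Localization.isLocalHom_localRingHom p₁ p' e.toRingHom he.symm
  have hlR : ∀ r, l (algebraMap R A₁ r) = algebraMap R A r := fun r => by
    rw [IsScalarTower.algebraMap_apply R R₁ A₁, Localization.localRingHom_to_map]
    show algebraMap R' A (e (algebraMap R R₁ r)) = _
    rw [e.commutes, ← IsScalarTower.algebraMap_apply]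
  letI : Algebra A₁ A := l.toAlgebra
  haveI : IsScalarTower R A₁ A := IsScalarTower.of_algebraMap_eq fun r => (hlR r).symm
  letI : Algebra A₁ SA := ((algebraMap A SA).comp l).toAlgebra
  haveI : IsScalarTower A₁ A SA := IsScalarTower.of_algebraMap_eq fun _ => rfl
  haveI : IsScalarTower R A₁ SA := IsScalarTower.of_algebraMap_eq fun r => by
    show algebraMap R SA r = algebraMap A SA (l (algebraMap R A₁ r))
    rw [hlR, ← IsScalarTower.algebraMap_apply]
  let j : S₁ →ₐ[A₁] SA :=
    Algebra.TensorProduct.lift (Algebra.ofId A₁ SA) (IsScalarTower.toAlgHom R S SA) fun _ _ => .all _ _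
  have hjS : ∀ x : S, j ((1 : A₁) ⊗ₜ[R] x) = algebraMap S SA x := fun x =>
    (Algebra.TensorProduct.lift_tmul _ _ _ _ _).trans (by rw [map_one, one_mul]; rfl)
  letI : Algebra S₁ SA := j.toRingHom.toAlgebra
  haveI : IsScalarTower A₁ S₁ SA := IsScalarTower.of_algebraMap_eq fun x => (j.commutes x).symm
  haveI : IsScalarTower S S₁ SA := IsScalarTower.of_algebraMap_eq fun x => (hjS x).symm
  haveI : IsScalarTower R S₁ SA := IsScalarTower.of_algebraMap_eq fun r => by
    show algebraMap R SA r = j (algebraMap R A₁ r ⊗ₜ[R] (1 : S))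
    exact (IsScalarTower.algebraMap_apply R A₁ SA r).trans (j.commutes (algebraMap R A₁ r)).symm
  haveI hb : Algebra.IsPushout R A₁ S S₁ := inferInstance
  haveI hpu : Algebra.IsPushout R A S SA := Algebra.IsPushout.symm inferInstance
  haveI hmid : Algebra.IsPushout A₁ A S₁ SA :=
    (Algebra.IsPushout.comp_iff R A₁ S S₁ (T := A) (T' := SA)).1 hpu
  -- the base change of the neighbourhood
  let C := SA ⊗[S₁] C₁
  letI : Algebra C₁ C := Algebra.TensorProduct.rightAlgebra
  haveI : IsScalarTower A₁ SA C := inferInstance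
  haveI : IsScalarTower A₁ A C := IsScalarTower.of_algebraMap_eq fun x => by
    rw [IsScalarTower.algebraMap_apply A₁ SA C, IsScalarTower.algebraMap_apply A₁ A SA,
      ← IsScalarTower.algebraMap_apply A SA C]
  haveI : IsScalarTower A₁ C₁ C := IsScalarTower.of_algebraMap_eq fun x => by
    rw [IsScalarTower.algebraMap_apply A₁ SA C, IsScalarTower.algebraMap_apply A₁ S₁ C₁,
      IsScalarTower.algebraMap_apply A₁ S₁ SA, ← IsScalarTower.algebraMap_apply S₁ C₁ C,
      ← IsScalarTower.algebraMap_apply S₁ SA C]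
  haveI hpC : Algebra.IsPushout S₁ C₁ SA C := Algebra.IsPushout.symm inferInstance
  haveI : Algebra.IsPushout A₁ A C₁ C := by
    haveI := hmid.symm
    exact ((Algebra.IsPushout.comp_iff A₁ S₁ A SA (T := C₁) (T' := C)).2 hpC).symm
  -- the module
  letI : Module S₁ NA := Module.compHom NA (algebraMap S₁ SA)
  haveI : IsScalarTower S₁ SA NA := IsScalarTower.of_algebraMap_smul fun _ _ => rfl
  haveI : IsScalarTower S S₁ NA := IsScalarTower.of_algebraMap_smul fun x m => by
    show algebraMap S₁ SA (algebraMap S S₁ x) • m = x • m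
    rw [← IsScalarTower.algebraMap_apply, algebraMap_smul]
  let φ : N₁ →ₗ[S₁] NA := hf₁.lift f
  have hφ : IsBaseChange SA φ := IsBaseChange.of_comp hf₁ (by
    rw [show (φ.restrictScalars S).comp f₁ = f from LinearMap.ext fun m => hf₁.lift_eq f m]
    exact hf)
  let eM : C ⊗[SA] NA ≃ₗ[C] C ⊗[C₁] NC₁ :=
    (AlgebraTensorModule.congr (LinearEquiv.refl C C) hφ.equiv.symm) ≪≫ₗ
      AlgebraTensorModule.cancelBaseChange S₁ SA C C N₁ ≪≫ₗ (AlgebraTensorModule.cancelBaseChange S₁ C₁ C C N₁).symm ≪≫ₗ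
      AlgebraTensorModule.congr (LinearEquiv.refl C C) hφ₁.equiv
  haveI : Algebra.Etale SA C := inferInstance
  refine ⟨C, inferInstance, inferInstance, inferInstance, inferInstance, inferInstance, ?_, ?_, fun q' _ hq'p htq' => ?_⟩
  · haveI := hfp₁
    exact Module.FinitePresentation.of_equiv eM.symm
  · haveI : Module.Free A (C ⊗[C₁] NC₁) :=
      Module.Free.of_equiv (Algebra.IsPushout.cancelBaseChange A₁ A C₁ C NC₁).symm
    exact Module.Free.of_equiv (eM.restrictScalars A).symm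
  · -- the points
    let eSA := Algebra.IsPushout.equiv R A S SA
    obtain ⟨W, hW, hWA, hWq⟩ := exists_prime_over (T := S) hA q' hq'p.over.symm
    let Q : Ideal SA := W.comap eSA.symm.toRingEquiv.toRingHom
    haveI : Q.IsPrime := Ideal.IsPrime.comap _
    have hQA : Q.comap (algebraMap A SA) = IsLocalRing.maximalIdeal A := by
      rw [Ideal.comap_comap, ← hWA]
      exact congrArg (fun φ => Ideal.comap φ W) (RingHom.ext fun x => eSA.symm.commutes x)
    have hQq : Q.comap (algebraMap S SA) = q' := by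
      rw [Ideal.comap_comap, ← hWq]
      exact congrArg (fun φ => Ideal.comap φ W) (RingHom.ext fun x =>
        (show eSA.symm (algebraMap S SA x) = (1 : A) ⊗ₜ[R] x from
          (AlgEquiv.symm_apply_eq eSA).2 (by rw [Algebra.IsPushout.equiv_tmul, map_one, one_mul])))
    let Q' : Ideal S₁ := Q.comap (algebraMap S₁ SA)
    have hQ' : Q'.comap (algebraMap A₁ S₁) = IsLocalRing.maximalIdeal A₁ := by
      rw [Ideal.comap_comap, ← IsScalarTower.algebraMap_eq, IsScalarTower.algebraMap_eq A₁ A SA, ← Ideal.comap_comap, hQA]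
      exact IsLocalRing.maximalIdeal_comap l
    have hg' : g₁ ∉ Q' := fun hgQ => htq' <| by
      have h1 := hmQ _ hQ'
      have h2 : algebraMap R S₁ a * g₁ ∈ Q' := Ideal.mul_mem_left _ _ hgQ
      have h3 : (1 : A₁) ⊗ₜ[R] t ∈ Q' := by simpa using sub_mem h2 h1
      rw [← hQq, Ideal.mem_comap, ← hjS]
      exact h3
    obtain ⟨⟨x, hx⟩, -, hxQ⟩ := hsub (show (⟨Q', inferInstance⟩ : PrimeSpectrum S₁) ∈ PrimeSpectrum.basicOpen g₁ from hg')
    haveI := hx
    obtain ⟨x', hx', hx'Q, -⟩ := exists_prime_tensor (R := S₁) (R' := SA) (X := C₁) Q x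
      (congrArg PrimeSpectrum.asIdeal hxQ).symm
    refine ⟨x', hx', ?_, ⟨?_⟩⟩
    · rw [hx'Q, hQq]
    · rw [Ideal.under, IsScalarTower.algebraMap_eq A SA C, ← Ideal.comap_comap, hx'Q, hQA]

end Groth.Agent.RG11
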