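import Groth.Agent.RG11.FibreFree
import Mathlib

/-!
# Free étale covers along a fibre
-/

universe u

set_option linter.style.haveILetI false

namespace Groth.Agent.RG11

open TensorProduct

theorem fp_pi_tensor {SA NA : Type u} [CommRing SA] [AddCommGroup NA] [Module SA NA] {ι : Type u} [Fintype ι]
    [DecidableEq ι] (C : ι → Type u) [∀ i, CommRing (C i)] [∀ i, Algebra SA (C i)]
    (h : ∀ i, Module.FinitePresentation (C i) (C i ⊗[SA] NA)) :
    Module.FinitePresentation (∀ i, C i) ((∀ i, C i) ⊗[SA] NA) := by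
  let P := ∀ i, C i
  letI : ∀ i, Algebra P (C i) := fun i => (Pi.evalRingHom C i).toAlgebra
  haveI : ∀ i, IsScalarTower SA P (C i) := fun i => IsScalarTower.of_algebraMap_eq fun _ => rfl
  haveI hfpC : ∀ i, Module.FinitePresentation P (C i) := fun i => by
    have hs : Function.Surjective (Algebra.linearMap P (C i)) := fun c => ⟨Pi.single i c, Pi.single_eq_same i c⟩
    refine Module.finitePresentation_of_surjective (Algebra.linearMap P (C i)) hs ?_
    refine ⟨{1 - Pi.single i 1}, le_antisymm ?_ fun x hx => ?_⟩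
    · rw [Finset.coe_singleton, Submodule.span_singleton_le_iff_mem, LinearMap.mem_ker]
      show (1 - Pi.single i 1 : P) i = 0
      rw [Pi.sub_apply, Pi.one_apply, Pi.single_eq_same, sub_self]
    · rw [Finset.coe_singleton, Submodule.mem_span_singleton]
      refine ⟨x, funext fun j => ?_⟩
      have hx' : x i = 0 := hx
      rw [smul_eq_mul, Pi.mul_apply, Pi.sub_apply, Pi.one_apply]
      by_cases hj : j = i
      · subst hj; rw [hx', zero_mul]
      · rw [Pi.single_eq_of_ne hj, sub_zero, mul_one]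
  haveI : ∀ i, Module.FinitePresentation P (C i ⊗[SA] NA) := fun i => by
    haveI := h i
    exact Module.FinitePresentation.trans P (C i ⊗[SA] NA) (C i)
  let e₀ := TensorProduct.piLeft SA NA (M := C)
  have hmul : ∀ (x : P) (w : P ⊗[SA] NA), e₀ (x • w) = x • e₀ w := by
    intro x w
    induction w using TensorProduct.induction_on with
    | zero => simp
    | add a b ha hb => rw [smul_add, map_add, map_add, ha, hb, smul_add]
    | tmul c n =>
      funext i
      show e₀ ((x * c) ⊗ₜ[SA] n) i = (algebraMap P (C i) x) • e₀ (c ⊗ₜ[SA] n) i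
      have hp : ∀ d : P, e₀ (d ⊗ₜ[SA] n) i = d i ⊗ₜ[SA] n := fun d => by simp [e₀]
      rw [hp, hp, TensorProduct.smul_tmul', smul_eq_mul]
      rfl
  let e : P ⊗[SA] NA ≃ₗ[P] ∀ i, C i ⊗[SA] NA := { e₀.toAddEquiv with map_smul' := hmul }
  haveI : Module.FinitePresentation P (∀ i, C i ⊗[SA] NA) := Module.FinitePresentation.pi (R := P) (fun i => C i ⊗[SA] NA)
  exact Module.FinitePresentation.of_equiv e.symm

set_option maxHeartbeats 1600000 in
/-- Free étale covers of a fibre. -/
theorem exists_fibre_free {R S : Type u} [CommRing R] [CommRing S] [Algebra R S] [Algebra.FiniteType R S]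
    (N : Type u) [AddCommGroup N] [Module S N] [Module R N] [IsScalarTower R S N] [Module.Finite S N]
    (p : Ideal R) [p.IsPrime] (hflat : ∀ (q : Ideal S) [q.IsPrime], q.LiesOver p → FlatCA.FlatAt R q N) :
    ∃ (R' : Type u) (_ : CommRing R') (_ : Algebra R R') (p' : Ideal R') (_ : p'.IsPrime), FlatCA.IsEtaleNhd R R' p p' ∧
      ∀ (SA NA : Type u) [CommRing SA] [Algebra R SA] [Algebra S SA] [Algebra (Localization.AtPrime p') SA]
        [IsScalarTower R S SA] [IsScalarTower R (Localization.AtPrime p') SA]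
        [Algebra.IsPushout R S (Localization.AtPrime p') SA]
        [AddCommGroup NA] [Module SA NA] [Module S NA] [IsScalarTower S SA NA]
        (f : N →ₗ[S] NA), IsBaseChange SA f →
        ∃ (C : Type u) (_ : CommRing C) (_ : Algebra SA C) (_ : Algebra (Localization.AtPrime p') C)
          (_ : IsScalarTower (Localization.AtPrime p') SA C) (_ : Algebra S C) (_ : IsScalarTower S SA C),
          Algebra.Etale SA C ∧
          (∀ (q : Ideal S) [q.IsPrime], q.LiesOver p → ∃ x' : Ideal C, x'.IsPrime ∧ x'.comap (algebraMap S C) = q ∧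
            x'.LiesOver (IsLocalRing.maximalIdeal (Localization.AtPrime p'))) ∧
          Module.FinitePresentation C (C ⊗[SA] NA) ∧
          Module.Free (Localization.AtPrime p') (RestrictScalars (Localization.AtPrime p') C (C ⊗[SA] NA)) := by
  classical
  let ι := { q : PrimeSpectrum S // q.asIdeal.comap (algebraMap R S) = p }
  have hq : ∀ i : ι, _ := fun i => haveI : i.1.asIdeal.LiesOver p := ⟨i.2.symm⟩
    exists_free_open N p i.1.asIdeal (hflat i.1.asIdeal inferInstance)
  choose Ri c1 c2 pi c3 hn t ht H using hq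
  let J : Ideal S := Ideal.span (Set.range t) ⊔ p.map (algebraMap R S)
  obtain ⟨u, huJ, hup⟩ : ∃ u ∈ J.comap (algebraMap R S), u ∉ p := by
    by_contra! hne
    have hdisj : Disjoint (J : Set S) (Algebra.algebraMapSubmonoid S p.primeCompl : Set S) := by
      rw [Set.disjoint_left]
      rintro _ hJ ⟨r, hr, rfl⟩
      exact hr (hne r hJ)
    obtain ⟨P, hP, hJP, hdP⟩ := Ideal.exists_le_prime_disjoint J _ hdisj
    have hPp : P.comap (algebraMap R S) = p := le_antisymm
      (fun r hr => by_contra fun h => Set.disjoint_left.1 hdP hr ⟨r, h, rfl⟩)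
      (Ideal.map_le_iff_le_comap.1 (le_sup_right.trans hJP))
    exact ht ⟨⟨P, hP⟩, hPp⟩ (hJP (Ideal.mem_sup_left (Ideal.subset_span ⟨_, rfl⟩)))
  obtain ⟨x, hx, y, hy, hxy⟩ := Submodule.mem_sup.1 huJ
  obtain ⟨T, hT, hxT⟩ := Submodule.mem_span_finite_of_mem_span hx
  obtain ⟨s, -, rfl⟩ : ∃ s : Finset ι, ↑s ⊆ (Set.univ : Set ι) ∧ s.image t = T := by
    refine Finset.subset_set_image_iff.1 ?_
    rwa [Set.image_univ]
  obtain ⟨R', _, _, p', _, hn', he⟩ := exists_common_nhd p Ri pi hn s
  refine ⟨R', inferInstance, inferInstance, p', inferInstance, hn', ?_⟩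
  intro SA NA _ _ _ _ _ _ _ _ _ _ _ f hf
  have hC : ∀ i : s, _ := fun i => H i.1 R' p' hn' (he i.1 i.2).choose (he i.1 i.2).choose_spec SA NA f hf
  choose C d1 d2 d3 d4 het hfp hfree hpts using hC
  let P := ∀ i : s, C i
  letI : Algebra S P := ((algebraMap SA P).comp (algebraMap S SA)).toAlgebra
  haveI : IsScalarTower S SA P := IsScalarTower.of_algebraMap_eq fun _ => rfl
  haveI : IsScalarTower (Localization.AtPrime p') SA P :=
    IsScalarTower.of_algebraMap_eq fun a => funext fun i => IsScalarTower.algebraMap_apply _ SA (C i) a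
  haveI : Algebra.Etale SA P := inferInstance
  haveI : ∀ i, Module.Free (Localization.AtPrime p') (C i ⊗[SA] NA) := hfree
  haveI : Module.Free (Localization.AtPrime p') (P ⊗[SA] NA) :=
    Module.Free.of_equiv
      ({ (TensorProduct.piLeft SA NA (M := C)).toAddEquiv with
          map_smul' := fun a w => by
            show (TensorProduct.piLeft SA NA (M := C)) (a • w) = a • (TensorProduct.piLeft SA NA (M := C)) w
            rw [← algebraMap_smul SA a w, map_smul, algebraMap_smul] } :
        P ⊗[SA] NA ≃ₗ[Localization.AtPrime p'] ∀ i, C i ⊗[SA] NA).symm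
  refine ⟨P, inferInstance, inferInstance, inferInstance, inferInstance, inferInstance, inferInstance, inferInstance,
    fun q _ hqp => ?_, fp_pi_tensor C hfp, free_restrictScalars⟩
  obtain ⟨i, hi⟩ : ∃ i : s, t i.1 ∉ q := by
    by_contra! hall
    refine hup (hqp.over.ge ?_)
    rw [Ideal.mem_comap, ← hxy]
    refine add_mem ?_ (Ideal.map_le_iff_le_comap.2 hqp.over.le hy)
    refine (Submodule.span_le.2 ?_) hxT
    intro w hw
    obtain ⟨i, hi, rfl⟩ := Finset.mem_image.1 hw
    exact hall ⟨i, hi⟩
  obtain ⟨x', hx', hx'q, hx'm⟩ := hpts i q hqp hi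
  refine ⟨x'.comap (Pi.evalRingHom C i), Ideal.IsPrime.comap _, ?_, ⟨?_⟩⟩
  · rw [Ideal.comap_comap, ← hx'q, Ideal.comap_comap]
    rfl
  · rw [Ideal.under, Ideal.comap_comap]
    exact hx'm.over

end Groth.Agent.RG11
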