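import Groth.Prelude.Def_FlatCA
import Mathlib

/-!
# Flatness at a point is stable under base change
-/

universe u

set_option linter.style.haveILetI false

namespace Groth.Agent.RG11

open TensorProduct

theorem flatAt_baseChange {R S : Type u} [CommRing R] [CommRing S] [Algebra R S] (N : Type u) [AddCommGroup N]
    [Module S N] [Module R N] [IsScalarTower R S N]
    {R₂ S₂ : Type u} [CommRing R₂] [CommRing S₂] [Algebra R R₂] [Algebra R₂ S₂] [Algebra S S₂]
    (N₂ : Type u) [AddCommGroup N₂] [Module S₂ N₂] [Module R₂ N₂] [IsScalarTower R₂ S₂ N₂] [Module S N₂]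
    [IsScalarTower S S₂ N₂] [Module R N₂] [IsScalarTower R R₂ N₂] [IsScalarTower R S N₂]
    (g : N →ₗ[S] N₂) (hg : IsBaseChange R₂ (g.restrictScalars R)) (W : Ideal S₂) [W.IsPrime]
    (hflat : FlatCA.FlatAt R (W.comap (algebraMap S S₂)) N) : FlatCA.FlatAt R₂ W N₂ := by
  classical
  let q := W.comap (algebraMap S S₂)
  let L := LocalizedModule q.primeCompl N
  haveI : Module.Flat R L := hflat
  let L₂ := LocalizedModule W.primeCompl N₂
  show Module.Flat R₂ L₂
  rw [Module.Flat.iff_lTensor_preserves_injective_linearMap]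
  intro Q Q' _ _ _ _ f hf
  -- localizations
  let mk₂ := LocalizedModule.mkLinearMap W.primeCompl N₂
  let g₂ := AlgebraTensorModule.rTensor R₂ Q mk₂
  let g₂' := AlgebraTensorModule.rTensor R₂ Q' mk₂
  let mk₀ := LocalizedModule.mkLinearMap q.primeCompl N
  letI : Module R Q := Module.compHom Q (algebraMap R R₂)
  haveI : IsScalarTower R R₂ Q := IsScalarTower.of_algebraMap_smul fun _ _ => rfl
  letI : Module R Q' := Module.compHom Q' (algebraMap R R₂)
  haveI : IsScalarTower R R₂ Q' := IsScalarTower.of_algebraMap_smul fun _ _ => rfl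
  rw [injective_iff_map_eq_zero]
  intro x hx
  obtain ⟨⟨z, s⟩, hz⟩ := IsLocalizedModule.surj W.primeCompl g₂ x
  have hs : (s : S₂) • x = g₂ z := hz
  have hnat : ∀ v, f.lTensor L₂ (g₂ v) = g₂' (f.lTensor N₂ v) := fun v => by
    induction v using TensorProduct.induction_on with
    | zero => simp
    | add a b ha hb => simp only [map_add, ha, hb]
    | tmul m y => rfl
  have hlin : ∀ (c : S₂) (v : L₂ ⊗[R₂] Q), f.lTensor L₂ (c • v) = c • f.lTensor L₂ v := fun c v => by
    induction v using TensorProduct.induction_on with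
    | zero => simp
    | add a b ha hb => simp only [smul_add, map_add, ha, hb]
    | tmul m y => rfl
  have h0 : g₂' (f.lTensor N₂ z) = 0 := by rw [← hnat, ← hs, hlin, hx, smul_zero]
  obtain ⟨c, hc⟩ := (IsLocalizedModule.eq_zero_iff W.primeCompl g₂').1 h0
  -- descend to `N`
  let E : ∀ (X : Type u) [AddCommGroup X] [Module R X] [Module R₂ X] [IsScalarTower R R₂ X],
      N₂ ⊗[R₂] X ≃ₗ[R] N ⊗[R] X := fun X _ _ _ _ =>
    (((TensorProduct.comm R₂ N₂ X).trans (hg.tensorEquiv X)).restrictScalars R).trans (TensorProduct.comm R X N)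
  have hEs : ∀ (X : Type u) [AddCommGroup X] [Module R X] [Module R₂ X] [IsScalarTower R R₂ X] (σ : S) (v : N₂ ⊗[R₂] X),
      E X (algebraMap S S₂ σ • v) = σ • E X v := by
    intro X _ _ _ _ σ v
    induction v using TensorProduct.induction_on with
    | zero => simp
    | add a b ha hb => simp only [smul_add, map_add, ha, hb]
    | tmul m y =>
      refine hg.inductionOn m (fun m => ∀ y : X, E X (algebraMap S S₂ σ • (m ⊗ₜ[R₂] y)) = σ • E X (m ⊗ₜ[R₂] y)) ?_
        (fun m₀ y => ?_) (fun a m hm y => ?_) (fun m m' hm hm' y => ?_) y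
      · intro y; simp
      · have h1 : ∀ (n₀ : N) (y : X), E X (g n₀ ⊗ₜ[R₂] y) = n₀ ⊗ₜ[R] y := fun n₀ y => by
          have e : hg.equiv.symm (g n₀) = (1 : R₂) ⊗ₜ[R] n₀ :=
            hg.equiv.symm_apply_eq.2 (by rw [hg.equiv_tmul, one_smul]; rfl)
          simp [E, IsBaseChange.tensorEquiv, e]
        rw [smul_tmul', algebraMap_smul, LinearMap.restrictScalars_apply, ← map_smul g σ m₀, h1, h1, smul_tmul']
      · rw [smul_tmul]; exact hm (a • y)
      · simp only [add_tmul, smul_add, map_add, hm y, hm' y]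
  have hEnat : ∀ v : N₂ ⊗[R₂] Q, E Q' (f.lTensor N₂ v) = (f.restrictScalars R).lTensor N (E Q v) := by
    intro v
    induction v using TensorProduct.induction_on with
    | zero => simp
    | add a b ha hb => simp only [map_add, ha, hb]
    | tmul m y =>
      refine hg.inductionOn m (fun m => ∀ y, E Q' (f.lTensor N₂ (m ⊗ₜ[R₂] y)) = (f.restrictScalars R).lTensor N (E Q (m ⊗ₜ[R₂] y))) ?_
        (fun m₀ y => ?_) (fun a m hm y => ?_) (fun m m' hm hm' y => ?_) y
      · intro y; simp
      · have e : hg.equiv.symm (g m₀) = (1 : R₂) ⊗ₜ[R] m₀ :=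
          hg.equiv.symm_apply_eq.2 (by rw [hg.equiv_tmul, one_smul]; rfl)
        simp [E, IsBaseChange.tensorEquiv, e]
      · rw [smul_tmul]; exact hm (a • y)
      · simp only [add_tmul, map_add, hm y, hm' y]
  have hlin' : ∀ v : N₂ ⊗[R₂] Q, f.lTensor N₂ ((c : S₂) • v) = (c : S₂) • f.lTensor N₂ v := fun v => by
    induction v using TensorProduct.induction_on with
    | zero => simp
    | add a b ha hb => simp only [smul_add, map_add, ha, hb]
    | tmul m y => rfl
  have hz' : f.lTensor N₂ ((c : S₂) • z) = 0 := (hlin' z).trans hc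
  let w := E Q ((c : S₂) • z)
  have hw : (mk₀.restrictScalars R).rTensor Q w = 0 := by
    refine Module.Flat.lTensor_preserves_injective_linearMap (M := L) (f.restrictScalars R) hf ?_
    rw [map_zero]
    have h1 : ∀ v : N ⊗[R] Q, (f.restrictScalars R).lTensor L ((mk₀.restrictScalars R).rTensor Q v) =
        (mk₀.restrictScalars R).rTensor Q' ((f.restrictScalars R).lTensor N v) := fun v => by
      induction v using TensorProduct.induction_on with
      | zero => simp
      | add a b ha hb => simp only [map_add, ha, hb]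
      | tmul m y => rfl
    rw [h1, ← hEnat, hz', map_zero, map_zero]
  let g₀ := AlgebraTensorModule.rTensor R Q mk₀
  obtain ⟨σ, hσ⟩ := (IsLocalizedModule.eq_zero_iff q.primeCompl g₀).1 (show g₀ w = 0 from hw)
  have hσz : algebraMap S S₂ σ • ((c : S₂) • z) = 0 := (E Q).injective (by rw [hEs, map_zero]; exact hσ)
  have h2 : g₂ z = 0 := by
    refine (IsLocalizedModule.eq_zero_iff W.primeCompl g₂).2 ⟨⟨algebraMap S S₂ σ * (c : S₂), ?_⟩, ?_⟩
    · exact Ideal.IsPrime.mul_notMem ‹_› σ.2 c.2
    · show (algebraMap S S₂ σ * (c : S₂)) • z = 0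
      rw [mul_smul, hσz]
  rw [h2] at hs
  obtain ⟨d, hd⟩ := (IsLocalizedModule.map_units g₂ s).exists_left_inv
  calc x = d ((s : S₂) • x) := (LinearMap.congr_fun hd x).symm
    _ = 0 := by rw [hs, map_zero]

end Groth.Agent.RG11
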