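import Groth.Agent.RG11.LocalNhd
import Mathlib

/-!
# Free neighbourhoods after étale localisation
-/

universe u

set_option linter.style.haveILetI false

namespace Groth.Agent.RG11

open TensorProduct
open FlatFibres (fibSupp)

/-- An étale neighbourhood over which the module is free over the local ring. -/
def HasFreeNhd {R S : Type u} [CommRing R] [CommRing S] [Algebra R S] (q : Ideal S) (A : Type u) [CommRing A]
    (SA : Type u) [CommRing SA] [Algebra S SA] [Algebra A SA] (m : Ideal A) (NA : Type u) [AddCommGroup NA] [Module SA NA] : Prop :=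
  ∃ (C : Type u) (_ : CommRing C) (_ : Algebra SA C) (_ : Algebra A C) (_ : IsScalarTower A SA C) (_ : Algebra S C)
    (_ : IsScalarTower S SA C) (x' : Ideal C) (_ : x'.IsPrime),
    TrivExt q x' ∧ x'.comap (algebraMap A C) = m ∧ Algebra.Etale SA C ∧
      ∃ (NC : Type u) (_ : AddCommGroup NC) (_ : Module C NC) (_ : Module SA NC) (_ : Module A NC)
        (_ : IsScalarTower SA C NC) (_ : IsScalarTower A C NC) (φ : NA →ₗ[SA] NC),
        IsBaseChange C φ ∧ Module.FinitePresentation C NC ∧ Module.Free A NC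

set_option maxHeartbeats 1600000 in
/-- Free neighbourhoods exist. -/
theorem exists_free_nhd {R S : Type u} [CommRing R] [CommRing S] [Algebra R S] [Algebra.FiniteType R S]
    (N : Type u) [AddCommGroup N] [Module S N] [Module R N] [IsScalarTower R S N] [Module.Finite S N]
    (p : Ideal R) [p.IsPrime] (q : Ideal S) [q.IsPrime] [q.LiesOver p] (hflat : FlatCA.FlatAt R q N) :
    ∃ (R' : Type u) (_ : CommRing R') (_ : Algebra R R') (p' : Ideal R') (_ : p'.IsPrime), FlatCA.IsEtaleNhd R R' p p' ∧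
      ∀ (SA NA : Type u) [CommRing SA] [Algebra R SA] [Algebra S SA] [Algebra (Localization.AtPrime p') SA]
        [IsScalarTower R S SA] [IsScalarTower R (Localization.AtPrime p') SA]
        [Algebra.IsPushout R S (Localization.AtPrime p') SA]
        [AddCommGroup NA] [Module SA NA] [Module S NA] [IsScalarTower S SA NA]
        (f : N →ₗ[S] NA), IsBaseChange SA f →
        HasFreeNhd (R := R) q (Localization.AtPrime p') SA (IsLocalRing.maximalIdeal (Localization.AtPrime p')) NA := by
  by_cases hsupp : (⟨q, inferInstance⟩ : PrimeSpectrum S) ∈ Module.support S N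
  swap
  · refine ⟨R, _, Algebra.id R, p, inferInstance,
      (TrivExt.of_surjective Function.surjective_id (Ideal.comap_id _)).isEtaleNhd, ?_⟩
    intro SA NA _ _ _ _ _ _ _ _ _ _ _ f hf
    rw [Module.support_eq_zeroLocus, PrimeSpectrum.mem_zeroLocus, Set.not_subset] at hsupp
    obtain ⟨d, hd, hdq⟩ := hsupp
    let A := Localization.AtPrime p
    let u := algebraMap S SA d
    have hkill : ∀ m : NA, u • m = 0 := fun m => by
      refine hf.inductionOn m (fun m => u • m = 0) (smul_zero _) (fun n => ?_)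
        (fun c m hm => by rw [smul_comm, hm, smul_zero]) fun a b ha hb => by rw [smul_add, ha, hb, add_zero]
      rw [algebraMap_smul, ← map_smul, Module.mem_annihilator.1 hd n, map_zero]
    have hA : TrivExt p (IsLocalRing.maximalIdeal A) := trivExt_atPrime p
    haveI : Algebra.IsPushout R A S SA := Algebra.IsPushout.symm inferInstance
    let e := Algebra.IsPushout.equiv R A S SA
    obtain ⟨Q₁, hQ₁, hQ₁A, hQ₁q⟩ := exists_prime_over (T := S) hA q (Ideal.LiesOver.over (P := q) (p := p)).symm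
    haveI := hQ₁
    let Q : Ideal SA := Q₁.comap e.symm.toRingEquiv.toRingHom
    have hQA : Q.comap (algebraMap A SA) = IsLocalRing.maximalIdeal A := by
      rw [Ideal.comap_comap, ← hQ₁A]
      exact congrArg (fun φ => Ideal.comap φ Q₁) (RingHom.ext fun x => e.symm.commutes x)
    have he : ∀ x : S, e.symm (algebraMap S SA x) = (1 : A) ⊗ₜ[R] x := fun x =>
      (AlgEquiv.symm_apply_eq _).2 (by rw [Algebra.IsPushout.equiv_tmul, map_one, one_mul])
    have hQq : Q.comap (algebraMap S SA) = q := by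
      rw [Ideal.comap_comap, ← hQ₁q]
      exact congrArg (fun φ => Ideal.comap φ Q₁) (RingHom.ext he)
    haveI : Q.IsPrime := Ideal.IsPrime.comap _
    have huQ : u ∉ Q := fun h => hdq (hQq.le h)
    have htQ : TrivExt q Q := by
      letI : Algebra S (A ⊗[R] S) := (incR A).toAlgebra
      have h1 := trivExt_incR hA q (Ideal.LiesOver.over (P := q) (p := p)).symm Q₁ hQ₁A hQ₁q
      refine ⟨hQq, fun r => ?_⟩
      obtain ⟨a, v, ha, hv⟩ := h1.exists_sub_mem (e.symm r)
      refine ⟨a, v, ha, ?_⟩
      show e.symm (algebraMap S SA a * r - algebraMap S SA v) ∈ Q₁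
      rw [map_sub, map_mul, he, he]
      exact hv
    obtain ⟨C, _, _, _, _, _⟩ : ∃ (C : Type u) (_ : CommRing C) (_ : Algebra SA C) (_ : Algebra A C)
        (_ : IsScalarTower A SA C), IsLocalization.Away u C :=
      ⟨Localization.Away u, inferInstance, inferInstance, inferInstance, inferInstance, inferInstance⟩
    letI : Algebra S C := ((algebraMap SA C).comp (algebraMap S SA)).toAlgebra
    haveI : IsScalarTower S SA C := IsScalarTower.of_algebraMap_eq fun _ => rfl
    have hdis : Disjoint (Submonoid.powers u : Set SA) Q := (Ideal.disjoint_powers_iff_notMem_of_isPrime _).2 huQ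
    haveI : (Q.map (algebraMap SA C)).IsPrime :=
      IsLocalization.isPrime_of_isPrime_disjoint (Submonoid.powers u) _ _ inferInstance hdis
    have hQC : TrivExt Q (Q.map (algebraMap SA C)) := TrivExt.of_localization u huQ
    refine ⟨C, inferInstance, inferInstance, inferInstance, inferInstance, inferInstance, inferInstance,
      Q.map (algebraMap SA C), inferInstance, htQ.trans hQC, ?_, Algebra.Etale.of_isLocalizationAway u,
      C ⊗[SA] NA, inferInstance, inferInstance, inferInstance, inferInstance, inferInstance, inferInstance,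
      TensorProduct.mk SA C NA 1, TensorProduct.isBaseChange SA NA C, ?_⟩
    · rw [IsScalarTower.algebraMap_eq A SA C, ← Ideal.comap_comap, hQC.comap_eq, hQA]
    · haveI : Subsingleton (C ⊗[SA] NA) := subsingleton_of_forall_eq 0 fun w => by
        induction w using TensorProduct.induction_on with
        | zero => rfl
        | add a b ha hb => rw [ha, hb, add_zero]
        | tmul c m =>
          refine (IsLocalization.Away.algebraMap_isUnit (S := C) u).smul_eq_zero.1 ?_
          rw [algebraMap_smul, ← TensorProduct.tmul_smul, hkill, TensorProduct.tmul_zero]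
      exact ⟨inferInstance, inferInstance⟩
  letI : Algebra p.ResidueField q.ResidueField :=
    (Ideal.ResidueField.mapₐ p q (Algebra.ofId R S) (Ideal.LiesOver.over (P := q) (p := p))).toRingHom.toAlgebra
  haveI : IsScalarTower R p.ResidueField q.ResidueField := IsScalarTower.of_algebraMap_eq fun r =>
    ((Ideal.ResidueField.mapₐ p q (Algebra.ofId R S) (Ideal.LiesOver.over (P := q) (p := p))).commutes r).symm
  have hq : (⟨q, inferInstance⟩ : PrimeSpectrum S) ∈ fibSupp p S N := ⟨hsupp, (Ideal.LiesOver.over (P := q) (p := p)).symm⟩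
  obtain ⟨h, c, hh, -, -⟩ := exists_dims N p q.ResidueField (IsScalarTower.toAlgHom R S q.ResidueField)
    (isAlgebraic_residueField q) ⟨_, hq⟩ (Ideal.ker_algebraMap_residueField q)
  obtain ⟨R₁, S₁, N₁, _, _, _, _, _, _, _, _, _, p₁, q₁, _, _, φ, hetR₁, hetS₁, hp₁, hq₁, hq₁p, hRS, hφ, hgood⟩ :=
    exists_hasGood h N p q hq hh.le
  haveI := hetR₁
  haveI := hetS₁
  refine ⟨R₁, _, _, p₁, inferInstance, hp₁.isEtaleNhd, ?_⟩
  intro SA NA _ _ _ _ _ _ _ _ _ _ _ f hf
  let A := Localization.AtPrime p₁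
  let mA := IsLocalRing.maximalIdeal A
  have h₄ : TrivExt p₁ mA := trivExt_atPrime p₁
  have h11 : TrivExt p₁ p₁ := TrivExt.of_surjective Function.surjective_id (Ideal.comap_id _)
  obtain ⟨q₃, hq₃pr, hq₃p, hq₃q⟩ := exists_prime_over (T := S₁) h11 q₁ hq₁p
  haveI := hq₃pr
  obtain ⟨f₀, hf₀, s, -, hs, H⟩ := hgood R₁ p₁ h11 q₃ hq₃p hq₃q 1 ((Ideal.ne_top_iff_one q₃).1 hq₃pr.ne_top)
  let e : R₁ →ₐ[R₁] A := Algebra.ofId R₁ A
  have hef : IsUnit (e f₀) := IsLocalization.map_units (M := p₁.primeCompl) A ⟨f₀, hf₀⟩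
  let Y := A ⊗[R₁] S₁
  let s₄ := Algebra.TensorProduct.map e (AlgHom.id R₁ S₁) s
  obtain ⟨S₄, _, _, _, _, _⟩ : ∃ (S₄ : Type u) (_ : CommRing S₄) (_ : Algebra Y S₄) (_ : Algebra A S₄)
      (_ : IsScalarTower A Y S₄), IsLocalization.Away s₄ S₄ :=
    ⟨Localization.Away s₄, inferInstance, inferInstance, inferInstance, inferInstance, inferInstance⟩
  letI : Algebra S₁ S₄ := ((algebraMap Y S₄).comp (incR A)).toAlgebra
  obtain ⟨q₄, hq₄pr, hq₄p, hq₄q, hq₄t, -⟩ := exists_point_away h₄ s₄ (B := S₄) rfl q₁ hq₁p (fun W hW hWp hWq hsW => by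
    haveI := hW
    exact hs ((comap_map_eq e h11 h₄.comap_eq q₃ W hq₃p hWp (hq₃q.trans hWq.symm)).le hsW))
  haveI := hq₄pr
  -- algebra structures on `Y`
  letI : Algebra S₁ Y := (incR A).toAlgebra
  haveI : IsScalarTower S₁ Y S₄ := IsScalarTower.of_algebraMap_eq fun _ => rfl
  letI : Algebra S Y := ((algebraMap S₁ Y).comp (algebraMap S S₁)).toAlgebra
  haveI : IsScalarTower S S₁ Y := IsScalarTower.of_algebraMap_eq fun _ => rfl
  letI : Algebra R S₁ := ((algebraMap S S₁).comp (algebraMap R S)).toAlgebra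
  haveI : IsScalarTower R S S₁ := IsScalarTower.of_algebraMap_eq fun _ => rfl
  haveI : IsScalarTower R R₁ S₁ := IsScalarTower.of_algebraMap_eq fun r => (hRS r).symm
  haveI : IsScalarTower R S Y := IsScalarTower.of_algebraMap_eq fun r => by
    show algebraMap R Y r = incR A (algebraMap S S₁ (algebraMap R S r))
    rw [← hRS, IsScalarTower.algebraMap_apply R R₁ Y]
    exact ((Algebra.TensorProduct.includeRight : S₁ →ₐ[R₁] Y).commutes _).symm
  -- `SA → Y` is étale
  let X₁ := R₁ ⊗[R] S
  let κ : X₁ →ₐ[R₁] S₁ :=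
    Algebra.TensorProduct.lift (Algebra.ofId R₁ S₁) (IsScalarTower.toAlgHom R S S₁) fun _ _ => .all _ _
  letI : Algebra X₁ S₁ := κ.toRingHom.toAlgebra
  haveI : IsScalarTower R₁ X₁ S₁ := IsScalarTower.of_algebraMap_eq fun r => (κ.commutes r).symm
  letI : Algebra S X₁ := Algebra.TensorProduct.rightAlgebra
  haveI : IsScalarTower S X₁ S₁ := IsScalarTower.of_algebraMap_eq fun x =>
    ((Algebra.TensorProduct.lift_tmul _ _ _ _ _).trans (by rw [map_one, one_mul]; rfl) :
      κ ((1 : R₁) ⊗ₜ[R] x) = algebraMap S S₁ x).symm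
  haveI : Algebra.Etale S X₁ := Algebra.Etale.of_equiv (Algebra.TensorProduct.commRight R S R₁)
  haveI : Algebra.Etale X₁ S₁ := Algebra.Etale.of_restrictScalars S _ _
  haveI : IsScalarTower R R₁ A := inferInstance
  letI : Algebra R₁ SA := ((algebraMap A SA).comp (algebraMap R₁ A)).toAlgebra
  haveI : IsScalarTower R₁ A SA := IsScalarTower.of_algebraMap_eq fun _ => rfl
  haveI : IsScalarTower R R₁ SA := IsScalarTower.of_algebraMap_eq fun r => by
    show algebraMap R SA r = algebraMap A SA (algebraMap R₁ A (algebraMap R R₁ r))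
    rw [← IsScalarTower.algebraMap_apply R R₁ A, ← IsScalarTower.algebraMap_apply]
  let j : X₁ →ₐ[R₁] SA :=
    Algebra.TensorProduct.lift (Algebra.ofId R₁ SA) (IsScalarTower.toAlgHom R S SA) fun _ _ => .all _ _
  letI : Algebra X₁ SA := j.toRingHom.toAlgebra
  haveI : IsScalarTower R₁ X₁ SA := IsScalarTower.of_algebraMap_eq fun r => (j.commutes r).symm
  haveI : IsScalarTower S X₁ SA := IsScalarTower.of_algebraMap_eq fun x =>
    ((Algebra.TensorProduct.lift_tmul _ _ _ _ _).trans (by rw [map_one, one_mul]; rfl) :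
      j ((1 : R₁) ⊗ₜ[R] x) = algebraMap S SA x).symm
  haveI : IsScalarTower R X₁ SA := IsScalarTower.of_algebraMap_eq fun r => by
    rw [IsScalarTower.algebraMap_apply R R₁ X₁, ← IsScalarTower.algebraMap_apply R₁ X₁ SA,
      ← IsScalarTower.algebraMap_apply R R₁ SA]
  haveI hpu : Algebra.IsPushout R A S SA := Algebra.IsPushout.symm inferInstance
  haveI hb : Algebra.IsPushout R R₁ S X₁ := inferInstance
  haveI hmid : Algebra.IsPushout R₁ A X₁ SA :=
    (Algebra.IsPushout.comp_iff R R₁ S X₁ (T := A) (T' := SA)).1 hpu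
  let l : A ⊗[R] S →ₐ[A] Y :=
    Algebra.TensorProduct.lift (Algebra.ofId A Y) (IsScalarTower.toAlgHom R S Y) fun _ _ => .all _ _
  let ι : SA →ₐ[A] Y := l.comp (Algebra.IsPushout.equiv R A S SA).symm.toAlgHom
  have hιS : ∀ x, ι (algebraMap S SA x) = algebraMap S Y x := fun x => by
    show l ((Algebra.IsPushout.equiv R A S SA).symm (algebraMap S SA x)) = _
    rw [show (Algebra.IsPushout.equiv R A S SA).symm (algebraMap S SA x) = (1 : A) ⊗ₜ[R] x from
      (AlgEquiv.symm_apply_eq _).2 (by rw [Algebra.IsPushout.equiv_tmul, map_one, one_mul])]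
    exact (Algebra.TensorProduct.lift_tmul _ _ _ _ _).trans (by rw [map_one, one_mul]; rfl)
  letI : Algebra SA Y := ι.toRingHom.toAlgebra
  haveI : IsScalarTower A SA Y := IsScalarTower.of_algebraMap_eq fun a => (ι.commutes a).symm
  haveI : IsScalarTower S SA Y := IsScalarTower.of_algebraMap_eq fun x => (hιS x).symm
  haveI : IsScalarTower R₁ SA Y := IsScalarTower.of_algebraMap_eq fun r => by
    rw [IsScalarTower.algebraMap_apply R₁ A SA, ← IsScalarTower.algebraMap_apply A SA Y,
      ← IsScalarTower.algebraMap_apply R₁ A Y]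
  letI : Algebra X₁ Y := ((algebraMap S₁ Y).comp (algebraMap X₁ S₁)).toAlgebra
  haveI : IsScalarTower X₁ S₁ Y := IsScalarTower.of_algebraMap_eq fun _ => rfl
  haveI : IsScalarTower X₁ SA Y := IsScalarTower.of_algebraMap_eq fun w => by
    induction w using TensorProduct.induction_on with
    | zero => simp only [map_zero]
    | add a b ha hb => simp only [map_add, ha, hb]
    | tmul r x =>
      rw [show r ⊗ₜ[R] x = algebraMap R₁ X₁ r * algebraMap S X₁ x by
        show _ = (r ⊗ₜ[R] (1 : S)) * ((1 : R₁) ⊗ₜ[R] x)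
        rw [Algebra.TensorProduct.tmul_mul_tmul, mul_one, one_mul]]
      simp only [map_mul, ← IsScalarTower.algebraMap_apply]
      congr 1
      · rw [IsScalarTower.algebraMap_apply X₁ S₁ Y, ← IsScalarTower.algebraMap_apply R₁ X₁ S₁]
        exact ((Algebra.TensorProduct.includeRight : S₁ →ₐ[R₁] Y).commutes r).trans rfl
      · rw [IsScalarTower.algebraMap_apply X₁ S₁ Y, ← IsScalarTower.algebraMap_apply S X₁ S₁,
          ← IsScalarTower.algebraMap_apply S S₁ Y]
  haveI : IsScalarTower R₁ S₁ Y := IsScalarTower.of_algebraMap_eq fun r =>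
    ((Algebra.TensorProduct.includeRight : S₁ →ₐ[R₁] Y).commutes r).symm
  haveI hY : Algebra.IsPushout R₁ A S₁ Y := inferInstance
  haveI hpY : Algebra.IsPushout X₁ SA S₁ Y := by
    haveI := hmid.symm
    exact ((Algebra.IsPushout.comp_iff R₁ X₁ A SA (T := S₁) (T' := Y)).1 hY.symm).symm
  haveI : Algebra.Etale SA Y := Algebra.Etale.of_equiv (Algebra.IsPushout.equiv X₁ SA S₁ Y)
  letI : Algebra SA S₄ := ((algebraMap Y S₄).comp (algebraMap SA Y)).toAlgebra
  haveI : IsScalarTower SA Y S₄ := IsScalarTower.of_algebraMap_eq fun _ => rfl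
  haveI : Algebra.Etale SA S₄ := by
    haveI : Algebra.Etale Y S₄ := Algebra.Etale.of_isLocalizationAway s₄
    exact Algebra.Etale.comp SA Y S₄
  letI : Algebra S S₄ := ((algebraMap S₁ S₄).comp (algebraMap S S₁)).toAlgebra
  haveI : IsScalarTower S S₁ S₄ := IsScalarTower.of_algebraMap_eq fun _ => rfl
  haveI : IsScalarTower S SA S₄ := IsScalarTower.of_algebraMap_eq fun x => by
    show algebraMap S₁ S₄ (algebraMap S S₁ x) = algebraMap Y S₄ (algebraMap SA Y (algebraMap S SA x))
    rw [← IsScalarTower.algebraMap_apply S SA Y]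
    rfl
  haveI : IsScalarTower A SA S₄ := IsScalarTower.of_algebraMap_eq fun a => by
    show algebraMap A S₄ a = algebraMap Y S₄ (algebraMap SA Y (algebraMap A SA a))
    rw [← IsScalarTower.algebraMap_apply A SA Y, ← IsScalarTower.algebraMap_apply]
  -- the module
  obtain ⟨N₄, _, _, _, _, φ₁, hφ₁⟩ : ∃ (N₄ : Type u) (_ : AddCommGroup N₄) (_ : Module S₄ N₄) (_ : Module S₁ N₄)
      (_ : IsScalarTower S₁ S₄ N₄) (φ₁ : N₁ →ₗ[S₁] N₄), IsBaseChange S₄ φ₁ :=
    ⟨S₄ ⊗[S₁] N₁, inferInstance, inferInstance, inferInstance, inferInstance, TensorProduct.mk S₁ S₄ N₁ 1,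
      TensorProduct.isBaseChange S₁ N₁ S₄⟩
  letI : Module A N₄ := Module.compHom N₄ (algebraMap A S₄)
  letI : Module S N₄ := Module.compHom N₄ (algebraMap S S₁)
  haveI : IsScalarTower S S₁ N₄ := IsScalarTower.of_algebraMap_smul fun _ _ => rfl
  haveI : IsScalarTower S S₄ N₄ := IsScalarTower.of_algebraMap_smul fun x m => by
    rw [IsScalarTower.algebraMap_apply S S₁ S₄, algebraMap_smul, algebraMap_smul]
  haveI : IsScalarTower A S₄ N₄ := IsScalarTower.of_algebraMap_smul fun _ _ => rfl
  let φS : N →ₗ[S] N₄ := (φ₁.restrictScalars S).comp φ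
  have hφS : IsBaseChange S₄ φS := hφ.comp hφ₁
  -- base change from `NA`
  letI : Module SA N₄ := Module.compHom N₄ (algebraMap SA S₄)
  haveI : IsScalarTower SA S₄ N₄ := IsScalarTower.of_algebraMap_smul fun _ _ => rfl
  haveI : IsScalarTower S SA N₄ := IsScalarTower.of_algebraMap_smul fun x m => by
    show algebraMap SA S₄ (algebraMap S SA x) • m = x • m
    rw [← IsScalarTower.algebraMap_apply, algebraMap_smul]
  haveI : IsScalarTower A SA N₄ := IsScalarTower.of_algebraMap_smul fun a m => by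
    show algebraMap SA S₄ (algebraMap A SA a) • m = a • m
    rw [← IsScalarTower.algebraMap_apply, algebraMap_smul]
  let φA : NA →ₗ[SA] N₄ := hf.lift φS
  have hφA : IsBaseChange S₄ φA := IsBaseChange.of_comp hf (by
    rw [show (φA.restrictScalars S).comp f = φS from LinearMap.ext fun m => hf.lift_eq φS m]
    exact hφS)
  -- flatness at the point
  have hq₄q' : q₄.comap (algebraMap S S₄) = q := by
    rw [IsScalarTower.algebraMap_eq S S₁ S₄, ← Ideal.comap_comap, hq₄q, hq₁.comap_eq]
  haveI : q₄.LiesOver q := ⟨hq₄q'.symm⟩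
  haveI : Module.Flat S S₁ := inferInstance
  haveI : Module.Flat S₁ Y := by
    haveI : Module.Flat R₁ A := IsLocalization.flat A p₁.primeCompl
    exact Module.Flat.of_linearEquiv (Algebra.TensorProduct.commRight R₁ S₁ A).symm.toLinearEquiv
  haveI : Module.Flat Y S₄ := IsLocalization.flat S₄ (Submonoid.powers s₄)
  haveI : Module.Flat S₁ S₄ := Module.Flat.trans S₁ Y S₄
  haveI : Module.Flat S S₄ := Module.Flat.trans S S₁ S₄
  letI : Algebra R S₄ := ((algebraMap S S₄).comp (algebraMap R S)).toAlgebra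
  haveI : IsScalarTower R S S₄ := IsScalarTower.of_algebraMap_eq fun _ => rfl
  letI : Algebra R₁ S₄ := ((algebraMap A S₄).comp (algebraMap R₁ A)).toAlgebra
  haveI : IsScalarTower R₁ A S₄ := IsScalarTower.of_algebraMap_eq fun _ => rfl
  haveI : IsScalarTower R R₁ S₄ := IsScalarTower.of_algebraMap_eq fun r => by
    show algebraMap S S₄ (algebraMap R S r) = algebraMap A S₄ (algebraMap R₁ A (algebraMap R R₁ r))
    rw [← IsScalarTower.algebraMap_apply R R₁ A, IsScalarTower.algebraMap_apply S SA S₄,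
      ← IsScalarTower.algebraMap_apply R S SA, IsScalarTower.algebraMap_apply R A SA,
      ← IsScalarTower.algebraMap_apply A SA S₄]
  letI : Module R N₄ := Module.compHom N₄ (algebraMap R S₄)
  haveI : IsScalarTower R S₄ N₄ := IsScalarTower.of_algebraMap_smul fun _ _ => rfl
  letI : Module R₁ N₄ := Module.compHom N₄ (algebraMap R₁ S₄)
  haveI : IsScalarTower R₁ S₄ N₄ := IsScalarTower.of_algebraMap_smul fun _ _ => rfl
  haveI : IsScalarTower R R₁ N₄ := IsScalarTower.of_algebraMap_smul fun r m => by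
    show algebraMap R₁ S₄ (algebraMap R R₁ r) • m = algebraMap R S₄ r • m
    rw [← IsScalarTower.algebraMap_apply]
  haveI : IsScalarTower R₁ A N₄ := IsScalarTower.of_algebraMap_smul fun r m => by
    rw [← algebraMap_smul S₄ (algebraMap R₁ A r) m]
    rfl
  have hflat₁ : FlatCA.FlatAt R₁ q₄ N₄ :=
    (Groth.Agent.S1231.result (R := R) (T := R₁) N₄ q₄).1.1
      ((FlatFibres.flatAt_iff_of_isBaseChange φS hφS q q₄).1 hflat)
  have hflat₄ : FlatCA.FlatAt A q₄ N₄ :=
    (Module.flat_iff_of_isLocalization A p₁.primeCompl (LocalizedModule q₄.primeCompl N₄)).2 hflat₁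
  -- the dévissage over `A`
  obtain ⟨D, ⟨E⟩⟩ := H A e mA h₄ h₄.comap_eq hef S₄ rfl q₄ hq₄p hq₄q N₄ φ₁ hφ₁
  haveI : Algebra.FiniteType A S₄ := by
    haveI : Algebra.FiniteType R S₁ := Algebra.FiniteType.trans (S := S) ‹_› inferInstance
    haveI : Algebra.FiniteType R₁ S₁ := Algebra.FiniteType.of_restrictScalars_finiteType R R₁ S₁
    haveI : Algebra.FiniteType A Y := inferInstance
    haveI : Algebra.FinitePresentation Y S₄ := IsLocalization.Away.finitePresentation s₄
    haveI : Algebra.FiniteType Y S₄ := inferInstance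
    exact Algebra.FiniteType.trans (S := Y) ‹_› ‹_›
  obtain ⟨hfp, hfree, -⟩ := free_fp_of_completeDevissageAt (R := A) N₄ q₄ hflat₄ D E
  haveI := hfp
  haveI := hfree
  haveI : Module.Flat A N₄ := inferInstance
  exact ⟨S₄, inferInstance, inferInstance, inferInstance, inferInstance, inferInstance, inferInstance, q₄, hq₄pr,
    hq₁.trans hq₄t, hq₄p, inferInstance, N₄, inferInstance, inferInstance, inferInstance, inferInstance, inferInstance,
    inferInstance, φA, hφA, hfp, hfree⟩

end Groth.Agent.RG11
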