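import Groth.Agent.RG11.FreeNhd
import Mathlib

/-!
# Transport of freeness to restricted scalars
-/

universe u

set_option linter.style.haveILetI false

namespace Groth.Agent.RG11

open TensorProduct

theorem free_restrictScalars {A C M : Type u} [CommRing A] [CommRing C] [Algebra A C] [AddCommGroup M] [Module C M]
    [Module A M] [IsScalarTower A C M] [Module.Free A M] : Module.Free A (RestrictScalars A C M) :=
  Module.Free.of_equiv
    ({ (RestrictScalars.addEquiv A C M).symm with
        map_smul' := fun a m => (algebraMap_smul C a m).symm } : M ≃ₗ[A] RestrictScalars A C M)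

theorem projective_restrictScalars {A C M : Type u} [CommRing A] [CommRing C] [Algebra A C] [AddCommGroup M] [Module C M]
    [Module A M] [IsScalarTower A C M] [Module.Projective A M] : Module.Projective A (RestrictScalars A C M) :=
  Module.Projective.of_equiv
    ({ (RestrictScalars.addEquiv A C M).symm with
        map_smul' := fun a m => (algebraMap_smul C a m).symm } : M ≃ₗ[A] RestrictScalars A C M)

theorem free_tensor {A SA C NA NC : Type u} [CommRing A] [CommRing SA] [CommRing C] [Algebra A C] [Algebra SA C]
    [AddCommGroup NA] [Module SA NA] [AddCommGroup NC] [Module C NC] [Module SA NC] [Module A NC]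
    [IsScalarTower SA C NC] [IsScalarTower A C NC] (φ : NA →ₗ[SA] NC) (hφ : IsBaseChange C φ) [Module.Free A NC] :
    Module.Free A (RestrictScalars A C (C ⊗[SA] NA)) := by
  haveI : IsScalarTower A C (C ⊗[SA] NA) := inferInstance
  haveI : Module.Free A (C ⊗[SA] NA) := Module.Free.of_equiv (hφ.equiv.symm.restrictScalars A)
  exact free_restrictScalars

theorem fp_tensor {SA C NA NC : Type u} [CommRing SA] [CommRing C] [Algebra SA C] [AddCommGroup NA] [Module SA NA]
    [AddCommGroup NC] [Module C NC] [Module SA NC] [IsScalarTower SA C NC] (φ : NA →ₗ[SA] NC) (hφ : IsBaseChange C φ)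
    [Module.FinitePresentation C NC] : Module.FinitePresentation C (C ⊗[SA] NA) :=
  Module.FinitePresentation.of_equiv hφ.equiv.symm

end Groth.Agent.RG11
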