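import Groth.Agent.RG11.GoodAux
import Groth.Agent.RG11.DevissageIff
import Groth.Agent.MorLib.UnramLocus
import Mathlib

/-!
# Complete dévissages stable under base change and shrinking
-/

universe u

set_option linter.style.haveILetI false

namespace Groth.Agent.RG11

open TensorProduct

/-- `N₁` has complete dévissages at the points over `(p₁, q₁)` after base changes of `R₁` with trivial residue
extension, on arbitrarily small principal open subsets. -/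
def Good {R₁ S₁ : Type u} [CommRing R₁] [CommRing S₁] [Algebra R₁ S₁] (p₁ : Ideal R₁) (q₁ : Ideal S₁)
    (N₁ : Type u) [AddCommGroup N₁] [Module S₁ N₁] : Prop :=
  ∀ (R₃ : Type u) [CommRing R₃] [Algebra R₁ R₃] (p₃ : Ideal R₃) [p₃.IsPrime], TrivExt p₁ p₃ →
  ∀ (q₃ : Ideal (R₃ ⊗[R₁] S₁)) [q₃.IsPrime], q₃.comap (algebraMap R₃ (R₃ ⊗[R₁] S₁)) = p₃ →
    q₃.comap (incR R₃) = q₁ → ∀ g ∉ q₃, ∃ f ∉ p₃, ∃ s : R₃ ⊗[R₁] S₁, g ∣ s ∧ s ∉ q₃ ∧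
  ∀ (R₄ : Type u) [CommRing R₄] [Algebra R₁ R₄] (e : R₃ →ₐ[R₁] R₄) (p₄ : Ideal R₄) [p₄.IsPrime],
    TrivExt p₁ p₄ → p₄.comap e.toRingHom = p₃ → IsUnit (e f) →
  ∀ (S₄ : Type u) [CommRing S₄] [Algebra (R₄ ⊗[R₁] S₁) S₄]
    [IsLocalization.Away (Algebra.TensorProduct.map e (AlgHom.id R₁ S₁) s) S₄] [Algebra R₄ S₄]
    [IsScalarTower R₄ (R₄ ⊗[R₁] S₁) S₄] [Algebra S₁ S₄],
    algebraMap S₁ S₄ = (algebraMap (R₄ ⊗[R₁] S₁) S₄).comp (incR R₄) →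
  ∀ (q₄ : Ideal S₄) [q₄.IsPrime], q₄.comap (algebraMap R₄ S₄) = p₄ → q₄.comap (algebraMap S₁ S₄) = q₁ →
  ∀ (N₄ : Type u) [AddCommGroup N₄] [Module S₄ N₄] [Module S₁ N₄] [IsScalarTower S₁ S₄ N₄] (φ : N₁ →ₗ[S₁] N₄),
    IsBaseChange S₄ φ → FlatCA.HasCompleteDevissageAt R₄ S₄ N₄ p₄ q₄

theorem Good.congr {R₁ S₁ : Type u} [CommRing R₁] [CommRing S₁] [Algebra R₁ S₁] {p₁ : Ideal R₁} {q₁ : Ideal S₁}
    {N₁ N₁' : Type u} [AddCommGroup N₁] [Module S₁ N₁] [AddCommGroup N₁'] [Module S₁ N₁'] (h : Good p₁ q₁ N₁)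
    (e : N₁ ≃ₗ[S₁] N₁') : Good p₁ q₁ N₁' := by
  intro R₃ _ _ p₃ _ h₃ q₃ _ hq hq' g hg
  obtain ⟨f, hf, s, hgs, hs, H⟩ := h R₃ p₃ h₃ q₃ hq hq' g hg
  refine ⟨f, hf, s, hgs, hs, fun R₄ _ _ e' p₄ _ h₄ hp hu S₄ _ _ _ _ _ _ hc q₄ _ hq₄ hq₄' N₄ _ _ _ _ φ hφ => ?_⟩
  exact H R₄ e' p₄ h₄ hp hu S₄ hc q₄ hq₄ hq₄' N₄ (φ ∘ₗ e.toLinearMap) (hφ.comp_equiv e)

/-- Compatible points of base changes. -/
theorem comap_map_eq {R₁ S₁ R₃ R₄ : Type u} [CommRing R₁] [CommRing S₁] [CommRing R₃] [CommRing R₄] [Algebra R₁ S₁]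
    [Algebra R₁ R₃] [Algebra R₁ R₄] (e : R₃ →ₐ[R₁] R₄) {p₁ : Ideal R₁} [p₁.IsPrime] {p₃ : Ideal R₃} [p₃.IsPrime]
    {p₄ : Ideal R₄} (h₃ : TrivExt p₁ p₃) (hp : p₄.comap e.toRingHom = p₃)
    (Q₃ : Ideal (R₃ ⊗[R₁] S₁)) [Q₃.IsPrime] (Q₄ : Ideal (R₄ ⊗[R₁] S₁)) [Q₄.IsPrime]
    (h3 : Q₃.comap (algebraMap R₃ (R₃ ⊗[R₁] S₁)) = p₃) (h4 : Q₄.comap (algebraMap R₄ (R₄ ⊗[R₁] S₁)) = p₄)
    (h : Q₃.comap (incR R₃) = Q₄.comap (incR R₄)) :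
    Q₄.comap (Algebra.TensorProduct.map e (AlgHom.id R₁ S₁)).toRingHom = Q₃ := by
  refine eq_of_comap_eq h₃ _ _ ?_ h3 ?_
  · rw [Ideal.comap_comap, ← hp, ← h4, Ideal.comap_comap]
    congr 1
  · rw [Ideal.comap_comap, h]
    congr 1
    exact RingHom.ext fun r => by simp

/-- The comparison map between two base changes. -/
noncomputable def muHom {R₁ R₂ S₁ S₂ : Type u} (R₃ : Type u) [CommRing R₁] [CommRing R₂] [CommRing S₁] [CommRing S₂]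
    [CommRing R₃] [Algebra R₁ R₂] [Algebra R₁ S₁] [Algebra R₂ S₂] [Algebra S₁ S₂] [Algebra R₁ S₂]
    [IsScalarTower R₁ R₂ S₂] [IsScalarTower R₁ S₁ S₂] [Algebra R₂ R₃] [Algebra R₁ R₃] [IsScalarTower R₁ R₂ R₃] :
    R₃ ⊗[R₁] S₁ →ₐ[R₃] R₃ ⊗[R₂] S₂ :=
  Algebra.TensorProduct.lift (Algebra.ofId R₃ _)
    (((Algebra.TensorProduct.includeRight : S₂ →ₐ[R₂] R₃ ⊗[R₂] S₂).restrictScalars R₁).comp
      (IsScalarTower.toAlgHom R₁ S₁ S₂)) fun _ _ => .all _ _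

theorem muHom_tmul {R₁ R₂ S₁ S₂ : Type u} (R₃ : Type u) [CommRing R₁] [CommRing R₂] [CommRing S₁] [CommRing S₂]
    [CommRing R₃] [Algebra R₁ R₂] [Algebra R₁ S₁] [Algebra R₂ S₂] [Algebra S₁ S₂] [Algebra R₁ S₂]
    [IsScalarTower R₁ R₂ S₂] [IsScalarTower R₁ S₁ S₂] [Algebra R₂ R₃] [Algebra R₁ R₃] [IsScalarTower R₁ R₂ R₃]
    (r : R₃) (x : S₁) :
    muHom (R₂ := R₂) (S₂ := S₂) R₃ (r ⊗ₜ[R₁] x) = r ⊗ₜ[R₂] algebraMap S₁ S₂ x := by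
  rw [muHom, Algebra.TensorProduct.lift_tmul]
  simp [Algebra.TensorProduct.algebraMap_apply, Algebra.TensorProduct.tmul_mul_tmul]

set_option maxHeartbeats 1600000 in
/-- Stability under base change and localisation. -/
theorem Good.shrink {R₁ S₁ R₂ S₂ : Type u} [CommRing R₁] [CommRing S₁] [CommRing R₂] [CommRing S₂] [Algebra R₁ S₁]
    [Algebra R₁ R₂] {p₁ : Ideal R₁} [p₁.IsPrime] {q₁ : Ideal S₁} {p₂ : Ideal R₂} [p₂.IsPrime]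
    (hp₂ : TrivExt p₁ p₂) (g₁ : R₂ ⊗[R₁] S₁) [Algebra (R₂ ⊗[R₁] S₁) S₂] [IsLocalization.Away g₁ S₂] [Algebra R₂ S₂]
    [IsScalarTower R₂ (R₂ ⊗[R₁] S₁) S₂] [Algebra S₁ S₂]
    (hS₁ : algebraMap S₁ S₂ = (algebraMap (R₂ ⊗[R₁] S₁) S₂).comp (incR R₂))
    {q₂ : Ideal S₂} (hq : q₂.comap (algebraMap S₁ S₂) = q₁)
    {N₁ N₂ : Type u} [AddCommGroup N₁] [Module S₁ N₁] [AddCommGroup N₂] [Module S₂ N₂] [Module S₁ N₂]
    [IsScalarTower S₁ S₂ N₂] (φ₂ : N₁ →ₗ[S₁] N₂) (hφ₂ : IsBaseChange S₂ φ₂)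
    (h : Good p₁ q₁ N₁) : Good p₂ q₂ N₂ := by
  intro R₃ _ _ p₃ _ h₃ q₃ _ hq₃ hq₃' g hg
  letI : Algebra R₁ R₃ := ((algebraMap R₂ R₃).comp (algebraMap R₁ R₂)).toAlgebra
  haveI : IsScalarTower R₁ R₂ R₃ := IsScalarTower.of_algebraMap_eq fun _ => rfl
  letI : Algebra R₁ S₂ := ((algebraMap R₂ S₂).comp (algebraMap R₁ R₂)).toAlgebra
  haveI : IsScalarTower R₁ R₂ S₂ := IsScalarTower.of_algebraMap_eq fun _ => rfl
  haveI : IsScalarTower R₁ S₁ S₂ := IsScalarTower.of_algebraMap_eq fun r => by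
    show algebraMap R₂ S₂ (algebraMap R₁ R₂ r) = algebraMap S₁ S₂ (algebraMap R₁ S₁ r)
    rw [hS₁, RingHom.comp_apply, IsScalarTower.algebraMap_apply R₂ (R₂ ⊗[R₁] S₁) S₂]
    refine congrArg (algebraMap (R₂ ⊗[R₁] S₁) S₂) ?_
    rw [← IsScalarTower.algebraMap_apply R₁ R₂ (R₂ ⊗[R₁] S₁)]
    exact ((Algebra.TensorProduct.includeRight : S₁ →ₐ[R₁] R₂ ⊗[R₁] S₁).commutes r).symm
  let μ : R₃ ⊗[R₁] S₁ →ₐ[R₃] R₃ ⊗[R₂] S₂ := muHom R₃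
  letI : Algebra (R₃ ⊗[R₁] S₁) (R₃ ⊗[R₂] S₂) := μ.toRingHom.toAlgebra
  have hμl : ∀ r : R₃, μ (r ⊗ₜ 1) = r ⊗ₜ 1 := fun r => by rw [muHom_tmul, map_one]
  have hμr : ∀ x : S₁, μ ((1 : R₃) ⊗ₜ x) = (1 : R₃) ⊗ₜ algebraMap (R₂ ⊗[R₁] S₁) S₂ ((1 : R₂) ⊗ₜ x) := fun x => by
    rw [muHom_tmul, hS₁]
    rfl
  let h₃' := Algebra.TensorProduct.map (IsScalarTower.toAlgHom R₁ R₂ R₃) (AlgHom.id R₁ S₁) g₁
  haveI hloc : IsLocalization.Away h₃' (R₃ ⊗[R₂] S₂) := isLocalization_baseChange_away g₁ hμl hμr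
  let Q₃ := q₃.comap μ.toRingHom
  have hQ₃p : Q₃.comap (algebraMap R₃ (R₃ ⊗[R₁] S₁)) = p₃ := by
    rw [Ideal.comap_comap, ← hq₃]
    congr 1
    exact RingHom.ext fun r => μ.commutes r
  have hQ₃q : Q₃.comap (incR R₃) = q₁ := by
    rw [Ideal.comap_comap, show μ.toRingHom.comp (incR R₃) = (incR R₃).comp (algebraMap S₁ S₂) from
      RingHom.ext fun x => (hμr x).trans (by rw [hS₁]; rfl), ← Ideal.comap_comap, hq₃', hq]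
  obtain ⟨a, ⟨_, k, rfl⟩, hag⟩ := IsLocalization.exists_mk'_eq (Submonoid.powers h₃') g
  have hh : h₃' ∉ Q₃ := fun hmem => (inferInstance : q₃.IsPrime).ne_top
    (Ideal.eq_top_of_isUnit_mem _ hmem (IsLocalization.Away.algebraMap_isUnit (S := R₃ ⊗[R₂] S₂) h₃'))
  have hga : μ a = g * μ (h₃' ^ k) := by
    rw [← hag]
    exact (IsLocalization.mk'_spec (R₃ ⊗[R₂] S₂) a _).symm
  have ha : a ∉ Q₃ := fun hmem => by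
    have hmem' : μ a ∈ q₃ := hmem
    rw [hga] at hmem'
    refine (inferInstance : q₃.IsPrime).mul_notMem hg (fun hm => hh ?_) hmem'
    exact (inferInstance : Q₃.IsPrime).mem_of_pow_mem k hm
  obtain ⟨f, hf, s, hds, hs, H⟩ := h R₃ p₃ (hp₂.trans h₃) Q₃ hQ₃p hQ₃q (h₃' * a)
    ((inferInstance : Q₃.IsPrime).mul_notMem hh ha)
  refine ⟨f, hf, μ s, (Dvd.intro (μ (h₃' ^ k)) hga.symm).trans (map_dvd μ ((dvd_mul_left a h₃').trans hds)), hs, ?_⟩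
  intro R₄ _ _ e p₄ _ h₄ hp hu S₄ _ _ _ _ _ _ hcS₄ q₄ _ hq₄ hq₄' N₄ _ _ _ _ φ hφ
  letI : Algebra R₁ R₄ := ((algebraMap R₂ R₄).comp (algebraMap R₁ R₂)).toAlgebra
  haveI : IsScalarTower R₁ R₂ R₄ := IsScalarTower.of_algebraMap_eq fun _ => rfl
  let e₁ : R₃ →ₐ[R₁] R₄ := e.restrictScalars R₁
  let μ₄ : R₄ ⊗[R₁] S₁ →ₐ[R₄] R₄ ⊗[R₂] S₂ := muHom R₄
  letI : Algebra (R₄ ⊗[R₁] S₁) (R₄ ⊗[R₂] S₂) := μ₄.toRingHom.toAlgebra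
  have hμ₄l : ∀ r : R₄, μ₄ (r ⊗ₜ 1) = r ⊗ₜ 1 := fun r => by rw [muHom_tmul, map_one]
  have hμ₄r : ∀ x : S₁, μ₄ ((1 : R₄) ⊗ₜ x) = (1 : R₄) ⊗ₜ algebraMap (R₂ ⊗[R₁] S₁) S₂ ((1 : R₂) ⊗ₜ x) := fun x => by
    rw [muHom_tmul, hS₁]
    rfl
  let eX := Algebra.TensorProduct.map e₁ (AlgHom.id R₁ S₁)
  let eY := Algebra.TensorProduct.map e (AlgHom.id R₂ S₂)
  let h₄' := Algebra.TensorProduct.map (IsScalarTower.toAlgHom R₁ R₂ R₄) (AlgHom.id R₁ S₁) g₁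
  haveI hloc₄ : IsLocalization.Away h₄' (R₄ ⊗[R₂] S₂) := isLocalization_baseChange_away g₁ hμ₄l hμ₄r
  have hμe : ∀ x, μ₄ (eX x) = eY (μ x) := fun x => by
    induction x using TensorProduct.induction_on with
    | zero => simp
    | add u v hu hv => simp only [map_add, hu, hv]
    | tmul r x =>
      rw [show r ⊗ₜ[R₁] x = (r ⊗ₜ[R₁] (1 : S₁)) * ((1 : R₃) ⊗ₜ[R₁] x) by simp [Algebra.TensorProduct.tmul_mul_tmul]]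
      simp only [map_mul, eX, eY, Algebra.TensorProduct.map_tmul, hμl, hμr, map_one, AlgHom.id_apply, hμ₄r]
      rw [hμ₄l]
      rfl
  have heh : eX h₃' = h₄' := by
    show Algebra.TensorProduct.map e₁ (AlgHom.id R₁ S₁)
        (Algebra.TensorProduct.map (IsScalarTower.toAlgHom R₁ R₂ R₃) (AlgHom.id R₁ S₁) g₁) = _
    rw [← AlgHom.comp_apply, ← Algebra.TensorProduct.map_comp]
    refine DFunLike.congr_fun (congrArg₂ Algebra.TensorProduct.map (AlgHom.ext fun r => ?_) (AlgHom.id_comp _)) g₁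
    exact e.commutes r
  letI : Algebra (R₄ ⊗[R₁] S₁) S₄ := ((algebraMap (R₄ ⊗[R₂] S₂) S₄).comp μ₄.toRingHom).toAlgebra
  haveI : IsScalarTower (R₄ ⊗[R₁] S₁) (R₄ ⊗[R₂] S₂) S₄ := IsScalarTower.of_algebraMap_eq fun _ => rfl
  haveI : IsLocalization.Away (algebraMap (R₄ ⊗[R₁] S₁) (R₄ ⊗[R₂] S₂) (eX s)) S₄ := by
    show IsLocalization.Away (μ₄ (eX s)) S₄
    rw [hμe]
    assumption
  haveI : IsLocalization.Away (h₄' * eX s) S₄ := IsLocalization.Away.mul' (R₄ ⊗[R₂] S₂) S₄ h₄' (eX s)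
  haveI : IsLocalization.Away (eX s) S₄ :=
    away_of_mul h₄' (eX s) (heh ▸ map_dvd eX ((dvd_mul_right h₃' a).trans hds))
  haveI : IsScalarTower R₄ (R₄ ⊗[R₁] S₁) S₄ := IsScalarTower.of_algebraMap_eq fun r => by
    show _ = algebraMap (R₄ ⊗[R₂] S₂) S₄ (μ₄ (algebraMap R₄ _ r))
    rw [μ₄.commutes, ← IsScalarTower.algebraMap_apply]
  letI : Algebra S₁ S₄ := ((algebraMap S₂ S₄).comp (algebraMap S₁ S₂)).toAlgebra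
  haveI : IsScalarTower S₁ S₂ S₄ := IsScalarTower.of_algebraMap_eq fun _ => rfl
  letI : Module S₁ N₄ := Module.compHom N₄ (algebraMap S₁ S₄)
  haveI : IsScalarTower S₁ S₄ N₄ := IsScalarTower.of_algebraMap_smul fun _ _ => rfl
  haveI : IsScalarTower S₁ S₂ N₄ := IsScalarTower.of_algebraMap_smul fun r n => by
    rw [← algebraMap_smul S₄ (algebraMap S₁ S₂ r) n]
    rfl
  refine H R₄ e₁ p₄ (hp₂.trans h₄) hp hu S₄ (RingHom.ext fun x => ?_) q₄ hq₄ ?_ N₄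
    ((φ.restrictScalars S₁).comp φ₂) (hφ₂.comp hφ)
  · show algebraMap S₂ S₄ (algebraMap S₁ S₂ x) = algebraMap (R₄ ⊗[R₂] S₂) S₄ (μ₄ ((1 : R₄) ⊗ₜ x))
    rw [hμ₄r, hcS₄, hS₁]
    rfl
  · show q₄.comap ((algebraMap S₂ S₄).comp (algebraMap S₁ S₂)) = q₁
    rw [← Ideal.comap_comap, hq₄', hq]

end Groth.Agent.RG11
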