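import Groth.Agent.RG11.LocalNhd
import Mathlib

/-!
# Consequences of flatness near a point after étale localisation
-/

universe u

set_option linter.style.haveILetI false

namespace Groth.Agent.RG11

open TensorProduct

/-- Finite presentation at the points of a principal open. -/
theorem fp_atPrime_of_away {S : Type u} [CommRing S] (N : Type u) [AddCommGroup N] [Module S N] (g : S) (Q : Ideal S)
    [Q.IsPrime] (hg : g ∉ Q)
    (hfp : Module.FinitePresentation (Localization.Away g) (LocalizedModule (Submonoid.powers g) N)) :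
    Module.FinitePresentation (Localization.AtPrime Q) (LocalizedModule Q.primeCompl N) := by
  rw [fp_localizedModule_iff N _ (Localization.AtPrime Q)]
  haveI := (fp_localizedModule_iff N (Submonoid.powers g) (Localization.Away g)).1 hfp
  exact fp_tensor_of_algHom N (IsLocalization.Away.liftAlgHom g (S := Localization.Away g)
    (f := Algebra.ofId S (Localization.AtPrime Q))
    (IsLocalization.map_units (M := Q.primeCompl) (Localization.AtPrime Q) ⟨g, hg⟩))

set_option maxHeartbeats 800000 in
/-- A finite module flat at a point is finitely presented there. -/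
theorem fp_atPrime_of_flatAt {R S : Type u} [CommRing R] [CommRing S] [Algebra R S] [Algebra.FiniteType R S]
    (N : Type u) [AddCommGroup N] [Module S N] [Module R N] [IsScalarTower R S N] [Module.Finite S N]
    (q : Ideal S) [q.IsPrime] (hflat : FlatCA.FlatAt R q N) :
    Module.FinitePresentation (Localization.AtPrime q) (LocalizedModule q.primeCompl N) := by
  let p : Ideal R := q.under R
  haveI : p.IsPrime := inferInstanceAs (Ideal.comap _ _).IsPrime
  haveI : q.LiesOver p := ⟨rfl⟩
  obtain ⟨R', _, _, p', _, hnhd, H⟩ := exists_local_nhd N p q hflat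
  have hp' : TrivExt p p' := TrivExt.of_isEtaleNhd hnhd
  haveI := hnhd.1
  let A := Localization.AtPrime p'
  let SA := A ⊗[R] S
  letI : Algebra S SA := Algebra.TensorProduct.rightAlgebra
  haveI : Algebra.IsPushout R S A SA := Algebra.IsPushout.symm inferInstance
  haveI : IsScalarTower R S SA := IsScalarTower.of_algebraMap_eq fun r =>
    ((Algebra.TensorProduct.includeRight : S →ₐ[R] SA).commutes r).symm
  obtain ⟨NA, _, _, _, _, _, _, f, hf⟩ : ∃ (NA : Type u) (_ : AddCommGroup NA) (_ : Module SA NA) (_ : Module S NA)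
      (_ : IsScalarTower S SA NA) (_ : Module A NA) (_ : IsScalarTower A SA NA) (f : N →ₗ[S] NA), IsBaseChange SA f :=
    ⟨SA ⊗[S] N, inferInstance, inferInstance, inferInstance, inferInstance, inferInstance, inferInstance,
      TensorProduct.mk S SA N 1, TensorProduct.isBaseChange S N SA⟩
  obtain ⟨g, hg, hfp, -⟩ := H SA NA f hf
  have hA : TrivExt p (IsLocalRing.maximalIdeal A) := hp'.trans (trivExt_atPrime p')
  obtain ⟨Q, hQ, hQA, hQq⟩ := exists_prime_over (T := S) hA q rfl
  haveI := hQ
  haveI : Q.LiesOver q := ⟨hQq.symm⟩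
  haveI : Module.Flat R' A := IsLocalization.flat A p'.primeCompl
  haveI : Module.Flat R A := Module.Flat.trans R R' A
  haveI : Module.Flat S SA := Module.Flat.of_linearEquiv (Algebra.TensorProduct.commRight R S A).symm.toLinearEquiv
  exact (fp_point_iff_of_isBaseChange f hf q Q).2 (fp_atPrime_of_away NA g Q (hg Q ⟨hQq.symm⟩ ⟨hQA.symm⟩) hfp)

set_option maxHeartbeats 800000 in
/-- A flat local ring of a finite type algebra is essentially of finite presentation. -/
theorem essFP_atPrime_of_flat {R S : Type u} [CommRing R] [CommRing S] [Algebra R S] [Algebra.FiniteType R S]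
    (q : Ideal S) [q.IsPrime] (hflat : FlatCA.FlatAt R q S) :
    FlatCA.EssFinitePresentation R (Localization.AtPrime q) := by
  obtain ⟨n, π, hπ⟩ := Algebra.FiniteType.iff_quotient_mvPolynomial''.1 (inferInstance : Algebra.FiniteType R S)
  let P := MvPolynomial (Fin n) R
  letI : Algebra P S := π.toRingHom.toAlgebra
  haveI : IsScalarTower R P S := IsScalarTower.of_algebraMap_eq fun r => (π.commutes r).symm
  haveI : Module.Finite P S := Module.Finite.of_surjective (Algebra.linearMap P S) hπ
  let q' : Ideal P := q.comap (algebraMap P S)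
  have hflat' : FlatCA.FlatAt R q' S := (flatAt_iff_of_unique (T := S) q' q rfl (fun r _ hr =>
    Ideal.comap_injective_of_surjective _ hπ hr) S).2 hflat
  haveI := fp_atPrime_of_flatAt (R := R) (S := P) S q' hflat'
  let B := Localization.AtPrime q'
  let Sq := Localization.AtPrime q
  haveI : IsScalarTower P S Sq := inferInstance
  have hsub : Algebra.algebraMapSubmonoid S q'.primeCompl = q.primeCompl := by
    refine le_antisymm (fun x hx => ?_) fun x hx => ?_
    · obtain ⟨u, hu, rfl⟩ := hx
      exact hu
    · obtain ⟨u, rfl⟩ := hπ x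
      exact ⟨u, hx, rfl⟩
  haveI : IsLocalization (Algebra.algebraMapSubmonoid S q'.primeCompl) Sq := by rw [hsub]; infer_instance
  haveI : IsLocalizedModule q'.primeCompl (IsScalarTower.toAlgHom P S Sq).toLinearMap :=
    isLocalizedModule_iff_isLocalization.2 inferInstance
  have hu : ∀ u : q'.primeCompl, IsUnit (algebraMap P Sq u) := fun u =>
    IsLocalization.map_units (M := q.primeCompl) Sq ⟨algebraMap P S u, u.2⟩
  letI : Algebra B Sq := (IsLocalization.lift hu).toAlgebra
  haveI : IsScalarTower P B Sq := IsScalarTower.of_algebraMap_eq fun x => (IsLocalization.lift_eq hu x).symm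
  let eL : LocalizedModule q'.primeCompl S ≃ₗ[P] Sq :=
    IsLocalizedModule.iso q'.primeCompl (IsScalarTower.toAlgHom P S Sq).toLinearMap
  haveI : Module.FinitePresentation B Sq :=
    Module.FinitePresentation.of_equiv (LinearEquiv.extendScalarsOfIsLocalization q'.primeCompl B eL)
  have hsurj : Function.Surjective (Algebra.linearMap B Sq) := fun w => by
    obtain ⟨a, u, rfl⟩ := IsLocalization.exists_mk'_eq q.primeCompl w
    obtain ⟨a, rfl⟩ := hπ a
    obtain ⟨⟨u', hu'⟩, hu''⟩ : ∃ v : q'.primeCompl, algebraMap P S v = u := by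
      obtain ⟨v, hv⟩ := hπ u
      exact ⟨⟨v, fun h => u.2 (hv ▸ h)⟩, hv⟩
    refine ⟨IsLocalization.mk' B a ⟨u', hu'⟩, (hu ⟨u', hu'⟩).mul_right_cancel ?_⟩
    show algebraMap B Sq (IsLocalization.mk' B a ⟨u', hu'⟩) * algebraMap P Sq u' = _
    rw [IsScalarTower.algebraMap_apply P B Sq u', ← map_mul, IsLocalization.mk'_spec,
      ← IsScalarTower.algebraMap_apply P B Sq a, ← IsScalarTower.algebraMap_apply P B Sq u',
      IsScalarTower.algebraMap_apply P S Sq a, IsScalarTower.algebraMap_apply P S Sq u',
      show algebraMap P S u' = (u : S) from hu'', IsLocalization.mk'_spec]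
    rfl
  obtain ⟨t, ht⟩ := Module.FinitePresentation.fg_ker (Algebra.linearMap B Sq) hsurj
  choose num den hnd using fun x : B => IsLocalization.exists_mk'_eq q'.primeCompl x
  let J₀ : Ideal P := Ideal.span (num '' (t : Set B))
  have hJ₀ : J₀.map (algebraMap P B) = RingHom.ker (algebraMap B Sq) := by
    refine le_antisymm (Ideal.map_le_iff_le_comap.2 (Ideal.span_le.2 ?_)) ?_
    · rintro _ ⟨x, hx, rfl⟩
      show algebraMap B Sq (algebraMap P B (num x)) = 0
      rw [← IsLocalization.mk'_spec B (num x) (den x), hnd, map_mul,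
        show algebraMap B Sq x = 0 from ht.le (Submodule.subset_span hx), zero_mul]
    · intro x hx
      refine (show Submodule.span B (t : Set B) ≤ J₀.map (algebraMap P B) from Submodule.span_le.2 fun y hy => ?_)
        (ht.ge hx)
      rw [← hnd y, IsLocalization.mk'_eq_mul_mk'_one]
      exact Ideal.mul_mem_right _ _ (Ideal.mem_map_of_mem _ (Ideal.subset_span ⟨y, hy, rfl⟩))
  let S₀ := P ⧸ J₀
  have hJS : ∀ x ∈ J₀, algebraMap P Sq x = 0 := fun x hx => by
    rw [IsScalarTower.algebraMap_apply P B Sq]
    exact hJ₀.le (Ideal.mem_map_of_mem _ hx)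
  letI : Algebra S₀ Sq := (Ideal.Quotient.lift J₀ (algebraMap P Sq) hJS).toAlgebra
  haveI : IsScalarTower P S₀ Sq := IsScalarTower.of_algebraMap_eq fun x => (Ideal.Quotient.lift_mk J₀ _ hJS (a := x)).symm
  haveI : IsScalarTower R P Sq := inferInstance
  haveI : IsScalarTower R S₀ Sq := IsScalarTower.of_algebraMap_eq fun r =>
    (IsScalarTower.algebraMap_apply R P Sq r).trans ((IsScalarTower.algebraMap_apply P S₀ Sq _).trans rfl)
  refine ⟨S₀, inferInstance, inferInstance, inferInstance, inferInstance, Algebra.algebraMapSubmonoid S₀ q'.primeCompl,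
    Algebra.FinitePresentation.quotient ((Submodule.fg_span ((t.finite_toSet).image num))), ?_⟩
  refine { map_units := ?_, surj := fun z => ?_, exists_of_eq := fun {a b} hab => ?_ }
  · rintro ⟨_, u, huu, rfl⟩
    show IsUnit (algebraMap S₀ Sq (algebraMap P S₀ u))
    rw [← IsScalarTower.algebraMap_apply]
    exact hu ⟨u, huu⟩
  · obtain ⟨w, rfl⟩ := hsurj z
    obtain ⟨a, u, rfl⟩ := IsLocalization.exists_mk'_eq q'.primeCompl w
    refine ⟨(algebraMap P S₀ a, ⟨algebraMap P S₀ u, u, u.2, rfl⟩), ?_⟩
    show algebraMap B Sq (IsLocalization.mk' B a u) * algebraMap S₀ Sq (algebraMap P S₀ u) =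
      algebraMap S₀ Sq (algebraMap P S₀ a)
    rw [← IsScalarTower.algebraMap_apply, ← IsScalarTower.algebraMap_apply, IsScalarTower.algebraMap_apply P B Sq,
      ← map_mul, IsLocalization.mk'_spec, ← IsScalarTower.algebraMap_apply]
  · obtain ⟨a, rfl⟩ := Ideal.Quotient.mk_surjective a
    obtain ⟨b, rfl⟩ := Ideal.Quotient.mk_surjective b
    have h0 : algebraMap P B (a - b) ∈ J₀.map (algebraMap P B) := by
      rw [hJ₀, RingHom.mem_ker, ← IsScalarTower.algebraMap_apply, IsScalarTower.algebraMap_apply P S₀ Sq,
        map_sub, map_sub, sub_eq_zero]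
      exact hab
    obtain ⟨u, hu', hmem⟩ := (IsLocalization.algebraMap_mem_map_algebraMap_iff q'.primeCompl B J₀ (a - b)).1 h0
    refine ⟨⟨algebraMap P S₀ u, u, hu', rfl⟩, ?_⟩
    rw [← sub_eq_zero, ← mul_sub]
    show Ideal.Quotient.mk J₀ u * (Ideal.Quotient.mk J₀ a - Ideal.Quotient.mk J₀ b) = 0
    rw [← map_sub, ← map_mul]
    exact Ideal.Quotient.eq_zero_iff_mem.2 hmem

end Groth.Agent.RG11
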