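import Groth.Agent.RG11.GeomFib
import Groth.Agent.RG11.UnivCompl
import Groth.Agent.CAlgUI.DescentProj
import Groth.Agent.LocalCrit.Complete
import Groth.Agent.S0389
import Mathlib

/-!
# Flat finite type algebras with geometrically integral fibres over Noetherian rings are projective
-/

universe u

set_option linter.style.haveILetI false
set_option maxHeartbeats 400000

namespace Groth.Agent.RG11

open TensorProduct

attribute [local instance] Algebra.TensorProduct.rightAlgebra

/-- Projectivity of a base change passes along algebra maps. -/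
theorem projective_tensor_of_algHom {R A C M : Type u} [CommRing R] [CommRing A] [CommRing C] [Algebra R A]
    [Algebra R C] [AddCommGroup M] [Module R M] (φ : A →ₐ[R] C) [Module.Projective A (A ⊗[R] M)] :
    Module.Projective C (C ⊗[R] M) := by
  letI := φ.toRingHom.toAlgebra
  haveI : IsScalarTower R A C := IsScalarTower.of_algebraMap_eq fun r => (φ.commutes r).symm
  exact Module.Projective.of_equiv (TensorProduct.AlgebraTensorModule.cancelBaseChange R A C C M)

theorem flat_prod (R M N : Type u) [CommRing R] [AddCommGroup M] [Module R M] [AddCommGroup N] [Module R N]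
    [Module.Flat R M] [Module.Flat R N] : Module.Flat R (M × N) := by
  refine Module.Flat.iff_rTensor_preserves_injective_linearMap.2 fun X Y _ _ _ _ g hg => ?_
  intro a b hab
  have h : ∀ z : X ⊗[R] (M × N), TensorProduct.prodRight R R Y M N (g.rTensor (M × N) z) =
      (g.rTensor M).prodMap (g.rTensor N) (TensorProduct.prodRight R R X M N z) := fun z => by
    induction z using TensorProduct.induction_on with
    | zero => simp only [map_zero]
    | tmul x y => simp
    | add a b ha hb => simp only [map_add, ha, hb]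
  apply (TensorProduct.prodRight R R X M N).injective
  have h2 := congrArg (TensorProduct.prodRight R R Y M N) hab
  rw [h, h] at h2
  exact Prod.ext (Module.Flat.rTensor_preserves_injective_linearMap g hg (congrArg Prod.fst h2))
    (Module.Flat.rTensor_preserves_injective_linearMap g hg (congrArg Prod.snd h2))

/-- A module over the product of two rings built from projectives. -/
theorem projective_of_projective_prod {R A C M : Type u} [CommRing R] [CommRing A] [CommRing C] [Algebra R A]
    [Algebra R C] [AddCommGroup M] [Module R M] [Module.Projective A (A ⊗[R] M)] [Module.Projective C (C ⊗[R] M)] :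
    Module.Projective (A × C) ((A × C) ⊗[R] M) := by
  classical
  obtain ⟨sA, hA⟩ := Module.projective_def'.1 (inferInstance : Module.Projective A (A ⊗[R] M))
  obtain ⟨sC, hC⟩ := Module.projective_def'.1 (inferInstance : Module.Projective C (C ⊗[R] M))
  let T := (A × C) ⊗[R] M
  let P : T →ₗ[R] A ⊗[R] M := (LinearMap.fst R A C).rTensor M
  let Q : T →ₗ[R] C ⊗[R] M := (LinearMap.snd R A C).rTensor M
  let iA : A ⊗[R] M →ₗ[R] T := (LinearMap.inl R A C).rTensor M
  let iC : C ⊗[R] M →ₗ[R] T := (LinearMap.inr R A C).rTensor M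
  have hP : ∀ (c : A × C) (x : T), P (c • x) = c.1 • P x := fun c x => by
    induction x using TensorProduct.induction_on with
    | zero => simp
    | tmul a m => show (c * a).1 ⊗ₜ[R] m = c.1 • (a.1 ⊗ₜ[R] m); rw [smul_tmul']; rfl
    | add a b ha hb => simp only [smul_add, map_add, ha, hb]
  have hQ : ∀ (c : A × C) (x : T), Q (c • x) = c.2 • Q x := fun c x => by
    induction x using TensorProduct.induction_on with
    | zero => simp
    | tmul a m => show (c * a).2 ⊗ₜ[R] m = c.2 • (a.2 ⊗ₜ[R] m); rw [smul_tmul']; rfl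
    | add a b ha hb => simp only [smul_add, map_add, ha, hb]
  have hiA : ∀ (c : A × C) (x : A ⊗[R] M), iA (c.1 • x) = c • iA x := fun c x => by
    induction x using TensorProduct.induction_on with
    | zero => simp
    | tmul a m =>
      show (c.1 * a, (0 : C)) ⊗ₜ[R] m = (c * (a, (0 : C))) ⊗ₜ[R] m
      congr 1
      ext <;> simp
    | add a b ha hb => simp only [smul_add, map_add, ha, hb]
  have hiC : ∀ (c : A × C) (x : C ⊗[R] M), iC (c.2 • x) = c • iC x := fun c x => by
    induction x using TensorProduct.induction_on with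
    | zero => simp
    | tmul a m =>
      show ((0 : A), c.2 * a) ⊗ₜ[R] m = (c * ((0 : A), a)) ⊗ₜ[R] m
      congr 1
      ext <;> simp
    | add a b ha hb => simp only [smul_add, map_add, ha, hb]
  have hid : ∀ x : T, iA (P x) + iC (Q x) = x := fun x => by
    induction x using TensorProduct.induction_on with
    | zero => simp
    | tmul a m =>
      show (a.1, (0 : C)) ⊗ₜ[R] m + ((0 : A), a.2) ⊗ₜ[R] m = a ⊗ₜ[R] m
      rw [← add_tmul]
      simp
    | add a b ha hb =>
      simp only [map_add]
      rw [add_add_add_comm, ha, hb]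
  -- the free cover
  let qA : ((A ⊗[R] M) →₀ (A × C)) →ₗ[A × C] T := Finsupp.linearCombination (A × C) iA
  let qC : ((C ⊗[R] M) →₀ (A × C)) →ₗ[A × C] T := Finsupp.linearCombination (A × C) iC
  let u : ∀ x : T, (A ⊗[R] M) →₀ (A × C) := fun x => (sA (P x)).mapRange (fun a => (a, 0)) rfl
  let v : ∀ x : T, (C ⊗[R] M) →₀ (A × C) := fun x => (sC (Q x)).mapRange (fun a => (0, a)) rfl
  let uA : T →ₗ[A × C] ((A ⊗[R] M) →₀ (A × C)) :=
    { toFun := u
      map_add' := fun x y => Finsupp.ext fun i => by simp [u, map_add]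
      map_smul' := fun c x => Finsupp.ext fun i => by simp [u, hP, map_smul, Prod.ext_iff] }
  let vC : T →ₗ[A × C] ((C ⊗[R] M) →₀ (A × C)) :=
    { toFun := v
      map_add' := fun x y => Finsupp.ext fun i => by simp [v, map_add]
      map_smul' := fun c x => Finsupp.ext fun i => by simp [v, hQ, map_smul, Prod.ext_iff] }
  have hqA : ∀ y : A ⊗[R] M, qA ((sA y).mapRange (fun a => (a, (0 : C))) rfl) = iA y := by
    intro y
    have key : ∀ w : (A ⊗[R] M) →₀ A, qA (w.mapRange (fun a => (a, (0 : C))) rfl) =
        iA (Finsupp.linearCombination A id w) := by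
      intro w
      induction w using Finsupp.induction_linear with
      | zero => simp
      | add a b ha hb =>
        rw [Finsupp.mapRange_add (fun _ _ => by simp), map_add, map_add, map_add, ha, hb]
      | single i a => simp [qA, ← hiA]
    rw [key, show Finsupp.linearCombination A id (sA y) = y from LinearMap.congr_fun hA y]
  have hqC : ∀ y : C ⊗[R] M, qC ((sC y).mapRange (fun a => ((0 : A), a)) rfl) = iC y := by
    intro y
    have key : ∀ w : (C ⊗[R] M) →₀ C, qC (w.mapRange (fun a => ((0 : A), a)) rfl) =
        iC (Finsupp.linearCombination C id w) := by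
      intro w
      induction w using Finsupp.induction_linear with
      | zero => simp
      | add a b ha hb =>
        rw [Finsupp.mapRange_add (fun _ _ => by simp), map_add, map_add, map_add, ha, hb]
      | single i a => simp [qC, ← hiC]
    rw [key, show Finsupp.linearCombination C id (sC y) = y from LinearMap.congr_fun hC y]
  refine Module.Projective.of_split (uA.prod vC) (qA.coprod qC) (LinearMap.ext fun x => ?_)
  show qA (u x) + qC (v x) = x
  rw [hqA, hqC, hid]

/-- Over a complete Noetherian ring, a flat algebra of finite type with geometrically integral fibres which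
is projective modulo the ideal is projective. -/
theorem projective_geomIntegral_of_complete (A B : Type u) [CommRing A] [IsNoetherianRing A] [CommRing B]
    [Algebra A B] [Algebra.FiniteType A B] [Module.Flat A B] (h : FlatCA.GeomIntegralFibres A B)
    (I : Ideal A) [IsAdicComplete I A] [Module.Projective (A ⧸ I) (B ⧸ (I • ⊤ : Submodule A B))] :
    Module.Projective A B := by
  refine projective_of_complete (S := B) B I fun p q _ _ _ hass => ?_
  haveI : IsDomain (p.Fiber B) := (geomIntegralFibres_iff.1 h) p.ResidueField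
  let e : (p.Fiber B) ⊗[B] B ≃ₗ[p.Fiber B] p.Fiber B := TensorProduct.AlgebraTensorModule.rid B (p.Fiber B) (p.Fiber B)
  have hbot : FlatCA.fiberIdeal p q = ⊥ := by
    have h1 : FlatCA.fiberIdeal p q ∈ associatedPrimes (p.Fiber B) (p.Fiber B) := e.isAssociatedPrime_iff.1 hass
    obtain ⟨hprime, x, hx⟩ := h1
    rcases eq_or_ne x 0 with rfl | hx0
    · refine absurd ?_ hprime.ne_top
      rw [hx, Submodule.colon_singleton_zero, Ideal.radical_top]
    · refine eq_bot_iff.2 fun r hr => ?_
      rw [hx, Ideal.mem_radical_iff] at hr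
      obtain ⟨k, hk⟩ := hr
      rw [Submodule.mem_colon_singleton, Submodule.mem_bot, smul_eq_mul] at hk
      exact eq_zero_of_pow_eq_zero ((mul_eq_zero.1 hk).resolve_right hx0)
  obtain ⟨t, ht, hpt⟩ := Ideal.exists_le_maximal p (Ideal.IsPrime.ne_top ‹_›)
  haveI := ht
  have hIt : I ≤ t := (IsAdicComplete.le_jacobson_bot I).trans (by
    rw [Ideal.jacobson]; exact sInf_le ⟨bot_le, ht⟩)
  haveI : AlgebraicGeometry.GeometricallyIntegral (AlgebraicGeometry.Spec.map (CommRingCat.ofHom (algebraMap A B))) := h
  obtain ⟨Q, hQ⟩ := (AlgebraicGeometry.Scheme.Hom.surjective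
    (AlgebraicGeometry.Spec.map (CommRingCat.ofHom (algebraMap A B)))) (⟨t, ht.isPrime⟩ : PrimeSpectrum A)
  let QI : Ideal B := PrimeSpectrum.asIdeal Q
  haveI : QI.IsPrime := (Q : PrimeSpectrum B).isPrime
  haveI : QI.LiesOver t := ⟨(congrArg PrimeSpectrum.asIdeal hQ).symm⟩
  obtain ⟨Q', hQ'le, hQ'p, hQ'o⟩ := Ideal.exists_ideal_le_liesOver_of_le QI hpt
  intro htop
  refine Ideal.IsPrime.ne_top (inferInstance : QI.IsPrime) (eq_top_iff.2 (htop ▸ sup_le ?_ ?_))
  · exact Ideal.map_le_iff_le_comap.2 (hIt.trans (le_of_eq (Ideal.LiesOver.over (P := QI) (p := t))))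
  · intro s hs
    have h0 : FlatCA.toFiberMod p (S := B) B s = 0 := by
      apply e.injective
      show e ((1 : p.Fiber B) ⊗ₜ[B] s) = e 0
      rw [map_zero]
      have : (1 : p.ResidueField) ⊗ₜ[A] s ∈ FlatCA.fiberIdeal p q := Ideal.mem_map_of_mem _ hs
      rw [hbot, Ideal.mem_bot] at this
      simp only [e, TensorProduct.AlgebraTensorModule.rid_tmul]
      rw [Algebra.smul_def, mul_one]
      exact this
    obtain ⟨r, hr, hrs⟩ := AssFiber.exists_smul_mem_of_toFiberMod_eq_zero p B h0
    refine hQ'le ((hQ'p.mem_or_mem (?_ : algebraMap A B r * s ∈ Q')).resolve_left ?_)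
    · rw [← smul_eq_mul]
      refine (Submodule.smul_le.2 fun a ha b _ => ?_) hrs
      refine Ideal.mul_mem_right b Q' ((Ideal.map_le_iff_le_comap.2 ?_) ha)
      exact le_of_eq hQ'o.over
    · intro hm
      exact hr (by rw [hQ'o.over (p := p)]; exact hm)

/-- The Noetherian induction step. -/
theorem projective_step (R B : Type u) [CommRing R] [IsNoetherianRing R] [CommRing B] [Algebra R B]
    [Algebra.FiniteType R B] [Module.Flat R B] (h : FlatCA.GeomIntegralFibres R B)
    (hind : ∀ f : R, f ≠ 0 → Module.Projective (R ⧸ Ideal.span {f}) ((R ⧸ Ideal.span {f}) ⊗[R] B)) :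
    Module.Projective R B := by
  classical
  by_cases hred : IsReduced R
  swap
  · obtain ⟨f, hfnil, hf0⟩ : ∃ f : R, IsNilpotent f ∧ f ≠ 0 := by
      rw [isReduced_iff] at hred
      push Not at hred
      exact hred
    obtain ⟨π, hπ⟩ : ∃ π : (B →₀ R) →ₗ[R] B, Function.Surjective π :=
      ⟨_, Finsupp.linearCombination_id_surjective R B⟩
    have hI : IsNilpotent (Ideal.span {f}) := by
      obtain ⟨n, hn⟩ := hfnil
      exact ⟨n, by rw [Ideal.span_singleton_pow, hn]; simp⟩
    let K := LinearMap.ker π
    obtain ⟨t, ht⟩ := CAlgOdd.exists_section_of_flat_of_nilpotent (K := K) _ hI π hπ K.subtype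
      K.subtype_injective (LinearMap.exact_subtype_ker_map π) (hind f hf0)
    exact Module.Projective.of_split t π ht
  rcases subsingleton_or_nontrivial R with hsub | hnt
  · haveI : Subsingleton B := Module.subsingleton R B
    infer_instance
  have hfin := minimalPrimes.finite_of_isNoetherianRing R
  obtain ⟨P, hP⟩ : (minimalPrimes R).Nonempty :=
    Set.nonempty_coe_sort.1 (Ideal.nonempty_minimalPrimes (bot_ne_top))
  haveI := hP.1.1
  obtain ⟨g, hgP, hg⟩ : ∃ g : R, g ∉ P ∧ ∀ P' ∈ minimalPrimes R, P' ≠ P → g ∈ P' := by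
    have hne : ∀ P' ∈ (hfin.toFinset.erase P), ∃ x, x ∈ P' ∧ x ∉ P := by
      intro P' hP'
      rw [Finset.mem_erase, Set.Finite.mem_toFinset] at hP'
      by_contra hc
      push Not at hc
      exact hP'.1 (le_antisymm hc (hP.2 hP'.2.1 hc))
    choose x hx using hne
    refine ⟨∏ q ∈ (hfin.toFinset.erase P).attach, x q.1 q.2, ?_, fun P' hP' hne' => ?_⟩
    · intro hmem
      rw [Ideal.IsPrime.prod_mem_iff] at hmem
      obtain ⟨q, -, hq⟩ := hmem
      exact (hx q.1 q.2).2 hq
    · have hm : P' ∈ hfin.toFinset.erase P := by simp [hne', hP']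
      exact Ideal.mem_of_dvd _ (Finset.dvd_prod_of_mem _ (Finset.mem_attach _ ⟨P', hm⟩)) (hx P' hm).1
  have hPg : ∀ a ∈ P, a * g = 0 := fun a ha => by
    have : a * g ∈ (nilradical R) := by
      rw [nilradical, Ideal.radical_eq_sInf, Submodule.mem_sInf]
      rintro J ⟨-, hJ⟩
      obtain ⟨P', hP', hle⟩ := Ideal.exists_minimalPrimes_le (I := (⊥ : Ideal R)) (J := J) bot_le
      refine hle ?_
      by_cases hc : P' = P
      · exact Ideal.mul_mem_right _ _ (hc ▸ ha)
      · exact Ideal.mul_mem_left _ _ (hg P' hP' hc)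
    rw [nilradical_eq_zero R] at this
    simpa using this
  let D := R ⧸ P
  obtain ⟨f0, hf0, hfree, -⟩ := S0389.result (R := D) (S := D ⊗[R] B) (M := D ⊗[R] B)
  obtain ⟨f', rfl⟩ := Ideal.Quotient.mk_surjective f0
  let f := g * f'
  have hfP : f ∉ P := fun hm => ((hP.1.1.mem_or_mem hm).elim hgP
    (fun h' => hf0 (Ideal.Quotient.eq_zero_iff_mem.2 h')))
  have hfne : f ≠ 0 := fun h0 => hfP (h0 ▸ P.zero_mem)
  let L := Localization.Away f
  let I := Ideal.span {f}
  let A := AdicCompletion I R
  -- projectivity over `R_f`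
  have hu : IsUnit (algebraMap R L g) ∧ IsUnit (algebraMap R L f') := by
    have := IsLocalization.Away.algebraMap_isUnit (S := L) f
    rw [← IsUnit.mul_iff, ← map_mul]
    exact this
  let φ₀ : D →ₐ[R] L := Ideal.Quotient.liftₐ P (Algebra.ofId R L) fun a ha => by
    refine (hu.1.mul_left_eq_zero).1 ?_
    show algebraMap R L a * algebraMap R L g = 0
    rw [← map_mul, hPg a ha, map_zero]
  let φ : Localization.Away (Ideal.Quotient.mk P f') →ₐ[R] L :=
    IsLocalization.liftAlgHom (M := Submonoid.powers (Ideal.Quotient.mk P f')) (f := φ₀) (by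
      rintro ⟨_, n, rfl⟩
      show IsUnit (φ₀ (Ideal.Quotient.mk P f' ^ n))
      rw [map_pow]
      exact (show IsUnit (φ₀ (Ideal.Quotient.mk P f')) from hu.2).pow n)
  haveI : Module.Projective (Localization.Away (Ideal.Quotient.mk P f'))
      ((Localization.Away (Ideal.Quotient.mk P f')) ⊗[R] B) := by
    haveI := hfree
    exact Module.Projective.of_equiv (TensorProduct.AlgebraTensorModule.cancelBaseChange R D
      (Localization.Away (Ideal.Quotient.mk P f')) (Localization.Away (Ideal.Quotient.mk P f')) B)
  haveI hL : Module.Projective L (L ⊗[R] B) := projective_tensor_of_algHom φ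
  -- projectivity over the completion
  have hIfg : I.FG := ⟨{f}, by simp [I]⟩
  let IA := I.map (algebraMap R A)
  haveI := AdicCompletion.isAdicComplete_self I hIfg
  haveI : IsNoetherianRing (A ⧸ IA) := isNoetherianRing_of_ringEquiv (R ⧸ I)
    ((RingHom.quotientKerEquivOfSurjective (f := (AdicCompletion.evalOneₐ I).toRingHom)
      (AdicCompletion.evalOneₐ_surjective I)).symm.trans
      (Ideal.quotEquivOfEq (AdicCompletion.ker_evalOneₐ_eq_map I hIfg)))
  haveI : IsNoetherianRing A := LocalCrit.isNoetherianRing_of_isAdicComplete IA (hIfg.map _)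
  haveI := hind f hfne
  haveI : Module.Projective (A ⧸ IA) ((A ⧸ IA) ⊗[R] B) :=
    projective_tensor_of_algHom (Ideal.Quotient.liftₐ I (Algebra.ofId R (A ⧸ IA)) fun a ha => by
      show algebraMap R (A ⧸ IA) a = 0
      rw [IsScalarTower.algebraMap_apply R A (A ⧸ IA), Ideal.Quotient.algebraMap_eq (R := A)]
      exact Ideal.Quotient.eq_zero_iff_mem.2 (Ideal.mem_map_of_mem _ ha))
  haveI : Module.Projective (A ⧸ IA) ((A ⧸ IA) ⊗[A] (A ⊗[R] B)) :=
    Module.Projective.of_equiv (TensorProduct.AlgebraTensorModule.cancelBaseChange R A (A ⧸ IA) (A ⧸ IA) B).symm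
  haveI : Module.Projective (A ⧸ IA) ((A ⊗[R] B) ⧸ (IA • ⊤ : Submodule A (A ⊗[R] B))) :=
    Module.Projective.of_equiv ((TensorProduct.quotTensorEquivQuotSMul (A ⊗[R] B) IA).extendScalarsOfSurjective
      Ideal.Quotient.mk_surjective)
  haveI hA : Module.Projective A (A ⊗[R] B) :=
    projective_geomIntegral_of_complete A (A ⊗[R] B) (geomIntegralFibres_baseChange h A) IA
  -- descent
  haveI := projective_of_projective_prod (R := R) (A := L) (C := A) (M := B)
  haveI : Module.FaithfullyFlat R (L × A) := by
    haveI : Module.Flat R L := IsLocalization.flat L (Submonoid.powers f)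
    haveI : Module.Flat R (L × A) := flat_prod R L A
    refine Module.FaithfullyFlat.of_comap_surjective fun p => ?_
    by_cases hfp : f ∈ p.asIdeal
    · let ψ : L × A →+* R ⧸ p.asIdeal :=
        ((Ideal.Quotient.factor (show I ≤ p.asIdeal from (Ideal.span_singleton_le_iff_mem _).2 hfp)).comp
          (AdicCompletion.evalOneₐ I).toRingHom).comp (RingHom.snd L A)
      refine ⟨⟨RingHom.ker ψ, RingHom.ker_isPrime ψ⟩, PrimeSpectrum.ext ?_⟩
      ext r
      show ψ (algebraMap R (L × A) r) = 0 ↔ _
      rw [show ψ (algebraMap R (L × A) r) = Ideal.Quotient.factor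
        (show I ≤ p.asIdeal from (Ideal.span_singleton_le_iff_mem _).2 hfp)
        (AdicCompletion.evalOneₐ I (algebraMap R A r)) from rfl, AlgHom.commutes, Ideal.Quotient.algebraMap_eq,
        Ideal.Quotient.factor_mk, Ideal.Quotient.eq_zero_iff_mem]
    · have : p ∈ Set.range (PrimeSpectrum.comap (algebraMap R L)) := by
        rw [PrimeSpectrum.localization_away_comap_range L f]
        exact hfp
      obtain ⟨q, hq⟩ := this
      refine ⟨PrimeSpectrum.comap (RingHom.fst L A) q, ?_⟩
      rw [← hq]
      rfl
  exact CAlgUI.projective_descent (S := L × A)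

/-- A flat algebra of finite type with geometrically integral fibres over a Noetherian ring is projective. -/
theorem projective_of_geomIntegralFibres (R B : Type u) [CommRing R] [IsNoetherianRing R] [CommRing B]
    [Algebra R B] [Algebra.FiniteType R B] [Module.Flat R B] (h : FlatCA.GeomIntegralFibres R B) :
    Module.Projective R B := by
  suffices H : ∀ J : Ideal R, Module.Projective (R ⧸ J) ((R ⧸ J) ⊗[R] B) by
    haveI := H ⊥
    haveI := projective_tensor_of_algHom (M := B) (AlgEquiv.quotientBot R R).toAlgHom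
    exact Module.Projective.of_equiv (TensorProduct.lid R B)
  intro J
  induction J using (IsNoetherian.wf (inferInstance : IsNoetherian R R)).induction with
  | _ J ih =>
    refine projective_step (R ⧸ J) ((R ⧸ J) ⊗[R] B) (geomIntegralFibres_baseChange h _) fun f hf => ?_
    let J' : Ideal R := (Ideal.span {f}).comap (Ideal.Quotient.mk J)
    have hlt : J < J' := by
      refine lt_of_le_of_ne (fun a ha => ?_) fun heq => ?_
      · show Ideal.Quotient.mk J a ∈ Ideal.span {f}
        rw [Ideal.Quotient.eq_zero_iff_mem.2 ha]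
        exact zero_mem _
      · obtain ⟨f, rfl⟩ := Ideal.Quotient.mk_surjective f
        refine hf (Ideal.Quotient.eq_zero_iff_mem.2 ?_)
        rw [heq]
        exact Ideal.mem_span_singleton_self (Ideal.Quotient.mk J f)
    haveI := ih J' hlt
    haveI := projective_tensor_of_algHom (M := B) (Ideal.Quotient.liftₐ J'
      (Algebra.ofId R ((R ⧸ J) ⧸ Ideal.span {f})) fun a ha => Ideal.Quotient.eq_zero_iff_mem.2 ha)
    exact Module.Projective.of_equiv (TensorProduct.AlgebraTensorModule.cancelBaseChange R (R ⧸ J)
      ((R ⧸ J) ⧸ Ideal.span {f}) ((R ⧸ J) ⧸ Ideal.span {f}) B).symm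

end Groth.Agent.RG11
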