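import Groth.Agent.RG11.ProjNhd
import Groth.Agent.RG11.FibreNhd
import Mathlib

/-!
# Projective étale covers of a fibre
-/

universe u

set_option linter.style.haveILetI false

namespace Groth.Agent.RG11

open TensorProduct

/-- Projectivity after a base change. -/
theorem projective_restrict_baseChange {R₁ R' S S₁ X : Type u} [CommRing R₁] [CommRing R'] [CommRing S] [CommRing S₁]
    [CommRing X] [Algebra R₁ R'] [Algebra R₁ S₁] [Algebra S S₁] [Algebra R₁ X] [Algebra R' X] [Algebra S₁ X]
    [Algebra S X] [IsScalarTower R₁ R' X] [IsScalarTower R₁ S₁ X] [IsScalarTower S S₁ X]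
    [Algebra.IsPushout R₁ R' S₁ X] (N : Type u) [AddCommGroup N] [Module S N]
    (h : Module.Projective R₁ (RestrictScalars R₁ S₁ (S₁ ⊗[S] N))) :
    Module.Projective R' (RestrictScalars R' X (X ⊗[S] N)) := by
  haveI := h
  let M := S₁ ⊗[S] N
  haveI : Module.Projective R₁ M :=
    Module.Projective.of_equiv (R := R₁)
      ({ RestrictScalars.addEquiv R₁ S₁ M with
          map_smul' := fun r z => (RestrictScalars.addEquiv_map_smul R₁ S₁ M r z).trans (algebraMap_smul S₁ r _) } : RestrictScalars R₁ S₁ M ≃ₗ[R₁] M)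
  haveI : SMulCommClass S₁ R' X := ⟨fun a b c => by simp only [Algebra.smul_def]; ring⟩
  let e₁ : X ⊗[S₁] M ≃ₗ[R'] R' ⊗[R₁] M := Algebra.IsPushout.cancelBaseChange R₁ R' S₁ X M
  let e₂ : X ⊗[S₁] M ≃ₗ[X] X ⊗[S] N := AlgebraTensorModule.cancelBaseChange S S₁ X X N
  let eR := RestrictScalars.addEquiv R' X (X ⊗[S] N)
  let e₃ : X ⊗[S₁] M ≃ₗ[R'] RestrictScalars R' X (X ⊗[S] N) :=
    { e₂.toAddEquiv.trans eR.symm with
      map_smul' := fun r z => by
        show eR.symm (e₂ (r • z)) = r • eR.symm (e₂ z)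
        apply eR.injective
        rw [AddEquiv.apply_symm_apply, RestrictScalars.addEquiv_map_smul, AddEquiv.apply_symm_apply,
          ← algebraMap_smul X r z, map_smul] }
  exact Module.Projective.of_equiv (e₁.symm.trans e₃)

/-- Finite products. -/
theorem projective_restrict_pi {R S : Type u} [CommRing R] [CommRing S] {ι : Type u} [Fintype ι] [DecidableEq ι]
    (X : ι → Type u) [∀ i, CommRing (X i)] [∀ i, Algebra S (X i)] [∀ i, Algebra R (X i)] (N : Type u)
    [AddCommGroup N] [Module S N] (h : ∀ i, Module.Projective R (RestrictScalars R (X i) (X i ⊗[S] N))) :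
    Module.Projective R (RestrictScalars R (∀ i, X i) ((∀ i, X i) ⊗[S] N)) := by
  let P := ∀ i, X i
  let e₀ := TensorProduct.piLeft S N (M := X)
  let eP := RestrictScalars.addEquiv R P (P ⊗[S] N)
  let ei := fun i => RestrictScalars.addEquiv R (X i) (X i ⊗[S] N)
  have hmul : ∀ (x : P) (w : P ⊗[S] N) (i : ι), e₀ (x • w) i = x i • e₀ w i := by
    intro x w i
    induction w using TensorProduct.induction_on with
    | zero => simp
    | add a b ha hb => rw [smul_add, map_add, map_add, Pi.add_apply, Pi.add_apply, ha, hb, smul_add]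
    | tmul c n =>
      have hp : ∀ d : P, e₀ (d ⊗ₜ[S] n) i = d i ⊗ₜ[S] n := fun d => by simp [e₀]
      rw [TensorProduct.smul_tmul', hp, hp, TensorProduct.smul_tmul', smul_eq_mul]
      rfl
  haveI := fun i => h i
  haveI : Module.Projective R (∀ i, RestrictScalars R (X i) (X i ⊗[S] N)) :=
    Module.Projective.of_equiv (DFinsupp.linearEquivFunOnFintype (R := R)
      (M := fun i => RestrictScalars R (X i) (X i ⊗[S] N)))
  let e : RestrictScalars R P (P ⊗[S] N) ≃ₗ[R] ∀ i, RestrictScalars R (X i) (X i ⊗[S] N) :=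
    { eP.trans (e₀.toAddEquiv.trans (AddEquiv.piCongrRight fun i => (ei i).symm)) with
      map_smul' := fun r z => by
        funext i
        show (ei i).symm (e₀ (eP (r • z)) i) = r • (ei i).symm (e₀ (eP z) i)
        apply (ei i).injective
        rw [AddEquiv.apply_symm_apply, RestrictScalars.addEquiv_map_smul, RestrictScalars.addEquiv_map_smul,
          AddEquiv.apply_symm_apply, hmul]
        rfl }
  exact Module.Projective.of_equiv e.symm

set_option maxHeartbeats 1600000 in
/-- A projective étale neighbourhood covering an open of the fibre. -/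
theorem exists_projective_open {R S : Type u} [CommRing R] [CommRing S] [Algebra R S] [Algebra.FinitePresentation R S]
    (N : Type u) [AddCommGroup N] [Module S N] [Module R N] [IsScalarTower R S N] [Module.FinitePresentation S N]
    (p : Ideal R) [p.IsPrime] (q : Ideal S) [q.IsPrime] [q.LiesOver p] (hflat : FlatCA.FlatAt R q N) :
    ∃ (R₁ S₁ : Type u) (_ : CommRing R₁) (_ : CommRing S₁) (_ : Algebra R R₁) (_ : Algebra S S₁) (_ : Algebra R₁ S₁)
      (_ : Algebra R S₁) (_ : IsScalarTower R R₁ S₁) (_ : IsScalarTower R S S₁) (p₁ : Ideal R₁) (_ : p₁.IsPrime),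
      FlatCA.IsEtaleNhd R R₁ p p₁ ∧ Algebra.Etale S S₁ ∧
      Module.Projective R₁ (RestrictScalars R₁ S₁ (S₁ ⊗[S] N)) ∧
      ∃ t ∉ q, ∀ (q' : Ideal S) [q'.IsPrime], q'.LiesOver p → t ∉ q' →
        ∃ Q : Ideal S₁, Q.IsPrime ∧ Q.comap (algebraMap S S₁) = q' ∧ Q.comap (algebraMap R₁ S₁) = p₁ := by
  obtain ⟨R₁, S₁, _, _, _, _, _, _, _, _, p₁, q₁, _, _, hR, hS, hover, hproj⟩ :=
    exists_projective_nhd N p q hflat
  haveI := hR.1
  haveI := hS.1
  haveI : p₁.LiesOver p := hR.2.1
  obtain ⟨h, hh, H⟩ := Ideal.exists_not_mem_forall_mem_of_ne_of_liesOver p p₁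
  let h₁ := algebraMap R₁ S₁ h
  have hq₁ : h₁ ∉ q₁ := fun hm => hh (hover.over.ge hm)
  have hopen := PrimeSpectrum.isOpenMap_comap_of_hasGoingDown_of_finitePresentation (R := S) (S := S₁) _
    (PrimeSpectrum.basicOpen h₁).2
  obtain ⟨_, ⟨t, rfl⟩, ht, hsub⟩ := PrimeSpectrum.isTopologicalBasis_basic_opens.exists_subset_of_mem_open
    (show (⟨q, inferInstance⟩ : PrimeSpectrum S) ∈ PrimeSpectrum.comap (algebraMap S S₁) ''
        (PrimeSpectrum.basicOpen h₁ : Set (PrimeSpectrum S₁)) from
      ⟨⟨q₁, inferInstance⟩, hq₁, PrimeSpectrum.ext hS.2.1.over.symm⟩) hopen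
  refine ⟨R₁, S₁, inferInstance, inferInstance, inferInstance, inferInstance, inferInstance, inferInstance,
    inferInstance, inferInstance, p₁, inferInstance, hR, hS.1, hproj, t, ht, fun q' _ hq' htq' => ?_⟩
  obtain ⟨Q, hQ, hQq⟩ := hsub (show (⟨q', inferInstance⟩ : PrimeSpectrum S) ∈ _ from htq')
  have hQq' : Q.asIdeal.comap (algebraMap S S₁) = q' := congrArg PrimeSpectrum.asIdeal hQq
  refine ⟨Q.asIdeal, Q.2, hQq', by_contra fun hne => hQ ?_⟩
  exact H _ (Ideal.IsPrime.comap _) hne ⟨by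
    rw [Ideal.under_def, Ideal.comap_comap, ← IsScalarTower.algebraMap_eq, IsScalarTower.algebraMap_eq R S S₁,
      ← Ideal.comap_comap, hQq']
    exact hq'.over⟩

set_option maxHeartbeats 1600000 in
/-- Projective étale covers of a fibre along which the module is flat. -/
theorem exists_projective_cover {R S : Type u} [CommRing R] [CommRing S] [Algebra R S] [Algebra.FinitePresentation R S]
    (N : Type u) [AddCommGroup N] [Module S N] [Module R N] [IsScalarTower R S N] [Module.FinitePresentation S N]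
    (p : Ideal R) [p.IsPrime] (hflat : ∀ (q : Ideal S) [q.IsPrime], q.LiesOver p → FlatCA.FlatAt R q N) :
    ∃ (R' S' : Type u) (_ : CommRing R') (_ : CommRing S') (_ : Algebra R R') (_ : Algebra S S') (_ : Algebra R' S')
      (_ : Algebra R S') (_ : IsScalarTower R R' S') (_ : IsScalarTower R S S')
      (p' : Ideal R') (_ : p'.IsPrime),
      FlatCA.IsEtaleNhd R R' p p' ∧ Algebra.Etale S S' ∧
      (∀ (q : Ideal S) [q.IsPrime], q.LiesOver p → ∃ q' : Ideal S', q'.IsPrime ∧ q'.comap (algebraMap S S') = q ∧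
        q'.comap (algebraMap R' S') = p') ∧
      Module.Projective R' (RestrictScalars R' S' (S' ⊗[S] N)) := by
  classical
  let ι := { q : PrimeSpectrum S // q.asIdeal.comap (algebraMap R S) = p }
  have hq : ∀ i : ι, _ := fun i => haveI : i.1.asIdeal.LiesOver p := ⟨i.2.symm⟩
    exists_projective_open N p i.1.asIdeal (hflat i.1.asIdeal inferInstance)
  choose Ri Si c1 c2 c3 c4 c5 c6 c7 c8 pi c9 hn het hproj t ht H using hq
  let J : Ideal S := Ideal.span (Set.range t) ⊔ p.map (algebraMap R S)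
  obtain ⟨u, huJ, hup⟩ : ∃ u ∈ J.comap (algebraMap R S), u ∉ p := by
    by_contra! hne
    have hdisj : Disjoint (J : Set S) (Algebra.algebraMapSubmonoid S p.primeCompl : Set S) := by
      rw [Set.disjoint_left]
      rintro _ hJ ⟨r, hr, rfl⟩
      exact hr (hne r hJ)
    obtain ⟨P, hP, hJP, hdP⟩ := Ideal.exists_le_prime_disjoint J _ hdisj
    have hPp : P.comap (algebraMap R S) = p := le_antisymm
      (fun r hr => by_contra fun h => Set.disjoint_left.1 hdP hr ⟨r, h, rfl⟩)
      (Ideal.map_le_iff_le_comap.1 (le_sup_right.trans hJP))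
    exact ht ⟨⟨P, hP⟩, hPp⟩ (hJP (Ideal.mem_sup_left (Ideal.subset_span ⟨_, rfl⟩)))
  obtain ⟨x, hx, y, hy, hxy⟩ := Submodule.mem_sup.1 huJ
  obtain ⟨T, hT, hxT⟩ := Submodule.mem_span_finite_of_mem_span hx
  obtain ⟨s, -, rfl⟩ : ∃ s : Finset ι, ↑s ⊆ (Set.univ : Set ι) ∧ s.image t = T := by
    refine Finset.subset_set_image_iff.1 ?_
    rwa [Set.image_univ]
  obtain ⟨R', _, _, p', _, hn', he⟩ := exists_common_nhd p Ri pi hn s
  have hp' : TrivExt p p' := TrivExt.of_isEtaleNhd hn'
  haveI := hn'.1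
  choose e hep using fun i : s => he i.1 i.2
  letI : ∀ i : s, Algebra (Ri i.1) R' := fun i => (e i).toRingHom.toAlgebra
  haveI : ∀ i : s, IsScalarTower R (Ri i.1) R' := fun i => IsScalarTower.of_algebraMap_eq fun r => ((e i).commutes r).symm
  let X := fun i : s => R' ⊗[Ri i.1] Si i.1
  letI : ∀ i : s, Algebra (Si i.1) (X i) := fun i => Algebra.TensorProduct.rightAlgebra
  letI : ∀ i : s, Algebra S (X i) := fun i => ((algebraMap (Si i.1) (X i)).comp (algebraMap S (Si i.1))).toAlgebra
  haveI : ∀ i : s, IsScalarTower S (Si i.1) (X i) := fun i => IsScalarTower.of_algebraMap_eq fun _ => rfl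
  haveI hX : ∀ i : s, Algebra.Etale S (X i) := fun i => by
    haveI := het i.1
    haveI := (hn i.1).1
    haveI : Algebra.Etale (Ri i.1) R' := Algebra.Etale.of_restrictScalars R _ _
    haveI : Algebra.Etale (Si i.1) (X i) := Algebra.Etale.of_equiv (Algebra.TensorProduct.commRight (Ri i.1) (Si i.1) R')
    exact Algebra.Etale.comp S (Si i.1) (X i)
  have hinner : ∀ (i : s) (r : R), algebraMap R' (X i) (algebraMap R R' r) = algebraMap S (X i) (algebraMap R S r) := by
    intro i r
    show _ = algebraMap (Si i.1) (X i) (algebraMap S (Si i.1) (algebraMap R S r))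
    rw [← IsScalarTower.algebraMap_apply R S (Si i.1), IsScalarTower.algebraMap_apply R (Ri i.1) (Si i.1),
      IsScalarTower.algebraMap_apply R (Ri i.1) R', ← IsScalarTower.algebraMap_apply (Ri i.1) R' (X i)]
    exact ((Algebra.TensorProduct.includeRight : Si i.1 →ₐ[Ri i.1] X i).commutes _).symm
  let P := ∀ i : s, X i
  haveI : IsScalarTower R S P := IsScalarTower.of_algebraMap_eq (R := R) (S := S) (A := P) fun r => funext fun i =>
    ((IsScalarTower.algebraMap_apply R R' (X i) r).trans (hinner i r) :)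
  have hprojX : ∀ i : s, Module.Projective R' (RestrictScalars R' (X i) (X i ⊗[S] N)) := fun i =>
    projective_restrict_baseChange (R₁ := Ri i.1) (S₁ := Si i.1) N (hproj i.1)
  refine ⟨R', P, inferInstance, inferInstance, inferInstance, inferInstance, inferInstance, inferInstance,
    inferInstance, inferInstance, p', inferInstance, hn', inferInstance, fun q _ hqp => ?_,
    projective_restrict_pi X N hprojX⟩
  obtain ⟨i, hi⟩ : ∃ i : s, t i.1 ∉ q := by
    by_contra! hall
    refine hup (hqp.over.ge ?_)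
    rw [Ideal.mem_comap, ← hxy]
    refine add_mem ?_ (Ideal.map_le_iff_le_comap.2 hqp.over.le hy)
    refine (Submodule.span_le.2 ?_) hxT
    intro w hw
    obtain ⟨i, hi, rfl⟩ := Finset.mem_image.1 hw
    exact hall ⟨i, hi⟩
  obtain ⟨Q, hQ, hQq, hQp⟩ := H i.1 q hqp hi
  haveI := hQ
  have hpi : TrivExt p (pi i.1) := TrivExt.of_isEtaleNhd (hn i.1)
  have hpi' : TrivExt (pi i.1) p' := ⟨hep i, fun r => by
    obtain ⟨a, b, ha, hab⟩ := hp'.exists_sub_mem r
    refine ⟨algebraMap R (Ri i.1) a, algebraMap R (Ri i.1) b, (hpi.not_mem_iff a).2 ha, ?_⟩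
    rwa [← IsScalarTower.algebraMap_apply, ← IsScalarTower.algebraMap_apply]⟩
  obtain ⟨W, hW, hWp, hWQ⟩ := exists_prime_over (T := Si i.1) hpi' Q hQp
  haveI := hW
  refine ⟨W.comap (Pi.evalRingHom X i), Ideal.IsPrime.comap _, ?_, ?_⟩
  · rw [Ideal.comap_comap, ← hQq, ← hWQ, Ideal.comap_comap]
    rfl
  · rw [Ideal.comap_comap, ← hWp]
    rfl

end Groth.Agent.RG11
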