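import Groth.Agent.RG11.DevProj
import Groth.Agent.RG11.LocalNhd
import Groth.Agent.FlatModel.Open
import Mathlib

/-!
# Projectivity after étale localisation at a flat point
-/

universe u

set_option linter.style.haveILetI false

namespace Groth.Agent.RG11

open TensorProduct
open FlatFibres (fibSupp)

/-- An element killed by a power of a unit action is killed in the tensor product. -/
theorem lTensor_bijective_of_isUnit {S T X Y : Type u} [CommRing S] [CommRing T] [Algebra S T] [Module.Flat S T]
    [AddCommGroup X] [Module S X] [AddCommGroup Y] [Module S Y] (d : S) (hd : IsUnit (algebraMap S T d))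
    (g : X →ₗ[S] Y) [IsLocalizedModule (Submonoid.powers d) g] :
    Function.Bijective (g.lTensor T) := by
  have hmul : ∀ (k : ℕ) (c : T), ∃ c' : T, c = d ^ k • c' := fun k c => by
    obtain ⟨v, hv⟩ := (hd.pow k).exists_right_inv
    exact ⟨v * c, by rw [Algebra.smul_def, map_pow, ← mul_assoc, hv, one_mul]⟩
  constructor
  · rw [injective_iff_map_eq_zero]
    intro z hz
    obtain ⟨w, rfl⟩ := ((Module.Flat.lTensor_exact T (LinearMap.exact_subtype_ker_map g)) z).1 hz
    clear hz
    induction w using TensorProduct.induction_on with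
    | zero => rw [map_zero]
    | add a b ha hb => rw [map_add, ha, hb, add_zero]
    | tmul c x =>
      obtain ⟨x, hx⟩ := x
      obtain ⟨⟨_, k, rfl⟩, hk⟩ := (IsLocalizedModule.eq_zero_iff (Submonoid.powers d) g).1 hx
      obtain ⟨c', rfl⟩ := hmul k c
      rw [LinearMap.lTensor_tmul, Submodule.subtype_apply, TensorProduct.smul_tmul,
        show d ^ k • x = 0 from hk, TensorProduct.tmul_zero]
  · intro z
    induction z using TensorProduct.induction_on with
    | zero => exact ⟨0, map_zero _⟩
    | add a b ha hb =>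
      obtain ⟨a', rfl⟩ := ha
      obtain ⟨b', rfl⟩ := hb
      exact ⟨a' + b', map_add _ _ _⟩
    | tmul c y =>
      obtain ⟨⟨x, _, k, rfl⟩, hx⟩ := IsLocalizedModule.surj (Submonoid.powers d) g y
      obtain ⟨c', rfl⟩ := hmul k c
      exact ⟨c' ⊗ₜ x, by rw [LinearMap.lTensor_tmul, ← hx, TensorProduct.smul_tmul]; rfl⟩

/-- A base change to a flat algebra in which `d` is invertible is flat when the localisation at `d` is. -/
theorem flat_tensor_of_away {R S T : Type u} [CommRing R] [CommRing S] [CommRing T] [Algebra R S] [Algebra S T]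
    [Algebra R T] [IsScalarTower R S T] [Module.Flat S T] (N : Type u) [AddCommGroup N] [Module S N] [Module R N]
    [IsScalarTower R S N] (d : S) (hd : IsUnit (algebraMap S T d))
    [Module.Flat R (LocalizedModule (Submonoid.powers d) N)] : Module.Flat R (T ⊗[S] N) := by
  let Nd := LocalizedModule (Submonoid.powers d) N
  haveI : Module.Flat R (T ⊗[S] Nd) :=
    FlatFibres.flat_of_isBaseChange (R := R) (TensorProduct.mk S T Nd 1) (TensorProduct.isBaseChange S Nd T)
  let g := AlgebraTensorModule.lTensor T T (LocalizedModule.mkLinearMap (Submonoid.powers d) N)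
  have hg : Function.Bijective g := lTensor_bijective_of_isUnit d hd _
  exact Module.Flat.of_linearEquiv ((LinearEquiv.ofBijective g hg).restrictScalars R)

set_option maxHeartbeats 1600000 in
/-- At a flat point a module becomes projective on étale neighbourhoods. -/
theorem exists_projective_nhd {R S : Type u} [CommRing R] [CommRing S] [Algebra R S] [Algebra.FinitePresentation R S]
    (N : Type u) [AddCommGroup N] [Module S N] [Module R N] [IsScalarTower R S N] [Module.FinitePresentation S N]
    (p : Ideal R) [p.IsPrime] (q : Ideal S) [q.IsPrime] [q.LiesOver p] (hflat : FlatCA.FlatAt R q N) :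
    ∃ (R' S' : Type u) (_ : CommRing R') (_ : CommRing S') (_ : Algebra R R') (_ : Algebra S S') (_ : Algebra R' S')
      (_ : Algebra R S') (_ : IsScalarTower R R' S') (_ : IsScalarTower R S S')
      (p' : Ideal R') (q' : Ideal S') (_ : p'.IsPrime) (_ : q'.IsPrime),
      FlatCA.IsEtaleNhd R R' p p' ∧ FlatCA.IsEtaleNhd S S' q q' ∧ q'.LiesOver p' ∧
      Module.Projective R' (RestrictScalars R' S' (S' ⊗[S] N)) := by
  by_cases hsupp : (⟨q, inferInstance⟩ : PrimeSpectrum S) ∈ Module.support S N
  swap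
  · rw [Module.support_eq_zeroLocus, PrimeSpectrum.mem_zeroLocus, Set.not_subset] at hsupp
    obtain ⟨d, hd, hdq⟩ := hsupp
    let S' := Localization.Away d
    have hdis : Disjoint (Submonoid.powers d : Set S) q := (Ideal.disjoint_powers_iff_notMem_of_isPrime _).2 hdq
    haveI : (q.map (algebraMap S S')).IsPrime :=
      IsLocalization.isPrime_of_isPrime_disjoint (Submonoid.powers d) _ _ inferInstance hdis
    have hqS : TrivExt q (q.map (algebraMap S S')) := TrivExt.of_localization d hdq
    haveI : Algebra.Etale S S' := Algebra.Etale.of_isLocalizationAway d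
    haveI : Subsingleton (S' ⊗[S] N) := subsingleton_of_forall_eq 0 fun w => by
      induction w using TensorProduct.induction_on with
      | zero => rfl
      | add a b ha hb => rw [ha, hb, add_zero]
      | tmul c m =>
        refine (IsLocalization.Away.algebraMap_isUnit (S := S') d).smul_eq_zero.1 ?_
        rw [algebraMap_smul, ← TensorProduct.tmul_smul, Module.mem_annihilator.1 hd m, TensorProduct.tmul_zero]
    haveI : Subsingleton (RestrictScalars R S' (S' ⊗[S] N)) :=
      (RestrictScalars.addEquiv R S' (S' ⊗[S] N)).toEquiv.subsingleton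
    refine ⟨R, S', inferInstance, inferInstance, Algebra.id R, inferInstance, inferInstance, inferInstance,
      inferInstance, inferInstance, p, q.map (algebraMap S S'), inferInstance, inferInstance,
      (TrivExt.of_surjective Function.surjective_id (Ideal.comap_id _)).isEtaleNhd, hqS.isEtaleNhd, ⟨?_⟩,
      inferInstance⟩
    rw [Ideal.under_def, IsScalarTower.algebraMap_eq R S S', ← Ideal.comap_comap, hqS.comap_eq]
    exact Ideal.LiesOver.over
  letI : Algebra p.ResidueField q.ResidueField :=
    (Ideal.ResidueField.mapₐ p q (Algebra.ofId R S) (Ideal.LiesOver.over (P := q) (p := p))).toRingHom.toAlgebra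
  haveI : IsScalarTower R p.ResidueField q.ResidueField := IsScalarTower.of_algebraMap_eq fun r =>
    ((Ideal.ResidueField.mapₐ p q (Algebra.ofId R S) (Ideal.LiesOver.over (P := q) (p := p))).commutes r).symm
  have hq : (⟨q, inferInstance⟩ : PrimeSpectrum S) ∈ fibSupp p S N := ⟨hsupp, (Ideal.LiesOver.over (P := q) (p := p)).symm⟩
  obtain ⟨h, c, hh, -, -⟩ := exists_dims N p q.ResidueField (IsScalarTower.toAlgHom R S q.ResidueField)
    (isAlgebraic_residueField q) ⟨_, hq⟩ (Ideal.ker_algebraMap_residueField q)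
  obtain ⟨R₁, S₁, N₁, _, _, _, _, _, _, _, _, _, p₁, q₁, _, _, φ, hetR₁, hetS₁, hp₁, hq₁, hq₁p, hRS, hφ, hgood⟩ :=
    exists_hasGood h N p q hq hh.le
  haveI := hetR₁
  haveI := hetS₁
  obtain ⟨d, hdq, hdflat⟩ := FlatModel.exists_flat_nhd N q hflat
  haveI hflatd := hdflat _ (Submonoid.mem_powers d)
  have h11 : TrivExt p₁ p₁ := TrivExt.of_surjective Function.surjective_id (Ideal.comap_id _)
  obtain ⟨q₃, hq₃pr, hq₃p, hq₃q⟩ := exists_prime_over (T := S₁) h11 q₁ hq₁p
  haveI := hq₃pr
  let d₃ : R₁ ⊗[R₁] S₁ := incR R₁ (algebraMap S S₁ d)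
  have hd₃ : d₃ ∉ q₃ := fun h => hdq (hq₁.comap_eq.le (show algebraMap S S₁ d ∈ q₁ from hq₃q.le h))
  obtain ⟨f₀, hf₀, s, hds, hs, H⟩ := hgood R₁ p₁ h11 q₃ hq₃p hq₃q d₃ hd₃
  -- invert `f₀`
  let R₄ := Localization.Away f₀
  haveI : Algebra.Etale R₁ R₄ := Algebra.Etale.of_isLocalizationAway f₀
  let e : R₁ →ₐ[R₁] R₄ := Algebra.ofId R₁ R₄
  have hef : IsUnit (e f₀) := IsLocalization.Away.algebraMap_isUnit f₀
  haveI hp₄pr : (p₁.map (algebraMap R₁ R₄)).IsPrime :=
    IsLocalization.isPrime_of_isPrime_disjoint (Submonoid.powers f₀) _ _ inferInstance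
      ((Ideal.disjoint_powers_iff_notMem_of_isPrime _).2 hf₀)
  let p₄ := p₁.map (algebraMap R₁ R₄)
  have h₄ : TrivExt p₁ p₄ := TrivExt.of_localization f₀ hf₀
  let Y := R₄ ⊗[R₁] S₁
  let s₄ := Algebra.TensorProduct.map e (AlgHom.id R₁ S₁) s
  obtain ⟨S₄, _, _, _, _, _⟩ : ∃ (S₄ : Type u) (_ : CommRing S₄) (_ : Algebra Y S₄) (_ : Algebra R₄ S₄)
      (_ : IsScalarTower R₄ Y S₄), IsLocalization.Away s₄ S₄ :=
    ⟨Localization.Away s₄, inferInstance, inferInstance, inferInstance, inferInstance, inferInstance⟩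
  letI : Algebra S₁ S₄ := ((algebraMap Y S₄).comp (incR R₄)).toAlgebra
  obtain ⟨q₄, hq₄pr, hq₄p, hq₄q, hq₄t, -⟩ := exists_point_away h₄ s₄ (B := S₄) rfl q₁ hq₁p (fun W hW hWp hWq hsW => by
    haveI := hW
    exact hs ((comap_map_eq e h11 h₄.comap_eq q₃ W hq₃p hWp (hq₃q.trans hWq.symm)).le hsW))
  haveI := hq₄pr
  -- `S → S₄` is étale
  letI : Algebra S₁ Y := (incR R₄).toAlgebra
  haveI : IsScalarTower S₁ Y S₄ := IsScalarTower.of_algebraMap_eq fun _ => rfl
  haveI : Algebra.Etale S₁ Y := Algebra.Etale.of_equiv (Algebra.TensorProduct.commRight R₁ S₁ R₄)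
  haveI : Algebra.Etale Y S₄ := Algebra.Etale.of_isLocalizationAway s₄
  haveI : Algebra.Etale S₁ S₄ := Algebra.Etale.comp S₁ Y S₄
  letI : Algebra S S₄ := ((algebraMap S₁ S₄).comp (algebraMap S S₁)).toAlgebra
  haveI : IsScalarTower S S₁ S₄ := IsScalarTower.of_algebraMap_eq fun _ => rfl
  haveI : Algebra.Etale S S₄ := Algebra.Etale.comp S S₁ S₄
  letI : Algebra R S₄ := ((algebraMap R₄ S₄).comp (algebraMap R R₄)).toAlgebra
  haveI : IsScalarTower R R₄ S₄ := IsScalarTower.of_algebraMap_eq fun _ => rfl
  haveI : IsScalarTower R S S₄ := IsScalarTower.of_algebraMap_eq fun r => by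
    show algebraMap R₄ S₄ (algebraMap R R₄ r) = algebraMap Y S₄ (incR R₄ (algebraMap S S₁ (algebraMap R S r)))
    rw [← hRS, IsScalarTower.algebraMap_apply R R₁ R₄, IsScalarTower.algebraMap_apply R₄ Y S₄,
      ← IsScalarTower.algebraMap_apply R₁ R₄ Y]
    exact congrArg _ ((Algebra.TensorProduct.includeRight : S₁ →ₐ[R₁] Y).commutes _).symm
  haveI : Algebra.FinitePresentation R S₄ := Algebra.FinitePresentation.trans R S S₄
  haveI : Algebra.Etale R R₄ := Algebra.Etale.comp R R₁ R₄
  haveI : Algebra.FinitePresentation R₄ S₄ := Algebra.FinitePresentation.of_restrict_scalars_finitePresentation R _ _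
  -- `d` becomes invertible
  have hdu : IsUnit (algebraMap S S₄ d) := by
    have h1 : algebraMap Y S₄ (Algebra.TensorProduct.map e (AlgHom.id R₁ S₁) d₃) = algebraMap S S₄ d :=
      congrArg (algebraMap Y S₄) (show Algebra.TensorProduct.map e (AlgHom.id R₁ S₁) ((1 : R₁) ⊗ₜ[R₁] algebraMap S S₁ d) = _ by
        rw [Algebra.TensorProduct.map_tmul, map_one]; rfl)
    rw [← h1]
    exact isUnit_of_dvd_unit (map_dvd _ (map_dvd _ hds)) (IsLocalization.Away.algebraMap_isUnit s₄)
  -- the module
  let N₄ := S₄ ⊗[S] N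
  haveI : Module.Flat R N₄ := flat_tensor_of_away N d hdu
  haveI : Module.Flat R₄ N₄ := Algebra.FormallyUnramified.flat_of_restrictScalars R R₄ N₄
  let ψ : N₁ →ₗ[S₁] N₄ := hφ.lift (TensorProduct.mk S S₄ N 1)
  have hψ : IsBaseChange S₄ ψ :=
    IsBaseChange.of_comp hφ (by
      rw [show (ψ.restrictScalars S) ∘ₗ φ = TensorProduct.mk S S₄ N 1 from hφ.lift_comp _]
      exact TensorProduct.isBaseChange S N S₄)
  obtain ⟨D, -⟩ := H R₄ e p₄ h₄ h₄.comap_eq hef S₄ rfl q₄ hq₄p hq₄q N₄ ψ hψ
  obtain ⟨f, hf, ⟨eqv⟩, hprojB⟩ := exists_spread_devissage (R := R₄) N₄ p₄ D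
  haveI : Module.Projective (Localization.Away f) (LocalizedModule (Submonoid.powers f) N₄) := by
    haveI : ∀ i : Fin D.n, Module.Projective (Localization.Away f)
        (LocalizedModule (Submonoid.powers f) (Fin (D.r i) → D.B i)) := fun i => by
      haveI := hprojB i i.isLt
      haveI : Module.Projective R₄ (Fin (D.r i) → D.B i) :=
        Module.Projective.of_equiv (DFinsupp.linearEquivFunOnFintype (R := R₄) (M := fun _ : Fin (D.r i) => D.B i))
      exact Module.projective_of_isLocalizedModule (Submonoid.powers f)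
        (LocalizedModule.mkLinearMap (Submonoid.powers f) (Fin (D.r i) → D.B i))
    haveI := Module.Projective.of_equiv (DFinsupp.linearEquivFunOnFintype (R := Localization.Away f)
      (M := fun i : Fin D.n => LocalizedModule (Submonoid.powers f) (Fin (D.r i) → D.B i)))
    exact Module.Projective.of_equiv (LinearEquiv.extendScalarsOfIsLocalization (Submonoid.powers f) _ eqv).symm
  -- the neighbourhoods
  let R' := Localization.Away f
  let f' := algebraMap R₄ S₄ f
  obtain ⟨S', _, _, _⟩ : ∃ (S' : Type u) (_ : CommRing S') (_ : Algebra S₄ S'), IsLocalization.Away f' S' :=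
    ⟨Localization.Away f', inferInstance, inferInstance, inferInstance⟩
  letI : Algebra R₄ S' := ((algebraMap S₄ S').comp (algebraMap R₄ S₄)).toAlgebra
  haveI : IsScalarTower R₄ S₄ S' := IsScalarTower.of_algebraMap_eq fun _ => rfl
  letI : Algebra R' S' :=
    (IsLocalization.Away.lift (S := R') f (g := algebraMap R₄ S') (IsLocalization.Away.algebraMap_isUnit f')).toAlgebra
  haveI : IsScalarTower R₄ R' S' := IsScalarTower.of_algebraMap_eq (R := R₄) (S := R') (A := S') fun r =>
    (IsLocalization.Away.lift_eq f (IsLocalization.Away.algebraMap_isUnit f') r).symm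
  haveI : Algebra.Etale R₄ R' := Algebra.Etale.of_isLocalizationAway f
  haveI : Algebra.Etale R R' := Algebra.Etale.comp R R₄ R'
  haveI : Algebra.Etale S₄ S' := Algebra.Etale.of_isLocalizationAway f'
  letI : Algebra S S' := ((algebraMap S₄ S').comp (algebraMap S S₄)).toAlgebra
  haveI : IsScalarTower S S₄ S' := IsScalarTower.of_algebraMap_eq fun _ => rfl
  letI : Algebra R S' := ((algebraMap R₄ S').comp (algebraMap R R₄)).toAlgebra
  haveI : IsScalarTower R R₄ S' := IsScalarTower.of_algebraMap_eq fun _ => rfl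
  haveI : IsScalarTower R S₄ S' := IsScalarTower.of_algebraMap_eq fun r => by
    show algebraMap S₄ S' (algebraMap R₄ S₄ (algebraMap R R₄ r)) = _
    rw [← IsScalarTower.algebraMap_apply R R₄ S₄]
  haveI : Algebra.Etale S S' := Algebra.Etale.comp S S₄ S'
  haveI : IsScalarTower R R' S' := IsScalarTower.of_algebraMap_eq (R := R) (S := R') (A := S') fun r => by
    rw [IsScalarTower.algebraMap_apply R R₄ R', ← IsScalarTower.algebraMap_apply R₄ R' S',
      IsScalarTower.algebraMap_apply R₄ S₄ S', IsScalarTower.algebraMap_apply R S₄ S',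
      IsScalarTower.algebraMap_apply R R₄ S₄]
  haveI : IsScalarTower R S S' := IsScalarTower.of_algebraMap_eq fun r => by
    rw [IsScalarTower.algebraMap_apply R S₄ S', IsScalarTower.algebraMap_apply S S₄ S',
      ← IsScalarTower.algebraMap_apply R S S₄]
  have hf'q : f' ∉ q₄ := fun h => hf (hq₄p.le (Ideal.mem_comap.2 h))
  haveI : (p₄.map (algebraMap R₄ R')).IsPrime :=
    IsLocalization.isPrime_of_isPrime_disjoint (Submonoid.powers f) _ _ inferInstance
      ((Ideal.disjoint_powers_iff_notMem_of_isPrime _).2 hf)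
  haveI : (q₄.map (algebraMap S₄ S')).IsPrime :=
    IsLocalization.isPrime_of_isPrime_disjoint (Submonoid.powers f') _ _ inferInstance
      ((Ideal.disjoint_powers_iff_notMem_of_isPrime _).2 hf'q)
  have hp' : TrivExt p₄ (p₄.map (algebraMap R₄ R')) := TrivExt.of_localization f hf
  have hq' : TrivExt q₄ (q₄.map (algebraMap S₄ S')) := TrivExt.of_localization f' hf'q
  have hpR : TrivExt p (p₄.map (algebraMap R₄ R')) := (hp₁.trans h₄).trans hp'
  have hqS : TrivExt q (q₄.map (algebraMap S₄ S')) := (hq₁.trans hq₄t).trans hq'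
  refine ⟨R', S', inferInstance, inferInstance, inferInstance, inferInstance, inferInstance, inferInstance,
    inferInstance, inferInstance, p₄.map (algebraMap R₄ R'), q₄.map (algebraMap S₄ S'), inferInstance, inferInstance,
    hpR.isEtaleNhd, hqS.isEtaleNhd, ⟨?_⟩, ?_⟩
  · have hW : ((q₄.map (algebraMap S₄ S')).comap (algebraMap R' S')).comap (algebraMap R₄ R') = p₄ := by
      rw [Ideal.comap_comap, ← IsScalarTower.algebraMap_eq, IsScalarTower.algebraMap_eq R₄ S₄ S', ← Ideal.comap_comap,
        hq'.comap_eq, hq₄p]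
    have h2 := IsLocalization.map_comap (Submonoid.powers f) R'
      ((q₄.map (algebraMap S₄ S')).comap (algebraMap R' S'))
    rw [Ideal.under_def, hW] at h2
    exact h2
  · -- projectivity
    haveI : IsLocalizedModule (Submonoid.powers f') (TensorProduct.mk S₄ S' N₄ 1) :=
      (isLocalizedModule_iff_isBaseChange (Submonoid.powers f') S' _).2 (TensorProduct.isBaseChange S₄ N₄ S')
    haveI : IsLocalizedModule (Submonoid.powers f) ((TensorProduct.mk S₄ S' N₄ 1).restrictScalars R₄) :=
      IsLocalizedModule.restrictScalars_powers (A := S₄) f _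
    let e₁ : LocalizedModule (Submonoid.powers f) N₄ ≃ₗ[R₄] S' ⊗[S₄] N₄ :=
      IsLocalizedModule.linearEquiv (Submonoid.powers f) (LocalizedModule.mkLinearMap _ N₄)
        ((TensorProduct.mk S₄ S' N₄ 1).restrictScalars R₄)
    let e₂ : S' ⊗[S₄] N₄ ≃ₗ[S'] S' ⊗[S] N := AlgebraTensorModule.cancelBaseChange S S₄ S' S' N
    let eR := RestrictScalars.addEquiv R' S' (S' ⊗[S] N)
    let e₂' : S' ⊗[S₄] N₄ ≃ₗ[R'] RestrictScalars R' S' (S' ⊗[S] N) :=
      { e₂.toAddEquiv.trans eR.symm with
        map_smul' := fun r x => by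
          show eR.symm (e₂ (r • x)) = r • eR.symm (e₂ x)
          apply eR.injective
          rw [AddEquiv.apply_symm_apply, RestrictScalars.addEquiv_map_smul, AddEquiv.apply_symm_apply,
            ← algebraMap_smul S' r x, map_smul] }
    exact Module.Projective.of_equiv ((LinearEquiv.extendScalarsOfIsLocalization (Submonoid.powers f) R' e₁).trans e₂')

end Groth.Agent.RG11
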