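import Groth.Agent.RG11.PureTest
import Groth.Agent.RG11.ChainFree
import Mathlib

/-!
# Purity forces freeness along a complete dévissage
-/

universe u

set_option linter.style.haveILetI false

namespace Groth.Agent.RG11

open TensorProduct IsLocalRing

section Aux

variable {R : Type u} [CommRing R] [IsLocalRing R] {S S' : Type u} [CommRing S] [CommRing S'] {W : Submonoid S}
  {V : Submonoid S'} {M : Type u} [AddCommGroup M] [Module R M] [Module S M] [Module S' M] [SMulCommClass R S M]
  [SMulCommClass R S' M]

/-- Restriction of the test along a ring map. -/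
theorem PurePowers.restrict (f : S →+* S') (hf : ∀ (s : S) (m : M), f s • m = s • m) (h : PurePowers R V M)
    (hW : ∀ w ∈ W, f w ∈ V) (hd : ∀ v ∈ V, ∃ c : S', ∃ w ∈ W, c * v = f w) : PurePowers R W M := by
  have h' : PurePowers R (W.map f) M := h.of_dvd (by rintro _ ⟨w, hw, rfl⟩; exact hW w hw) fun v hv => by
    obtain ⟨c, w, hw, e⟩ := hd v hv
    exact ⟨c, w, hw, e.symm⟩
  intro d n y hy Q _ _ x ⟨w, hw, hx⟩
  have hd : ∀ (s : S) (v : Fin d → M), f s • v = s • v := fun s v => funext fun k => hf s (v k)
  refine h' d n y (fun a ⟨v, hv, ha⟩ => ?_) Q x ⟨f w, ⟨w, hw, rfl⟩, ?_⟩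
  · obtain ⟨s, hs, rfl⟩ := hv
    exact hy a ⟨s, hs, by rwa [← hd]⟩
  · rw [← hx, Finset.smul_sum, Finset.smul_sum]
    exact Finset.sum_congr rfl fun i _ => by rw [TensorProduct.smul_tmul', TensorProduct.smul_tmul', hd]

omit [Module S' M] [SMulCommClass R S' M] in
/-- The test itself, from its powers. -/
theorem PurePowers.one (h : PurePowers R W M) : PureTest R W M :=
  (h 1).congr (RingHom.id S) ((LinearEquiv.funUnique (Fin 1) R M)) (fun _ _ => rfl) W.map_id.symm

omit [Module S' M] [SMulCommClass R S' M] in
/-- Cokernels, for all powers. -/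
theorem PurePowers.coker {L : Type u} [AddCommGroup L] [Module R L] [Module.Free R L] (h : PurePowers R W M)
    (f : L →ₗ[R] M)
    (hf : ∀ l, (∃ w ∈ W, w • f l ∈ maximalIdeal R • (⊤ : Submodule R M)) → l ∈ maximalIdeal R • (⊤ : Submodule R L))
    (C : Type u) [AddCommGroup C] [Module R C] [Module S C] [SMulCommClass R S C] (π : M →ₗ[R] C)
    (hπS : ∀ (s : S) m, π (s • m) = s • π m) (hπ : Function.Surjective π) (hex : Function.Exact f π) :
    PurePowers R W C := by
  intro d
  refine PureTest.coker (h d) (LinearMap.pi fun k => f ∘ₗ LinearMap.proj k) (fun l ⟨w, hw, hl⟩ => ?_) (Fin d → C)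
    (LinearMap.pi fun k => π ∘ₗ LinearMap.proj k) (fun s m => funext fun k => hπS s (m k))
    (fun c => ⟨fun k => (hπ (c k)).choose, funext fun k => (hπ (c k)).choose_spec⟩) (fun m => ?_)
  · rw [← Finset.univ_sum_single l]
    exact Submodule.sum_mem _ fun k _ => map_mem_smul_top (LinearMap.single R (fun _ : Fin d => L) k)
      (hf _ ⟨w, hw, map_mem_smul_top (LinearMap.proj k : (Fin d → M) →ₗ[R] M) hl⟩)
  · constructor
    · intro hm
      choose l hl using fun k => (hex (m k)).1 (congrFun hm k)
      exact ⟨l, funext hl⟩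
    · rintro ⟨l, rfl⟩
      exact funext fun k => hex.apply_apply_eq_zero (l k)

end Aux

/-- Elements off the only prime over `q` divide elements off `q`. -/
theorem exists_mul_eq_of_unique {S T : Type u} [CommRing S] [CommRing T] [Algebra S T] [Algebra.IsIntegral S T]
    (q : Ideal S) [q.IsPrime] (z : Ideal T) [z.IsPrime]
    (huniq : ∀ r : Ideal T, r.IsPrime → r.comap (algebraMap S T) = q → r = z) (t : T) (ht : t ∉ z) :
    ∃ c : T, ∃ s ∈ q.primeCompl, c * t = algebraMap S T s := by
  by_contra! hne
  have hdisj : Disjoint (Ideal.span {t} : Set T) (q.primeCompl.map (algebraMap S T)) := by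
    rw [Set.disjoint_left]
    rintro _ hx ⟨s, hs, rfl⟩
    obtain ⟨c, hc⟩ := Ideal.mem_span_singleton'.1 hx
    exact hne c s hs hc
  obtain ⟨r₀, hr₀, htr, hd⟩ := Ideal.exists_le_prime_disjoint _ _ hdisj
  have hle : r₀.comap (algebraMap S T) ≤ q := fun s hs => by
    by_contra h'
    exact Set.disjoint_left.1 hd hs ⟨s, h', rfl⟩
  obtain ⟨r, hr₀r, hr, hrq⟩ := Ideal.exists_ideal_over_prime_of_isIntegral q r₀ hle
  obtain rfl := huniq r hr hrq
  exact ht (hr₀r (htr (Ideal.mem_span_singleton_self t)))

/-- The dévissage map is injective modulo `𝔪` at the point. -/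
theorem mem_smul_top_of_fibre_bijective {R B M : Type u} [CommRing R] [IsLocalRing R] [CommRing B] [Algebra R B]
    [AddCommGroup M] [Module R M] [Module B M] [IsScalarTower R B M]
    [hP : ((maximalIdeal R).map (algebraMap R B)).IsPrime] {r : ℕ} (α : (Fin r → B) →ₗ[B] M)
    (hα : Function.Bijective (α.baseChange ((maximalIdeal R).map (algebraMap R B)).ResidueField))
    (qB : Ideal B) [qB.IsPrime] [qB.LiesOver (maximalIdeal R)] (x : Fin r → B)
    (hx : ∃ w ∈ qB.primeCompl, w • α x ∈ maximalIdeal R • (⊤ : Submodule R M)) :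
    x ∈ maximalIdeal R • (⊤ : Submodule R (Fin r → B)) := by
  set P := (maximalIdeal R).map (algebraMap R B) with hPdef
  let T := P.ResidueField
  have hle : P ≤ qB := Ideal.map_le_iff_le_comap.2 (qB.over_def (maximalIdeal R)).le
  obtain ⟨w, hw, hwx⟩ := hx
  have hne : algebraMap B T w ≠ 0 := fun h0 => hw (hle (Ideal.algebraMap_residueField_eq_zero.1 h0))
  have hkill : ∀ m : M, m ∈ maximalIdeal R • (⊤ : Submodule R M) → (1 : T) ⊗ₜ[B] m = 0 := fun m hm => by
    refine Submodule.smul_induction_on hm (fun a ha y _ => ?_) fun a b ha hb => by rw [tmul_add, ha, hb, add_zero]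
    rw [← IsScalarTower.algebraMap_smul B a y, TensorProduct.tmul_smul, ← IsScalarTower.algebraMap_smul T (algebraMap R B a),
      Ideal.algebraMap_residueField_eq_zero.2 (Ideal.mem_map_of_mem _ ha), zero_smul]
  have h1 : α.baseChange T ((1 : T) ⊗ₜ[B] x) = 0 := by
    rw [LinearMap.baseChange_tmul]
    have h0 := hkill _ hwx
    rw [TensorProduct.tmul_smul, ← IsScalarTower.algebraMap_smul T w] at h0
    exact (smul_eq_zero.1 h0).resolve_left hne
  have h2 : ((1 : T) ⊗ₜ[B] x) = 0 := hα.1 (h1.trans (map_zero _).symm)
  have h3 : ∀ i, x i ∈ P := fun i => by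
    have := congrArg (fun z => TensorProduct.piScalarRight B B T (Fin r) z i) h2
    simp only [map_zero, TensorProduct.piScalarRight_apply, Pi.zero_apply] at this
    simp only [TensorProduct.piScalarRightHom_tmul, Algebra.smul_def, mul_one] at this
    exact Ideal.algebraMap_residueField_eq_zero.1 this
  rw [show x = ∑ i, LinearMap.single R (fun _ : Fin r => B) i (x i) from (Finset.univ_sum_single x).symm]
  refine Submodule.sum_mem _ fun i _ => map_mem_smul_top _ ?_
  rw [Ideal.smul_top_eq_map]; exact h3 i

set_option maxHeartbeats 1000000 in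
/-- Over a local ring, purity at the point of a complete dévissage gives freeness and finite presentation. -/
theorem free_fp_of_pure_devissageAt {R S : Type u} [CommRing R] [IsLocalRing R] [CommRing S] [Algebra R S]
    [Algebra.FiniteType R S] (N : Type u) [AddCommGroup N] [Module S N] [Module R N] [IsScalarTower R S N]
    (q : Ideal S) [q.IsPrime] (hpure : PurePowers R q.primeCompl N)
    (D : FlatCA.CompleteDevissage R S N (maximalIdeal R))
    (E : FlatCA.CompleteDevissageAt R S N (maximalIdeal R) q D) :
    Module.FinitePresentation S N ∧ Module.Free R N := by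
  letI := E.hqB
  letI := E.hqA
  haveI := E.overB
  haveI := E.overA
  have hpos : 0 < D.n := D.pos
  -- scalar towers
  haveI tA : ∀ i, IsScalarTower R (D.A i) (D.M i) := fun i => IsScalarTower.of_algebraMap_smul fun a m => by
    rw [IsScalarTower.algebraMap_apply R (D.B i) (D.A i), algebraMap_smul, algebraMap_smul]
  haveI tB' : ∀ i, IsScalarTower R (D.B i) (D.M (i + 1)) := fun i => IsScalarTower.of_algebraMap_smul fun a m => by
    rw [← algebraMap_smul (D.A (i + 1)) (algebraMap R (D.B i) a) m, ← IsScalarTower.algebraMap_apply, algebraMap_smul]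
  haveI tS : IsScalarTower R S (D.M 0) := IsScalarTower.of_algebraMap_smul fun a m => by
    rw [← algebraMap_smul (D.A 0) (algebraMap R S a) m, ← IsScalarTower.algebraMap_apply, algebraMap_smul]
  have hproj : ∀ i, i < D.n → Module.Projective R (D.B i) := fun i hi => by
    haveI := D.smooth i hi
    exact projective_of_smooth_geomIrred R (D.B i) (D.geomIrred i hi)
  have hfreeX : ∀ i, i < D.n → Module.Free R (Fin (D.r i) → D.B i) := fun i hi => by
    haveI := hproj i hi
    haveI : Module.Free R (D.B i) := Groth.Agent.S0582.result R (D.B i)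
    infer_instance
  let g : ∀ i, i + 1 < D.n → (D.M i →ₗ[D.B i] D.M (i + 1)) := fun i hi =>
    (D.isoCoker i hi).toLinearMap ∘ₗ (LinearMap.range (D.α i)).mkQ
  have hg : ∀ i hi, Function.Surjective (g i hi) := fun i hi =>
    (D.isoCoker i hi).surjective.comp (Submodule.mkQ_surjective _)
  have hex : ∀ i hi, Function.Exact (D.α i) (g i hi) := fun i hi m => by
    show (D.isoCoker i hi) ((LinearMap.range (D.α i)).mkQ m) = 0 ↔ _
    rw [LinearEquiv.map_eq_zero_iff, Submodule.mkQ_apply, Submodule.Quotient.mk_eq_zero]; rfl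
  -- the test at each stage
  have hstep : ∀ i, i < D.n → PurePowers R (E.qA i).primeCompl (D.M i) →
      PurePowers R (E.qB i).primeCompl (D.M i) := fun i hi h => by
    haveI := D.finiteBA i hi
    refine h.restrict (algebraMap (D.B i) (D.A i)) (fun s m => algebraMap_smul _ s m)
      (fun w hw hmem => hw (((E.qA i).over_def (E.qB i)).ge hmem)) fun v hv => ?_
    exact exists_mul_eq_of_unique (E.qB i) (E.qA i)
      (fun r hr hr' => @FlatCA.CompleteDevissageAt.uniq _ _ _ _ _ _ _ _ _ _ _ _ _ E i hi r hr ⟨hr'.symm⟩) v hv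
  have hP : ∀ i, i < D.n → PurePowers R (E.qA i).primeCompl (D.M i) := by
    intro i
    induction i with
    | zero =>
      intro _
      refine (hpure.congr (algebraMap S (D.A 0)) (D.isoN.restrictScalars R) (fun s m => ?_)).mono ?_
      · rw [algebraMap_smul]; exact D.isoN.map_smul s m
      · rintro _ ⟨s, hs, rfl⟩
        exact fun hmem => hs (E.q0.le hmem)
    | succ i ih =>
      intro hi
      have h1 := hstep i (by omega) (ih (by omega))
      haveI := hfreeX i (by omega)
      have h2 := h1.coker ((D.α i).restrictScalars R)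
        (fun l hl => mem_smul_top_of_fibre_bijective (D.α i) (D.fibreIso i (by omega)) (E.qB i) l hl)
        (D.M (i + 1)) ((g i hi).restrictScalars R) (fun s m => (g i hi).map_smul s m) (hg i hi) (hex i hi)
      refine (h2.congr (algebraMap (D.B i) (D.A (i + 1))) (LinearEquiv.refl R _) (fun s m => ?_)).mono ?_
      · rw [algebraMap_smul]; rfl
      · rintro _ ⟨s, hs, rfl⟩
        exact fun hmem => hs ((E.qStep i hi).le hmem)
  have hui : ∀ i, i < D.n → Function.Injective (D.α i) := fun i hi => by
    haveI := hfreeX i hi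
    exact CAlgUI.ui_injective (f := (D.α i).restrictScalars R)
      (ui_of_pureTest (hstep i hi (hP i hi)).one ((D.α i).restrictScalars R)
        (fun l hl => mem_smul_top_of_fibre_bijective (D.α i) (D.fibreIso i hi) (E.qB i) l hl))
  -- downward induction
  have hdown : ∀ j i, i + j + 1 = D.n → Module.FinitePresentation (D.B i) (D.M i) ∧ Module.Free R (D.M i) := by
    intro j
    induction j with
    | zero =>
      intro i hi
      obtain rfl : i = D.n - 1 := by omega
      let e := LinearEquiv.ofBijective (D.α (D.n - 1)) ⟨hui _ (by omega), D.cokerLast⟩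
      haveI := hfreeX (D.n - 1) (by omega)
      exact ⟨Module.FinitePresentation.of_equiv e, Module.Free.of_equiv (e.restrictScalars R)⟩
    | succ j ih =>
      intro i hi
      have hi' : i + 1 < D.n := by omega
      obtain ⟨h1, h2⟩ := ih (i + 1) (by omega)
      haveI := D.finiteBA (i + 1) hi'
      haveI := D.finiteM (i + 1) hi'
      haveI := fp_of_restrict (A := D.B (i + 1)) (C := D.A (i + 1)) (M := D.M (i + 1)) h1
      haveI := D.fpBA' i hi'
      haveI : Module.Finite (D.B i) (D.A (i + 1)) :=
        Module.Finite.of_surjective (Algebra.linearMap (D.B i) (D.A (i + 1))) (D.surjBA' i hi')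
      haveI : Module.FinitePresentation (D.B i) (D.A (i + 1)) := Module.FinitePresentation.of_finite_of_finitePresentation _ _
      haveI : Module.FinitePresentation (D.B i) (D.M (i + 1)) :=
        Module.FinitePresentation.trans (D.B i) (D.M (i + 1)) (D.A (i + 1))
      haveI : Module.FinitePresentation (D.B i) (LinearMap.ker (g i hi')) := Module.FinitePresentation.of_equiv
        ((LinearEquiv.ofInjective (D.α i) (hui i (by omega))).trans
          (LinearEquiv.ofEq _ _ (LinearMap.exact_iff.1 (hex i hi')).symm))
      refine ⟨Module.finitePresentation_of_ker (g i hi') (hg i hi'), ?_⟩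
      haveI := hfreeX i (by omega)
      obtain ⟨e⟩ := nonempty_equiv_prod_of_exact ((D.α i).restrictScalars R) ((g i hi').restrictScalars R)
        (hui i (by omega)) (hg i hi') (hex i hi')
      exact Module.Free.of_equiv e.symm
  obtain ⟨hfp0, hfree0⟩ := hdown (D.n - 1) 0 (by omega)
  refine ⟨?_, Module.Free.of_equiv (D.isoN.restrictScalars R).symm⟩
  haveI := D.finiteBA 0 hpos
  haveI := D.finiteM 0 hpos
  haveI := fp_of_restrict (A := D.B 0) (C := D.A 0) (M := D.M 0) hfp0
  haveI := D.fpSA
  haveI : Module.Finite S (D.A 0) := Module.Finite.of_surjective (Algebra.linearMap S (D.A 0)) D.surjSA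
  haveI : Module.FinitePresentation S (D.A 0) := Module.FinitePresentation.of_finite_of_finitePresentation _ _
  haveI : Module.FinitePresentation S (D.M 0) := Module.FinitePresentation.trans S (D.M 0) (D.A 0)
  exact Module.FinitePresentation.of_equiv D.isoN.symm

end Groth.Agent.RG11
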