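import Groth.Agent.RG11.FibreFreeCover
import Groth.Agent.RG11.AssBaseChange
import Groth.Agent.RG11.GlobalUI
import Groth.Agent.RG11.TrivExt
import Groth.Agent.RG11.FreeNhdUse
import Mathlib

/-!
# The free étale cover of a pure fibre contains every associated point
-/

universe u

set_option linter.style.haveILetI false

namespace Groth.Agent.RG11

open TensorProduct IsLocalRing

attribute [local instance] Algebra.TensorProduct.rightAlgebra

set_option maxHeartbeats 800000 in
/-- Purity at an étale neighbourhood, tested on an associated point of a further base change. -/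
theorem exists_over_of_pure_assoc {A B : Type u} [CommRing A] [CommRing B] [Algebra A B]
    {N : Type u} [AddCommGroup N] [Module B N] [Module A N] [IsScalarTower A B N] {p : Ideal A} [p.IsPrime]
    (hpure : FlatCA.IsPureAlong A B N p) {A' : Type u} [CommRing A'] [Algebra A A'] {p' : Ideal A'} [p'.IsPrime]
    (hn : FlatCA.IsEtaleNhd A A' p p')
    {R₂ S₂ : Type u} [CommRing R₂] [CommRing S₂] [Algebra A' R₂] [Algebra A R₂] [IsScalarTower A A' R₂]
    [Algebra R₂ S₂] [Algebra.FiniteType R₂ S₂] [Algebra (A' ⊗[A] B) S₂] [Algebra B S₂] [Algebra A' S₂]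
    [IsScalarTower B (A' ⊗[A] B) S₂] [IsScalarTower A' R₂ S₂] [IsScalarTower A' (A' ⊗[A] B) S₂]
    {M : Type u} [AddCommGroup M] [Module S₂ M] [Module B M] [IsScalarTower B S₂ M] [Module R₂ M]
    [IsScalarTower R₂ S₂ M] [Module A M] [IsScalarTower A B M] [IsScalarTower A R₂ M]
    (fN : N →ₗ[B] M) (hf : IsBaseChange R₂ (fN.restrictScalars A))
    (t : Ideal R₂) [t.IsPrime] (ht : t.comap (algebraMap A' R₂) ≤ p') (Q : Ideal S₂) [Q.IsPrime] [Q.LiesOver t]
    (hass : FlatCA.fiberIdeal t Q ∈ associatedPrimes (t.Fiber S₂) (FlatCA.fiberMod t S₂ M)) :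
    ∃ P' : Ideal (A' ⊗[A] B), P'.IsPrime ∧ Q.comap (algebraMap (A' ⊗[A] B) S₂) ≤ P' ∧ P'.LiesOver p' := by
  let SA' := A' ⊗[A] B
  haveI : IsScalarTower A B SA' := IsScalarTower.of_algebraMap_eq fun r =>
    ((Algebra.TensorProduct.includeRight : B →ₐ[A] SA').commutes r).symm
  haveI : Algebra.IsPushout A B A' SA' := Algebra.IsPushout.symm inferInstance
  let N' := SA' ⊗[B] N
  letI : Module SA' M := Module.compHom M (algebraMap SA' S₂)
  haveI : IsScalarTower SA' S₂ M := IsScalarTower.of_algebraMap_smul fun _ _ => rfl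
  haveI : IsScalarTower B SA' M := IsScalarTower.of_algebraMap_smul fun b m => by
    rw [← algebraMap_smul S₂ (algebraMap B SA' b) m, ← IsScalarTower.algebraMap_apply, algebraMap_smul]
  letI : Module A' M := Module.compHom M (algebraMap A' R₂)
  haveI : IsScalarTower A' R₂ M := IsScalarTower.of_algebraMap_smul fun _ _ => rfl
  haveI : IsScalarTower A' SA' M := IsScalarTower.of_algebraMap_smul fun a m => by
    rw [← algebraMap_smul S₂ (algebraMap A' SA' a) m, ← IsScalarTower.algebraMap_apply,
      IsScalarTower.algebraMap_apply A' R₂ S₂, algebraMap_smul]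
    rfl
  haveI : IsScalarTower A A' M := IsScalarTower.of_algebraMap_smul fun a m => by
    rw [← algebraMap_smul R₂ (algebraMap A A' a) m, ← IsScalarTower.algebraMap_apply, algebraMap_smul]
  let g : N' →ₗ[SA'] M := (TensorProduct.isBaseChange B N SA').lift fN
  have h₁ : IsBaseChange A' ((TensorProduct.mk B SA' N 1).restrictScalars A) := by
    refine IsBaseChange.of_equiv (Algebra.IsPushout.cancelBaseChange A A' B SA' N).symm fun m => ?_
    rw [Algebra.IsPushout.cancelBaseChange_symm_tmul, map_one]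
    rfl
  have hg : IsBaseChange R₂ (g.restrictScalars A') := by
    refine IsBaseChange.of_comp h₁ ?_
    have : (g.restrictScalars A').restrictScalars A ∘ₗ (TensorProduct.mk B SA' N 1).restrictScalars A =
        fN.restrictScalars A := LinearMap.ext fun n => (TensorProduct.isBaseChange B N SA').lift_eq _ n
    rw [this]; exact hf
  have hP := assoc_comap_baseChange N' M g hg t (t.comap (algebraMap A' R₂)) rfl Q hass
  haveI : (Q.comap (algebraMap SA' S₂)).LiesOver (t.comap (algebraMap A' R₂)) := ⟨by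
    rw [Ideal.under, Ideal.comap_comap, ← IsScalarTower.algebraMap_eq, IsScalarTower.algebraMap_eq A' R₂ S₂,
      ← Ideal.comap_comap, Q.over_def t]⟩
  obtain ⟨-, hover, -⟩ := id hn
  by_contra! hno
  exact hpure A' SA' N' (TensorProduct.mk B SA' N 1) (t.comap (algebraMap A' R₂)) p' (Q.comap (algebraMap SA' S₂)) hn
    ⟨inferInstance, TensorProduct.isBaseChange B N SA', ht, hover, inferInstance, hP,
      fun P' hP' hle => hno P' hP' hle⟩

set_option maxHeartbeats 800000 in
/-- The covering property, for any model of the local ring. -/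
theorem cover_assoc_of_pure {A B : Type u} [CommRing A] [CommRing B] [Algebra A B] [Algebra.FiniteType A B]
    {N : Type u} [AddCommGroup N] [Module B N] [Module A N] [IsScalarTower A B N] {p : Ideal A} [p.IsPrime]
    (hpure : FlatCA.IsPureAlong A B N p) {A' : Type u} [CommRing A'] [Algebra A A'] {p' : Ideal A'} [p'.IsPrime]
    (hn : FlatCA.IsEtaleNhd A A' p p')
    (Loc : Type u) [CommRing Loc] [IsLocalRing Loc] [Algebra A' Loc] [Algebra A Loc] [IsScalarTower A A' Loc]
    [IsLocalization.AtPrime Loc p'] (C : Type u) [CommRing C] [Algebra (Loc ⊗[A] B) C] [Algebra Loc C]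
    [IsScalarTower Loc (Loc ⊗[A] B) C] [Algebra.Etale (Loc ⊗[A] B) C] [Algebra B C] [IsScalarTower B (Loc ⊗[A] B) C]
    (hmax : (maximalIdeal Loc).comap (algebraMap A' Loc) = p')
    (hpts : ∀ (q : Ideal B) [q.IsPrime], q.LiesOver p → ∃ x' : Ideal C, x'.IsPrime ∧
      x'.comap (algebraMap B C) = q ∧ x'.LiesOver (maximalIdeal Loc))
    (t : Ideal Loc) [t.IsPrime] (Q : Ideal (Loc ⊗[A] B)) [Q.IsPrime] [Q.LiesOver t]
    (hass : FlatCA.fiberIdeal t Q ∈ associatedPrimes (t.Fiber (Loc ⊗[A] B))
      (FlatCA.fiberMod t (Loc ⊗[A] B) ((Loc ⊗[A] B) ⊗[B] N))) :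
    ∃ Q' : Ideal C, Q'.IsPrime ∧ Q'.comap (algebraMap (Loc ⊗[A] B) C) = Q := by
  let SA := Loc ⊗[A] B
  haveI : IsScalarTower A B SA := IsScalarTower.of_algebraMap_eq fun r =>
    ((Algebra.TensorProduct.includeRight : B →ₐ[A] SA).commutes r).symm
  haveI : Algebra.IsPushout A B Loc SA := Algebra.IsPushout.symm inferInstance
  -- the intermediate base
  let SA' := A' ⊗[A] B
  let φ : SA' →ₐ[A] SA := Algebra.TensorProduct.map (IsScalarTower.toAlgHom A A' Loc) (AlgHom.id A B)
  letI : Algebra SA' SA := φ.toRingHom.toAlgebra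
  haveI : IsScalarTower A B SA' := IsScalarTower.of_algebraMap_eq fun r =>
    ((Algebra.TensorProduct.includeRight : B →ₐ[A] SA').commutes r).symm
  haveI : Algebra.IsPushout A B A' SA' := Algebra.IsPushout.symm inferInstance
  haveI : IsScalarTower B SA' SA := IsScalarTower.of_algebraMap_eq fun b => by
    show (1 : Loc) ⊗ₜ[A] b = φ ((1 : A') ⊗ₜ[A] b)
    rw [Algebra.TensorProduct.map_tmul, map_one]
    rfl
  haveI : IsScalarTower A' Loc SA := inferInstance
  haveI : IsScalarTower A' SA' SA := IsScalarTower.of_algebraMap_eq fun a => by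
    show algebraMap Loc SA (algebraMap A' Loc a) = φ (a ⊗ₜ[A] 1)
    rw [Algebra.TensorProduct.map_tmul, map_one]
    rfl
  haveI : IsScalarTower A A' SA := inferInstance
  let M := SA ⊗[B] N
  let P : Ideal SA' := Q.comap (algebraMap SA' SA)
  have htp : t.comap (algebraMap A' Loc) ≤ p' := by
    exact (Ideal.comap_mono (le_maximalIdeal (Ideal.IsPrime.ne_top'))).trans (le_of_eq hmax)
  have h₂ : IsBaseChange Loc ((TensorProduct.mk B SA N 1).restrictScalars A) := by
    refine IsBaseChange.of_equiv (Algebra.IsPushout.cancelBaseChange A Loc B SA N).symm fun m => ?_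
    rw [Algebra.IsPushout.cancelBaseChange_symm_tmul, map_one]
    rfl
  obtain ⟨-, hover, -⟩ := id hn
  haveI := hover
  obtain ⟨P', hP', hPP', hP'p⟩ := exists_over_of_pure_assoc (R₂ := Loc) (S₂ := SA) (M := M)
    hpure hn (TensorProduct.mk B SA N 1) h₂ t htp Q hass
  haveI := hP'
  haveI := hP'p
  -- the covering point
  have hqp : (P'.comap (algebraMap B SA')).LiesOver p := ⟨by
    rw [Ideal.under, Ideal.comap_comap, ← IsScalarTower.algebraMap_eq, IsScalarTower.algebraMap_eq A A' SA',
      ← Ideal.comap_comap, show Ideal.comap (algebraMap A' SA') P' = p' from (P'.over_def p').symm]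
    exact p'.over_def p⟩
  obtain ⟨x', hx', hx'q, hx'm⟩ := hpts (P'.comap (algebraMap B SA')) hqp
  haveI := hx'
  let W : Ideal SA := x'.comap (algebraMap SA C)
  have hWm : W.comap (algebraMap Loc SA) = maximalIdeal Loc := by
    rw [Ideal.comap_comap, ← IsScalarTower.algebraMap_eq]
    exact (x'.over_def _).symm
  have heq : W.comap (algebraMap SA' SA) = P' := by
    refine eq_of_comap_eq (TrivExt.of_isEtaleNhd hn) _ _ ?_ (P'.over_def p').symm ?_
    · rw [Ideal.comap_comap, ← IsScalarTower.algebraMap_eq, IsScalarTower.algebraMap_eq A' Loc SA, ← Ideal.comap_comap,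
        hWm, hmax]
    · show (W.comap (algebraMap SA' SA)).comap (algebraMap B SA') = P'.comap (algebraMap B SA')
      rw [Ideal.comap_comap, ← IsScalarTower.algebraMap_eq, Ideal.comap_comap, ← IsScalarTower.algebraMap_eq]
      exact hx'q
  have hQW : Q ≤ W := by
    have hgen : ∀ x : SA, ∃ (r : A') (y : SA'), r ∉ p' ∧ algebraMap A' SA r * x = algebraMap SA' SA y := by
      intro x
      induction x using TensorProduct.induction_on with
      | zero => exact ⟨1, 0, fun h => Ideal.IsPrime.ne_top' ((Ideal.eq_top_iff_one _).2 h), by simp⟩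
      | tmul c b =>
        obtain ⟨⟨a, r⟩, hr⟩ := IsLocalization.surj p'.primeCompl c
        refine ⟨r, a ⊗ₜ[A] b, r.2, ?_⟩
        show algebraMap Loc SA (algebraMap A' Loc r) * (c ⊗ₜ[A] b) = φ (a ⊗ₜ[A] b)
        rw [Algebra.TensorProduct.algebraMap_apply, Algebra.TensorProduct.tmul_mul_tmul, one_mul, Algebra.algebraMap_self,
          RingHom.id_apply, mul_comm, hr]
        rfl
      | add a b ha hb =>
        obtain ⟨r, y, hr, hy⟩ := ha
        obtain ⟨r', y', hr', hy'⟩ := hb
        refine ⟨r * r', algebraMap A' SA' r' * y + algebraMap A' SA' r * y', Ideal.IsPrime.mul_notMem ‹_› hr hr', ?_⟩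
        rw [map_add, map_mul, map_mul, map_mul, ← hy, ← hy', ← IsScalarTower.algebraMap_apply,
          ← IsScalarTower.algebraMap_apply]
        ring
    intro x hx
    obtain ⟨r, y, hr, hy⟩ := hgen x
    have h1 : y ∈ P := by
      show algebraMap SA' SA y ∈ Q
      rw [← hy]; exact Q.mul_mem_left _ hx
    have h2 : algebraMap A' SA r * x ∈ W := by
      rw [hy]
      exact heq.ge (hPP' h1)
    refine ((inferInstance : W.IsPrime).mem_or_mem h2).resolve_left fun h3 => hr ?_
    rw [IsScalarTower.algebraMap_apply A' Loc SA] at h3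
    exact hmax.le (Ideal.mem_comap.2 (hWm.le h3))
  haveI : x'.LiesOver W := ⟨rfl⟩
  haveI : Algebra.HasGoingDown SA C := inferInstance
  obtain ⟨Q', -, hQ', hQ'Q⟩ := Ideal.exists_ideal_le_liesOver_of_le (p := Q) (q := W) x' hQW
  exact ⟨Q', hQ', hQ'Q.over.symm⟩


set_option maxHeartbeats 1600000 in
set_option synthInstance.maxHeartbeats 100000 in
/-- Flat along a fibre and pure along it: a free étale cover of the henselian-local model that covers all associated
points of all nearby fibres. -/
theorem exists_free_cover_of_pure {A B : Type u} [CommRing A] [CommRing B] [Algebra A B] [Algebra.FiniteType A B]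
    (N : Type u) [AddCommGroup N] [Module B N] [Module A N] [IsScalarTower A B N] [Module.Finite B N] (p : Ideal A)
    [p.IsPrime] (hflat : ∀ (q : Ideal B) [q.IsPrime], q.LiesOver p → FlatCA.FlatAt A q N)
    (hpure : FlatCA.IsPureAlong A B N p) :
    ∃ (A' : Type u) (_ : CommRing A') (_ : Algebra A A') (p' : Ideal A') (_ : p'.IsPrime),
      FlatCA.IsEtaleNhd A A' p p' ∧
    ∃ (C : Type u) (_ : CommRing C) (_ : Algebra (Localization.AtPrime p' ⊗[A] B) C)
      (_ : Algebra (Localization.AtPrime p') C)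
      (_ : IsScalarTower (Localization.AtPrime p') (Localization.AtPrime p' ⊗[A] B) C),
      Algebra.Etale (Localization.AtPrime p' ⊗[A] B) C ∧
      Module.Free (Localization.AtPrime p')
        (C ⊗[Localization.AtPrime p' ⊗[A] B] ((Localization.AtPrime p' ⊗[A] B) ⊗[B] N)) ∧
      ∀ (t : Ideal (Localization.AtPrime p')) [t.IsPrime] (Q : Ideal (Localization.AtPrime p' ⊗[A] B)) [Q.IsPrime]
        [Q.LiesOver t],
        FlatCA.fiberIdeal t Q ∈ associatedPrimes (t.Fiber (Localization.AtPrime p' ⊗[A] B))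
            (FlatCA.fiberMod t (Localization.AtPrime p' ⊗[A] B) ((Localization.AtPrime p' ⊗[A] B) ⊗[B] N)) →
          ∃ Q' : Ideal C, Q'.IsPrime ∧
            Q'.comap (algebraMap (Localization.AtPrime p' ⊗[A] B) C) = Q := by
  obtain ⟨A', _, _, p', _, hn, H⟩ := exists_fibre_free N p hflat
  refine ⟨A', inferInstance, inferInstance, p', inferInstance, hn, ?_⟩
  let Loc := Localization.AtPrime p'
  let SA := Loc ⊗[A] B
  haveI : IsScalarTower A B SA := IsScalarTower.of_algebraMap_eq fun r =>
    ((Algebra.TensorProduct.includeRight : B →ₐ[A] SA).commutes r).symm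
  haveI : Algebra.IsPushout A B Loc SA := Algebra.IsPushout.symm inferInstance
  have hdata := H SA (SA ⊗[B] N) (TensorProduct.mk B SA N 1) (TensorProduct.isBaseChange B N SA)
  obtain ⟨C, hdata⟩ := hdata
  obtain ⟨_, hdata⟩ := hdata
  obtain ⟨_, hdata⟩ := hdata
  obtain ⟨_, hdata⟩ := hdata
  obtain ⟨_, hdata⟩ := hdata
  obtain ⟨_, hdata⟩ := hdata
  obtain ⟨_, hdata⟩ := hdata
  have het := hdata.1
  have hpts := hdata.2.1
  have hfree := hdata.2.2.2
  clear hdata
  haveI := hfree
  haveI : Module.Free Loc (C ⊗[SA] (SA ⊗[B] N)) :=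
    Module.Free.of_equiv
      ({ RestrictScalars.addEquiv Loc C (C ⊗[SA] (SA ⊗[B] N)) with
          map_smul' := fun a m => by
            show RestrictScalars.addEquiv Loc C _ (a • m) = a • RestrictScalars.addEquiv Loc C _ m
            rw [RestrictScalars.addEquiv_map_smul, algebraMap_smul] } :
        RestrictScalars Loc C (C ⊗[SA] (SA ⊗[B] N)) ≃ₗ[Loc] C ⊗[SA] (SA ⊗[B] N))
  refine ⟨C, inferInstance, inferInstance, inferInstance, inferInstance, het, inferInstance, ?_⟩
  exact fun t _ Q _ _ hass => haveI := het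
    cover_assoc_of_pure hpure hn Loc C Localization.AtPrime.under_maximalIdeal hpts t Q hass

end Groth.Agent.RG11
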