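import Groth.Agent.RG11.PureTwoCovers
import Groth.Agent.RG11.AssocSpecialize
import Groth.Agent.RG11.FlatAtBC
import Groth.Agent.RG11.GoodAux
import Groth.Agent.FlatFibres.FlatAtBaseChange
import Mathlib

/-!
# Purity and étale covers of the associated points
-/

universe u

set_option linter.style.haveILetI false

namespace Groth.Agent.RG11

open TensorProduct IsLocalRing

attribute [local instance] Algebra.TensorProduct.rightAlgebra

/-- Primes of a pushout along a residually trivial extension are determined by their trace. -/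
theorem eq_of_comap_eq_pushout {R R' T X : Type u} [CommRing R] [CommRing R'] [CommRing T] [CommRing X]
    [Algebra R R'] [Algebra R T] [Algebra R X] [Algebra R' X] [Algebra T X] [IsScalarTower R R' X] [IsScalarTower R T X]
    [Algebra.IsPushout R T R' X] {p : Ideal R} [p.IsPrime] {p' : Ideal R'} [p'.IsPrime] (h : TrivExt p p')
    (Q Q' : Ideal X) [Q.IsPrime] [Q'.IsPrime] (hQ : Q.comap (algebraMap R' X) = p')
    (hQ' : Q'.comap (algebraMap R' X) = p') (he : Q.comap (algebraMap T X) = Q'.comap (algebraMap T X)) : Q = Q' := by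
  haveI : Algebra.IsPushout R R' T X := Algebra.IsPushout.symm inferInstance
  let e := Algebra.IsPushout.equiv R R' T X
  have h1 : e.toRingHom.comp (algebraMap R' (R' ⊗[R] T)) = algebraMap R' X := RingHom.ext e.commutes
  have h2 : e.toRingHom.comp (incR R') = algebraMap T X := RingHom.ext fun x => by
    show e ((1 : R') ⊗ₜ[R] x) = _
    rw [Algebra.IsPushout.equiv_tmul, map_one, one_mul]
  have key := eq_of_comap_eq h (Q.comap e.toRingHom) (Q'.comap e.toRingHom)
    (by rw [Ideal.comap_comap, h1]; exact hQ) (by rw [Ideal.comap_comap, h1]; exact hQ')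
    (by rw [Ideal.comap_comap, Ideal.comap_comap, h2]; exact he)
  exact Ideal.comap_injective_of_surjective e.toRingHom e.surjective key

variable {A B : Type u} [CommRing A] [CommRing B] [Algebra A B]
    (N : Type u) [AddCommGroup N] [Module B N] [Module A N] [IsScalarTower A B N] (p : Ideal A) [p.IsPrime]
    (A' : Type u) [CommRing A'] [Algebra A A'] (p' : Ideal A') [p'.IsPrime]
    (BA : Type u) [CommRing BA] [Algebra B BA] [Algebra A' BA] [Algebra A BA] [IsScalarTower A B BA]
    [IsScalarTower A A' BA] [Algebra.IsPushout A B A' BA]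
    (NA : Type u) [AddCommGroup NA] [Module BA NA] [Module B NA] [IsScalarTower B BA NA] [Module A' NA]
    [IsScalarTower A' BA NA] (fA : N →ₗ[B] NA) (hfA : IsBaseChange BA fA)
    (B' : Type u) [CommRing B'] [Algebra B B'] [Algebra A' B'] [Algebra A B'] [IsScalarTower A B B']
    [IsScalarTower A A' B'] [Algebra BA B'] [IsScalarTower B BA B'] [IsScalarTower A' BA B']

theorem isBaseChange_base [Module A NA] [IsScalarTower A A' NA] [IsScalarTower A B NA] (hfA : IsBaseChange BA fA) :
    IsBaseChange A' (fA.restrictScalars A) := by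
  haveI : Algebra.IsPushout A A' B BA := Algebra.IsPushout.symm inferInstance
  haveI : SMulCommClass B A' BA := ⟨fun a b c => by simp only [Algebra.smul_def]; ring⟩
  refine IsBaseChange.of_equiv ((Algebra.IsPushout.cancelBaseChange A A' B BA N).symm.trans
    (hfA.equiv.restrictScalars A')) fun m => ?_
  show hfA.equiv ((Algebra.IsPushout.cancelBaseChange A A' B BA N).symm ((1 : A') ⊗ₜ[A] m)) = fA m
  rw [Algebra.IsPushout.cancelBaseChange_symm_tmul, map_one, IsBaseChange.equiv_tmul, one_smul]

omit [Algebra A B'] [IsScalarTower A B B'] [IsScalarTower A A' B'] in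
set_option maxHeartbeats 1600000 in
include hfA in
/-- A pure module has every associated point of the nearby fibres in the image of a cover of the fibre. -/
theorem exists_over_of_pure_cover [Algebra.FiniteType A B] [Module.Finite B N] [Algebra.Etale B B']
    (hflat : ∀ (q : Ideal B) [q.IsPrime], q.LiesOver p → FlatCA.FlatAt A q N) (het : FlatCA.IsEtaleNhd A A' p p')
    (hcov : ∀ (q : Ideal B) [q.IsPrime], q.LiesOver p →
      FlatCA.fiberIdeal p q ∈ associatedPrimes (p.Fiber B) (FlatCA.fiberMod p B N) →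
      ∃ q' : Ideal B', q'.IsPrime ∧ q'.comap (algebraMap B B') = q ∧ q'.comap (algebraMap A' B') = p')
    (hpure : FlatCA.IsPureAlong A B N p) (t' : Ideal A') [t'.IsPrime] (hle : t' ≤ p')
    (Q : Ideal BA) [Q.IsPrime] [Q.LiesOver t']
    (hass : FlatCA.fiberIdeal t' Q ∈ associatedPrimes (t'.Fiber BA) (FlatCA.fiberMod t' BA NA)) :
    ∃ Q' : Ideal B', Q'.IsPrime ∧ Q'.comap (algebraMap BA B') = Q := by
  haveI : Algebra.Etale A A' := het.1
  haveI : p'.LiesOver p := het.2.choose
  obtain ⟨W, hW, hQW, hWp⟩ : ∃ W : Ideal BA, W.IsPrime ∧ Q ≤ W ∧ W.LiesOver p' := by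
    by_contra! hno
    exact hpure A' BA NA fA t' p' Q het ⟨inferInstance, hfA, hle, inferInstance, inferInstance, hass,
      fun P' hP' hle => hno P' hP' hle⟩
  haveI := hW
  haveI := hWp
  haveI : Algebra.FiniteType A' BA :=
    Algebra.FiniteType.equiv (inferInstance : Algebra.FiniteType A' (A' ⊗[A] B))
      (haveI : Algebra.IsPushout A A' B BA := Algebra.IsPushout.symm inferInstance; Algebra.IsPushout.equiv A A' B BA)
  haveI : Module.Finite BA NA := Module.Finite.equiv hfA.equiv
  letI : Module A NA := Module.compHom NA (algebraMap A A')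
  haveI : IsScalarTower A A' NA := IsScalarTower.of_algebraMap_smul fun _ _ => rfl
  haveI : IsScalarTower A B NA := IsScalarTower.of_algebraMap_smul fun a m => by
    rw [← algebraMap_smul BA (algebraMap A B a) m, ← IsScalarTower.algebraMap_apply,
      IsScalarTower.algebraMap_apply A A' BA, algebraMap_smul]
    rfl
  have hbc := isBaseChange_base (A := A) N A' BA NA fA hfA
  have hover : ∀ (W' : Ideal BA) [W'.IsPrime], W'.LiesOver p' → (W'.comap (algebraMap B BA)).LiesOver p := by
    intro W' _ hW'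
    constructor
    rw [Ideal.under, Ideal.comap_comap, ← IsScalarTower.algebraMap_eq, IsScalarTower.algebraMap_eq A A' BA,
      ← Ideal.comap_comap, show W'.comap (algebraMap A' BA) = p' from hW'.over.symm]
    exact p'.over_def p
  have hWflat : FlatCA.FlatAt A' W NA :=
    flatAt_baseChange N NA fA hbc W (hflat (W.comap (algebraMap B BA)) (hover W hWp))
  obtain ⟨q₁, hq₁, hQq₁, hq₁p, hq₁a⟩ := exists_assoc_specialize NA p' t' Q hass W hQW hWflat
  haveI := hq₁
  haveI := hq₁p
  have hqa := assoc_comap_baseChange N NA fA hbc p' p (p'.over_def p).symm q₁ hq₁a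
  obtain ⟨q', hq', hq'q, hq'p⟩ := hcov (q₁.comap (algebraMap B BA)) (hover q₁ hq₁p) hqa
  haveI := hq'
  have heq : q'.comap (algebraMap BA B') = q₁ := by
    refine eq_of_comap_eq_pushout (T := B) (TrivExt.of_isEtaleNhd het) _ _ ?_ (q₁.over_def p').symm ?_
    · rw [Ideal.comap_comap, ← IsScalarTower.algebraMap_eq]; exact hq'p
    · rw [Ideal.comap_comap, ← IsScalarTower.algebraMap_eq]; exact hq'q
  haveI : SMulCommClass B A' BA := ⟨fun a b c => by simp only [Algebra.smul_def]; ring⟩
  haveI : Algebra.Etale B BA := Algebra.Etale.of_equiv (Algebra.IsPushout.equiv A B A' BA)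
  haveI : Algebra.Etale BA B' := Algebra.Etale.of_restrictScalars B BA B'
  haveI : Module.Flat BA B' := inferInstance
  haveI : Algebra.HasGoingDown BA B' := inferInstance
  haveI : q'.LiesOver q₁ := ⟨heq.symm⟩
  obtain ⟨Q', -, hQ', hQ'Q⟩ := Ideal.exists_ideal_le_liesOver_of_le (p := Q) (q := q₁) q' hQq₁
  exact ⟨Q', hQ', hQ'Q.over.symm⟩

variable (N' : Type u) [AddCommGroup N'] [Module B' N'] [Module B N'] [IsScalarTower B B' N'] [Module A' N']
    [IsScalarTower A' B' N'] (f : N →ₗ[B] N') (hf : IsBaseChange B' f)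

omit [Module A N] [IsScalarTower A B N] [p'.IsPrime] [Algebra A B'] [IsScalarTower A B B'] [IsScalarTower A A' B']
  [Module A' N'] [IsScalarTower A' B' N'] in
set_option maxHeartbeats 3200000 in
include hfA hf in
/-- Conversely, covering all associated points gives universal purity, for any model of the local base. -/
theorem isUnivPureAlong_of_cover_assoc [Algebra.FiniteType A B] [Module.Finite B N] [Algebra.FiniteType A' B']
    [Module.Flat BA B'] (hR : ∀ (t' : Ideal A') [t'.IsPrime], t' ≤ p' → ∀ (Q : Ideal BA) [Q.IsPrime], Q.LiesOver t' →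
      FlatCA.fiberIdeal t' Q ∈ associatedPrimes (t'.Fiber BA) (FlatCA.fiberMod t' BA NA) →
      ∃ Q' : Ideal B', Q'.IsPrime ∧ Q'.comap (algebraMap BA B') = Q)
    (Loc : Type u) [CommRing Loc] [IsLocalRing Loc] [Algebra A' Loc] [Algebra A Loc] [IsScalarTower A A' Loc]
    [Module.Flat A Loc] (hmax : (maximalIdeal Loc).comap (algebraMap A' Loc) ≤ p')
    (hp : (maximalIdeal Loc).comap (algebraMap A Loc) = p)
    (C : Type u) [CommRing C] [Algebra (Loc ⊗[A'] B') C] [Algebra Loc C] [IsScalarTower Loc (Loc ⊗[A'] B') C]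
    [Module.Flat (Loc ⊗[A'] B') C] [Module.Free Loc (C ⊗[Loc ⊗[A'] B'] ((Loc ⊗[A'] B') ⊗[B'] N'))]
    (hcov₂ : ∀ (t : Ideal Loc) [t.IsPrime] (Q : Ideal (Loc ⊗[A'] B')) [Q.IsPrime] [Q.LiesOver t],
      FlatCA.fiberIdeal t Q ∈ associatedPrimes (t.Fiber (Loc ⊗[A'] B'))
        (FlatCA.fiberMod t (Loc ⊗[A'] B') ((Loc ⊗[A'] B') ⊗[B'] N')) →
      ∃ Q' : Ideal C, Q'.IsPrime ∧ Q'.comap (algebraMap (Loc ⊗[A'] B') C) = Q) :
    FlatCA.IsUnivPureAlong A B N p := by
  classical
  -- the base change of `BA` to `Loc`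
  let SA := Loc ⊗[A'] BA
  haveI : IsScalarTower A' BA SA := IsScalarTower.of_algebraMap_eq fun r =>
    ((Algebra.TensorProduct.includeRight : BA →ₐ[A'] SA).commutes r).symm
  haveI hpo₁ : Algebra.IsPushout A' BA Loc SA := Algebra.IsPushout.symm inferInstance
  letI : Algebra B SA := ((algebraMap BA SA).comp (algebraMap B BA)).toAlgebra
  haveI : IsScalarTower B BA SA := IsScalarTower.of_algebraMap_eq fun _ => rfl
  haveI : IsScalarTower A BA SA := IsScalarTower.of_algebraMap_eq fun r => by
    rw [IsScalarTower.algebraMap_apply A A' SA, IsScalarTower.algebraMap_apply A' BA SA,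
      ← IsScalarTower.algebraMap_apply A A' BA]
  haveI : IsScalarTower A B SA := IsScalarTower.of_algebraMap_eq fun r => by
    rw [IsScalarTower.algebraMap_apply A BA SA, IsScalarTower.algebraMap_apply A B BA]
    rfl
  haveI hpo : Algebra.IsPushout A B Loc SA := by
    haveI : Algebra.IsPushout A A' B BA := Algebra.IsPushout.symm inferInstance
    haveI : Algebra.IsPushout A' Loc BA SA := Algebra.IsPushout.symm hpo₁
    exact Algebra.IsPushout.symm ((Algebra.IsPushout.comp_iff (R := A) (S := A') (R' := B) (S' := BA) (T := Loc) (T' := SA)).2 inferInstance)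
  -- the base change of `B'`
  let S₁ := Loc ⊗[A'] B'
  haveI : IsScalarTower A' B' S₁ := IsScalarTower.of_algebraMap_eq fun r =>
    ((Algebra.TensorProduct.includeRight : B' →ₐ[A'] S₁).commutes r).symm
  let φ : SA →ₐ[Loc] S₁ := Algebra.TensorProduct.map (AlgHom.id Loc Loc) (IsScalarTower.toAlgHom A' BA B')
  letI : Algebra SA S₁ := φ.toRingHom.toAlgebra
  haveI : IsScalarTower Loc SA S₁ := IsScalarTower.of_algebraMap_eq fun r => (φ.commutes r).symm
  letI : Algebra BA S₁ := ((algebraMap B' S₁).comp (algebraMap BA B')).toAlgebra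
  haveI : IsScalarTower BA B' S₁ := IsScalarTower.of_algebraMap_eq fun _ => rfl
  haveI : IsScalarTower BA SA S₁ := IsScalarTower.of_algebraMap_eq fun b => by
    show (1 : Loc) ⊗ₜ[A'] algebraMap BA B' b = φ ((1 : Loc) ⊗ₜ[A'] b)
    rw [Algebra.TensorProduct.map_tmul]
    rfl
  haveI : IsScalarTower A' SA S₁ := IsScalarTower.of_algebraMap_eq fun r => by
    rw [IsScalarTower.algebraMap_apply A' Loc SA, ← IsScalarTower.algebraMap_apply Loc SA S₁, ← IsScalarTower.algebraMap_apply]
  haveI hpo₂ : Algebra.IsPushout BA SA B' S₁ := by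
    haveI : Algebra.IsPushout A' BA Loc SA := hpo₁
    haveI : Algebra.IsPushout A' B' Loc S₁ := Algebra.IsPushout.symm inferInstance
    exact Algebra.IsPushout.symm ((Algebra.IsPushout.comp_iff (R := A') (S := BA) (R' := Loc) (S' := SA) (T := B') (T' := S₁)).1 inferInstance)
  haveI : Module.Flat SA S₁ := Module.Flat.isBaseChange BA SA B' S₁ hpo₂.out
  -- the modules
  letI : Module A NA := Module.compHom NA (algebraMap A A')
  haveI : IsScalarTower A A' NA := IsScalarTower.of_algebraMap_smul fun _ _ => rfl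
  haveI : IsScalarTower A B NA := IsScalarTower.of_algebraMap_smul fun a m => by
    rw [← algebraMap_smul BA (algebraMap A B a) m, ← IsScalarTower.algebraMap_apply,
      IsScalarTower.algebraMap_apply A A' BA, algebraMap_smul]
    rfl
  letI : Module BA N' := Module.compHom N' (algebraMap BA B')
  haveI : IsScalarTower BA B' N' := IsScalarTower.of_algebraMap_smul fun _ _ => rfl
  haveI : IsScalarTower B BA N' := IsScalarTower.of_algebraMap_smul fun b m => by
    rw [← algebraMap_smul B' (algebraMap B BA b) m, ← IsScalarTower.algebraMap_apply, algebraMap_smul]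
  let φA : NA →ₗ[BA] N' := hfA.lift f
  have hφA : IsBaseChange B' φA := by
    refine IsBaseChange.of_comp hfA ?_
    have : φA.restrictScalars B ∘ₗ fA = f := LinearMap.ext fun n => hfA.lift_eq f n
    rw [this]; exact hf
  let M := SA ⊗[BA] NA
  let M₁ := S₁ ⊗[B'] N'
  haveI : IsScalarTower SA S₁ M₁ := inferInstance
  haveI : IsScalarTower BA SA M₁ := inferInstance
  haveI : IsScalarTower Loc SA M₁ := inferInstance
  let ψ : NA →ₗ[BA] M₁ := (TensorProduct.mk B' S₁ N' 1).restrictScalars BA ∘ₗ φA
  have hψ : IsBaseChange S₁ ψ := IsBaseChange.comp hφA (TensorProduct.isBaseChange B' N' S₁)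
  let fM : M →ₗ[SA] M₁ := (TensorProduct.isBaseChange BA NA SA).lift ψ
  have hfM : IsBaseChange S₁ fM := by
    refine IsBaseChange.of_comp (TensorProduct.isBaseChange BA NA SA) ?_
    have : fM.restrictScalars BA ∘ₗ TensorProduct.mk BA SA NA 1 = ψ :=
      LinearMap.ext fun n => (TensorProduct.isBaseChange BA NA SA).lift_eq ψ n
    rw [this]; exact hψ
  haveI : IsScalarTower B BA M := inferInstance
  let fN : N →ₗ[B] M := (TensorProduct.mk BA SA NA 1).restrictScalars B ∘ₗ fA
  haveI : IsScalarTower B SA M := IsScalarTower.of_algebraMap_smul fun b m => by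
    rw [IsScalarTower.algebraMap_apply B BA SA, algebraMap_smul, algebraMap_smul]
  have hfN : IsBaseChange SA fN := IsBaseChange.comp hfA (TensorProduct.isBaseChange BA NA SA)
  haveI : Module.Finite BA NA := Module.Finite.equiv hfA.equiv
  haveI : Module.Finite SA M := Module.Finite.equiv (LinearEquiv.refl SA (SA ⊗[BA] NA))
  haveI : Algebra.FiniteType A' BA :=
    Algebra.FiniteType.equiv (inferInstance : Algebra.FiniteType A' (A' ⊗[A] B))
      (haveI : Algebra.IsPushout A A' B BA := Algebra.IsPushout.symm inferInstance; Algebra.IsPushout.equiv A A' B BA)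
  -- the cover of `M`
  have hg : IsBaseChange Loc ((TensorProduct.mk BA SA NA 1).restrictScalars A') := by
    haveI : Algebra.IsPushout A' BA Loc SA := hpo₁
    refine IsBaseChange.of_equiv (Algebra.IsPushout.cancelBaseChange A' Loc BA SA NA).symm fun m => ?_
    rw [Algebra.IsPushout.cancelBaseChange_symm_tmul, map_one]
    rfl
  have hcov₁ : ∀ (t : Ideal Loc) [t.IsPrime] (Q : Ideal SA) [Q.IsPrime] [Q.LiesOver t],
      FlatCA.fiberIdeal t Q ∈ associatedPrimes (t.Fiber SA) (FlatCA.fiberMod t SA M) →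
        ∃ Q' : Ideal S₁, Q'.IsPrime ∧ Q'.comap (algebraMap SA S₁) = Q := by
    intro t _ Q _ _ hass
    have h0 := assoc_comap_baseChange NA M (TensorProduct.mk BA SA NA 1) hg t (t.comap (algebraMap A' Loc)) rfl Q hass
    haveI : (Q.comap (algebraMap BA SA)).LiesOver (t.comap (algebraMap A' Loc)) := ⟨by
      rw [Ideal.under, Ideal.comap_comap, ← IsScalarTower.algebraMap_eq, IsScalarTower.algebraMap_eq A' Loc SA,
        ← Ideal.comap_comap, show Q.comap (algebraMap Loc SA) = t from (Q.over_def t).symm]⟩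
    obtain ⟨Q₀, hQ₀, hQ₀Q⟩ := hR (t.comap (algebraMap A' Loc))
      ((Ideal.comap_mono (le_maximalIdeal (Ideal.IsPrime.ne_top'))).trans hmax) (Q.comap (algebraMap BA SA))
      inferInstance h0
    haveI := hQ₀
    obtain ⟨Q', hQ', h1, -⟩ := exists_prime_tensor (R := BA) (R' := SA) (X := B') Q Q₀ hQ₀Q.symm
    let e := Algebra.IsPushout.equiv BA SA B' S₁
    haveI := hQ'
    refine ⟨Q'.comap e.symm.toRingHom, Ideal.IsPrime.comap _, ?_⟩
    rw [Ideal.comap_comap, show e.symm.toRingHom.comp (algebraMap SA S₁) = algebraMap SA (SA ⊗[BA] B') from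
      RingHom.ext e.symm.commutes]
    exact h1
  haveI : Module.Projective Loc (C ⊗[S₁] M₁) := Module.Projective.of_free
  haveI : Module.Flat Loc (C ⊗[S₁] M₁) := Module.Flat.of_projective
  let L := C ⊗[S₁] M₁
  letI : Module SA L := Module.compHom L (algebraMap SA S₁)
  haveI : IsScalarTower SA S₁ L := IsScalarTower.of_algebraMap_smul fun _ _ => rfl
  haveI : IsScalarTower Loc SA L := IsScalarTower.of_algebraMap_smul fun r m => by
    rw [← algebraMap_smul S₁ (algebraMap Loc SA r) m, ← IsScalarTower.algebraMap_apply, algebraMap_smul]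
  exact isUnivPureAlong_of_ui N p Loc SA (maximalIdeal Loc) hp M fN hfN L
    ((TensorProduct.mk S₁ C M₁ 1).restrictScalars SA ∘ₗ fM)
    fun q _ _ Q _ _ z hz => exists_smul_eq_zero_of_two_covers M M₁ fM hfM hcov₁ hcov₂ q Q z hz

end Groth.Agent.RG11
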