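import Groth.Agent.RG11.AssLift
import Groth.Agent.RG11.FlatAtBC
import Groth.Agent.RG11.GoodAux
import Groth.Agent.RG11.TrivExt
import Mathlib

/-!
# Descent of purity along a flat local map
-/

universe u

set_option linter.style.haveILetI false

namespace Groth.Agent.RG11

open TensorProduct

attribute [local instance] Algebra.TensorProduct.rightAlgebra

theorem flat_localizedModule_of_localization {A X : Type u} [CommRing A] [CommRing X] [Algebra A X] (W : Submonoid X)
    [Module.Flat A (Localization W)] : Module.Flat A (LocalizedModule W X) :=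
  Module.Flat.of_linearEquiv
    ((IsLocalizedModule.iso W (Algebra.linearMap X (Localization W))).restrictScalars A)

theorem flat_localization_of_localizedModule {A X : Type u} [CommRing A] [CommRing X] [Algebra A X] (W : Submonoid X)
    [Module.Flat A (LocalizedModule W X)] : Module.Flat A (Localization W) :=
  Module.Flat.of_linearEquiv
    ((IsLocalizedModule.iso W (Algebra.linearMap X (Localization W))).restrictScalars A).symm

/-- Generalisations lift to a base change along a map flat at a point. -/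
theorem exists_le_liesOver_tensor {A A' A₁ : Type u} [CommRing A] [CommRing A'] [CommRing A₁] [Algebra A A']
    [Algebra A A₁] (p' : Ideal A') [p'.IsPrime] [Module.Flat A (Localization.AtPrime p')]
    (T : Ideal (A₁ ⊗[A] A')) [T.IsPrime] (hT : T.comap (algebraMap A' (A₁ ⊗[A] A')) = p')
    (t' t : Ideal A₁) [t'.IsPrime] [t.IsPrime] (hle : t' ≤ t) (hTt : T.comap (algebraMap A₁ (A₁ ⊗[A] A')) = t) :
    ∃ (T' : Ideal (A₁ ⊗[A] A')) (_ : T'.IsPrime), T' ≤ T ∧ T'.comap (algebraMap A₁ (A₁ ⊗[A] A')) = t' := by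
  let A₂ := A₁ ⊗[A] A'
  haveI : IsScalarTower A A' A₂ := IsScalarTower.of_algebraMap_eq fun r =>
    ((Algebra.TensorProduct.includeRight : A' →ₐ[A] A₂).commutes r).symm
  haveI : Module.Flat A (LocalizedModule p'.primeCompl A') := flat_localizedModule_of_localization p'.primeCompl
  have hbc : IsBaseChange A₁ ((Algebra.linearMap A' A₂).restrictScalars A) := by
    have h : (Algebra.linearMap A' A₂).restrictScalars A = TensorProduct.mk A A₁ A' 1 := LinearMap.ext fun a => rfl
    rw [h]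
    exact TensorProduct.isBaseChange A A' A₁
  have hfl : FlatCA.FlatAt A₁ T A₂ := flatAt_baseChange (R := A) (S := A') A' (R₂ := A₁) (S₂ := A₂) A₂
    (Algebra.linearMap A' A₂) hbc T (by
      have key : ∀ (q : Ideal A') [q.IsPrime], q = p' → FlatCA.FlatAt A q A' := fun q _ hq => by
        subst hq
        exact (inferInstance : Module.Flat A (LocalizedModule q.primeCompl A'))
      exact key _ hT)
  haveI : Module.Flat A₁ (LocalizedModule T.primeCompl A₂) := hfl
  haveI : Module.Flat A₁ (Localization T.primeCompl) := flat_localization_of_localizedModule T.primeCompl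
  let AT := Localization T.primeCompl
  haveI : Algebra.HasGoingDown A₁ AT := inferInstance
  haveI hM : (IsLocalRing.maximalIdeal (Localization.AtPrime T)).LiesOver t := ⟨by
    rw [Ideal.under, IsScalarTower.algebraMap_eq A₁ A₂ (Localization.AtPrime T), ← Ideal.comap_comap,
      show (IsLocalRing.maximalIdeal (Localization.AtPrime T)).comap (algebraMap A₂ (Localization.AtPrime T)) = T from
        Localization.AtPrime.under_maximalIdeal, hTt]⟩
  haveI : Algebra.HasGoingDown A₁ (Localization.AtPrime T) := inferInstanceAs (Algebra.HasGoingDown A₁ AT)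
  obtain ⟨R, hRle, hR, hRo⟩ := Ideal.exists_ideal_le_liesOver_of_le (p := t') (q := t)
    (IsLocalRing.maximalIdeal (Localization.AtPrime T)) hle
  haveI := hR
  refine ⟨R.comap (algebraMap A₂ (Localization.AtPrime T)), inferInstance, ?_, ?_⟩
  · exact (Ideal.comap_mono hRle).trans (le_of_eq Localization.AtPrime.under_maximalIdeal)
  · rw [Ideal.comap_comap, ← IsScalarTower.algebraMap_eq]
    exact hRo.over.symm

set_option maxHeartbeats 1600000 in
/-- An impurity propagates along a base change flat at a point. -/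
theorem not_isImpurity_of_baseChange' {A B : Type u} [CommRing A] [CommRing B] [Algebra A B] [Algebra.FiniteType A B]
    (N : Type u) [AddCommGroup N] [Module B N] [Module.Finite B N] (p : Ideal A) [p.IsPrime]
    (A' B' N' : Type u) [CommRing A'] [CommRing B'] [Algebra A A'] [Algebra B B'] [Algebra A' B'] [Algebra A B']
    [IsScalarTower A B B'] [IsScalarTower A A' B'] [Algebra.IsPushout A B A' B']
    [AddCommGroup N'] [Module B' N'] [Module B N'] [IsScalarTower B B' N'] (f : N →ₗ[B] N') (hf : IsBaseChange B' f)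
    (p' : Ideal A') [p'.IsPrime] [p'.LiesOver p]
    (A₁ B₁ N₁ : Type u) [CommRing A₁] [CommRing B₁] [Algebra A A₁] [Algebra B B₁] [Algebra A₁ B₁] [Algebra A B₁]
    [IsScalarTower A B B₁] [IsScalarTower A A₁ B₁]
    [AddCommGroup N₁] [Module B₁ N₁] [Module B N₁] [IsScalarTower B B₁ N₁] [Module A₁ N₁] [IsScalarTower A₁ B₁ N₁]
    (f₁ : N →ₗ[B] N₁) (t' t : Ideal A₁) [t'.IsPrime] [t.IsPrime] (P : Ideal B₁) [P.IsPrime]
    (himp : FlatCA.IsImpurity A B N p A₁ B₁ N₁ f₁ t' t P)
    (A₂ : Type u) [CommRing A₂] [Algebra A A₂] [Algebra A₁ A₂] [Algebra A' A₂] [IsScalarTower A A₁ A₂]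
    [IsScalarTower A A' A₂] (T' T : Ideal A₂) [hT' : T'.IsPrime] [hT : T.IsPrime] (hT'T : T' ≤ T)
    (hT't : T'.comap (algebraMap A₁ A₂) = t') (hTt : T.comap (algebraMap A₁ A₂) = t) (hTp : T.comap (algebraMap A' A₂) = p')
    (h : ∀ (B₂ N₂ : Type u) [CommRing B₂] [Algebra B' B₂] [Algebra A₂ B₂] [Algebra A' B₂]
      [IsScalarTower A' B' B₂] [IsScalarTower A' A₂ B₂]
      [AddCommGroup N₂] [Module B₂ N₂] [Module B' N₂] [IsScalarTower B' B₂ N₂] [Module A₂ N₂]
      [IsScalarTower A₂ B₂ N₂] (f₂ : N' →ₗ[B'] N₂)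
      (P₂ : Ideal B₂) [P₂.IsPrime],
      ¬ FlatCA.IsImpurity A' B' N' p' A₂ B₂ N₂ f₂ T' T P₂) : False := by
  classical
  obtain ⟨hpo, hf₁, hle, htp, hPt, hass, hno⟩ := himp
  haveI := hpo
  haveI := htp
  haveI := hPt
  -- the rings and modules
  let B₂ := A₂ ⊗[A'] B'
  haveI : IsScalarTower A' B' B₂ := IsScalarTower.of_algebraMap_eq fun r =>
    ((Algebra.TensorProduct.includeRight : B' →ₐ[A'] B₂).commutes r).symm
  haveI hpo₂' : Algebra.IsPushout A' B' A₂ B₂ := Algebra.IsPushout.symm inferInstance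
  haveI : Algebra.IsPushout A A' B B' := Algebra.IsPushout.symm inferInstance
  letI : Algebra B B₂ := ((algebraMap B' B₂).comp (algebraMap B B')).toAlgebra
  haveI : IsScalarTower B B' B₂ := IsScalarTower.of_algebraMap_eq fun _ => rfl
  haveI : IsScalarTower A B B₂ := IsScalarTower.of_algebraMap_eq fun r => by
    rw [IsScalarTower.algebraMap_apply B B' B₂, ← IsScalarTower.algebraMap_apply A B B',
      IsScalarTower.algebraMap_apply A A' B', ← IsScalarTower.algebraMap_apply A' B' B₂,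
      IsScalarTower.algebraMap_apply A' A₂ B₂, ← IsScalarTower.algebraMap_apply A A' A₂,
      ← IsScalarTower.algebraMap_apply A A₂ B₂]
  haveI : Algebra.IsPushout A A₁ B B₁ := Algebra.IsPushout.symm inferInstance
  let e₁ := Algebra.IsPushout.equiv A A₁ B B₁
  let χ : A₁ ⊗[A] B →ₐ[A₁] B₂ :=
    Algebra.TensorProduct.lift (Algebra.ofId A₁ B₂) (IsScalarTower.toAlgHom A B B₂) fun _ _ => .all _ _
  let ψ : B₁ →ₐ[A₁] B₂ := χ.comp e₁.symm.toAlgHom
  letI : Algebra B₁ B₂ := ψ.toRingHom.toAlgebra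
  haveI : IsScalarTower A₁ B₁ B₂ := IsScalarTower.of_algebraMap_eq fun r => (ψ.commutes r).symm
  haveI : IsScalarTower B B₁ B₂ := IsScalarTower.of_algebraMap_eq fun b => by
    show algebraMap B B₂ b = χ (e₁.symm (algebraMap B B₁ b))
    have : e₁.symm (algebraMap B B₁ b) = (1 : A₁) ⊗ₜ[A] b :=
      (AlgEquiv.symm_apply_eq _).2 (by rw [Algebra.IsPushout.equiv_tmul, map_one, one_mul])
    rw [this]
    simp [χ]
  haveI : IsScalarTower A B' B₂ := IsScalarTower.of_algebraMap_eq fun r => by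
    rw [IsScalarTower.algebraMap_apply A B B₂, IsScalarTower.algebraMap_apply A B B',
      ← IsScalarTower.algebraMap_apply B B' B₂]
  haveI hpoB : Algebra.IsPushout A B A₂ B₂ := by
    haveI : Algebra.IsPushout A' A₂ B' B₂ := Algebra.IsPushout.symm hpo₂'
    exact Algebra.IsPushout.symm ((Algebra.IsPushout.comp_iff (R := A) (S := A') (R' := B) (S' := B') (T := A₂) (T' := B₂)).2 inferInstance)
  let N₂ := B₂ ⊗[B'] N'
  let f₂ : N' →ₗ[B'] N₂ := TensorProduct.mk B' B₂ N' 1
  let fN : N →ₗ[B] N₂ := f₂.restrictScalars B ∘ₗ f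
  have hfN : IsBaseChange B₂ fN := IsBaseChange.comp hf (TensorProduct.isBaseChange B' N' B₂)
  haveI : IsScalarTower B₁ B₂ N₂ := inferInstance
  haveI : IsScalarTower B B₁ N₂ := inferInstance
  haveI : IsScalarTower A₁ B₁ N₂ := inferInstance
  haveI : Module.Finite B₁ N₁ := Module.Finite.equiv hf₁.equiv
  haveI : Module.Finite B₂ N₂ := Module.Finite.equiv hfN.equiv
  haveI : Algebra.FiniteType A₁ B₁ := Algebra.FiniteType.equiv (inferInstance : Algebra.FiniteType A₁ (A₁ ⊗[A] B)) e₁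
  haveI : Algebra.FiniteType A₂ B₂ :=
    Algebra.FiniteType.equiv (inferInstance : Algebra.FiniteType A₂ (A₂ ⊗[A] B))
      (haveI : Algebra.IsPushout A A₂ B B₂ := Algebra.IsPushout.symm hpoB; Algebra.IsPushout.equiv A A₂ B B₂)
  let g : N₁ →ₗ[B₁] N₂ := hf₁.lift fN
  have hgB : IsBaseChange B₂ g := by
    refine IsBaseChange.of_comp hf₁ ?_
    have : g.restrictScalars B ∘ₗ f₁ = fN := LinearMap.ext fun n => hf₁.lift_eq fN n
    rw [this]; exact hfN
  haveI : IsScalarTower A B₁ B₂ := IsScalarTower.of_algebraMap_eq fun r => by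
    rw [IsScalarTower.algebraMap_apply A B B₂, IsScalarTower.algebraMap_apply A B B₁,
      ← IsScalarTower.algebraMap_apply B B₁ B₂]
  haveI : Algebra.IsPushout A₁ A₂ B₁ B₂ := by
    haveI : Algebra.IsPushout A A₂ B B₂ := Algebra.IsPushout.symm hpoB
    exact (Algebra.IsPushout.comp_iff (R := A) (S := A₁) (R' := B) (S' := B₁) (T := A₂) (T' := B₂)).1 inferInstance
  haveI : SMulCommClass B₁ A₂ B₂ := inferInstance
  have hg : IsBaseChange A₂ (g.restrictScalars A₁) := by
    refine IsBaseChange.of_equiv ((Algebra.IsPushout.cancelBaseChange A₁ A₂ B₁ B₂ N₁).symm.trans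
      (hgB.equiv.restrictScalars A₂)) fun m => ?_
    show hgB.equiv ((Algebra.IsPushout.cancelBaseChange A₁ A₂ B₁ B₂ N₁).symm ((1 : A₂) ⊗ₜ[A₁] m)) = g m
    rw [Algebra.IsPushout.cancelBaseChange_symm_tmul, map_one, IsBaseChange.equiv_tmul, one_smul]
  obtain ⟨Q, hQ, hQT, hQP, hQa⟩ := exists_assoc_over_baseChange (R₂ := A₂) (S₂ := B₂) N₁ N₂ g hg T' t' hT't P hass
  haveI := hQ
  refine @h B₂ N₂ _ _ _ _ _ _ _ _ _ _ _ _ f₂ Q hQ
    ⟨hpo₂', TensorProduct.isBaseChange B' N' B₂, hT'T, ⟨hTp.symm⟩, hQT, hQa, fun Q' hQ' hQQ' hQ'T => ?_⟩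
  refine @hno (Q'.comap (algebraMap B₁ B₂)) inferInstance (hQP.symm.le.trans (Ideal.comap_mono hQQ')) ⟨?_⟩
  rw [Ideal.under, Ideal.comap_comap, ← IsScalarTower.algebraMap_eq, IsScalarTower.algebraMap_eq A₁ A₂ B₂,
    ← Ideal.comap_comap, show Q'.comap (algebraMap A₂ B₂) = T from hQ'T.over.symm, hTt]

/-- An impurity propagates along a base change flat at a point. -/
theorem not_isImpurity_of_baseChange {A B : Type u} [CommRing A] [CommRing B] [Algebra A B] [Algebra.FiniteType A B]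
    (N : Type u) [AddCommGroup N] [Module B N] [Module.Finite B N] (p : Ideal A) [p.IsPrime]
    (A' B' N' : Type u) [CommRing A'] [CommRing B'] [Algebra A A'] [Algebra B B'] [Algebra A' B'] [Algebra A B']
    [IsScalarTower A B B'] [IsScalarTower A A' B'] [Algebra.IsPushout A B A' B']
    [AddCommGroup N'] [Module B' N'] [Module B N'] [IsScalarTower B B' N'] (f : N →ₗ[B] N') (hf : IsBaseChange B' f)
    (p' : Ideal A') [p'.IsPrime] [p'.LiesOver p] [Module.Flat A (Localization.AtPrime p')]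
    (A₁ B₁ N₁ : Type u) [CommRing A₁] [CommRing B₁] [Algebra A A₁] [Algebra B B₁] [Algebra A₁ B₁] [Algebra A B₁]
    [IsScalarTower A B B₁] [IsScalarTower A A₁ B₁]
    [AddCommGroup N₁] [Module B₁ N₁] [Module B N₁] [IsScalarTower B B₁ N₁] [Module A₁ N₁] [IsScalarTower A₁ B₁ N₁]
    (f₁ : N →ₗ[B] N₁) (t' t : Ideal A₁) [t'.IsPrime] [t.IsPrime] (P : Ideal B₁) [P.IsPrime]
    (himp : FlatCA.IsImpurity A B N p A₁ B₁ N₁ f₁ t' t P)
    (h : ∀ (B₂ N₂ : Type u) [CommRing B₂] [Algebra B' B₂] [Algebra (A₁ ⊗[A] A') B₂] [Algebra A' B₂]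
      [IsScalarTower A' B' B₂] [IsScalarTower A' (A₁ ⊗[A] A') B₂]
      [AddCommGroup N₂] [Module B₂ N₂] [Module B' N₂] [IsScalarTower B' B₂ N₂] [Module (A₁ ⊗[A] A') N₂]
      [IsScalarTower (A₁ ⊗[A] A') B₂ N₂] (f₂ : N' →ₗ[B'] N₂) (T' T : Ideal (A₁ ⊗[A] A')) [T'.IsPrime] [T.IsPrime]
      (P₂ : Ideal B₂) [P₂.IsPrime], T.comap (algebraMap A₁ (A₁ ⊗[A] A')) = t →
      ¬ FlatCA.IsImpurity A' B' N' p' (A₁ ⊗[A] A') B₂ N₂ f₂ T' T P₂) : False := by
  classical
  obtain ⟨hpo, hf₁, hle, htp, hPt, hass, hno⟩ := himp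
  haveI := hpo
  haveI := htp
  haveI := hPt
  let A₂ := A₁ ⊗[A] A'
  haveI : IsScalarTower A A' A₂ := IsScalarTower.of_algebraMap_eq fun r =>
    ((Algebra.TensorProduct.includeRight : A' →ₐ[A] A₂).commutes r).symm
  obtain ⟨T, hT, hTt, hTp⟩ := exists_prime_tensor (R := A) (R' := A₁) (X := A') t p'
    ((htp.over).symm.trans (p'.over_def p))
  haveI := hT
  obtain ⟨T', hT', hT'T, hT't⟩ := exists_le_liesOver_tensor p' T hTp t' t hle hTt
  haveI := hT'
  exact not_isImpurity_of_baseChange' N p A' B' N' f hf p' A₁ B₁ N₁ f₁ t' t P ⟨hpo, hf₁, hle, htp, hPt, hass, hno⟩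
    A₂ T' T hT'T hT't hTt hTp fun B₂ N₂ _ _ _ _ _ _ _ _ _ _ _ _ f₂ P₂ _ => h B₂ N₂ f₂ T' T P₂ hTt

/-- An étale neighbourhood stays one after base change. -/
theorem isEtaleNhd_tensor {A A' A₁ : Type u} [CommRing A] [CommRing A'] [CommRing A₁] [Algebra A A']
    [Algebra A A₁] {p : Ideal A} [p.IsPrime] (p' : Ideal A') [p'.IsPrime] [p'.LiesOver p] {t : Ideal A₁} [t.IsPrime]
    (hn : FlatCA.IsEtaleNhd A A₁ p t) (T : Ideal (A₁ ⊗[A] A')) [T.IsPrime]
    (hTt : T.comap (algebraMap A₁ (A₁ ⊗[A] A')) = t) (hTp : T.comap (algebraMap A' (A₁ ⊗[A] A')) = p') :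
    FlatCA.IsEtaleNhd A' (A₁ ⊗[A] A') p' T := by
  let A₂ := A₁ ⊗[A] A'
  haveI : Algebra.Etale A A₁ := hn.1
  haveI : IsScalarTower A A' A₂ := IsScalarTower.of_algebraMap_eq fun r =>
    ((Algebra.TensorProduct.includeRight : A' →ₐ[A] A₂).commutes r).symm
  haveI : SMulCommClass A' A₁ A₂ := ⟨fun a b c => by simp only [Algebra.smul_def]; ring⟩
  haveI : Algebra.IsPushout A A' A₁ A₂ := Algebra.IsPushout.symm inferInstance
  haveI : Algebra.Etale A' A₂ := Algebra.Etale.of_equiv (Algebra.IsPushout.equiv A A' A₁ A₂)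
  have h := trivExt_incR (T := A') (TrivExt.of_isEtaleNhd hn) p' (p'.over_def p).symm T hTt hTp
  exact TrivExt.isEtaleNhd h

end Groth.Agent.RG11
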