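import Groth.Agent.AssFiber.Basic
import Groth.Agent.ConsPropLib.GenProjective
import Groth.Prelude.Def_FlatCA
import Mathlib

/-!
# Where the associated points of the fibres lie in an open subset
-/

universe u

set_option linter.style.haveILetI false

namespace Groth.Agent.RG11

open TensorProduct Topology

attribute [local instance] Algebra.TensorProduct.rightAlgebra

/-- A constructible set containing all generalisations of a point is a neighbourhood. -/
theorem exists_basicOpen_subset_of_constructible {R : Type u} [CommRing R] {E : Set (PrimeSpectrum R)}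
    (hE : IsConstructible E) (p : Ideal R) [p.IsPrime] (h : ∀ t : PrimeSpectrum R, t.asIdeal ≤ p → t ∈ E) :
    ∃ f ∉ p, ∀ t : PrimeSpectrum R, f ∉ t.asIdeal → t ∈ E := by
  obtain ⟨T, _, φ, hφ⟩ := PrimeSpectrum.exists_range_eq_of_isConstructible hE.compl
  obtain ⟨f, hfp, hf⟩ : ∃ f ∉ p, φ f = 0 := by
    by_contra! hne
    have hdisj : Disjoint ((⊥ : Ideal T) : Set T) (p.primeCompl.map φ : Set T) := by
      rw [Set.disjoint_left]
      rintro x hx ⟨r, hr, rfl⟩
      exact hne r hr hx
    obtain ⟨Q, hQ, -, hdQ⟩ := Ideal.exists_le_prime_disjoint ⊥ _ hdisj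
    haveI := hQ
    have hle : Q.comap φ ≤ p := fun r hr => by_contra fun hrp => Set.disjoint_left.1 hdQ hr ⟨r, hrp, rfl⟩
    exact hφ.le ⟨(⟨Q, hQ⟩ : PrimeSpectrum T), rfl⟩ (h ⟨Q.comap φ, inferInstance⟩ hle)
  refine ⟨f, hfp, fun t ht => by_contra fun hne => ?_⟩
  obtain ⟨Q, rfl⟩ := hφ.ge hne
  exact ht (show φ f ∈ Q.asIdeal by rw [hf]; exact zero_mem _)

section Fibre

variable {R S : Type u} [CommRing R] [CommRing S] [Algebra R S] (p : Ideal R) [p.IsPrime]

/-- The contraction of a prime of the fibre lies over `p`. -/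
theorem liesOver_comap_fibre (P : Ideal (p.Fiber S)) [hP : P.IsPrime] :
    (P.comap (algebraMap S (p.Fiber S))).LiesOver p := ⟨by
  have hRS : ∀ r : R, algebraMap S (p.Fiber S) (algebraMap R S r) =
      algebraMap p.ResidueField (p.Fiber S) (algebraMap R p.ResidueField r) := fun r => by
    show (Algebra.TensorProduct.includeRight : S →ₐ[R] p.Fiber S) (algebraMap R S r) = _
    rw [AlgHom.commutes, ← IsScalarTower.algebraMap_apply]
  ext r
  rw [Ideal.under, Ideal.mem_comap, Ideal.mem_comap, hRS]
  constructor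
  · intro h; rw [Ideal.algebraMap_residueField_eq_zero.2 h, map_zero]; exact zero_mem _
  · intro h
    by_contra hr
    exact hP.ne_top (P.eq_top_of_isUnit_mem h (RingHom.isUnit_map _
      (isUnit_iff_ne_zero.2 fun h0 => hr (Ideal.algebraMap_residueField_eq_zero.1 h0))))⟩

/-- Primes of the fibre are extended. -/
theorem fiberIdeal_comap_fibre (P : Ideal (p.Fiber S)) [hP : P.IsPrime] :
    FlatCA.fiberIdeal p (P.comap (algebraMap S (p.Fiber S))) = P := by
  refine le_antisymm (Ideal.map_le_iff_le_comap.2 le_rfl) fun b hb => ?_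
  obtain ⟨r, hr, s, hs⟩ := AssFiber.exists_smul_eq_includeRight p b
  have hu : IsUnit ((1 : p.ResidueField) ⊗ₜ[R] algebraMap R S r : p.Fiber S) := by
    rw [Algebra.algebraMap_eq_smul_one, ← smul_tmul, ← Algebra.algebraMap_eq_smul_one]
    have hne : algebraMap R p.ResidueField r ≠ 0 := fun h => hr (Ideal.algebraMap_residueField_eq_zero.1 h)
    exact (isUnit_iff_ne_zero.2 hne).map (Algebra.TensorProduct.includeLeftRingHom (R := R) (A := p.ResidueField) (B := S))
  have hsP : (1 : p.ResidueField) ⊗ₜ[R] s ∈ P := by rw [← hs]; exact Ideal.mul_mem_left _ _ hb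
  have h1 : (1 : p.ResidueField) ⊗ₜ[R] s ∈ FlatCA.fiberIdeal p (P.comap (algebraMap S (p.Fiber S))) :=
    Ideal.mem_map_of_mem (Algebra.TensorProduct.includeRight (R := R) (A := p.ResidueField) (B := S)).toRingHom hsP
  rw [← hs] at h1
  exact (Ideal.unit_mul_mem_iff_mem _ hu).1 h1

variable (N : Type u) [AddCommGroup N] [Module S N] [Module R N] [IsScalarTower R S N]

/-- Vanishing in `κ(p) ⊗ N`. -/
theorem toFiberMod_eq_zero_of_one_tmul {n : N} (h : (1 : p.ResidueField) ⊗ₜ[R] n = 0) :
    FlatCA.toFiberMod p (S := S) N n = 0 := by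
  let ψ : p.ResidueField ⊗[R] N →+ (p.Fiber S) ⊗[S] N :=
    TensorProduct.liftAddHom
      { toFun := fun c =>
          { toFun := fun m => ((c ⊗ₜ[R] (1 : S) : p.Fiber S) ⊗ₜ[S] m : (p.Fiber S) ⊗[S] N)
            map_zero' := tmul_zero _ _
            map_add' := fun a b => tmul_add _ _ _ }
        map_zero' := by ext m; simp
        map_add' := fun a b => by ext m; simp [add_tmul] }
      fun r c m => by
        show ((r • c) ⊗ₜ[R] (1 : S) : p.Fiber S) ⊗ₜ[S] m = (c ⊗ₜ[R] (1 : S) : p.Fiber S) ⊗ₜ[S] (r • m)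
        rw [← algebraMap_smul S r m, ← smul_tmul, smul_tmul r c (1 : S), Algebra.algebraMap_eq_smul_one]
        congr 1
        rw [← Algebra.algebraMap_eq_smul_one, Algebra.smul_def (R := S) (A := p.Fiber S), show algebraMap S (p.Fiber S) (algebraMap R S r) =
          (1 : p.ResidueField) ⊗ₜ[R] algebraMap R S r from rfl, Algebra.TensorProduct.tmul_mul_tmul, one_mul, mul_one]
  have h1 := congrArg ψ h
  rw [map_zero] at h1
  exact h1

theorem one_tmul_eq_zero_of_smul_mem {n : N} {r : R} (hr : r ∉ p) (h : r • n ∈ p • (⊤ : Submodule R N)) :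
    (1 : p.ResidueField) ⊗ₜ[R] n = 0 := by
  have hp : ∀ m ∈ p • (⊤ : Submodule R N), (1 : p.ResidueField) ⊗ₜ[R] m = 0 := by
    intro m hm
    induction hm using Submodule.smul_induction_on' with
    | smul a ha m _ =>
      rw [tmul_smul, smul_tmul', Algebra.smul_def, Ideal.algebraMap_residueField_eq_zero.2 ha, zero_mul, zero_tmul]
    | add a _ b _ ha hb => rw [tmul_add, ha, hb, add_zero]
  have h1 := hp _ h
  rw [tmul_smul] at h1
  have hne : algebraMap R p.ResidueField r ≠ 0 := fun h0 => hr (Ideal.algebraMap_residueField_eq_zero.1 h0)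
  exact (isUnit_iff_ne_zero.2 hne).smul_eq_zero.1 (by rw [algebraMap_smul]; exact h1)

variable [Algebra.FiniteType R S] [Module.Finite S N] {m : ℕ} (j : Fin m → S)

/-- Multiplication by the `j i` is injective on the fibre exactly if every associated point avoids `V(j)`. -/
theorem injective_lTensor_iff_assoc :
    Function.Injective (((LinearMap.pi fun i => j i • (LinearMap.id : N →ₗ[S] N)).restrictScalars R).lTensor p.ResidueField) ↔
      ∀ (Q : Ideal S) [Q.IsPrime], Q.LiesOver p →
        FlatCA.fiberIdeal p Q ∈ associatedPrimes (p.Fiber S) (FlatCA.fiberMod p S N) → ∃ i, j i ∉ Q := by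
  classical
  haveI : IsNoetherianRing (p.Fiber S) := Algebra.FiniteType.isNoetherianRing p.ResidueField (p.Fiber S)
  let u := (LinearMap.pi fun i => j i • (LinearMap.id : N →ₗ[S] N)).restrictScalars R
  have hsurj : ∀ z : p.ResidueField ⊗[R] N, ∃ r ∉ p, ∃ n : N, r • z = (1 : p.ResidueField) ⊗ₜ[R] n := by
    intro z
    induction z using TensorProduct.induction_on with
    | zero => exact ⟨1, fun h => Ideal.IsPrime.ne_top' ((Ideal.eq_top_iff_one _).2 h), 0, by simp⟩
    | tmul c n =>
      obtain ⟨⟨a, r⟩, h⟩ := (AssFiber.isLocalizedModule_residueField p).surj c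
      obtain ⟨a, rfl⟩ := Ideal.Quotient.mk_surjective a
      refine ⟨r, r.2, a • n, ?_⟩
      have h' : (r : R) • c = algebraMap R p.ResidueField a := by
        simp only [Submonoid.smul_def, LinearMap.coe_restrictScalars, Algebra.linearMap_apply] at h
        rw [h]
        exact (IsScalarTower.algebraMap_apply R (R ⧸ p) p.ResidueField a).symm
      rw [smul_tmul', h', tmul_smul, smul_tmul', Algebra.algebraMap_eq_smul_one]
    | add a b ha hb =>
      obtain ⟨r, hr, n, hn⟩ := ha
      obtain ⟨r', hr', n', hn'⟩ := hb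
      refine ⟨r * r', Ideal.IsPrime.mul_notMem ‹_› hr hr', r' • n + r • n', ?_⟩
      rw [smul_add, mul_comm r r', mul_smul, hn, mul_comm r' r, mul_smul, hn', tmul_add, tmul_smul, tmul_smul]
  have hne_of : ∀ r ∉ p, IsUnit (algebraMap R p.ResidueField r) := fun r hr =>
    isUnit_iff_ne_zero.2 fun h0 => hr (Ideal.algebraMap_residueField_eq_zero.1 h0)
  constructor
  · intro hinj Q hQ hQp hass
    haveI := hQp
    by_contra hall
    push Not at hall
    obtain ⟨hpr, x, hx⟩ := isAssociatedPrime_iff.1 hass
    have := AssFiber.isLocalizedModule_quotToFiber p (S := S) N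
    obtain ⟨⟨y, ⟨_, w, hw, rfl⟩⟩, hy⟩ := IsLocalizedModule.surj (Algebra.algebraMapSubmonoid S p.primeCompl)
      (AssFiber.quotToFiber p (S := S) N) x
    obtain ⟨n, rfl⟩ := Submodule.Quotient.mk_surjective _ y
    have hn : FlatCA.toFiberMod p (S := S) N n = algebraMap R S w • x := hy.symm
    have hsmul : ∀ (s : S) (v : FlatCA.fiberMod p S N), algebraMap S (p.Fiber S) s • v = s • v :=
      AssFiber.algebraMap_smul_fiberMod p N
    have hji : ∀ i, ∃ r ∉ p, r • j i • n ∈ p • (⊤ : Submodule R N) := by
      intro i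
      have h1 : algebraMap S (p.Fiber S) (j i) ∈ Submodule.colon (⊥ : Submodule (p.Fiber S) (FlatCA.fiberMod p S N)) {x} :=
        hx.le (Ideal.mem_map_of_mem _ (hall i))
      rw [Submodule.mem_colon_singleton, Submodule.mem_bot, hsmul] at h1
      obtain ⟨r, hr, hrn⟩ := AssFiber.exists_smul_mem_of_toFiberMod_eq_zero p (S := S) N (n := j i • n) (by
        rw [map_smul, hn, smul_comm, h1, smul_zero])
      exact ⟨r, hr, by have := AssFiber.mem_smul_top_of_mem_pN p N hrn; rwa [algebraMap_smul] at this⟩
    choose r hr hrn using hji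
    have h2 : (1 : p.ResidueField) ⊗ₜ[R] n = 0 := by
      refine hinj ?_
      rw [map_zero, LinearMap.lTensor_tmul]
      let e := TensorProduct.piRight R R p.ResidueField fun _ : Fin m => N
      refine e.map_eq_zero_iff.1 (funext fun i => ?_)
      show (1 : p.ResidueField) ⊗ₜ[R] (j i • n) = 0
      exact one_tmul_eq_zero_of_smul_mem p N (hr i) (hrn i)
    have h3 := toFiberMod_eq_zero_of_one_tmul (S := S) p N h2
    have hunit : IsUnit (algebraMap S (p.Fiber S) (algebraMap R S w)) := by
      show IsUnit ((1 : p.ResidueField) ⊗ₜ[R] algebraMap R S w)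
      rw [Algebra.algebraMap_eq_smul_one, ← smul_tmul, ← Algebra.algebraMap_eq_smul_one]
      exact (hne_of w hw).map (Algebra.TensorProduct.includeLeftRingHom (R := R) (A := p.ResidueField) (B := S))
    have hx0 : x = 0 := hunit.smul_eq_zero.1 (by rw [hsmul, ← hn, h3])
    refine hpr.ne_top ?_
    rw [hx, hx0, Submodule.colon_singleton_zero]
  · intro hass
    rw [injective_iff_map_eq_zero]
    intro z hz
    obtain ⟨r, hr, n, hn⟩ := hsurj z
    have hun : (1 : p.ResidueField) ⊗ₜ[R] u n = 0 := by
      rw [← LinearMap.lTensor_tmul, ← hn, map_smul, hz, smul_zero]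
    suffices h0 : (1 : p.ResidueField) ⊗ₜ[R] n = 0 by
      rw [h0, ← algebraMap_smul p.ResidueField r z] at hn
      exact (hne_of r hr).smul_eq_zero.1 hn
    by_contra h0
    let x := FlatCA.toFiberMod p (S := S) N n
    have hxne : x ≠ 0 := fun hx => h0 (by
      obtain ⟨r', hr', hrn'⟩ := AssFiber.exists_smul_mem_of_toFiberMod_eq_zero p (S := S) N hx
      refine one_tmul_eq_zero_of_smul_mem p N hr' ?_
      have := AssFiber.mem_smul_top_of_mem_pN p N hrn'
      rwa [algebraMap_smul] at this)
    obtain ⟨P, hP, hle⟩ := exists_le_isAssociatedPrime_of_isNoetherianRing (p.Fiber S) x hxne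
    haveI := hP.isPrime
    obtain ⟨i, hi⟩ := hass (P.comap (algebraMap S (p.Fiber S))) (liesOver_comap_fibre p P)
      (by rw [fiberIdeal_comap_fibre]; exact hP)
    refine hi (hle ?_)
    rw [Submodule.mem_colon_singleton, Submodule.mem_bot, AssFiber.algebraMap_smul_fiberMod, ← map_smul]
    let e := TensorProduct.piRight R R p.ResidueField fun _ : Fin m => N
    have := congr_fun (congrArg e hun) i
    rw [map_zero] at this
    exact toFiberMod_eq_zero_of_one_tmul (S := S) p N this

end Fibre

/-- The points over which all associated points avoid `V(j)` form a constructible set. -/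
theorem exists_constructible_injective {R S : Type u} [CommRing R] [CommRing S] [Algebra R S]
    [Algebra.FinitePresentation R S] {M M' : Type u} [AddCommGroup M] [Module S M] [Module R M] [IsScalarTower R S M]
    [Module.FinitePresentation S M] [AddCommGroup M'] [Module S M'] [Module R M'] [IsScalarTower R S M']
    [Module.FinitePresentation S M'] (u : M →ₗ[S] M') :
    ∃ E : Set (PrimeSpectrum R), IsConstructible E ∧
      ∀ p : PrimeSpectrum R, Function.Injective ((u.restrictScalars R).lTensor p.asIdeal.ResidueField) ↔ p ∈ E := by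
  let F := Fin 0 → S
  haveI : Module.FinitePresentation S F := Module.finitePresentation_of_projective _ _
  obtain ⟨E, hE, h⟩ := ConsPropLib.exists_constructible_exact (R := R) (0 : F →ₗ[S] M) u
  refine ⟨E, hE, fun p => ?_⟩
  rw [← h p.asIdeal.ResidueField p (Ideal.ker_algebraMap_residueField _).symm]
  rw [LinearMap.restrictScalars_zero, LinearMap.lTensor_zero]
  constructor
  · intro hinj z
    exact ⟨fun hz => ⟨0, by rw [LinearMap.zero_apply]; exact (hinj (hz.trans (map_zero _).symm)).symm⟩,
      fun ⟨w, hw⟩ => by rw [← hw, LinearMap.zero_apply, map_zero]⟩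
  · intro hex
    rw [injective_iff_map_eq_zero]
    intro z hz
    obtain ⟨w, hw⟩ := (hex z).1 hz
    rw [← hw, LinearMap.zero_apply]

end Groth.Agent.RG11
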