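import Groth.Agent.RG11.AssocSpecialize
import Groth.Agent.RG11.PureFibre
import Mathlib

/-!
# Injectivity tested at associated points of the closed fibre
-/

universe u

set_option linter.style.haveILetI false

namespace Groth.Agent.RG11

open TensorProduct IsLocalRing

attribute [local instance] Algebra.TensorProduct.rightAlgebra

theorem isEtaleNhd_self {A : Type u} [CommRing A] (p : Ideal A) [p.IsPrime] : FlatCA.IsEtaleNhd A A p p := by
  refine ⟨inferInstance, ⟨rfl⟩, ?_⟩
  have h : ∀ x, Ideal.ResidueField.mapₐ p p (Algebra.ofId A A) (rfl : p = p.under A) x = x := by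
    intro x
    exact AlgHom.congr_fun (Ideal.ResidueField.algHom_ext (A := A) (by ext) : _ = AlgHom.id A p.ResidueField) x
  exact ⟨fun a b hab => by rwa [h, h] at hab, fun b => ⟨b, h b⟩⟩

/-- For a local base and a flat module pure along the closed fibre, associated points of all fibres specialise to
associated points of the closed fibre. -/
theorem exists_assoc_closed_of_pure {A B : Type u} [CommRing A] [IsLocalRing A] [CommRing B] [Algebra A B]
    [Algebra.FiniteType A B] (N : Type u) [AddCommGroup N] [Module B N] [Module A N] [IsScalarTower A B N]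
    [Module.Finite B N] [Module.Flat A N] (hpure : FlatCA.IsPureAlong A B N (maximalIdeal A))
    (t : Ideal A) [t.IsPrime] (Q : Ideal B) [Q.IsPrime] [Q.LiesOver t]
    (hass : FlatCA.fiberIdeal t Q ∈ associatedPrimes (t.Fiber B) (FlatCA.fiberMod t B N)) :
    ∃ (q : Ideal B) (_ : q.IsPrime), Q ≤ q ∧ q.LiesOver (maximalIdeal A) ∧
      FlatCA.fiberIdeal (maximalIdeal A) q ∈
        associatedPrimes ((maximalIdeal A).Fiber B) (FlatCA.fiberMod (maximalIdeal A) B N) := by
  haveI : Algebra.IsPushout A B A B := Algebra.IsPushout.symm inferInstance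
  obtain ⟨W, hW, hQW, hWp⟩ : ∃ W : Ideal B, W.IsPrime ∧ Q ≤ W ∧ W.LiesOver (maximalIdeal A) := by
    by_contra! hno
    exact hpure A B N LinearMap.id t (maximalIdeal A) Q (isEtaleNhd_self _)
      ⟨inferInstance, IsBaseChange.of_equiv (TensorProduct.lid B N) (fun x => by simp),
        le_maximalIdeal (Ideal.IsPrime.ne_top'), ⟨rfl⟩, inferInstance, hass, fun P' hP' hle => hno P' hP' hle⟩
  haveI := hW
  haveI := hWp
  exact exists_assoc_specialize N (maximalIdeal A) t Q hass W hQW (flat_localizedModule W.primeCompl N)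

/-- An element avoiding the associated points of the closed fibre acts injectively. -/
theorem eq_zero_of_smul_eq_zero_of_pure {A B : Type u} [CommRing A] [IsLocalRing A] [CommRing B] [Algebra A B]
    [Algebra.FiniteType A B] (N : Type u) [AddCommGroup N] [Module B N] [Module A N] [IsScalarTower A B N]
    [Module.Finite B N] [Module.Flat A N] (hpure : FlatCA.IsPureAlong A B N (maximalIdeal A)) (s : B)
    (hs : ∀ (q : Ideal B) [q.IsPrime], q.LiesOver (maximalIdeal A) →
      FlatCA.fiberIdeal (maximalIdeal A) q ∈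
        associatedPrimes ((maximalIdeal A).Fiber B) (FlatCA.fiberMod (maximalIdeal A) B N) → s ∉ q)
    (n : N) (hn : s • n = 0) : n = 0 := by
  have hloc : ∀ (w : Ideal B) [w.IsPrime], ∃ σ ∉ w, σ • n = 0 := by
    intro w _
    haveI : w.LiesOver (w.comap (algebraMap A B)) := ⟨rfl⟩
    obtain ⟨T, hT, hmem⟩ := exists_assoc_points N (w.comap (algebraMap A B)) w
    obtain ⟨σ, hσ, h⟩ := exists_smul_eq_zero_of_linear_map N (w.comap (algebraMap A B)) w (LinearMap.lsmul B N s)
      (fun m hm => hmem m fun r hr => ⟨s, fun hsr => by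
        obtain ⟨-, hr1, hr2⟩ := hT r hr
        haveI := hr1
        obtain ⟨q, hq, hle, hqp, hqa⟩ := exists_assoc_closed_of_pure N hpure _ r.asIdeal hr2
        exact hs q hqp hqa (hle hsr), hm⟩)
      A (n ⊗ₜ[A] (1 : A)) (by
        rw [LinearMap.rTensor_tmul]
        show (s • n) ⊗ₜ[A] (1 : A) = 0
        rw [hn, zero_tmul])
    refine ⟨σ, hσ, ?_⟩
    rw [TensorProduct.smul_tmul'] at h
    have := congrArg (TensorProduct.rid A N) h
    rwa [TensorProduct.rid_tmul, one_smul, map_zero] at this
  by_contra hn0
  have hne : (Submodule.span B {n}).annihilator ≠ ⊤ := fun htop => hn0 (by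
    have h1 : (1 : B) ∈ (Submodule.span B {n}).annihilator := by rw [htop]; exact Submodule.mem_top
    simpa using (Submodule.mem_annihilator_span_singleton n _).1 h1)
  obtain ⟨w, hw, hle⟩ := Ideal.exists_le_maximal _ hne
  obtain ⟨σ, hσ, h⟩ := hloc w
  exact hσ (hle ((Submodule.mem_annihilator_span_singleton n _).2 h))

/-- Injectivity is tested at the associated points of the closed fibre. -/
theorem injective_of_assoc_closed {A B : Type u} [CommRing A] [IsLocalRing A] [CommRing B] [Algebra A B]
    [Algebra.FiniteType A B] (N : Type u) [AddCommGroup N] [Module B N] [Module A N] [IsScalarTower A B N]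
    [Module.Finite B N] [Module.Flat A N] (hpure : FlatCA.IsPureAlong A B N (maximalIdeal A))
    {N' : Type u} [AddCommGroup N'] [Module B N'] (φ : N →ₗ[B] N')
    (h : ∀ (q : Ideal B) [q.IsPrime], q.LiesOver (maximalIdeal A) →
      FlatCA.fiberIdeal (maximalIdeal A) q ∈
        associatedPrimes ((maximalIdeal A).Fiber B) (FlatCA.fiberMod (maximalIdeal A) B N) →
      Function.Injective (LocalizedModule.map q.primeCompl φ)) : Function.Injective φ := by
  classical
  rw [injective_iff_map_eq_zero]
  intro n hn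
  haveI : IsNoetherianRing ((maximalIdeal A).Fiber B) :=
    Algebra.FiniteType.isNoetherianRing (maximalIdeal A).ResidueField _
  haveI : Module.Finite ((maximalIdeal A).Fiber B) (FlatCA.fiberMod (maximalIdeal A) B N) :=
    inferInstanceAs (Module.Finite ((maximalIdeal A).Fiber B) (((maximalIdeal A).Fiber B) ⊗[B] N))
  let T := (associatedPrimes.finite ((maximalIdeal A).Fiber B)
    (FlatCA.fiberMod (maximalIdeal A) B N)).toFinset.image (Ideal.comap (algebraMap B ((maximalIdeal A).Fiber B)))
  let J : Ideal B := (Submodule.span B {n}).annihilator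
  have hTp : ∀ q ∈ T, ∃ (_ : q.IsPrime), q.LiesOver (maximalIdeal A) ∧ FlatCA.fiberIdeal (maximalIdeal A) q ∈
      associatedPrimes ((maximalIdeal A).Fiber B) (FlatCA.fiberMod (maximalIdeal A) B N) := by
    intro q hq
    obtain ⟨P, hP, rfl⟩ := Finset.mem_image.1 hq
    rw [Set.Finite.mem_toFinset] at hP
    haveI := hP.isPrime
    exact ⟨inferInstance, liesOver_comap_fibre _ P, by rw [fiberIdeal_comap_fibre]; exact hP⟩
  have hnot : ¬ (J : Set B) ⊆ ⋃ q ∈ (↑T : Set (Ideal B)), (q : Set B) := by
    intro hsub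
    obtain ⟨q, hq, hle⟩ := (Ideal.subset_union_prime (f := fun q : Ideal B => q) ⊤ ⊤
      fun i hi _ _ => (hTp i hi).1).1 hsub
    obtain ⟨_, hqp, hqa⟩ := hTp q hq
    have h0 : LocalizedModule.mkLinearMap q.primeCompl N n = 0 := by
      refine h q hqp hqa ?_
      rw [map_zero, LocalizedModule.mkLinearMap_apply, LocalizedModule.map_mk, hn, LocalizedModule.zero_mk]
    obtain ⟨c, hc⟩ := (IsLocalizedModule.eq_zero_iff q.primeCompl (LocalizedModule.mkLinearMap q.primeCompl N)).1 h0
    exact c.2 (hle ((Submodule.mem_annihilator_span_singleton n _).2 hc))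
  obtain ⟨s, hsJ, hsT⟩ := Set.not_subset.1 hnot
  simp only [Set.mem_iUnion, not_exists] at hsT
  refine eq_zero_of_smul_eq_zero_of_pure N hpure s (fun q _ hqp hqa hsq => ?_) n
    ((Submodule.mem_annihilator_span_singleton n _).1 hsJ)
  haveI := hqp
  refine hsT q (Finset.mem_image.2 ⟨_, (Set.Finite.mem_toFinset _).2 hqa, ?_⟩) hsq
  exact fiberIdeal_comap' _ q

end Groth.Agent.RG11
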