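import Groth.Agent.CAlgUI.Basic
import Groth.Agent.S0448
import Mathlib

/-!
# Families which stay pure when independent modulo the maximal ideal

`PureTest R W M` says: a finite family of `M` whose combinations lie in `𝔪 M` (up to `W`) only for
coefficients in `𝔪` is pure in `M`, localised at `W`. `Pure R W M` asks this of all finite powers of `M`.
-/

universe u

namespace Groth.Agent.RG11

open TensorProduct IsLocalRing

section Def

variable (R : Type u) [CommRing R] [IsLocalRing R] {S : Type u} [CommRing S] (W : Submonoid S)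
  (M : Type u) [AddCommGroup M] [Module R M] [Module S M] [SMulCommClass R S M]

/-- A family independent modulo `𝔪` up to `W` is pure up to `W`. -/
def PureTest : Prop :=
  ∀ (n : ℕ) (y : Fin n → M),
    (∀ a : Fin n → R, (∃ w ∈ W, w • ∑ i, a i • y i ∈ maximalIdeal R • (⊤ : Submodule R M)) → ∀ i, a i ∈ maximalIdeal R) →
    ∀ (Q : Type u) [AddCommGroup Q] [Module R Q] (x : Fin n → Q),
      (∃ w ∈ W, w • ∑ i, y i ⊗ₜ[R] x i = 0) → ∀ i, x i = 0

/-- `PureTest` for all finite powers. -/
def PurePowers : Prop := ∀ d : ℕ, PureTest R W (Fin d → M)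

end Def

section Lemmas

variable {R : Type u} [CommRing R] [IsLocalRing R] {S : Type u} [CommRing S] {W W' : Submonoid S}
  {M M' : Type u} [AddCommGroup M] [Module R M] [Module S M] [SMulCommClass R S M]
  [AddCommGroup M'] [Module R M'] [Module S M'] [SMulCommClass R S M']

theorem smul_mem_smul_top {w : S} {m : M} (h : m ∈ maximalIdeal R • (⊤ : Submodule R M)) :
    w • m ∈ maximalIdeal R • (⊤ : Submodule R M) := by
  refine Submodule.smul_induction_on h (fun a ha z _ => ?_) fun a b ha hb => by rw [smul_add]; exact add_mem ha hb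
  rw [← smul_comm a w z]
  exact Submodule.smul_mem_smul ha Submodule.mem_top

theorem map_mem_smul_top {X Y : Type u} [AddCommGroup X] [Module R X] [AddCommGroup Y] [Module R Y] (φ : X →ₗ[R] Y)
    {m : X} (h : m ∈ maximalIdeal R • (⊤ : Submodule R X)) : φ m ∈ maximalIdeal R • (⊤ : Submodule R Y) := by
  have := Submodule.mem_map_of_mem (f := φ) h
  rw [Submodule.map_smul''] at this
  exact Submodule.smul_mono le_rfl le_top this

/-- Enlarging `W`. -/
theorem PureTest.mono (h : PureTest R W M) (hW : W ≤ W') : PureTest R W' M := by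
  intro n y hy Q _ _ x ⟨w', hw', hx⟩
  refine h n (fun i => w' • y i) (fun a ⟨w, hw, ha⟩ => ?_) Q x ⟨1, W.one_mem, ?_⟩
  · refine hy a ⟨w * w', W'.mul_mem (hW hw) hw', ?_⟩
    rw [mul_smul]
    convert ha using 2
    rw [Finset.smul_sum]
    exact Finset.sum_congr rfl fun i _ => (smul_comm (a i) w' (y i)).symm
  · rw [one_smul, ← hx, Finset.smul_sum]
    exact Finset.sum_congr rfl fun i _ => (TensorProduct.smul_tmul' w' (y i) (x i)).symm

theorem PurePowers.mono (h : PurePowers R W M) (hW : W ≤ W') : PurePowers R W' M := fun d => (h d).mono hW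

/-- Shrinking `W` without losing elements up to multiples. -/
theorem PureTest.of_dvd (h : PureTest R W' M) (hW : W ≤ W') (hd : ∀ w' ∈ W', ∃ c : S, c * w' ∈ W) : PureTest R W M := by
  intro n y hy Q _ _ x ⟨w, hw, hx⟩
  refine h n y (fun a ⟨w', hw', ha⟩ => ?_) Q x ⟨w, hW hw, hx⟩
  obtain ⟨c, hc⟩ := hd w' hw'
  exact hy a ⟨c * w', hc, by rw [mul_smul]; exact smul_mem_smul_top ha⟩

theorem PurePowers.of_dvd (h : PurePowers R W' M) (hW : W ≤ W') (hd : ∀ w' ∈ W', ∃ c : S, c * w' ∈ W) :
    PurePowers R W M := fun d => (h d).of_dvd hW hd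

omit [Module S M'] [SMulCommClass R S M'] in
/-- Transport along a semilinear isomorphism. -/
theorem PureTest.congr {S' : Type u} [CommRing S'] [Module S' M'] [SMulCommClass R S' M'] {V : Submonoid S'}
    (f : S →+* S') (h : PureTest R W M) (e : M ≃ₗ[R] M') (he : ∀ s m, e (s • m) = f s • e m) (hV : V = W.map f) :
    PureTest R V M' := by
  intro n y hy Q _ _ x ⟨v, hv, hx⟩
  subst hV
  obtain ⟨w, hw, rfl⟩ := hv
  refine h n (fun i => e.symm (y i)) (fun a ⟨s, hs, ha⟩ => hy a ⟨f s, ⟨s, hs, rfl⟩, ?_⟩) Q x ⟨w, hw, ?_⟩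
  · have h1 := map_mem_smul_top e.toLinearMap ha
    simp only [LinearEquiv.coe_coe] at h1
    rw [he, map_sum] at h1
    convert h1 using 3
    simp
  · have hc : ∀ (s : S) (t : M ⊗[R] Q), TensorProduct.congr e (LinearEquiv.refl R Q) (s • t)
        = f s • TensorProduct.congr e (LinearEquiv.refl R Q) t := by
      intro s t
      induction t using TensorProduct.induction_on with
      | zero => simp
      | add a b ha hb => simp only [smul_add, map_add, ha, hb]
      | tmul m q => rw [TensorProduct.smul_tmul', TensorProduct.congr_tmul, TensorProduct.congr_tmul, he,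
          TensorProduct.smul_tmul']
    refine (TensorProduct.congr e (LinearEquiv.refl R Q)).injective ?_
    rw [map_zero, hc, map_sum, ← hx]
    simp

omit [Module S M] [SMulCommClass R S M] in
/-- A map to a flat module which is injective modulo `𝔪` up to `W`. -/
theorem purePowers_of_map {L : Type u} [AddCommGroup L] [Module R L] [Module.Flat R L] (u : M →ₗ[R] L)
    (φ : M' →ₗ[R] M) (hu : ∀ m, u m ∈ maximalIdeal R • (⊤ : Submodule R L) → m ∈ maximalIdeal R • (⊤ : Submodule R M))
    (hφ : ∀ m, φ m ∈ maximalIdeal R • (⊤ : Submodule R M) → ∃ w ∈ W, w • m ∈ maximalIdeal R • (⊤ : Submodule R M'))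
    (hφW : ∀ w ∈ W, ∀ (Q : Type u) [AddCommGroup Q] [Module R Q] (z : M' ⊗[R] Q), w • z = 0 → φ.rTensor Q z = 0) :
    PurePowers R W M' := by
  intro d n y hy Q _ _ x ⟨w, hw, hx⟩
  let F := Fin n → R
  let β : F →ₗ[R] (Fin d → L) := Fintype.linearCombination R fun i k => u (φ (y i k))
  have hβ : ∀ a k, β a k = u (φ ((∑ i, a i • y i) k)) := fun a k => by
    rw [Fintype.linearCombination_apply, Finset.sum_apply, Finset.sum_apply, map_sum, map_sum]
    exact Finset.sum_congr rfl fun i _ => by rw [Pi.smul_apply, Pi.smul_apply, map_smul, map_smul]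
  have hinj : Function.Injective (β.lTensor (ResidueField R)) := by
    have key : ∀ (Y : Type u) [AddCommGroup Y] [Module R Y] (y : Y),
        ((1 : R ⧸ maximalIdeal R) ⊗ₜ[R] y : (R ⧸ maximalIdeal R) ⊗[R] Y) = 0 ↔ y ∈ maximalIdeal R • (⊤ : Submodule R Y) := by
      intro Y _ _ y
      rw [← (TensorProduct.quotTensorEquivQuotSMul Y (maximalIdeal R)).map_eq_zero_iff, ← map_one (Ideal.Quotient.mk (maximalIdeal R)),
        TensorProduct.quotTensorEquivQuotSMul_mk_tmul, one_smul, Submodule.Quotient.mk_eq_zero]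
    suffices H : Function.Injective (β.lTensor (R ⧸ maximalIdeal R)) from H
    rw [injective_iff_map_eq_zero]
    intro z hz
    obtain ⟨a, rfl⟩ := TensorProduct.mk_surjective R F (R ⧸ maximalIdeal R) Ideal.Quotient.mk_surjective z
    rw [TensorProduct.mk_apply, LinearMap.lTensor_tmul, key] at hz
    rw [TensorProduct.mk_apply, key]
    have h1 : ∀ k, ∃ w' ∈ W, w' • ((∑ i, a i • y i) k) ∈ maximalIdeal R • (⊤ : Submodule R M') := fun k => by
      refine hφ _ (hu _ ?_)
      rw [← hβ]
      exact map_mem_smul_top (LinearMap.proj k) hz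
    choose w' hw' hk using h1
    have h2 : (∏ k, w' k) • (∑ i, a i • y i) ∈ maximalIdeal R • (⊤ : Submodule R (Fin d → M')) := by
      rw [← Finset.univ_sum_single ((∏ k, w' k) • ∑ i, a i • y i)]
      refine Submodule.sum_mem _ fun k _ => map_mem_smul_top (LinearMap.single R (fun _ : Fin d => M') k) ?_
      rw [Pi.smul_apply, ← Finset.prod_erase_mul _ _ (Finset.mem_univ k), mul_smul]
      exact smul_mem_smul_top (hk k)
    have h3 := hy a ⟨_, Submonoid.prod_mem W fun k _ => hw' k, h2⟩
    rw [pi_eq_sum_univ a]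
    exact Submodule.sum_mem _ fun i _ => Submodule.smul_mem_smul (h3 i) Submodule.mem_top
  haveI : Module.Flat R (Fin d → L) :=
    Module.Flat.of_linearEquiv (DFinsupp.linearEquivFunOnFintype (R := R) (M := fun _ : Fin d => L)).symm
  have hui := Groth.Agent.S0448.result β hinj Q
  have h0 : β.rTensor Q (∑ i, (fun j => if i = j then (1 : R) else 0) ⊗ₜ[R] x i) = 0 := by
    refine (TensorProduct.piLeft R Q (M := fun _ : Fin d => L)).injective (funext fun k => ?_)
    rw [map_zero, Pi.zero_apply]
    have hp : ∀ t : (Fin d → L) ⊗[R] Q,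
        TensorProduct.piLeft R Q (M := fun _ : Fin d => L) t k = (LinearMap.proj k).rTensor Q t := fun t => by
      induction t using TensorProduct.induction_on with
      | zero => simp
      | add a b ha hb => simp only [map_add, Pi.add_apply, ha, hb]
      | tmul a b => simp
    rw [hp]
    have h4 : φ.rTensor Q ((LinearMap.proj k : (Fin d → M') →ₗ[R] M').rTensor Q (∑ i, y i ⊗ₜ[R] x i)) = 0 := by
      refine hφW w hw Q _ ?_
      rw [map_sum, Finset.smul_sum]
      have h5 := congrArg ((LinearMap.proj k : (Fin d → M') →ₗ[R] M').rTensor Q) hx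
      rw [map_zero, Finset.smul_sum, map_sum] at h5
      refine Eq.trans (Finset.sum_congr rfl fun i _ => ?_) h5
      simp [TensorProduct.smul_tmul']
    have h6 := congrArg (u.rTensor Q) h4
    rw [map_zero, map_sum, map_sum, map_sum] at h6
    rw [map_sum, map_sum]
    refine Eq.trans (Finset.sum_congr rfl fun i _ => ?_) h6
    simp only [LinearMap.rTensor_tmul, LinearMap.proj_apply]
    congr 1
    rw [hβ]
    congr 2
    rw [Finset.sum_apply]
    simp [ite_smul]
  have h1 : (∑ i, (fun j => if i = j then (1 : R) else 0) ⊗ₜ[R] x i : F ⊗[R] Q) = 0 := hui (h0.trans (map_zero _).symm)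
  intro i
  have := congrArg (fun t => TensorProduct.lid R Q ((LinearMap.proj i : F →ₗ[R] R).rTensor Q t)) h1
  simpa [F, eq_comm] using this

/-- Transport of `PurePowers` along a semilinear isomorphism. -/
theorem PurePowers.congr {S' : Type u} [CommRing S'] {M'' : Type u} [AddCommGroup M''] [Module R M''] [Module S' M'']
    [SMulCommClass R S' M''] (f : S →+* S') (h : PurePowers R W M) (e : M ≃ₗ[R] M'')
    (he : ∀ s m, e (s • m) = f s • e m) : PurePowers R (W.map f) M'' := fun d =>
  (h d).congr f (LinearEquiv.piCongrRight fun _ => e) (fun s m => funext fun k => he s (m k)) rfl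

end Lemmas

/-- An element of a finite power tensor vanishes when its components do. -/
theorem pi_tensor_ext {R Q M : Type u} [CommRing R] [AddCommGroup Q] [Module R Q] [AddCommGroup M] [Module R M] {k : ℕ}
    (z : (Fin k → M) ⊗[R] Q) (h : ∀ l, (LinearMap.proj l : (Fin k → M) →ₗ[R] M).rTensor Q z = 0) : z = 0 := by
  refine (TensorProduct.piLeft R Q (M := fun _ : Fin k => M)).injective (funext fun l => ?_)
  rw [map_zero, Pi.zero_apply, ← h l]
  clear h
  induction z using TensorProduct.induction_on with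
  | zero => simp
  | add a b ha hb => simp only [map_add, Pi.add_apply, ha, hb]
  | tmul a b => simp

section BaseChange

variable {R : Type u} [CommRing R] [IsLocalRing R] {X T : Type u} [CommRing X] [CommRing T] [Algebra R X]
  [Algebra X T] [Algebra R T] [IsScalarTower R X T] [Module.Flat X T] {W : Submonoid X} {V : Submonoid T}
  {M M' : Type u} [AddCommGroup M] [Module X M] [Module R M] [IsScalarTower R X M] [AddCommGroup M'] [Module T M']
  [Module X M'] [IsScalarTower X T M'] [Module R M'] [IsScalarTower R T M']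

/-- Flat base change, one power at a time. -/
theorem PureTest.baseChange (h : PurePowers R W M) (g : M →ₗ[X] M') (hg : IsBaseChange T g)
    (hWV : ∀ w ∈ W, algebraMap X T w ∈ V) : PureTest R V M' := by
  classical
  haveI : IsScalarTower R X M' := IsScalarTower.of_algebraMap_smul fun r m => by
    rw [← algebraMap_smul T (algebraMap R X r) m, ← IsScalarTower.algebraMap_apply, algebraMap_smul]
  intro n y₀ hy₀ Q _ _ x ⟨v, hv, hx⟩
  obtain ⟨y, hy, hx0⟩ : ∃ y : Fin n → M',
      (∀ a : Fin n → R, (∃ w ∈ V, w • ∑ i, a i • y i ∈ maximalIdeal R • (⊤ : Submodule R M')) →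
        ∀ i, a i ∈ maximalIdeal R) ∧ ∑ i, y i ⊗ₜ[R] x i = 0 := by
    refine ⟨fun i => v • y₀ i, fun a ⟨w, hw, ha⟩ => hy₀ a ⟨w * v, V.mul_mem hw hv, ?_⟩, ?_⟩
    · have h1 : ∑ i, a i • (v • y₀ i) = v • ∑ i, a i • y₀ i := by
        rw [Finset.smul_sum]; exact Finset.sum_congr rfl fun i _ => smul_comm _ _ _
      rw [mul_smul, ← h1]
      exact ha
    · rw [← hx, Finset.smul_sum]
      exact Finset.sum_congr rfl fun i _ => (TensorProduct.smul_tmul' v (y₀ i) (x i)).symm
  clear hy₀ hx hv
  have hrep : ∀ i, ∃ P : Finset (T × M), y i = ∑ p ∈ P, p.1 • g p.2 := fun i => by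
    obtain ⟨P, hP⟩ := TensorProduct.exists_finset (hg.equiv.symm (y i))
    refine ⟨P, ?_⟩
    rw [← hg.equiv.apply_symm_apply (y i), hP, map_sum]
    exact Finset.sum_congr rfl fun p _ => hg.equiv_tmul p.1 p.2
  choose P hP using hrep
  let ι := Σ i : Fin n, { p // p ∈ P i }
  let t : ι → T := fun p => p.2.1.1
  let m : ι → Fin n → M := fun p i => if p.1 = i then p.2.1.2 else 0
  have hym : ∀ i, y i = ∑ p : ι, t p • g (m p i) := fun i => by
    rw [hP i, Fintype.sum_sigma, Finset.sum_eq_single i]
    · simp only [m, t, if_true]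
      exact (Finset.sum_coe_sort (P i) fun p => p.1 • g p.2).symm
    · intro j _ hj
      refine Finset.sum_eq_zero fun p _ => ?_
      simp only [m, if_neg hj, map_zero, smul_zero]
    · exact fun h => absurd (Finset.mem_univ i) h
  let z : ι → M ⊗[R] Q := fun p => ∑ i, m p i ⊗ₜ[R] x i
  let e : T ⊗[X] (M ⊗[R] Q) ≃ₗ[T] M' ⊗[R] Q :=
    (AlgebraTensorModule.assoc R X T T M Q).symm ≪≫ₗ AlgebraTensorModule.congr hg.equiv (LinearEquiv.refl R Q)
  have hz : ∑ p, z p ⊗ₜ[X] t p = 0 := by
    refine (TensorProduct.comm X (M ⊗[R] Q) T).injective (e.injective ?_)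
    rw [map_zero, map_zero, ← hx0]
    have he : ∀ (a : T) (b : M) (q : Q), e (a ⊗ₜ[X] (b ⊗ₜ[R] q)) = (a • g b) ⊗ₜ[R] q := fun a b q => by
      simp [e, IsBaseChange.equiv_tmul]
    simp only [z, TensorProduct.sum_tmul, map_sum, TensorProduct.comm_tmul, he]
    rw [Finset.sum_comm]
    exact Finset.sum_congr rfl fun i _ => by rw [hym i, TensorProduct.sum_tmul]
  obtain ⟨k, c, t', hc, hcz⟩ := TensorProduct.vanishesTrivially_of_sum_tmul_eq_zero_of_rTensor_injective X
    (Module.Flat.rTensor_preserves_injective_linearMap _ Subtype.val_injective) hz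
  let y' : Fin n → Fin k → M := fun i l => ∑ p, c p l • m p i
  have hy' : ∀ i, ∑ l, t' l • g (y' i l) = y i := fun i => by
    rw [hym i]
    simp only [y', map_sum, map_smul, Finset.smul_sum, hc, Finset.sum_smul]
    rw [Finset.sum_comm]
    exact Finset.sum_congr rfl fun p _ => Finset.sum_congr rfl fun l _ => by
      rw [smul_comm (t' l) (c p l), smul_assoc]
  let Φ : (Fin k → M) →ₗ[R] M' := ∑ l, (LinearMap.lsmul T M' (t' l)).restrictScalars R ∘ₗ g.restrictScalars R ∘ₗ LinearMap.proj l
  have hΦ : ∀ f, Φ f = ∑ l, t' l • g (f l) := fun f => by simp [Φ]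
  refine h k n y' (fun a ⟨w, hw, ha⟩ => hy a ⟨algebraMap X T w, hWV w hw, ?_⟩) Q x ⟨1, W.one_mem, ?_⟩
  · have h1 := map_mem_smul_top Φ ha
    convert h1 using 1
    rw [hΦ, algebraMap_smul, Finset.smul_sum]
    simp only [Pi.smul_apply, Finset.sum_apply, map_smul, map_sum, Finset.smul_sum]
    rw [Finset.sum_comm]
    refine Finset.sum_congr rfl fun i _ => ?_
    rw [← hy' i, Finset.smul_sum, Finset.smul_sum]
    refine Finset.sum_congr rfl fun l _ => ?_
    rw [LinearMap.map_smul_of_tower, smul_comm (t' l) w, smul_comm (t' l) (a i)]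
  · rw [one_smul]
    refine pi_tensor_ext _ fun l => ?_
    rw [← hcz l]
    simp only [z, y', map_sum, LinearMap.rTensor_tmul, LinearMap.proj_apply, Finset.smul_sum, TensorProduct.sum_tmul]
    rw [Finset.sum_comm]
    exact Finset.sum_congr rfl fun p _ => Finset.sum_congr rfl fun i _ => (TensorProduct.smul_tmul' (c p l) (m p i) (x i)).symm

/-- Flat base change. -/
theorem PurePowers.baseChange (h : PurePowers R W M) (g : M →ₗ[X] M') (hg : IsBaseChange T g)
    (hWV : ∀ w ∈ W, algebraMap X T w ∈ V) : PurePowers R V M' := by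
  intro d
  have hd : PurePowers R W (Fin d → M) := fun e => by
    let eq : (Fin (e * d) → M) ≃ₗ[X] (Fin e → Fin d → M) :=
      (LinearEquiv.funCongrLeft X M finProdFinEquiv).trans (LinearEquiv.curry X M (Fin e) (Fin d))
    exact (h (e * d)).congr (RingHom.id X) (eq.restrictScalars R) (fun s m => eq.map_smul s m) W.map_id.symm
  exact PureTest.baseChange hd (LinearMap.pi fun k => g ∘ₗ LinearMap.proj k)
    (IsBaseChange.pi (f := fun _ => g) fun _ => hg) hWV

end BaseChange

section Coker

variable {R : Type u} [CommRing R] [IsLocalRing R] {S : Type u} [CommRing S] {W : Submonoid S}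
  {L M : Type u} [AddCommGroup L] [Module R L] [Module.Free R L] [AddCommGroup M] [Module R M] [Module S M]
  [SMulCommClass R S M]

/-- A map out of a free module, injective modulo `𝔪` up to `W`, is universally injective. -/
theorem ui_of_pureTest (h : PureTest R W M) (f : L →ₗ[R] M)
    (hf : ∀ l, (∃ w ∈ W, w • f l ∈ maximalIdeal R • (⊤ : Submodule R M)) → l ∈ maximalIdeal R • (⊤ : Submodule R L)) :
    CAlgX.UniversallyInjective R f := by
  classical
  intro Q _ _
  rw [injective_iff_map_eq_zero]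
  intro z hz
  let b := Module.Free.chooseBasis R L
  obtain ⟨c, rfl⟩ : ∃ c : Module.Free.ChooseBasisIndex R L →₀ Q, z = c.sum fun j q => b j ⊗ₜ[R] q :=
    ⟨_, TensorProduct.eq_repr_basis_left b z |>.choose_spec.symm⟩
  let ε := c.support.equivFin.symm
  have hsum : (c.sum fun j q => b j ⊗ₜ[R] q) = ∑ i, b (ε i) ⊗ₜ[R] c (ε i) := by
    rw [Finsupp.sum, ← Finset.sum_coe_sort, ← ε.sum_comp]
  rw [hsum] at hz ⊢
  have h0 := h _ (fun i => f (b (ε i))) (fun a ⟨w, hw, ha⟩ => ?_) Q (fun i => c (ε i)) ⟨1, W.one_mem, by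
    rw [one_smul]; simpa using hz⟩
  · exact Finset.sum_eq_zero fun i _ => by rw [h0 i, TensorProduct.tmul_zero]
  · have h1 : (∑ i, a i • b (ε i) : L) ∈ maximalIdeal R • (⊤ : Submodule R L) :=
      hf _ ⟨w, hw, by simpa using ha⟩
    intro i
    have h2 := map_mem_smul_top (b.coord (ε i : Module.Free.ChooseBasisIndex R L)) h1
    rw [smul_eq_mul, Ideal.mul_top] at h2
    simpa [Finsupp.single_apply] using h2

/-- The cokernel of such a map again satisfies the test. -/
theorem PureTest.coker (h : PureTest R W M) (f : L →ₗ[R] M)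
    (hf : ∀ l, (∃ w ∈ W, w • f l ∈ maximalIdeal R • (⊤ : Submodule R M)) → l ∈ maximalIdeal R • (⊤ : Submodule R L))
    (C : Type u) [AddCommGroup C] [Module R C] [Module S C] [SMulCommClass R S C] (π : M →ₗ[R] C)
    (hπS : ∀ (s : S) m, π (s • m) = s • π m) (hπ : Function.Surjective π) (hex : Function.Exact f π) :
    PureTest R W C := by
  classical
  intro n y hy Q _ _ x ⟨w, hw, hx⟩
  choose Y hY using hπ
  have hy1 : (π.rTensor Q) (∑ i, (w • Y (y i)) ⊗ₜ[R] x i) = 0 := by
    rw [map_sum, ← hx, Finset.smul_sum]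
    exact Finset.sum_congr rfl fun i _ => by rw [LinearMap.rTensor_tmul, hπS, hY, TensorProduct.smul_tmul']
  obtain ⟨z, hz⟩ := (rTensor_exact Q hex (fun c => ⟨Y c, hY c⟩) _).1 hy1
  let b := Module.Free.chooseBasis R L
  obtain ⟨c, rfl⟩ : ∃ c : Module.Free.ChooseBasisIndex R L →₀ Q, z = c.sum fun j q => b j ⊗ₜ[R] q :=
    ⟨_, TensorProduct.eq_repr_basis_left b z |>.choose_spec.symm⟩
  let ε := c.support.equivFin.symm
  have hsum : (c.sum fun j q => b j ⊗ₜ[R] q) = ∑ i, b (ε i) ⊗ₜ[R] c (ε i) := by
    rw [Finsupp.sum, ← Finset.sum_coe_sort, ← ε.sum_comp]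
  rw [hsum, map_sum] at hz
  let F := Fin.append (fun i => w • Y (y i)) (fun j => f (b (ε j)))
  let xx := Fin.append x (fun j => - c (ε j))
  have hF : ∀ a : Fin (n + c.support.card) → R, (∃ v ∈ W, v • ∑ i, a i • F i ∈ maximalIdeal R • (⊤ : Submodule R M)) → ∀ i, a i ∈ maximalIdeal R := by
    intro a ⟨v, hv, ha⟩
    rw [Fin.sum_univ_add] at ha
    simp only [F, Fin.append_left, Fin.append_right] at ha
    have h1 : ∀ i, a (Fin.castAdd _ i) ∈ maximalIdeal R := by
      refine hy _ ⟨v * w, W.mul_mem hv hw, ?_⟩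
      have h2 := map_mem_smul_top π ha
      rw [hπS, map_add, map_sum, map_sum] at h2
      simp only [map_smul, hπS, hY, hex.apply_apply_eq_zero, smul_zero, Finset.sum_const_zero, add_zero] at h2
      have h4 : w • ∑ i, a (Fin.castAdd _ i) • y i = ∑ i, a (Fin.castAdd _ i) • (w • y i) := by
        rw [Finset.smul_sum]
        exact Finset.sum_congr rfl fun i _ => (smul_comm _ _ _).symm
      rw [mul_smul, h4]
      exact h2
    refine Fin.addCases h1 fun j => ?_
    have h3 : (∑ j, a (Fin.natAdd n j) • b (ε j) : L) ∈ maximalIdeal R • (⊤ : Submodule R L) := by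
      refine hf _ ⟨v, hv, ?_⟩
      rw [smul_add] at ha
      rw [map_sum]
      simp only [map_smul]
      refine (Submodule.add_mem_iff_right _ ?_).1 ha
      exact smul_mem_smul_top (Submodule.sum_mem _ fun i _ => Submodule.smul_mem_smul (h1 i) Submodule.mem_top)
    have h2 := map_mem_smul_top (b.coord (ε j : Module.Free.ChooseBasisIndex R L)) h3
    rw [smul_eq_mul, Ideal.mul_top] at h2
    simpa [Finsupp.single_apply] using h2
  have h0 := h _ F hF Q xx ⟨1, W.one_mem, by
    rw [one_smul, Fin.sum_univ_add]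
    simp only [F, xx, Fin.append_left, Fin.append_right, TensorProduct.tmul_neg, Finset.sum_neg_distrib]
    rw [← hz]
    simp⟩
  intro i
  simpa [xx] using h0 (Fin.castAdd _ i)

end Coker

end Groth.Agent.RG11
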