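import Groth.Agent.RG11.TrivExt
import Groth.Agent.RG11.PureTest
import Mathlib

/-!
# Reduction modulo `𝔪` across a trivial residue extension of local rings
-/

universe u

set_option linter.style.haveILetI false

namespace Groth.Agent.RG11

open TensorProduct IsLocalRing

variable {R A : Type u} [CommRing R] [IsLocalRing R] [CommRing A] [IsLocalRing A] [Algebra R A]
  (h : TrivExt (maximalIdeal R) (maximalIdeal A))

include h in
/-- Every element is congruent to one of `R`. -/
theorem TrivExt.exists_sub_mem' (a : A) : ∃ r : R, a - algebraMap R A r ∈ maximalIdeal A := by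
  obtain ⟨u, v, hu, huv⟩ := h.exists_sub_mem a
  obtain ⟨w, hw⟩ := (notMem_maximalIdeal.1 hu).exists_left_inv
  refine ⟨w * v, ?_⟩
  have := Ideal.mul_mem_left _ (algebraMap R A w) huv
  rwa [mul_sub, ← mul_assoc, ← map_mul, hw, map_one, one_mul, ← map_mul] at this

variable {X : Type u} [AddCommGroup X] [Module R X]

include h in
/-- Modulo `𝔪`, everything comes from `X`. -/
theorem TrivExt.exists_one_tmul (z : A ⊗[R] X) :
    ∃ x : X, z - (1 : A) ⊗ₜ[R] x ∈ maximalIdeal A • (⊤ : Submodule A (A ⊗[R] X)) := by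
  induction z using TensorProduct.induction_on with
  | zero => exact ⟨0, by simp⟩
  | tmul a x =>
    obtain ⟨r, hr⟩ := h.exists_sub_mem' a
    refine ⟨r • x, ?_⟩
    have : a ⊗ₜ[R] x - (1 : A) ⊗ₜ[R] (r • x) = (a - algebraMap R A r) • ((1 : A) ⊗ₜ[R] x) := by
      rw [TensorProduct.smul_tmul', smul_eq_mul, mul_one, TensorProduct.sub_tmul, Algebra.algebraMap_eq_smul_one,
        TensorProduct.smul_tmul]
    rw [this]
    exact Submodule.smul_mem_smul hr Submodule.mem_top
  | add a b ha hb =>
    obtain ⟨x, hx⟩ := ha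
    obtain ⟨y, hy⟩ := hb
    refine ⟨x + y, ?_⟩
    rw [tmul_add, add_sub_add_comm]
    exact add_mem hx hy

include h in
/-- Reduction of `1 ⊗ x`. -/
theorem TrivExt.one_tmul_mem_iff (x : X) :
    (1 : A) ⊗ₜ[R] x ∈ maximalIdeal A • (⊤ : Submodule A (A ⊗[R] X)) ↔ x ∈ maximalIdeal R • (⊤ : Submodule R X) := by
  constructor
  · intro hx
    choose r hr using h.exists_sub_mem'
    let π : R →+* A ⧸ maximalIdeal A := (Ideal.Quotient.mk _).comp (algebraMap R A)
    have hker : ∀ a b : R, a - b ∈ maximalIdeal R ↔ π a = π b := fun a b => by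
      show _ ↔ Ideal.Quotient.mk _ _ = Ideal.Quotient.mk _ _
      rw [Ideal.Quotient.eq, ← map_sub, ← Ideal.mem_comap, h.comap_eq]
    let Y := X ⧸ (maximalIdeal R • (⊤ : Submodule R X))
    have hY : ∀ a b : R, π a = π b → ∀ y : Y, a • y = b • y := fun a b hab y => by
      obtain ⟨y, rfl⟩ := Submodule.Quotient.mk_surjective _ y
      rw [← Submodule.Quotient.mk_smul, ← Submodule.Quotient.mk_smul, Submodule.Quotient.eq, ← sub_smul]
      exact Submodule.smul_mem_smul ((hker a b).2 hab) Submodule.mem_top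
    have hπr : ∀ a, π (r a) = Ideal.Quotient.mk _ a := fun a => (Ideal.Quotient.eq.2 (hr a)).symm
    let ψ : A →ₗ[R] (X →ₗ[R] Y) :=
      { toFun := fun a => r a • (maximalIdeal R • (⊤ : Submodule R X)).mkQ
        map_add' := fun a b => LinearMap.ext fun z => by
          rw [LinearMap.add_apply, LinearMap.smul_apply, LinearMap.smul_apply, LinearMap.smul_apply, ← add_smul]
          exact hY _ _ (by rw [map_add, hπr, hπr, hπr, map_add]) _
        map_smul' := fun s a => LinearMap.ext fun z => by
          rw [RingHom.id_apply, LinearMap.smul_apply, LinearMap.smul_apply, LinearMap.smul_apply, ← mul_smul]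
          exact hY _ _ (by rw [map_mul, hπr, hπr, Algebra.smul_def, map_mul]; rfl) _ }
    let χ : A ⊗[R] X →ₗ[R] Y := TensorProduct.lift ψ
    have hχ : ∀ (a : A) (z : A ⊗[R] X), χ (a • z) = r a • χ z := by
      intro a z
      induction z using TensorProduct.induction_on with
      | zero => simp
      | add u v hu hv => simp only [smul_add, map_add, hu, hv]
      | tmul b y =>
        rw [TensorProduct.smul_tmul', TensorProduct.lift.tmul, TensorProduct.lift.tmul]
        show r (a • b) • (Submodule.Quotient.mk y : Y) = r a • r b • (Submodule.Quotient.mk y : Y)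
        rw [← mul_smul]
        exact hY _ _ (by rw [map_mul, hπr, hπr, hπr, smul_eq_mul, map_mul]) _
    have h0 : χ ((1 : A) ⊗ₜ[R] x) = 0 := by
      refine Submodule.smul_induction_on hx (fun a ha z _ => ?_) fun u v hu hv => by rw [map_add, hu, hv, add_zero]
      rw [hχ, hY (r a) 0 (by rw [hπr, map_zero, Ideal.Quotient.eq_zero_iff_mem]; exact ha) _, zero_smul]
    rw [TensorProduct.lift.tmul] at h0
    change r 1 • Submodule.Quotient.mk x = (0 : Y) at h0
    rw [hY (r 1) 1 (by rw [hπr, map_one, map_one]) _, one_smul, Submodule.Quotient.mk_eq_zero] at h0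
    exact h0
  · intro hx
    refine Submodule.smul_induction_on hx (fun a ha z _ => ?_) fun u v hu hv => by rw [tmul_add]; exact add_mem hu hv
    rw [TensorProduct.tmul_smul, ← algebraMap_smul A a]
    refine Submodule.smul_mem_smul ?_ Submodule.mem_top
    rw [← Ideal.mem_comap, h.comap_eq]
    exact ha

include h in
/-- Injectivity modulo the maximal ideal after base change. -/
theorem TrivExt.mem_of_baseChange_mem {L : Type u} [AddCommGroup L] [Module R L] (u : X →ₗ[R] L)
    (hu : ∀ x, u x ∈ maximalIdeal R • (⊤ : Submodule R L) → x ∈ maximalIdeal R • (⊤ : Submodule R X))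
    (z : A ⊗[R] X) (hz : u.baseChange A z ∈ maximalIdeal A • (⊤ : Submodule A (A ⊗[R] L))) :
    z ∈ maximalIdeal A • (⊤ : Submodule A (A ⊗[R] X)) := by
  obtain ⟨x, hx⟩ := h.exists_one_tmul z
  have h1 := map_mem_smul_top (R := A) (u.baseChange A) hx
  rw [map_sub, LinearMap.baseChange_tmul] at h1
  have h2 := hu x ((h.one_tmul_mem_iff _).1 (by simpa using sub_mem hz h1))
  simpa using add_mem hx ((h.one_tmul_mem_iff x).2 h2)

/-- Elements of `𝔪 M_W` come from `𝔪 M` up to `W`. -/
theorem exists_smul_mem_of_mk_mem {S M : Type u} [CommRing S] [Algebra R S] [AddCommGroup M] [Module R M] [Module S M]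
    [IsScalarTower R S M] (W : Submonoid S) (x : M)
    (hx : LocalizedModule.mkLinearMap W M x ∈ maximalIdeal R • (⊤ : Submodule R (LocalizedModule W M))) :
    ∃ s ∈ W, s • x ∈ maximalIdeal R • (⊤ : Submodule R M) := by
  let mk := LocalizedModule.mkLinearMap W M
  have key : ∀ y ∈ maximalIdeal R • (⊤ : Submodule R (LocalizedModule W M)),
      ∃ s ∈ W, ∃ n ∈ maximalIdeal R • (⊤ : Submodule R M), s • y = mk n := by
    intro y hy
    refine Submodule.smul_induction_on hy (fun a ha z _ => ?_) ?_
    · obtain ⟨⟨n, s⟩, hs⟩ := IsLocalizedModule.surj W mk z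
      exact ⟨s, s.2, a • n, Submodule.smul_mem_smul ha Submodule.mem_top, by
        rw [smul_comm, LinearMap.map_smul_of_tower, ← hs]; rfl⟩
    · rintro a b ⟨s, hs, n, hn, e⟩ ⟨t, ht, k, hk, e'⟩
      refine ⟨s * t, W.mul_mem hs ht, t • n + s • k, add_mem (smul_mem_smul_top hn) (smul_mem_smul_top hk), ?_⟩
      rw [map_add, map_smul, map_smul, ← e, ← e', smul_add, mul_smul, mul_smul, smul_comm s t a]
  obtain ⟨s, hs, n, hn, e⟩ := key _ hx
  rw [← map_smul] at e
  obtain ⟨c, hc⟩ := (IsLocalizedModule.eq_iff_exists W mk).1 e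
  refine ⟨c * s, W.mul_mem c.2 hs, ?_⟩
  rw [mul_smul]
  rw [show (c : S) • s • x = (c : S) • n from hc]
  exact smul_mem_smul_top hn

end Groth.Agent.RG11
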