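import Groth.Agent.RG11.PureChain
import Groth.Agent.RG11.ResidueTensor
import Groth.Agent.RG11.FreeNhd
import Mathlib

/-!
# Maps to flat modules which are injective modulo `𝔪` force flatness
-/

universe u

set_option linter.style.haveILetI false

namespace Groth.Agent.RG11

open TensorProduct
open FlatFibres (fibSupp)

set_option maxHeartbeats 3200000 in
/-- Raynaud–Gruson: a finite module with an `R`-linear map to a flat module, injective modulo `𝔪` at a point of
the closed fibre, is flat there. -/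
theorem flatAt_of_map {R S : Type u} [CommRing R] [IsLocalRing R] [CommRing S] [Algebra R S] [Algebra.FiniteType R S]
    (N : Type u) [AddCommGroup N] [Module S N] [Module R N] [IsScalarTower R S N] [Module.Finite S N]
    (q : Ideal S) [q.IsPrime] [q.LiesOver (IsLocalRing.maximalIdeal R)]
    {L : Type u} [AddCommGroup L] [Module R L] [Module.Flat R L] (u : LocalizedModule q.primeCompl N →ₗ[R] L)
    (hu : ∀ x, u x ∈ IsLocalRing.maximalIdeal R • (⊤ : Submodule R L) →
      x ∈ IsLocalRing.maximalIdeal R • (⊤ : Submodule R (LocalizedModule q.primeCompl N))) :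
    FlatCA.FlatAt R q N := by
  by_cases hsupp : (⟨q, inferInstance⟩ : PrimeSpectrum S) ∈ Module.support S N
  swap
  · haveI : Subsingleton (LocalizedModule q.primeCompl N) := Module.notMem_support_iff.1 hsupp
    show Module.Flat R (LocalizedModule q.primeCompl N)
    infer_instance
  let p := IsLocalRing.maximalIdeal R
  letI : Algebra p.ResidueField q.ResidueField :=
    (Ideal.ResidueField.mapₐ p q (Algebra.ofId R S) (Ideal.LiesOver.over (P := q) (p := p))).toRingHom.toAlgebra
  haveI : IsScalarTower R p.ResidueField q.ResidueField := IsScalarTower.of_algebraMap_eq fun r =>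
    ((Ideal.ResidueField.mapₐ p q (Algebra.ofId R S) (Ideal.LiesOver.over (P := q) (p := p))).commutes r).symm
  have hq : (⟨q, inferInstance⟩ : PrimeSpectrum S) ∈ fibSupp p S N := ⟨hsupp, (Ideal.LiesOver.over (P := q) (p := p)).symm⟩
  obtain ⟨h, c, hh, -, -⟩ := exists_dims N p q.ResidueField (IsScalarTower.toAlgHom R S q.ResidueField)
    (isAlgebraic_residueField q) ⟨_, hq⟩ (Ideal.ker_algebraMap_residueField q)
  obtain ⟨R₁, S₁, N₁, _, _, _, _, _, _, _, _, _, p₁, q₁, _, _, φ, hetR₁, hetS₁, hp₁, hq₁, hq₁p, hRS, hφ, hgood⟩ :=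
    exists_hasGood h N p q hq hh.le
  haveI := hetR₁
  haveI := hetS₁
  let A := Localization.AtPrime p₁
  let mA := IsLocalRing.maximalIdeal A
  have h₄ : TrivExt p₁ mA := trivExt_atPrime p₁
  have h₄' : TrivExt p mA := hp₁.trans h₄
  obtain ⟨SA, _, _, _, _, _, _, _⟩ : ∃ (SA : Type u) (_ : CommRing SA) (_ : Algebra R SA) (_ : Algebra S SA) (_ : Algebra A SA)
      (_ : IsScalarTower R S SA) (_ : IsScalarTower R A SA), Algebra.IsPushout R S A SA :=
    letI : Algebra S (A ⊗[R] S) := Algebra.TensorProduct.rightAlgebra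
    haveI : IsScalarTower R S (A ⊗[R] S) := IsScalarTower.of_algebraMap_eq fun r =>
      ((Algebra.TensorProduct.includeRight : S →ₐ[R] A ⊗[R] S).commutes r).symm
    ⟨A ⊗[R] S, inferInstance, inferInstance, inferInstance, inferInstance, inferInstance, inferInstance, inferInstance⟩
  obtain ⟨NA, _, _, _, _, f, hf⟩ : ∃ (NA : Type u) (_ : AddCommGroup NA) (_ : Module SA NA) (_ : Module S NA)
      (_ : IsScalarTower S SA NA) (f : N →ₗ[S] NA), IsBaseChange SA f :=
    ⟨SA ⊗[S] N, inferInstance, inferInstance, inferInstance, inferInstance, TensorProduct.mk S SA N 1,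
      TensorProduct.isBaseChange S N SA⟩
  letI : Module A NA := Module.compHom NA (algebraMap A SA)
  haveI : IsScalarTower A SA NA := IsScalarTower.of_algebraMap_smul fun _ _ => rfl
  have h11 : TrivExt p₁ p₁ := TrivExt.of_surjective Function.surjective_id (Ideal.comap_id _)
  obtain ⟨q₃, hq₃pr, hq₃p, hq₃q⟩ := exists_prime_over (T := S₁) h11 q₁ hq₁p
  haveI := hq₃pr
  obtain ⟨f₀, hf₀, s, -, hs, H⟩ := hgood R₁ p₁ h11 q₃ hq₃p hq₃q 1 ((Ideal.ne_top_iff_one q₃).1 hq₃pr.ne_top)
  let e : R₁ →ₐ[R₁] A := Algebra.ofId R₁ A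
  have hef : IsUnit (e f₀) := IsLocalization.map_units (M := p₁.primeCompl) A ⟨f₀, hf₀⟩
  let Y := A ⊗[R₁] S₁
  let s₄ := Algebra.TensorProduct.map e (AlgHom.id R₁ S₁) s
  obtain ⟨S₄, _, _, _, _, _⟩ : ∃ (S₄ : Type u) (_ : CommRing S₄) (_ : Algebra Y S₄) (_ : Algebra A S₄)
      (_ : IsScalarTower A Y S₄), IsLocalization.Away s₄ S₄ :=
    ⟨Localization.Away s₄, inferInstance, inferInstance, inferInstance, inferInstance, inferInstance⟩
  letI : Algebra S₁ S₄ := ((algebraMap Y S₄).comp (incR A)).toAlgebra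
  obtain ⟨q₄, hq₄pr, hq₄p, hq₄q, hq₄t, -⟩ := exists_point_away h₄ s₄ (B := S₄) rfl q₁ hq₁p (fun W hW hWp hWq hsW => by
    haveI := hW
    exact hs ((comap_map_eq e h11 h₄.comap_eq q₃ W hq₃p hWp (hq₃q.trans hWq.symm)).le hsW))
  haveI := hq₄pr
  -- algebra structures on `Y`
  letI : Algebra S₁ Y := (incR A).toAlgebra
  haveI : IsScalarTower S₁ Y S₄ := IsScalarTower.of_algebraMap_eq fun _ => rfl
  letI : Algebra S Y := ((algebraMap S₁ Y).comp (algebraMap S S₁)).toAlgebra
  haveI : IsScalarTower S S₁ Y := IsScalarTower.of_algebraMap_eq fun _ => rfl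
  letI : Algebra R S₁ := ((algebraMap S S₁).comp (algebraMap R S)).toAlgebra
  haveI : IsScalarTower R S S₁ := IsScalarTower.of_algebraMap_eq fun _ => rfl
  haveI : IsScalarTower R R₁ S₁ := IsScalarTower.of_algebraMap_eq fun r => (hRS r).symm
  haveI : IsScalarTower R S Y := IsScalarTower.of_algebraMap_eq fun r => by
    show algebraMap R Y r = incR A (algebraMap S S₁ (algebraMap R S r))
    rw [← hRS, IsScalarTower.algebraMap_apply R R₁ Y]
    exact ((Algebra.TensorProduct.includeRight : S₁ →ₐ[R₁] Y).commutes _).symm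
  -- `SA → Y` is étale
  let X₁ := R₁ ⊗[R] S
  let κ : X₁ →ₐ[R₁] S₁ :=
    Algebra.TensorProduct.lift (Algebra.ofId R₁ S₁) (IsScalarTower.toAlgHom R S S₁) fun _ _ => .all _ _
  letI : Algebra X₁ S₁ := κ.toRingHom.toAlgebra
  haveI : IsScalarTower R₁ X₁ S₁ := IsScalarTower.of_algebraMap_eq fun r => (κ.commutes r).symm
  letI : Algebra S X₁ := Algebra.TensorProduct.rightAlgebra
  haveI : IsScalarTower S X₁ S₁ := IsScalarTower.of_algebraMap_eq fun x =>
    ((Algebra.TensorProduct.lift_tmul _ _ _ _ _).trans (by rw [map_one, one_mul]; rfl) :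
      κ ((1 : R₁) ⊗ₜ[R] x) = algebraMap S S₁ x).symm
  haveI : Algebra.Etale S X₁ := Algebra.Etale.of_equiv (Algebra.TensorProduct.commRight R S R₁)
  haveI : Algebra.Etale X₁ S₁ := Algebra.Etale.of_restrictScalars S _ _
  haveI : IsScalarTower R R₁ A := inferInstance
  letI : Algebra R₁ SA := ((algebraMap A SA).comp (algebraMap R₁ A)).toAlgebra
  haveI : IsScalarTower R₁ A SA := IsScalarTower.of_algebraMap_eq fun _ => rfl
  haveI : IsScalarTower R R₁ SA := IsScalarTower.of_algebraMap_eq fun r => by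
    show algebraMap R SA r = algebraMap A SA (algebraMap R₁ A (algebraMap R R₁ r))
    rw [← IsScalarTower.algebraMap_apply R R₁ A, ← IsScalarTower.algebraMap_apply]
  let j : X₁ →ₐ[R₁] SA :=
    Algebra.TensorProduct.lift (Algebra.ofId R₁ SA) (IsScalarTower.toAlgHom R S SA) fun _ _ => .all _ _
  letI : Algebra X₁ SA := j.toRingHom.toAlgebra
  haveI : IsScalarTower R₁ X₁ SA := IsScalarTower.of_algebraMap_eq fun r => (j.commutes r).symm
  haveI : IsScalarTower S X₁ SA := IsScalarTower.of_algebraMap_eq fun x =>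
    ((Algebra.TensorProduct.lift_tmul _ _ _ _ _).trans (by rw [map_one, one_mul]; rfl) :
      j ((1 : R₁) ⊗ₜ[R] x) = algebraMap S SA x).symm
  haveI : IsScalarTower R X₁ SA := IsScalarTower.of_algebraMap_eq fun r => by
    rw [IsScalarTower.algebraMap_apply R R₁ X₁, ← IsScalarTower.algebraMap_apply R₁ X₁ SA,
      ← IsScalarTower.algebraMap_apply R R₁ SA]
  haveI hpu : Algebra.IsPushout R A S SA := Algebra.IsPushout.symm inferInstance
  haveI hb : Algebra.IsPushout R R₁ S X₁ := inferInstance
  haveI hmid : Algebra.IsPushout R₁ A X₁ SA :=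
    (Algebra.IsPushout.comp_iff R R₁ S X₁ (T := A) (T' := SA)).1 hpu
  let l : A ⊗[R] S →ₐ[A] Y :=
    Algebra.TensorProduct.lift (Algebra.ofId A Y) (IsScalarTower.toAlgHom R S Y) fun _ _ => .all _ _
  let ι : SA →ₐ[A] Y := l.comp (Algebra.IsPushout.equiv R A S SA).symm.toAlgHom
  have hιS : ∀ x, ι (algebraMap S SA x) = algebraMap S Y x := fun x => by
    show l ((Algebra.IsPushout.equiv R A S SA).symm (algebraMap S SA x)) = _
    rw [show (Algebra.IsPushout.equiv R A S SA).symm (algebraMap S SA x) = (1 : A) ⊗ₜ[R] x from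
      (AlgEquiv.symm_apply_eq _).2 (by rw [Algebra.IsPushout.equiv_tmul, map_one, one_mul])]
    exact (Algebra.TensorProduct.lift_tmul _ _ _ _ _).trans (by rw [map_one, one_mul]; rfl)
  letI : Algebra SA Y := ι.toRingHom.toAlgebra
  haveI : IsScalarTower A SA Y := IsScalarTower.of_algebraMap_eq fun a => (ι.commutes a).symm
  haveI : IsScalarTower S SA Y := IsScalarTower.of_algebraMap_eq fun x => (hιS x).symm
  haveI : IsScalarTower R₁ SA Y := IsScalarTower.of_algebraMap_eq fun r => by
    rw [IsScalarTower.algebraMap_apply R₁ A SA, ← IsScalarTower.algebraMap_apply A SA Y,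
      ← IsScalarTower.algebraMap_apply R₁ A Y]
  letI : Algebra X₁ Y := ((algebraMap S₁ Y).comp (algebraMap X₁ S₁)).toAlgebra
  haveI : IsScalarTower X₁ S₁ Y := IsScalarTower.of_algebraMap_eq fun _ => rfl
  haveI : IsScalarTower X₁ SA Y := IsScalarTower.of_algebraMap_eq fun w => by
    induction w using TensorProduct.induction_on with
    | zero => simp only [map_zero]
    | add a b ha hb => simp only [map_add, ha, hb]
    | tmul r x =>
      rw [show r ⊗ₜ[R] x = algebraMap R₁ X₁ r * algebraMap S X₁ x by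
        show _ = (r ⊗ₜ[R] (1 : S)) * ((1 : R₁) ⊗ₜ[R] x)
        rw [Algebra.TensorProduct.tmul_mul_tmul, mul_one, one_mul]]
      simp only [map_mul, ← IsScalarTower.algebraMap_apply]
      congr 1
      · rw [IsScalarTower.algebraMap_apply X₁ S₁ Y, ← IsScalarTower.algebraMap_apply R₁ X₁ S₁]
        exact ((Algebra.TensorProduct.includeRight : S₁ →ₐ[R₁] Y).commutes r).trans rfl
      · rw [IsScalarTower.algebraMap_apply X₁ S₁ Y, ← IsScalarTower.algebraMap_apply S X₁ S₁,
          ← IsScalarTower.algebraMap_apply S S₁ Y]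
  haveI : IsScalarTower R₁ S₁ Y := IsScalarTower.of_algebraMap_eq fun r =>
    ((Algebra.TensorProduct.includeRight : S₁ →ₐ[R₁] Y).commutes r).symm
  haveI hY : Algebra.IsPushout R₁ A S₁ Y := inferInstance
  haveI hpY : Algebra.IsPushout X₁ SA S₁ Y := by
    haveI := hmid.symm
    exact ((Algebra.IsPushout.comp_iff R₁ X₁ A SA (T := S₁) (T' := Y)).1 hY.symm).symm
  haveI : Algebra.Etale SA Y := Algebra.Etale.of_equiv (Algebra.IsPushout.equiv X₁ SA S₁ Y)
  letI : Algebra SA S₄ := ((algebraMap Y S₄).comp (algebraMap SA Y)).toAlgebra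
  haveI : IsScalarTower SA Y S₄ := IsScalarTower.of_algebraMap_eq fun _ => rfl
  haveI : Algebra.Etale SA S₄ := by
    haveI : Algebra.Etale Y S₄ := Algebra.Etale.of_isLocalizationAway s₄
    exact Algebra.Etale.comp SA Y S₄
  letI : Algebra S S₄ := ((algebraMap S₁ S₄).comp (algebraMap S S₁)).toAlgebra
  haveI : IsScalarTower S S₁ S₄ := IsScalarTower.of_algebraMap_eq fun _ => rfl
  haveI : IsScalarTower S SA S₄ := IsScalarTower.of_algebraMap_eq fun x => by
    show algebraMap S₁ S₄ (algebraMap S S₁ x) = algebraMap Y S₄ (algebraMap SA Y (algebraMap S SA x))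
    rw [← IsScalarTower.algebraMap_apply S SA Y]
    rfl
  haveI : IsScalarTower A SA S₄ := IsScalarTower.of_algebraMap_eq fun a => by
    show algebraMap A S₄ a = algebraMap Y S₄ (algebraMap SA Y (algebraMap A SA a))
    rw [← IsScalarTower.algebraMap_apply A SA Y, ← IsScalarTower.algebraMap_apply]
  -- the module
  obtain ⟨N₄, _, _, _, _, φ₁, hφ₁⟩ : ∃ (N₄ : Type u) (_ : AddCommGroup N₄) (_ : Module S₄ N₄) (_ : Module S₁ N₄)
      (_ : IsScalarTower S₁ S₄ N₄) (φ₁ : N₁ →ₗ[S₁] N₄), IsBaseChange S₄ φ₁ :=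
    ⟨S₄ ⊗[S₁] N₁, inferInstance, inferInstance, inferInstance, inferInstance, TensorProduct.mk S₁ S₄ N₁ 1,
      TensorProduct.isBaseChange S₁ N₁ S₄⟩
  letI : Module A N₄ := Module.compHom N₄ (algebraMap A S₄)
  letI : Module S N₄ := Module.compHom N₄ (algebraMap S S₁)
  haveI : IsScalarTower S S₁ N₄ := IsScalarTower.of_algebraMap_smul fun _ _ => rfl
  haveI : IsScalarTower S S₄ N₄ := IsScalarTower.of_algebraMap_smul fun x m => by
    rw [IsScalarTower.algebraMap_apply S S₁ S₄, algebraMap_smul, algebraMap_smul]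
  haveI : IsScalarTower A S₄ N₄ := IsScalarTower.of_algebraMap_smul fun _ _ => rfl
  let φS : N →ₗ[S] N₄ := (φ₁.restrictScalars S).comp φ
  have hφS : IsBaseChange S₄ φS := hφ.comp hφ₁
  -- base change from `NA`
  letI : Module SA N₄ := Module.compHom N₄ (algebraMap SA S₄)
  haveI : IsScalarTower SA S₄ N₄ := IsScalarTower.of_algebraMap_smul fun _ _ => rfl
  haveI : IsScalarTower S SA N₄ := IsScalarTower.of_algebraMap_smul fun x m => by
    show algebraMap SA S₄ (algebraMap S SA x) • m = x • m
    rw [← IsScalarTower.algebraMap_apply, algebraMap_smul]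
  haveI : IsScalarTower A SA N₄ := IsScalarTower.of_algebraMap_smul fun a m => by
    show algebraMap SA S₄ (algebraMap A SA a) • m = a • m
    rw [← IsScalarTower.algebraMap_apply, algebraMap_smul]
  let φA : NA →ₗ[SA] N₄ := hf.lift φS
  have hφA : IsBaseChange S₄ φA := IsBaseChange.of_comp hf (by
    rw [show (φA.restrictScalars S).comp f = φS from LinearMap.ext fun m => hf.lift_eq φS m]
    exact hφS)
  have hq₄q' : q₄.comap (algebraMap S S₄) = q := by
    rw [IsScalarTower.algebraMap_eq S S₁ S₄, ← Ideal.comap_comap, hq₄q, hq₁.comap_eq]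
  haveI : q₄.LiesOver q := ⟨hq₄q'.symm⟩
  haveI : Module.Flat S S₁ := inferInstance
  haveI : Module.Flat S₁ Y := by
    haveI : Module.Flat R₁ A := IsLocalization.flat A p₁.primeCompl
    exact Module.Flat.of_linearEquiv (Algebra.TensorProduct.commRight R₁ S₁ A).symm.toLinearEquiv
  haveI : Module.Flat Y S₄ := IsLocalization.flat S₄ (Submonoid.powers s₄)
  haveI : Module.Flat S₁ S₄ := Module.Flat.trans S₁ Y S₄
  haveI : Module.Flat S S₄ := Module.Flat.trans S S₁ S₄
  letI : Algebra R S₄ := ((algebraMap S S₄).comp (algebraMap R S)).toAlgebra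
  haveI : IsScalarTower R S S₄ := IsScalarTower.of_algebraMap_eq fun _ => rfl
  letI : Algebra R₁ S₄ := ((algebraMap A S₄).comp (algebraMap R₁ A)).toAlgebra
  haveI : IsScalarTower R₁ A S₄ := IsScalarTower.of_algebraMap_eq fun _ => rfl
  haveI : IsScalarTower R R₁ S₄ := IsScalarTower.of_algebraMap_eq fun r => by
    show algebraMap S S₄ (algebraMap R S r) = algebraMap A S₄ (algebraMap R₁ A (algebraMap R R₁ r))
    rw [← IsScalarTower.algebraMap_apply R R₁ A, IsScalarTower.algebraMap_apply S SA S₄,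
      ← IsScalarTower.algebraMap_apply R S SA, IsScalarTower.algebraMap_apply R A SA,
      ← IsScalarTower.algebraMap_apply A SA S₄]
  letI : Module R N₄ := Module.compHom N₄ (algebraMap R S₄)
  haveI : IsScalarTower R S₄ N₄ := IsScalarTower.of_algebraMap_smul fun _ _ => rfl
  letI : Module R₁ N₄ := Module.compHom N₄ (algebraMap R₁ S₄)
  haveI : IsScalarTower R₁ S₄ N₄ := IsScalarTower.of_algebraMap_smul fun _ _ => rfl
  haveI : IsScalarTower R R₁ N₄ := IsScalarTower.of_algebraMap_smul fun r m => by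
    show algebraMap R₁ S₄ (algebraMap R R₁ r) • m = algebraMap R S₄ r • m
    rw [← IsScalarTower.algebraMap_apply]
  haveI : IsScalarTower R₁ A N₄ := IsScalarTower.of_algebraMap_smul fun r m => by
    rw [← algebraMap_smul S₄ (algebraMap R₁ A r) m]
    rfl
  -- purity at the point
  haveI : Algebra.IsPushout R A S SA := Algebra.IsPushout.symm inferInstance
  haveI : SMulCommClass A SA NA := inferInstance
  let Lq := LocalizedModule q.primeCompl N
  let mk : N →ₗ[R] Lq := (LocalizedModule.mkLinearMap q.primeCompl N).restrictScalars R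
  let eN : NA ≃ₗ[A] A ⊗[R] N :=
    (hf.equiv.restrictScalars A).symm ≪≫ₗ Algebra.IsPushout.cancelBaseChange R A S SA N
  let act : ∀ (s : S) (X : Type u) [AddCommGroup X] [Module R X] [Module S X] [IsScalarTower R S X],
      A ⊗[R] X →ₗ[A] A ⊗[R] X := fun s X _ _ _ _ => ((LinearMap.lsmul S X s).restrictScalars R).baseChange A
  have hesymm : ∀ (a : A) (n : N), eN.symm (a ⊗ₜ[R] n) = algebraMap A SA a • f n := fun a n => by
    show hf.equiv ((Algebra.IsPushout.cancelBaseChange R A S SA N).symm (a ⊗ₜ[R] n)) = _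
    rw [Algebra.IsPushout.cancelBaseChange_symm_tmul, IsBaseChange.equiv_tmul]
  have he : ∀ (s : S) (m : NA), eN (algebraMap S SA s • m) = act s N (eN m) := by
    intro s m
    obtain ⟨z, rfl⟩ := eN.symm.surjective m
    rw [LinearEquiv.apply_symm_apply]
    induction z using TensorProduct.induction_on with
    | zero => simp
    | add a b ha hb => rw [map_add, smul_add, map_add, ha, hb, map_add]
    | tmul a n =>
      rw [hesymm, smul_comm, algebraMap_smul SA s (f n), ← map_smul f, ← hesymm, LinearEquiv.apply_symm_apply]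
      simp [act]
  let φ : NA →ₗ[A] A ⊗[R] Lq := mk.baseChange A ∘ₗ eN.toLinearMap
  let uA : A ⊗[R] Lq →ₗ[A] A ⊗[R] L := u.baseChange A
  let Wq := q.primeCompl.map (algebraMap S SA)
  have hpureA : PurePowers A Wq NA := by
    refine purePowers_of_map uA φ (h₄'.mem_of_baseChange_mem u hu) (fun m hm => ?_) (fun w hw Q _ _ z hz => ?_)
    · obtain ⟨x, hx⟩ := h₄'.exists_one_tmul (eN m)
      have h1 := map_mem_smul_top (R := A) (mk.baseChange A) hx
      rw [map_sub, LinearMap.baseChange_tmul] at h1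
      have h2 := (h₄'.one_tmul_mem_iff (mk x)).1 (by simpa [φ] using sub_mem hm h1)
      obtain ⟨s, hs, hsx⟩ := exists_smul_mem_of_mk_mem q.primeCompl x h2
      refine ⟨_, ⟨s, hs, rfl⟩, ?_⟩
      have h3 : eN (algebraMap S SA s • m) ∈ mA • (⊤ : Submodule A (A ⊗[R] N)) := by
        rw [he]
        have h4 := map_mem_smul_top (R := A) (act s N) hx
        rw [map_sub] at h4
        have h5 : act s N ((1 : A) ⊗ₜ[R] x) ∈ mA • (⊤ : Submodule A (A ⊗[R] N)) := by
          simp only [act, LinearMap.baseChange_tmul]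
          exact (h₄'.one_tmul_mem_iff _).2 hsx
        simpa using add_mem h4 h5
      simpa using map_mem_smul_top (R := A) eN.symm.toLinearMap h3
    · obtain ⟨s, hs, rfl⟩ := hw
      let W' := act s Lq
      have hW' : Function.Bijective W' := by
        have hb : Function.Bijective ((LinearMap.lsmul S Lq s).restrictScalars R) :=
          ((Module.End.isUnit_iff _).1
            (IsLocalizedModule.map_units (LocalizedModule.mkLinearMap q.primeCompl N) ⟨s, hs⟩) :)
        exact ((LinearEquiv.ofBijective _ hb).baseChange R A Lq Lq).bijective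
      have hφs : ∀ m, φ (algebraMap S SA s • m) = W' (φ m) := fun m => by
        show mk.baseChange A (eN _) = W' (mk.baseChange A (eN m))
        rw [he]
        simp only [W', act, ← LinearMap.comp_apply, ← LinearMap.baseChange_comp]
        congr 1
        congr 1
        exact LinearMap.ext fun n => map_smul (LocalizedModule.mkLinearMap q.primeCompl N) s n
      have hz' : φ.rTensor Q (algebraMap S SA s • z) = W'.rTensor Q (φ.rTensor Q z) := by
        clear hz
        induction z using TensorProduct.induction_on with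
        | zero => simp
        | add a b ha hb => rw [smul_add, map_add, ha, hb, map_add, map_add]
        | tmul m x => rw [TensorProduct.smul_tmul', LinearMap.rTensor_tmul, LinearMap.rTensor_tmul,
            LinearMap.rTensor_tmul, hφs]
      rw [hz, map_zero] at hz'
      exact ((LinearEquiv.ofBijective W' hW').rTensor Q).injective (hz'.symm.trans (map_zero _).symm)
  have hpure₄ : PurePowers A q₄.primeCompl N₄ := by
    haveI : Module.Flat SA S₄ := inferInstance
    refine hpureA.baseChange φA hφA ?_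
    rintro _ ⟨s, hs, rfl⟩ hmem
    rw [SetLike.mem_coe, ← IsScalarTower.algebraMap_apply S SA S₄, ← Ideal.mem_comap] at hmem
    exact hs (hq₁.comap_eq.le (by rw [← hq₄q, Ideal.comap_comap, ← IsScalarTower.algebraMap_eq]; exact hmem))
  -- the dévissage over `A`
  obtain ⟨D, ⟨E⟩⟩ := H A e mA h₄ h₄.comap_eq hef S₄ rfl q₄ hq₄p hq₄q N₄ φ₁ hφ₁
  haveI : Algebra.FiniteType A S₄ := by
    haveI : Algebra.FiniteType R S₁ := Algebra.FiniteType.trans (S := S) ‹_› inferInstance
    haveI : Algebra.FiniteType R₁ S₁ := Algebra.FiniteType.of_restrictScalars_finiteType R R₁ S₁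
    haveI : Algebra.FiniteType A Y := inferInstance
    haveI : Algebra.FinitePresentation Y S₄ := IsLocalization.Away.finitePresentation s₄
    haveI : Algebra.FiniteType Y S₄ := inferInstance
    exact Algebra.FiniteType.trans (S := Y) ‹_› ‹_›
  obtain ⟨hfp, hfree⟩ := free_fp_of_pure_devissageAt (R := A) N₄ q₄ hpure₄ D E
  haveI := hfree
  haveI : Module.Flat R N₄ := by
    haveI : Module.Flat R R₁ := inferInstance
    haveI : Module.Flat R₁ A := IsLocalization.flat A p₁.primeCompl
    haveI : Module.Flat R A := Module.Flat.trans R R₁ A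
    haveI : IsScalarTower R A N₄ := IsScalarTower.of_algebraMap_smul fun r m => by
      rw [IsScalarTower.algebraMap_apply R R₁ A, algebraMap_smul, algebraMap_smul]
    exact Module.Flat.trans R A N₄
  refine (FlatFibres.flatAt_iff_of_isBaseChange φS hφS q q₄).2 ?_
  rw [FlatFibres.flatAt_iff_forall]
  intro I z hz
  refine ⟨1, (Ideal.ne_top_iff_one q₄).1 hq₄pr.ne_top, ?_⟩
  rw [one_smul]
  exact Module.Flat.lTensor_preserves_injective_linearMap I.subtype Subtype.val_injective (hz.trans (map_zero _).symm)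

end Groth.Agent.RG11
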