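import Groth.Agent.RG11.Content
import Groth.Agent.RG11.PureFibre
import Groth.Agent.RG11.GoodAux
import Mathlib

/-!
# Universal purity from a map into a projective module
-/

universe u

set_option linter.style.haveILetI false

namespace Groth.Agent.RG11

open TensorProduct

attribute [local instance] Algebra.TensorProduct.rightAlgebra

/-- A nonzero image in a projective module of an element killed by powers of `P` keeps `P` from being an impurity. -/
theorem exists_over_of_end {A' B' A'' L : Type u} [CommRing A'] [CommRing B'] [CommRing A''] [Algebra A' B']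
    [Algebra A' A''] [AddCommGroup L] [Module A'' L] [Module.Projective A'' L] [Module A' L] [IsScalarTower A' A'' L]
    (ψ : B' →ₐ[A'] Module.End A'' L) (t : Ideal A') [t.IsPrime] (T' T : Ideal A'') [T'.IsPrime] [T.IsPrime]
    (hle : T' ≤ T) (ht : T.comap (algebraMap A' A'') = t) (P : Ideal B') (n : L)
    (hn : n ∉ T' • (⊤ : Submodule A'' L)) (hP : ∀ b ∈ P, ∃ k : ℕ, ψ (b ^ k) n ∈ T' • (⊤ : Submodule A'' L)) :
    ∃ P' : Ideal B', P'.IsPrime ∧ P ≤ P' ∧ P'.LiesOver t := by
  classical
  let J : Ideal B' := P ⊔ t.map (algebraMap A' B')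
  by_contra hcon
  push Not at hcon
  obtain ⟨z, hzJ, a, ha, rfl⟩ : ∃ z ∈ J, ∃ a ∉ t, algebraMap A' B' a = z := by
    by_contra! hne
    have hdisj : Disjoint (J : Set B') (Algebra.algebraMapSubmonoid B' t.primeCompl : Set B') := by
      rw [Set.disjoint_left]
      rintro _ hJ ⟨r, hr, rfl⟩
      exact hne _ hJ r hr rfl
    obtain ⟨Q, hQ, hJQ, hdQ⟩ := Ideal.exists_le_prime_disjoint J _ hdisj
    refine hcon Q hQ (le_sup_left.trans hJQ) ⟨le_antisymm (Ideal.map_le_iff_le_comap.1 (le_sup_right.trans hJQ)) ?_⟩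
    exact fun r hr => by_contra fun h => Set.disjoint_left.1 hdQ hr ⟨r, h, rfl⟩
  obtain ⟨b, hb, c, hc, hbc⟩ := Submodule.mem_sup.1 hzJ
  obtain ⟨k, hk⟩ := hP b hb
  have hc' : algebraMap A' B' a ^ k - b ^ k ∈ t.map (algebraMap A' B') := by
    obtain ⟨d, hd⟩ := sub_dvd_pow_sub_pow (algebraMap A' B' a) b k
    rw [hd, ← hbc, add_sub_cancel_left]
    exact Ideal.mul_mem_right _ _ hc
  have hψ : ∀ x ∈ t.map (algebraMap A' B'), ψ x ∈ T • (⊤ : Submodule A'' (Module.End A'' L)) := by
    intro x hx
    have hx' : x ∈ (t • ⊤ : Submodule A' B') := by rw [Ideal.smul_top_eq_map]; exact hx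
    clear hx
    induction hx' using Submodule.smul_induction_on' with
    | smul r hr y _ =>
      rw [map_smul, ← algebraMap_smul A'' r (ψ y)]
      exact Submodule.smul_mem_smul (ht.ge hr) Submodule.mem_top
    | add y _ z _ hy hz => rw [map_add]; exact add_mem hy hz
  have hak : algebraMap A' A'' (a ^ k) ∉ T := fun h => by
    have : a ^ k ∈ t := ht.le (Ideal.mem_comap.2 h)
    exact ha ((inferInstance : t.IsPrime).mem_of_pow_mem k this)
  refine hn (mem_smul_top_of_content_end T' T hle n _ hak _ (hψ _ hc') ?_)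
  rw [map_sub, LinearMap.sub_apply, ← map_pow, AlgHom.commutes, Module.algebraMap_end_apply, algebraMap_smul,
    sub_sub_cancel]
  exact hk

set_option maxHeartbeats 1600000 in
/-- A map into a projective module, universally injective near the fibres below `p₁`, forces universal purity. -/
theorem isUnivPureAlong_of_ui {A B : Type u} [CommRing A] [CommRing B] [Algebra A B] (N : Type u) [AddCommGroup N]
    [Module B N] (p : Ideal A) [p.IsPrime]
    (A₁ BA : Type u) [CommRing A₁] [CommRing BA] [Algebra A A₁] [Module.Flat A A₁] [Algebra B BA] [Algebra A₁ BA]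
    [Algebra A BA] [IsScalarTower A B BA] [IsScalarTower A A₁ BA] [Algebra.IsPushout A B A₁ BA]
    (p₁ : Ideal A₁) [p₁.IsPrime] (hp₁ : p₁.comap (algebraMap A A₁) = p)
    (M : Type u) [AddCommGroup M] [Module BA M] [Module B M] [IsScalarTower B BA M] [Module A₁ M] [IsScalarTower A₁ BA M]
    (fN : N →ₗ[B] M) (hfN : IsBaseChange BA fN)
    (L : Type u) [AddCommGroup L] [Module BA L] [Module A₁ L] [IsScalarTower A₁ BA L] [Module.Projective A₁ L]
    (w : M →ₗ[BA] L)
    (H : ∀ (q : Ideal BA) [q.IsPrime], q.comap (algebraMap A₁ BA) ≤ p₁ → ∀ (Q : Type u) [AddCommGroup Q] [Module A₁ Q]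
      (z : M ⊗[A₁] Q), (w.restrictScalars A₁).rTensor Q z = 0 → ∃ s ∉ q, s • z = 0) :
    FlatCA.IsUnivPureAlong A B N p := by
  intro A' B' N' _ _ _ _ _ _ _ _ _ _ _ _ _ _ f t' t _ _ P _ ⟨hpo, hf, hle, htp, _, hass, hno⟩
  haveI := hpo
  haveI : Algebra.IsPushout A A' B B' := Algebra.IsPushout.symm inferInstance
  haveI : Algebra.IsPushout A A₁ B BA := Algebra.IsPushout.symm inferInstance
  -- the new base
  let A'' := A' ⊗[A] A₁
  haveI : IsScalarTower A A₁ A'' := IsScalarTower.of_algebraMap_eq fun r =>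
    ((Algebra.TensorProduct.includeRight : A₁ →ₐ[A] A'').commutes r).symm
  obtain ⟨T, hT, hTt, hTp⟩ := exists_prime_tensor (R := A) (X := A₁) t p₁ (by rw [hp₁]; exact htp.over.symm)
  haveI := hT
  haveI : T.LiesOver t := ⟨hTt.symm⟩
  haveI : Algebra.HasGoingDown A' A'' := inferInstance
  obtain ⟨T', hT'T, hT', hT't⟩ := Ideal.exists_ideal_le_liesOver_of_le (p := t') (q := t) T hle
  haveI := hT'
  haveI := hT't
  let t₁ := T'.comap (algebraMap A₁ A'')
  have ht₁p : t₁ ≤ p₁ := fun r hr => hTp.le (show algebraMap A₁ A'' r ∈ T from hT'T hr)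
  -- modules over the new base
  let L'' := A'' ⊗[A₁] L
  let M'' := A'' ⊗[A₁] M
  -- the actions of `B`
  letI : Module B L := Module.compHom L (algebraMap B BA)
  haveI : IsScalarTower B BA L := IsScalarTower.of_algebraMap_smul (R := B) (A := BA) (M := L) fun _ _ => rfl
  letI : Module A L := Module.compHom L (algebraMap A A₁)
  haveI : IsScalarTower A A₁ L := IsScalarTower.of_algebraMap_smul (R := A) (A := A₁) (M := L) fun _ _ => rfl
  letI : Module A M := Module.compHom M (algebraMap A A₁)
  haveI : IsScalarTower A A₁ M := IsScalarTower.of_algebraMap_smul (R := A) (A := A₁) (M := M) fun _ _ => rfl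
  let mult : ∀ (X : Type u) [AddCommGroup X] [Module BA X] [Module A₁ X] [IsScalarTower A₁ BA X],
      BA →ₐ[A₁] Module.End A'' (A'' ⊗[A₁] X) := fun X _ _ _ _ =>
    (Module.End.baseChangeHom A₁ A'' X).comp (Algebra.lsmul A₁ A₁ X)
  let mkψ : ∀ (X : Type u) [AddCommGroup X] [Module BA X] [Module A₁ X] [IsScalarTower A₁ BA X],
      B' →ₐ[A'] Module.End A'' (A'' ⊗[A₁] X) := fun X _ _ _ _ =>
    (Algebra.TensorProduct.lift (Algebra.ofId A' (Module.End A'' (A'' ⊗[A₁] X)))
      (((mult X).restrictScalars A).comp (IsScalarTower.toAlgHom A B BA))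
      (fun a y => (Algebra.commute_algebraMap_left a _ : Commute (Algebra.ofId A' (Module.End A'' (A'' ⊗[A₁] X)) a) _))).comp (Algebra.IsPushout.equiv A A' B B').symm.toAlgHom
  have hψB : ∀ (X : Type u) [AddCommGroup X] [Module BA X] [Module A₁ X] [IsScalarTower A₁ BA X] (b : B) (c : A'') (x : X),
      mkψ X (algebraMap B B' b) (c ⊗ₜ[A₁] x) = c ⊗ₜ[A₁] (algebraMap B BA b • x) := by
    intro X _ _ _ _ b c x
    have hsym : (Algebra.IsPushout.equiv A A' B B').symm (algebraMap B B' b) = (1 : A') ⊗ₜ[A] b :=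
      (AlgEquiv.symm_apply_eq _).2 (by rw [Algebra.IsPushout.equiv_tmul, map_one, one_mul])
    simp only [mkψ, AlgHom.comp_apply]
    rw [show (Algebra.IsPushout.equiv A A' B B').symm.toAlgHom (algebraMap B B' b) = (1 : A') ⊗ₜ[A] b from hsym]
    erw [Algebra.TensorProduct.lift_tmul]
    rw [map_one, one_mul]
    rfl
  let ψL := mkψ L
  let ψM := mkψ M
  letI : Module B' L'' := Module.compHom L'' ψL.toRingHom
  letI : Module B' M'' := Module.compHom M'' ψM.toRingHom
  letI : Module B L'' := Module.compHom L'' (ψL.toRingHom.comp (algebraMap B B'))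
  letI : Module B M'' := Module.compHom M'' (ψM.toRingHom.comp (algebraMap B B'))
  haveI : IsScalarTower B B' L'' := IsScalarTower.of_algebraMap_smul (R := B) (A := B') (M := L'') fun _ _ => rfl
  haveI : IsScalarTower B B' M'' := IsScalarTower.of_algebraMap_smul (R := B) (A := B') (M := M'') fun _ _ => rfl
  let gM : N →ₗ[B] M'' :=
    { toFun := fun m => (1 : A'') ⊗ₜ[A₁] fN m
      map_add' := fun a b => by rw [map_add, tmul_add]
      map_smul' := fun b m => by
        show _ = ψM (algebraMap B B' b) ((1 : A'') ⊗ₜ[A₁] fN m)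
        rw [hψB M, map_smul, algebraMap_smul] }
  let ΦM : N' →ₗ[B'] M'' := hf.lift gM
  have hΦM : ∀ m, ΦM (f m) = (1 : A'') ⊗ₜ[A₁] fN m := fun m => hf.lift_eq gM m
  let w'' : M'' →ₗ[A''] L'' := (w.restrictScalars A₁).baseChange A''
  have hw'' : ∀ (y : B') (v : M''), w'' (ψM y v) = ψL y (w'' v) := by
    intro y v
    obtain ⟨y, rfl⟩ := (Algebra.IsPushout.equiv A A' B B').surjective y
    induction y using TensorProduct.induction_on with
    | zero => simp
    | add a b ha hb => simp only [map_add, LinearMap.add_apply, ha, hb]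
    | tmul a b =>
      rw [Algebra.IsPushout.equiv_tmul, map_mul, map_mul, Module.End.mul_apply, Module.End.mul_apply, AlgHom.commutes,
        AlgHom.commutes, Module.algebraMap_end_apply, Module.algebraMap_end_apply, ← algebraMap_smul A'' a,
        map_smul, algebraMap_smul]
      congr 1
      induction v using TensorProduct.induction_on with
      | zero => simp
      | add x y hx hy => simp only [map_add, hx, hy]
      | tmul c x =>
        rw [hψB M, LinearMap.baseChange_tmul, LinearMap.baseChange_tmul, hψB L]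
        exact congrArg (fun z => c ⊗ₜ[A₁] z) (w.map_smul _ _)
  have hA'M : ∀ (a : A') (v : M''), algebraMap A' B' a • v = a • v := fun a v => by
    show ψM (algebraMap A' B' a) v = a • v
    rw [AlgHom.commutes, Module.algebraMap_end_apply]
  -- the inverse comparison
  let Y := A'' ⊗[A'] N'
  letI : Module A N' := Module.compHom N' (algebraMap A A')
  haveI : IsScalarTower A A' N' := IsScalarTower.of_algebraMap_smul (R := A) (A := A') (M := N') fun _ _ => rfl
  letI : Module A N := Module.compHom N (algebraMap A B)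
  haveI : IsScalarTower A B N := IsScalarTower.of_algebraMap_smul (R := A) (A := B) (M := N) fun _ _ => rfl
  haveI : SMulCommClass B A₁ BA := ⟨fun a b c => by simp only [Algebra.smul_def]; ring⟩
  haveI : SMulCommClass B A' B' := ⟨fun a b c => by simp only [Algebra.smul_def]; ring⟩
  let gA₁ : N →ₗ[A] M :=
    { toFun := fN
      map_add' := map_add fN
      map_smul' := fun a m => by
        show fN (algebraMap A B a • m) = algebraMap A A₁ a • fN m
        rw [map_smul, ← algebraMap_smul BA (algebraMap A B a), ← algebraMap_smul BA (algebraMap A A₁ a),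
          ← IsScalarTower.algebraMap_apply, ← IsScalarTower.algebraMap_apply] }
  have hgA₁ : IsBaseChange A₁ gA₁ := by
    refine IsBaseChange.of_equiv ((Algebra.IsPushout.cancelBaseChange A A₁ B BA N).symm.trans
      (hfN.equiv.restrictScalars A₁)) fun m => ?_
    show hfN.equiv ((Algebra.IsPushout.cancelBaseChange A A₁ B BA N).symm ((1 : A₁) ⊗ₜ[A] m)) = fN m
    rw [Algebra.IsPushout.cancelBaseChange_symm_tmul, map_one, IsBaseChange.equiv_tmul, one_smul]
  let gA' : N →ₗ[A] N' :=
    { toFun := f
      map_add' := map_add f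
      map_smul' := fun a m => by
        show f (algebraMap A B a • m) = algebraMap A A' a • f m
        rw [map_smul, ← algebraMap_smul B' (algebraMap A B a), ← algebraMap_smul B' (algebraMap A A' a),
          ← IsScalarTower.algebraMap_apply, ← IsScalarTower.algebraMap_apply] }
  have hgA' : IsBaseChange A' gA' := by
    refine IsBaseChange.of_equiv ((Algebra.IsPushout.cancelBaseChange A A' B B' N).symm.trans
      (hf.equiv.restrictScalars A')) fun m => ?_
    show hf.equiv ((Algebra.IsPushout.cancelBaseChange A A' B B' N).symm ((1 : A') ⊗ₜ[A] m)) = f m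
    rw [Algebra.IsPushout.cancelBaseChange_symm_tmul, map_one, IsBaseChange.equiv_tmul, one_smul]
  haveI : SMulCommClass A' A₁ A'' := ⟨fun a b c => by simp only [Algebra.smul_def]; ring⟩
  haveI : IsScalarTower A₁ A'' Y := TensorProduct.isScalarTower_left
  haveI : IsScalarTower A A₁ Y := TensorProduct.isScalarTower_left
  let hY : N →ₗ[A] Y := ((TensorProduct.mk A' A'' N' 1).restrictScalars A).comp gA'
  let θ : M →ₗ[A₁] Y := hgA₁.lift hY
  let Θ : M'' →ₗ[A''] Y := LinearMap.liftBaseChange A'' θ
  have hΘ : ∀ y : N', Θ (ΦM y) = (1 : A'') ⊗ₜ[A'] y := fun y => by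
    refine hgA'.inductionOn y (fun y => Θ (ΦM y) = (1 : A'') ⊗ₜ[A'] y) ?_ (fun m => ?_) (fun a y hy => ?_)
      (fun y z hy hz => ?_)
    · rw [map_zero, map_zero, tmul_zero]
    · show Θ (ΦM (f m)) = (1 : A'') ⊗ₜ[A'] f m
      rw [hΦM]
      show LinearMap.liftBaseChange A'' θ ((1 : A'') ⊗ₜ[A₁] fN m) = _
      rw [LinearMap.liftBaseChange_tmul, one_smul]
      exact hgA₁.lift_eq hY m
    · rw [← algebraMap_smul B' a y, map_smul, hA'M, ← algebraMap_smul A'' a, map_smul, hy, algebraMap_smul,
        algebraMap_smul, tmul_smul]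
    · rw [map_add, map_add, hy, hz, tmul_add]
  -- the element
  obtain ⟨hpr, x, hx⟩ := hass
  have := AssFiber.isLocalizedModule_quotToFiber t' (S := B') N'
  obtain ⟨⟨y, ⟨_, u, hu, rfl⟩⟩, hy⟩ := IsLocalizedModule.surj (Algebra.algebraMapSubmonoid B' t'.primeCompl)
    (AssFiber.quotToFiber t' (S := B') N') x
  obtain ⟨n, rfl⟩ := Submodule.Quotient.mk_surjective _ y
  have hn : FlatCA.toFiberMod t' (S := B') N' n = algebraMap A' B' u • x := hy.symm
  have hn0 : (1 : t'.ResidueField) ⊗ₜ[A'] n ≠ 0 := by
    intro h0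
    have h1 := toFiberMod_eq_zero_of_one_tmul (S := B') t' N' h0
    have hunit : IsUnit (algebraMap B' (t'.Fiber B') (algebraMap A' B' u)) := by
      show IsUnit ((1 : t'.ResidueField) ⊗ₜ[A'] algebraMap A' B' u)
      rw [Algebra.algebraMap_eq_smul_one, ← smul_tmul, ← Algebra.algebraMap_eq_smul_one]
      have hne : algebraMap A' t'.ResidueField u ≠ 0 := fun h => hu (Ideal.algebraMap_residueField_eq_zero.1 h)
      exact (isUnit_iff_ne_zero.2 hne).map
        (Algebra.TensorProduct.includeLeftRingHom (R := A') (A := t'.ResidueField) (B := B'))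
    have hx0 : x = 0 := hunit.smul_eq_zero.1 (by rw [AssFiber.algebraMap_smul_fiberMod, ← hn, h1])
    refine hpr.ne_top ?_
    rw [hx, hx0, Submodule.colon_singleton_zero, Ideal.radical_top]
  have hPk : ∀ b ∈ P, ∃ (k : ℕ) (r : A'), r ∉ t' ∧ r • b ^ k • n ∈ t' • (⊤ : Submodule A' N') := by
    intro b hb
    obtain ⟨k, hk⟩ := hx.le (Ideal.mem_map_of_mem
      (Algebra.TensorProduct.includeRight (R := A') (A := t'.ResidueField) (B := B')).toRingHom hb)
    rw [Submodule.mem_colon_singleton, Submodule.mem_bot, ← map_pow] at hk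
    have hk' : b ^ k • x = 0 := (AssFiber.algebraMap_smul_fiberMod t' N' (b ^ k) x).symm.trans hk
    obtain ⟨r, hr, hrn⟩ := AssFiber.exists_smul_mem_of_toFiberMod_eq_zero t' (S := B') N' (n := b ^ k • n) (by
      rw [map_smul, hn, smul_comm, hk', smul_zero])
    have h1 := AssFiber.mem_smul_top_of_mem_pN t' N' hrn
    rw [algebraMap_smul] at h1
    exact ⟨k, r, hr, h1⟩
  let m'' : M'' := ΦM n
  -- its image in the projective module
  suffices hnL : w'' m'' ∉ T' • (⊤ : Submodule A'' L'') by
    obtain ⟨P', hP', hPP', hP't⟩ := exists_over_of_end ψL t T' T hT'T hTt P (w'' m'') hnL fun b hb => by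
      obtain ⟨k, r, hr, hrn⟩ := hPk b hb
      refine ⟨k, ?_⟩
      have hr' : algebraMap A' A'' r ∉ T' := fun h => hr (hT't.over.ge h)
      refine mem_smul_top_of_smul_mem T' hr' ?_
      have h2 : r • ψL (b ^ k) (w'' m'') = w'' (ΦM (r • b ^ k • n)) := by
        rw [show ΦM (r • b ^ k • n) = r • (b ^ k • ΦM n) by
          rw [← algebraMap_smul B' r (b ^ k • n), map_smul, map_smul, hA'M]]
        show r • ψL (b ^ k) (w'' m'') = w'' (r • ψM (b ^ k) m'')
        rw [← algebraMap_smul A'' r (ψM _ _), map_smul, algebraMap_smul, hw'']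
      rw [algebraMap_smul, h2]
      generalize r • b ^ k • n = v at hrn ⊢
      induction hrn using Submodule.smul_induction_on' with
      | smul a ha y _ =>
        rw [← algebraMap_smul B' a y, map_smul, hA'M, ← algebraMap_smul A'' a, map_smul]
        exact Submodule.smul_mem_smul (show algebraMap A' A'' a ∈ T' from hT't.over.le ha) Submodule.mem_top
      | add a _ c _ ha hc => rw [map_add, map_add]; exact add_mem ha hc
    exact @hno P' hP' hPP' hP't
  intro hmem
  -- in the fibre over `T'`
  let K := T'.ResidueField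
  letI : Algebra t'.ResidueField K := (Ideal.ResidueField.map t' T' (algebraMap A' A'') hT't.over).toAlgebra
  haveI : IsScalarTower A' t'.ResidueField K := IsScalarTower.of_algebraMap_eq fun a =>
    ((Ideal.ResidueField.map_algebraMap _ _ _ hT't.over a).trans (IsScalarTower.algebraMap_apply A' A'' K a).symm).symm
  have hnK : (1 : K) ⊗ₜ[A'] n ≠ 0 := fun h0 => hn0 <| by
    have hinj : Function.Injective
        ((TensorProduct.mk t'.ResidueField K (t'.ResidueField ⊗[A'] N') 1)) :=
      Module.FaithfullyFlat.tensorProduct_mk_injective (A := t'.ResidueField) (B := K) (t'.ResidueField ⊗[A'] N')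
    refine hinj ?_
    rw [map_zero]
    apply (AlgebraTensorModule.cancelBaseChange A' t'.ResidueField K K N').injective
    rw [map_zero, TensorProduct.mk_apply, AlgebraTensorModule.cancelBaseChange_tmul, one_smul]
    exact h0
  have hzM : (1 : K) ⊗ₜ[A''] m'' ≠ 0 := fun h0 => hnK <| by
    have h1 := congrArg (Θ.lTensor K) h0
    rw [LinearMap.lTensor_tmul, map_zero, hΘ] at h1
    have h2 := congrArg (AlgebraTensorModule.cancelBaseChange A' A'' K K N') h1
    rwa [map_zero, AlgebraTensorModule.cancelBaseChange_tmul, one_smul] at h2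
  let z : M ⊗[A₁] K := TensorProduct.comm A₁ K M (AlgebraTensorModule.cancelBaseChange A₁ A'' K K M ((1 : K) ⊗ₜ[A''] m''))
  have hz0 : z ≠ 0 := by
    intro h0
    exact hzM ((AlgebraTensorModule.cancelBaseChange A₁ A'' K K M).map_eq_zero_iff.1
      ((TensorProduct.comm A₁ K M).map_eq_zero_iff.1 h0))
  have hwz : (w.restrictScalars A₁).rTensor K z = 0 := by
    have hnat : ∀ v : K ⊗[A''] M'', (w.restrictScalars A₁).rTensor K
        (TensorProduct.comm A₁ K M (AlgebraTensorModule.cancelBaseChange A₁ A'' K K M v)) =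
        TensorProduct.comm A₁ K L (AlgebraTensorModule.cancelBaseChange A₁ A'' K K L (w''.lTensor K v)) := fun v => by
      induction v using TensorProduct.induction_on with
      | zero => simp
      | add a b ha hb => simp only [map_add, ha, hb]
      | tmul c v =>
        induction v using TensorProduct.induction_on with
        | zero => simp
        | add a b ha hb => simp only [tmul_add, map_add, ha, hb]
        | tmul d m =>
          rw [LinearMap.lTensor_tmul]
          erw [AlgebraTensorModule.cancelBaseChange_tmul, AlgebraTensorModule.cancelBaseChange_tmul]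
          rfl
    rw [hnat, LinearMap.lTensor_tmul]
    have hzero : (1 : K) ⊗ₜ[A''] (w'' m'') = 0 := by
      refine one_tmul_eq_zero_of_smul_mem T' L'' (r := 1) (fun h => Ideal.IsPrime.ne_top' ((Ideal.eq_top_iff_one _).2 h)) ?_
      rw [one_smul]; exact hmem
    rw [hzero, map_zero, map_zero]
  -- the prime
  have hunit : ∀ r ∉ t₁, IsUnit (algebraMap A₁ K r) := fun r hr => by
    rw [IsScalarTower.algebraMap_apply A₁ A'' K]
    exact isUnit_iff_ne_zero.2 fun h0 => hr ((Ideal.algebraMap_residueField_eq_zero (I := T')).1 h0)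
  let Ann : Ideal BA := (Submodule.span BA {z}).annihilator
  have hsm : ∀ (r : A₁) (v : M ⊗[A₁] K), algebraMap A₁ BA r • v = r • v := fun r v => algebraMap_smul BA r v
  obtain ⟨q, hq, hAq, hdq⟩ := Ideal.exists_le_prime_disjoint Ann (Algebra.algebraMapSubmonoid BA t₁.primeCompl) (by
    rw [Set.disjoint_left]
    rintro _ hann ⟨r, hr, rfl⟩
    have h1 := (Submodule.mem_annihilator_span_singleton z _).1 hann
    rw [hsm] at h1
    obtain ⟨v, hv⟩ := (hunit r hr).exists_left_inv
    let μ : K →ₗ[A₁] K := v • LinearMap.id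
    have h2 : μ.lTensor M (r • z) = z := by
      have : (r • μ : K →ₗ[A₁] K) = LinearMap.id := LinearMap.ext fun k => by
        show r • (v • k) = k
        rw [Algebra.smul_def, smul_eq_mul, ← mul_assoc, mul_comm _ v, hv, one_mul]
      rw [map_smul, ← LinearMap.smul_apply, ← LinearMap.lTensor_smul, this, LinearMap.lTensor_id, LinearMap.id_apply]
    rw [h1, map_zero] at h2
    exact hz0 h2.symm)
  haveI := hq
  have hqp : q.comap (algebraMap A₁ BA) ≤ p₁ := fun r hr => ht₁p (by_contra fun hr' =>
    Set.disjoint_left.1 hdq hr ⟨r, hr', rfl⟩)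
  obtain ⟨s, hs, hsz⟩ := H q hqp K z hwz
  exact hs (hAq ((Submodule.mem_annihilator_span_singleton z s).2 hsz))

end Groth.Agent.RG11
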