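import Groth.Agent.RG11.PureProj
import Groth.Agent.RG11.UnivPureCover
import Mathlib

/-!
# The pure locus of a flat module
-/

universe u

set_option linter.style.haveILetI false

namespace Groth.Agent.RG11

open TensorProduct

attribute [local instance] Algebra.TensorProduct.rightAlgebra

/-- Where a flat base change is projective, the module is universally pure. -/
theorem isUnivPureAlong_of_projective_baseChange {A B : Type u} [CommRing A] [CommRing B] [Algebra A B]
    (N : Type u) [AddCommGroup N] [Module B N] [Module A N] [IsScalarTower A B N]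
    (A₁ : Type u) [CommRing A₁] [Algebra A A₁] [Module.Flat A A₁] [Module.Projective A₁ (A₁ ⊗[A] N)]
    (p : Ideal A) [p.IsPrime] (p₁ : Ideal A₁) [p₁.IsPrime] (hp₁ : p₁.comap (algebraMap A A₁) = p) :
    FlatCA.IsUnivPureAlong A B N p := by
  let BA := A₁ ⊗[A] B
  haveI : IsScalarTower A B BA := IsScalarTower.of_algebraMap_eq fun r =>
    ((Algebra.TensorProduct.includeRight : B →ₐ[A] BA).commutes r).symm
  haveI : Algebra.IsPushout A B A₁ BA := Algebra.IsPushout.symm inferInstance
  haveI : SMulCommClass B A₁ BA := ⟨fun a b c => by simp only [Algebra.smul_def]; ring⟩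
  let M := BA ⊗[B] N
  haveI : Module.Projective A₁ M :=
    Module.Projective.of_equiv (Algebra.IsPushout.cancelBaseChange A A₁ B BA N).symm
  refine isUnivPureAlong_of_ui N p A₁ BA p₁ hp₁ M (TensorProduct.mk B BA N 1) (TensorProduct.isBaseChange B N BA) M
    LinearMap.id fun q hq _ Q _ _ z hz => ⟨1, fun h => hq.ne_top ((Ideal.eq_top_iff_one q).2 h), ?_⟩
  rw [one_smul]
  have hid : ((LinearMap.id : M →ₗ[BA] M).restrictScalars A₁) = LinearMap.id := rfl
  rwa [hid, LinearMap.rTensor_id, LinearMap.id_apply] at hz

theorem isPureAlong_of_univ {A B : Type u} [CommRing A] [CommRing B] [Algebra A B]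
    (N : Type u) [AddCommGroup N] [Module B N] (p : Ideal A) [p.IsPrime] (h : FlatCA.IsUnivPureAlong A B N p) :
    FlatCA.IsPureAlong A B N p := by
  intro A' B' N' _ _ _ _ _ _ _ _ _ _ _ _ _ _ f t' t _ _ P _ _
  exact h A' B' N' f t' t P

/-- The pure locus of a flat module of finite presentation is open. -/
theorem isOpen_pureLocus {A B : Type u} [CommRing A] [CommRing B] [Algebra A B] [Algebra.FinitePresentation A B]
    (N : Type u) [AddCommGroup N] [Module B N] [Module A N] [IsScalarTower A B N] [Module.FinitePresentation B N]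
    [Module.Flat A N] : IsOpen {p : PrimeSpectrum A | FlatCA.IsPureAlong A B N p.asIdeal} := by
  rw [isOpen_iff_forall_mem_open]
  intro x hx
  obtain ⟨A₁, _, _, p₁, _, het, hp₁, hproj⟩ :=
    exists_projective_nhd_base N x.asIdeal (fun q _ _ => flat_localizedModule q.primeCompl N) hx
  haveI := het
  refine ⟨Set.range (PrimeSpectrum.comap (algebraMap A A₁)), ?_,
    (PrimeSpectrum.isOpenMap_comap_of_hasGoingDown_of_finitePresentation (R := A) (S := A₁)).isOpen_range,
    ⟨⟨p₁, inferInstance⟩, PrimeSpectrum.ext hp₁⟩⟩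
  rintro _ ⟨W, rfl⟩
  exact isPureAlong_of_univ N _ (isUnivPureAlong_of_projective_baseChange N A₁ _ W.asIdeal rfl)

end Groth.Agent.RG11
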