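import Groth.Agent.CAlgUI.Basic
import Groth.Prelude.Def_FlatCA
import Groth.Prelude.Def_Found
import Mathlib.RingTheory.FiniteType
import Mathlib.Data.Finsupp.Encodable

/-!
# Universal injectivity in the two conventions; countable generation of finite modules
-/

universe u

namespace Groth.Agent.RG11

open TensorProduct

variable {R : Type u} [CommRing R] {M N : Type u} [AddCommGroup M] [Module R M]
  [AddCommGroup N] [Module R N]

theorem lTensor_injective_iff_rTensor (f : M →ₗ[R] N) (Q : Type u) [AddCommGroup Q] [Module R Q] :
    Function.Injective (f.lTensor Q) ↔ Function.Injective (f.rTensor Q) := by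
  exact LinearMap.lTensor_inj_iff_rTensor_inj _ f

theorem univInj_iff (f : M →ₗ[R] N) : FlatCA.UnivInj R f ↔ CAlgX.UniversallyInjective R f := by
  constructor
  · intro h Q _ _; exact (lTensor_injective_iff_rTensor f Q).1 (h Q)
  · intro h Q _ _; exact (lTensor_injective_iff_rTensor f Q).2 (h Q)

/-- A finite module over an algebra of finite type is countably generated over the base. -/
theorem isCountablyGenerated_of_finite (R S M : Type u) [CommRing R] [CommRing S] [Algebra R S]
    [Algebra.FiniteType R S] [AddCommGroup M] [Module S M] [Module R M] [IsScalarTower R S M]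
    [Module.Finite S M] : CAlg.IsCountablyGenerated R M := by
  obtain ⟨m, φ, hφ⟩ := Algebra.FiniteType.iff_quotient_mvPolynomial''.1 (inferInstance : Algebra.FiniteType R S)
  obtain ⟨k, g, hg⟩ := Module.Finite.exists_fin (R := S) (M := M)
  let F : (Fin m →₀ ℕ) × Fin k → M := fun a => φ (MvPolynomial.monomial a.1 1) • g a.2
  refine ⟨Set.range F, Set.countable_range F, eq_top_iff.2 fun x _ => ?_⟩
  have hx : x ∈ Submodule.span S (Set.range g) := hg ▸ Submodule.mem_top
  obtain ⟨c, rfl⟩ := (Submodule.mem_span_range_iff_exists_fun S).1 hx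
  refine Submodule.sum_mem _ fun i _ => ?_
  obtain ⟨P, hP⟩ := hφ (c i)
  rw [← hP, P.as_sum, map_sum, Finset.sum_smul]
  refine Submodule.sum_mem _ fun a _ => ?_
  rw [show MvPolynomial.monomial a (P.coeff a) = P.coeff a • MvPolynomial.monomial a (1 : R) by
    rw [MvPolynomial.smul_monomial, smul_eq_mul, mul_one], map_smul, smul_assoc]
  exact Submodule.smul_mem _ _ (Submodule.subset_span ⟨(a, i), rfl⟩)

end Groth.Agent.RG11
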