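import Groth.Agent.RG11.ProjCover
import Groth.Agent.RG11.PureFibre
import Groth.Agent.RG11.GlobalUI
import Groth.Agent.RG11.DevProj
import Groth.Agent.RG11.UIBasic
import Groth.Agent.CAlgUI.DescentProj
import Groth.Agent.CAlgUI.Projective
import Mathlib

/-!
# Pure flat modules of finite presentation are projective
-/

universe u

set_option linter.style.haveILetI false

namespace Groth.Agent.RG11

open TensorProduct Topology

attribute [local instance] Algebra.TensorProduct.rightAlgebra

/-- Countable generation survives base change. -/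
theorem isCountablyGenerated_tensor {R T M : Type u} [CommRing R] [CommRing T] [Algebra R T] [AddCommGroup M]
    [Module R M] (h : CAlg.IsCountablyGenerated R M) : CAlg.IsCountablyGenerated T (T ⊗[R] M) := by
  obtain ⟨s, hs, hspan⟩ := h
  refine ⟨(fun m => (1 : T) ⊗ₜ[R] m) '' s, hs.image _, eq_top_iff.2 ?_⟩
  rintro z -
  induction z using TensorProduct.induction_on with
  | zero => exact zero_mem _
  | add a b ha hb => exact add_mem ha hb
  | tmul c m =>
    rw [show c ⊗ₜ[R] m = c • ((1 : T) ⊗ₜ[R] m) by rw [smul_tmul', smul_eq_mul, mul_one]]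
    refine Submodule.smul_mem _ _ ?_
    have hm : m ∈ Submodule.span R s := by rw [hspan]; trivial
    induction hm using Submodule.span_induction with
    | mem g hg => exact Submodule.subset_span ⟨g, hg, rfl⟩
    | zero => rw [tmul_zero]; exact zero_mem _
    | add a b _ _ ha hb => rw [tmul_add]; exact add_mem ha hb
    | smul a b _ hb => rw [tmul_smul]; exact Submodule.smul_of_tower_mem _ a hb

/-- A map which is universally injective off `V(f)` is universally injective after inverting `f`. -/
theorem univInj_baseChange_away {A B N L : Type u} [CommRing A] [CommRing B] [Algebra A B] [AddCommGroup N] [Module A N]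
    [Module B N] [IsScalarTower A B N] [AddCommGroup L] [Module A L] [Module B L] [IsScalarTower A B L] (f : A)
    (u : N →ₗ[B] L)
    (h : ∀ (q : Ideal B) [q.IsPrime], algebraMap A B f ∉ q → ∀ (Q : Type u) [AddCommGroup Q] [Module A Q] (z : N ⊗[A] Q),
      (u.restrictScalars A).rTensor Q z = 0 → ∃ s ∉ q, s • z = 0) :
    FlatCA.UnivInj (Localization.Away f) ((u.restrictScalars A).baseChange (Localization.Away f)) := by
  intro Q _ _
  let Af := Localization.Away f
  letI : Module A Q := Module.compHom Q (algebraMap A Af)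
  haveI : IsScalarTower A Af Q := IsScalarTower.of_algebraMap_smul (R := A) (A := Af) (M := Q) fun _ _ => rfl
  let eN := AlgebraTensorModule.cancelBaseChange A Af Af Q N
  let eL := AlgebraTensorModule.cancelBaseChange A Af Af Q L
  let ua := u.restrictScalars A
  have hcomm : ∀ w, eL ((ua.baseChange Af).lTensor Q w) = ua.lTensor Q (eN w) := fun w => by
    induction w using TensorProduct.induction_on with
    | zero => simp
    | add a b ha hb => simp only [map_add, ha, hb]
    | tmul c x =>
      induction x using TensorProduct.induction_on with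
      | zero => simp
      | add a b ha hb => simp only [tmul_add, map_add, ha, hb]
      | tmul d n => simp [eN, eL, ua]
  have hinj : Function.Injective (ua.lTensor Q) := by
    rw [LinearMap.lTensor_inj_iff_rTensor_inj, injective_iff_map_eq_zero]
    intro z hz
    obtain ⟨k, hk⟩ := exists_pow_smul_eq_zero (S := B) f z fun q _ hq => h q hq Q z hz
    rw [← map_pow, algebraMap_smul] at hk
    obtain ⟨d, hd⟩ := ((IsLocalization.Away.algebraMap_isUnit (S := Af) f).pow k).exists_left_inv
    let μ : Q →ₗ[A] Q :=
      { toFun := fun x => d • x, map_add' := smul_add d, map_smul' := fun r x => smul_comm d r x }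
    have h1 : μ.lTensor N (f ^ k • z) = z := by
      rw [map_smul]
      have : (f ^ k • μ : Q →ₗ[A] Q) = LinearMap.id := LinearMap.ext fun x => by
        show f ^ k • (d • x) = x
        rw [← algebraMap_smul Af (f ^ k) (d • x), smul_smul, map_pow, mul_comm, hd, one_smul]
      have h2 := congrArg (fun φ => φ.lTensor N z) this
      simpa [LinearMap.lTensor_smul] using h2
    rw [← h1, hk, map_zero]
  intro a b hab
  apply eN.injective
  apply hinj
  rw [← hcomm, ← hcomm, hab]

set_option maxHeartbeats 1600000 in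
/-- Near a point along which a flat module is pure, some étale neighbourhood makes it projective. -/
theorem exists_projective_nhd_base {A B : Type u} [CommRing A] [CommRing B] [Algebra A B] [Algebra.FinitePresentation A B]
    (N : Type u) [AddCommGroup N] [Module B N] [Module A N] [IsScalarTower A B N] [Module.FinitePresentation B N]
    (p : Ideal A) [p.IsPrime] (hflat : ∀ (q : Ideal B) [q.IsPrime], q.LiesOver p → FlatCA.FlatAt A q N)
    [Module.Flat A N] (hpure : FlatCA.IsPureAlong A B N p) :
    ∃ (A₁ : Type u) (_ : CommRing A₁) (_ : Algebra A A₁) (p₁ : Ideal A₁) (_ : p₁.IsPrime),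
      Algebra.Etale A A₁ ∧ p₁.comap (algebraMap A A₁) = p ∧ Module.Projective A₁ (A₁ ⊗[A] N) := by
  classical
  obtain ⟨A', B', _, _, _, _, _, _, _, _, p', _, hn, hetB, hcov, hproj⟩ := exists_projective_cover N p hflat
  haveI := hn.1
  haveI := hetB
  have hp' : TrivExt p p' := TrivExt.of_isEtaleNhd hn
  let BA := A' ⊗[A] B
  let l : BA →ₐ[A'] B' :=
    Algebra.TensorProduct.lift (Algebra.ofId A' B') (IsScalarTower.toAlgHom A B B') fun _ _ => .all _ _
  letI : Algebra BA B' := l.toRingHom.toAlgebra
  haveI : IsScalarTower A' BA B' := IsScalarTower.of_algebraMap_eq fun a => (l.commutes a).symm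
  haveI : IsScalarTower B BA B' := IsScalarTower.of_algebraMap_eq fun b => by
    show algebraMap B B' b = l ((1 : A') ⊗ₜ[A] b)
    exact ((Algebra.TensorProduct.lift_tmul _ _ _ _ _).trans (by rw [map_one, one_mul]; rfl)).symm
  haveI : Algebra.Etale B BA := Algebra.Etale.of_equiv (Algebra.TensorProduct.commRight A B A')
  haveI : Algebra.Etale BA B' := Algebra.Etale.of_restrictScalars B _ _
  haveI : Module.Flat BA B' := inferInstance
  haveI : Algebra.IsPushout A B A' BA := Algebra.IsPushout.symm inferInstance
  haveI : SMulCommClass B A' BA := ⟨fun a b c => by simp only [Algebra.smul_def]; ring⟩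
  let NA := BA ⊗[B] N
  let fN : N →ₗ[B] NA := TensorProduct.mk B BA N 1
  let eA : NA ≃ₗ[A'] A' ⊗[A] N := Algebra.IsPushout.cancelBaseChange A A' B BA N
  haveI : Module.Flat A' (A' ⊗[A] N) := inferInstance
  haveI : Module.Flat A' NA := Module.Flat.of_linearEquiv eA
  haveI : Module.FinitePresentation BA NA := inferInstance
  -- the projective target
  haveI : SMulCommClass B A' B' := ⟨fun a b c => by simp only [Algebra.smul_def]; ring⟩
  haveI : SMulCommClass BA A' B' := ⟨fun a b c => by simp only [Algebra.smul_def]; ring⟩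
  haveI := hproj
  haveI : Module.Projective A' (B' ⊗[B] N) :=
    Module.Projective.of_equiv (R := A')
      ({ RestrictScalars.addEquiv A' B' (B' ⊗[B] N) with
          map_smul' := fun r z => (RestrictScalars.addEquiv_map_smul A' B' (B' ⊗[B] N) r z).trans (algebraMap_smul B' r _) } :
        RestrictScalars A' B' (B' ⊗[B] N) ≃ₗ[A'] B' ⊗[B] N)
  let L := B' ⊗[BA] NA
  haveI : Module.Projective A' L :=
    Module.Projective.of_equiv ((AlgebraTensorModule.cancelBaseChange B BA B' B' N).restrictScalars A').symm
  -- the image of `Spec B'`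
  have hopen : IsOpenMap (PrimeSpectrum.comap (algebraMap BA B')) :=
    PrimeSpectrum.isOpenMap_comap_of_hasGoingDown_of_finitePresentation
  obtain ⟨T, hT⟩ := PrimeSpectrum.isCompact_isOpen_iff.1
    ⟨isCompact_range (PrimeSpectrum.continuous_comap (algebraMap BA B')), hopen.isOpen_range⟩
  let j : Fin T.card → BA := fun i => (T.equivFin.symm i : BA)
  have hj : ∀ Q : PrimeSpectrum BA, Q ∈ Set.range (PrimeSpectrum.comap (algebraMap BA B')) ↔ ∃ i, j i ∉ Q.asIdeal := by
    intro Q
    rw [← hT, Set.mem_compl_iff, PrimeSpectrum.mem_zeroLocus, Set.not_subset]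
    constructor
    · rintro ⟨x, hx, hxQ⟩
      exact ⟨T.equivFin ⟨x, hx⟩, by simpa [j] using hxQ⟩
    · rintro ⟨i, hi⟩
      exact ⟨j i, (T.equivFin.symm i).2, hi⟩
  let u : NA →ₗ[BA] (Fin T.card → NA) := LinearMap.pi fun i => j i • (LinearMap.id : NA →ₗ[BA] NA)
  haveI : Module.FinitePresentation BA (Fin T.card → NA) := Module.FinitePresentation.pi (R := BA) _
  obtain ⟨E, hE, hEiff⟩ := exists_constructible_injective (R := A') u
  -- generalisations of `p'` by purity
  obtain ⟨f, hf, hfE⟩ := exists_basicOpen_subset_of_constructible hE p' fun t ht => by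
    rw [← hEiff, injective_lTensor_iff_assoc]
    intro Q _ hQt hass
    by_contra hno
    refine hpure A' BA NA fN t.asIdeal p' Q hn ⟨inferInstance, TensorProduct.isBaseChange B N BA, ht, hp'.liesOver, hQt, hass,
      fun P' _ hQP hPp => ?_⟩
    have hPB : (P'.comap (algebraMap B BA)).LiesOver p := ⟨by
      rw [Ideal.under_def, Ideal.comap_comap, ← IsScalarTower.algebraMap_eq, IsScalarTower.algebraMap_eq A A' BA,
        ← Ideal.comap_comap, show P'.comap (algebraMap A' BA) = p' from hPp.over.symm, hp'.comap_eq]⟩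
    obtain ⟨W, hW, hWq, hWp⟩ := hcov (P'.comap (algebraMap B BA)) hPB
    haveI := hW
    have hWP : W.comap (algebraMap BA B') = P' := by
      refine eq_of_comap_eq hp' _ _ ?_ hPp.over.symm ?_
      · rw [Ideal.comap_comap, show (algebraMap BA B').comp (algebraMap A' BA) = algebraMap A' B' from
          (IsScalarTower.algebraMap_eq A' BA B').symm, hWp]
      · show (W.comap (algebraMap BA B')).comap (algebraMap B BA) = P'.comap (algebraMap B BA)
        rw [Ideal.comap_comap, ← IsScalarTower.algebraMap_eq, hWq]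
    haveI : W.LiesOver P' := ⟨hWP.symm⟩
    obtain ⟨W₀, -, hW₀, hW₀Q⟩ := Ideal.exists_ideal_le_liesOver_of_le (p := Q) (q := P') W hQP
    exact hno ((hj ⟨Q, inferInstance⟩).1 ⟨⟨W₀, hW₀⟩, PrimeSpectrum.ext hW₀Q.over.symm⟩)
  -- universal injectivity off `V(f)`
  let w : NA →ₗ[BA] L := TensorProduct.mk BA B' NA 1
  have hloc : ∀ (q : Ideal BA) [q.IsPrime], algebraMap A' BA f ∉ q → ∀ (Q : Type u) [AddCommGroup Q] [Module A' Q]
      (z : NA ⊗[A'] Q), (w.restrictScalars A').rTensor Q z = 0 → ∃ s ∉ q, s • z = 0 := by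
    intro q _ hfq Q _ _ z hz
    let t := q.comap (algebraMap A' BA)
    haveI : q.LiesOver t := ⟨rfl⟩
    have hinj := (hEiff ⟨t, inferInstance⟩).2 (hfE ⟨t, inferInstance⟩ hfq)
    rw [injective_lTensor_iff_assoc] at hinj
    refine exists_smul_eq_zero_of_linear_map NA t q w (fun n hn => ?_) Q z hz
    refine exists_smul_mem_of_one_tmul_mem NA t q (fun Q' _ _ hass => ?_) n hn
    obtain ⟨W, hW⟩ := (hj ⟨Q', inferInstance⟩).2 (hinj Q' inferInstance hass)
    exact ⟨W.asIdeal, W.2, congrArg PrimeSpectrum.asIdeal hW⟩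
  have hui := univInj_baseChange_away f w hloc
  let A₁ := Localization.Away f
  haveI : Algebra.Etale A' A₁ := Algebra.Etale.of_isLocalizationAway f
  haveI : Algebra.Etale A A₁ := Algebra.Etale.comp A A' A₁
  have hML : CAlg.IsMittagLeffler A₁ (A₁ ⊗[A'] NA) :=
    CAlgUI.ml_of_ui _ ((univInj_iff _).1 hui) CAlgUI.ml_of_projective
  have hcg : CAlg.IsCountablyGenerated A₁ (A₁ ⊗[A'] NA) :=
    isCountablyGenerated_tensor (isCountablyGenerated_of_finite A' BA NA)
  haveI := CAlgUI.projective_of_flat_ml_countablyGenerated hML hcg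
  haveI : (p'.map (algebraMap A' A₁)).IsPrime :=
    IsLocalization.isPrime_of_isPrime_disjoint (Submonoid.powers f) _ _ inferInstance
      ((Ideal.disjoint_powers_iff_notMem_of_isPrime _).2 hf)
  refine ⟨A₁, inferInstance, inferInstance, p'.map (algebraMap A' A₁), inferInstance, inferInstance,
    (hp'.trans (TrivExt.of_localization f hf)).comap_eq, ?_⟩
  exact Module.Projective.of_equiv
    ((AlgebraTensorModule.congr (LinearEquiv.refl A₁ A₁) eA).trans (AlgebraTensorModule.cancelBaseChange A A' A₁ A₁ N))

/-- Projectivity is étale local on the base. -/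
theorem projective_of_etale_cover {A : Type u} [CommRing A] (N : Type u) [AddCommGroup N] [Module A N]
    (h : ∀ (p : Ideal A) [p.IsPrime], ∃ (A₁ : Type u) (_ : CommRing A₁) (_ : Algebra A A₁) (p₁ : Ideal A₁) (_ : p₁.IsPrime),
      Algebra.Etale A A₁ ∧ p₁.comap (algebraMap A A₁) = p ∧ Module.Projective A₁ (A₁ ⊗[A] N)) :
    Module.Projective A N := by
  classical
  have h' : ∀ x : PrimeSpectrum A, ∃ (A₁ : Type u) (_ : CommRing A₁) (_ : Algebra A A₁) (p₁ : Ideal A₁) (_ : p₁.IsPrime),
      Algebra.Etale A A₁ ∧ p₁.comap (algebraMap A A₁) = x.asIdeal ∧ Module.Projective A₁ (A₁ ⊗[A] N) := fun x => h x.asIdeal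
  choose Ai c1 c2 pi c3 het hpi hproj using h'
  have hopen : ∀ x, IsOpen (Set.range (PrimeSpectrum.comap (algebraMap A (Ai x)))) := fun x =>
    haveI := het x
    (PrimeSpectrum.isOpenMap_comap_of_hasGoingDown_of_finitePresentation (R := A) (S := Ai x)).isOpen_range
  obtain ⟨s, hs⟩ := isCompact_univ.elim_finite_subcover _ hopen
    (fun x _ => Set.mem_iUnion.2 ⟨x, ⟨⟨pi x, c3 x⟩, PrimeSpectrum.ext (hpi x)⟩⟩)
  let P := ∀ x : s, Ai x.1
  haveI : ∀ x : s, Algebra.Etale A (Ai x.1) := fun x => het x.1
  haveI : Module.FaithfullyFlat A P := by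
    refine Module.FaithfullyFlat.of_comap_surjective fun q => ?_
    obtain ⟨x, hx⟩ := Set.mem_iUnion.1 (hs (Set.mem_univ q))
    obtain ⟨hxs, W, rfl⟩ := Set.mem_iUnion.1 hx
    exact ⟨PrimeSpectrum.comap (Pi.evalRingHom (fun x : s => Ai x.1) ⟨x, hxs⟩) W, PrimeSpectrum.ext rfl⟩
  letI : ∀ x : s, Algebra P (Ai x.1) := fun x => (Pi.evalRingHom (fun x : s => Ai x.1) x).toAlgebra
  haveI : ∀ x : s, IsScalarTower A P (Ai x.1) := fun x => IsScalarTower.of_algebraMap_eq fun _ => rfl
  haveI : ∀ x : s, Module.Projective P (Ai x.1) := fun x => by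
    let σ : Ai x.1 →ₗ[P] P :=
      { toFun := fun c => (Pi.single (M := fun y : s => Ai y.1) x c : P)
        map_add' := fun a b => Pi.single_add (f := fun y : s => Ai y.1) x a b
        map_smul' := fun w c => funext fun y => by
          show Pi.single (M := fun y : s => Ai y.1) x (w x * c) y = w y * Pi.single (M := fun y : s => Ai y.1) x c y
          by_cases hy : y = x
          · subst hy; rw [Pi.single_eq_same, Pi.single_eq_same]
          · rw [Pi.single_eq_of_ne hy, Pi.single_eq_of_ne hy, mul_zero] }
    exact Module.Projective.of_split σ (Algebra.linearMap P (Ai x.1)) (LinearMap.ext fun c => Pi.single_eq_same (M := fun y : s => Ai y.1) x c)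
  haveI : ∀ x : s, Module.Projective P (Ai x.1 ⊗[A] N) := fun x => by
    haveI := hproj x.1
    obtain ⟨g, hg⟩ := Module.projective_def'.1 (hproj x.1)
    haveI : Module.Projective P ((Ai x.1 ⊗[A] N) →₀ Ai x.1) :=
      Module.Projective.of_equiv (finsuppLequivDFinsupp (ι := Ai x.1 ⊗[A] N) (M := Ai x.1) P).symm
    exact Module.Projective.of_split (g.restrictScalars P)
      ((Finsupp.linearCombination (Ai x.1) id).restrictScalars P) (LinearMap.ext fun m => LinearMap.congr_fun hg m)
  haveI : Module.Projective P (∀ x : s, Ai x.1 ⊗[A] N) :=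
    Module.Projective.of_equiv (DFinsupp.linearEquivFunOnFintype (R := P) (M := fun x : s => Ai x.1 ⊗[A] N))
  let e₀ := TensorProduct.piLeft A N (M := fun x : s => Ai x.1)
  have hmul : ∀ (c : P) (z : P ⊗[A] N), e₀ (c • z) = c • e₀ z := by
    intro c z
    funext x
    induction z using TensorProduct.induction_on with
    | zero => simp
    | add a b ha hb => simp only [smul_add, map_add, Pi.add_apply, Pi.smul_apply, ha, hb]
    | tmul d n =>
      have hp : ∀ d : P, e₀ (d ⊗ₜ[A] n) x = d x ⊗ₜ[A] n := fun d => by simp [e₀]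
      rw [smul_tmul', hp]
      show (c * d) x ⊗ₜ[A] n = c x • (e₀ (d ⊗ₜ[A] n) x)
      rw [hp, smul_tmul', Pi.mul_apply, smul_eq_mul]
  let e : P ⊗[A] N ≃ₗ[P] ∀ x : s, Ai x.1 ⊗[A] N := { e₀.toAddEquiv with map_smul' := hmul }
  haveI : Module.Projective P (P ⊗[A] N) := Module.Projective.of_equiv e.symm
  exact CAlgUI.projective_descent (S := P)

/-- Flat pure modules of finite presentation are projective. -/
theorem projective_of_isPure {A B : Type u} [CommRing A] [CommRing B] [Algebra A B] [Algebra.FinitePresentation A B]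
    (N : Type u) [AddCommGroup N] [Module B N] [Module A N] [IsScalarTower A B N] [Module.FinitePresentation B N]
    [Module.Flat A N] (hpure : FlatCA.IsPure A B N) : Module.Projective A N :=
  projective_of_etale_cover N fun p _ =>
    exists_projective_nhd_base N p (fun q _ _ => flat_localizedModule q.primeCompl N) (hpure p)

end Groth.Agent.RG11
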