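import Groth.Agent.RG11.PureUnivPure
import Mathlib

/-!
# Universal injectivity along a composite of two covers
-/

universe u

set_option linter.style.haveILetI false

namespace Groth.Agent.RG11

open TensorProduct

theorem eq_zero_of_locally_zero {S X : Type u} [CommRing S] [AddCommGroup X] [Module S X] (x : X)
    (h : ∀ (q : Ideal S) [q.IsPrime], ∃ s ∉ q, s • x = 0) : x = 0 := by
  by_contra hn0
  have hne : (Submodule.span S {x}).annihilator ≠ ⊤ := fun htop => hn0 (by
    have h1 : (1 : S) ∈ (Submodule.span S {x}).annihilator := by rw [htop]; exact Submodule.mem_top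
    simpa using (Submodule.mem_annihilator_span_singleton x _).1 h1)
  obtain ⟨w, hw, hle⟩ := Ideal.exists_le_maximal _ hne
  obtain ⟨σ, hσ, hσx⟩ := h w
  exact hσ (hle ((Submodule.mem_annihilator_span_singleton x _).2 hσx))

/-- A module with a universally injective map into a flat module is flat. -/
theorem flat_of_ui {R X L : Type u} [CommRing R] [AddCommGroup X] [Module R X] [AddCommGroup L] [Module R L]
    [Module.Flat R L] (w : X →ₗ[R] L)
    (h : ∀ (Q : Type u) [AddCommGroup Q] [Module R Q], Function.Injective (w.rTensor Q)) : Module.Flat R X := by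
  rw [Module.Flat.iff_lTensor_preserves_injective_linearMap]
  intro Q Q' _ _ _ _ f hf
  have hc : (w.rTensor Q').comp (f.lTensor X) = (f.lTensor L).comp (w.rTensor Q) := by
    rw [LinearMap.rTensor_comp_lTensor, LinearMap.lTensor_comp_rTensor]
  intro a b hab
  refine h Q (Module.Flat.lTensor_preserves_injective_linearMap (M := L) f hf ?_)
  rw [← LinearMap.comp_apply, ← hc, LinearMap.comp_apply, hab, ← LinearMap.comp_apply, hc, LinearMap.comp_apply]

/-- Two successive covers of the associated points, into a flat module. -/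
theorem exists_smul_eq_zero_of_two_covers {R S S₁ C : Type u} [CommRing R] [CommRing S] [CommRing S₁] [CommRing C]
    [Algebra R S] [Algebra.FiniteType R S] [Algebra S S₁] [Algebra R S₁] [IsScalarTower R S S₁]
    [Algebra.FiniteType R S₁] [Module.Flat S S₁] [Algebra S₁ C] [Algebra R C] [IsScalarTower R S₁ C] [Module.Flat S₁ C]
    (M : Type u) [AddCommGroup M] [Module S M] [Module R M] [IsScalarTower R S M] [Module.Finite S M]
    (M₁ : Type u) [AddCommGroup M₁] [Module S₁ M₁] [Module S M₁] [IsScalarTower S S₁ M₁] [Module R M₁]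
    [IsScalarTower R S₁ M₁] [IsScalarTower R S M₁]
    (fM : M →ₗ[S] M₁) (hfM : IsBaseChange S₁ fM) [Module.Flat R (C ⊗[S₁] M₁)]
    (hcov₁ : ∀ (t : Ideal R) [t.IsPrime] (Q : Ideal S) [Q.IsPrime] [Q.LiesOver t],
      FlatCA.fiberIdeal t Q ∈ associatedPrimes (t.Fiber S) (FlatCA.fiberMod t S M) →
        ∃ Q' : Ideal S₁, Q'.IsPrime ∧ Q'.comap (algebraMap S S₁) = Q)
    (hcov₂ : ∀ (t : Ideal R) [t.IsPrime] (Q : Ideal S₁) [Q.IsPrime] [Q.LiesOver t],
      FlatCA.fiberIdeal t Q ∈ associatedPrimes (t.Fiber S₁) (FlatCA.fiberMod t S₁ M₁) →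
        ∃ Q' : Ideal C, Q'.IsPrime ∧ Q'.comap (algebraMap S₁ C) = Q)
    (q : Ideal S) [q.IsPrime] (Q : Type u) [AddCommGroup Q] [Module R Q] (z : M ⊗[R] Q)
    (hz : ((TensorProduct.mk S₁ C M₁ 1).restrictScalars R ∘ₗ fM.restrictScalars R).rTensor Q z = 0) :
    ∃ s ∉ q, s • z = 0 := by
  haveI : Module.Finite S₁ M₁ := Module.Finite.equiv hfM.equiv
  have hui : ∀ (Q : Type u) [AddCommGroup Q] [Module R Q],
      Function.Injective (((TensorProduct.mk S₁ C M₁ 1).restrictScalars R).rTensor Q) := by
    intro Q _ _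
    rw [injective_iff_map_eq_zero]
    intro x hx
    exact eq_zero_of_locally_zero x fun q₁ _ => exists_smul_eq_zero_of_cover M₁ hcov₂ q₁ Q x hx
  haveI : Module.Flat R M₁ := flat_of_ui _ hui
  haveI : Module.Flat R (S₁ ⊗[S] M) := Module.Flat.of_linearEquiv (hfM.equiv.restrictScalars R)
  refine exists_smul_eq_zero_of_cover M hcov₁ q Q z ?_
  rw [LinearMap.rTensor_comp, LinearMap.comp_apply] at hz
  have h0 : (fM.restrictScalars R).rTensor Q z = 0 := hui Q (hz.trans (map_zero _).symm)
  let e := hfM.equiv.restrictScalars R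
  have he : fM.restrictScalars R = e.toLinearMap ∘ₗ (TensorProduct.mk S S₁ M 1).restrictScalars R :=
    LinearMap.ext fun m => by
      show fM m = hfM.equiv ((1 : S₁) ⊗ₜ[S] m)
      rw [hfM.equiv_tmul, one_smul]
  rw [he, LinearMap.rTensor_comp, LinearMap.comp_apply] at h0
  exact ((e.rTensor Q).map_eq_zero_iff).1 h0

end Groth.Agent.RG11
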