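import Groth.Agent.RG11.PureNhd
import Groth.Agent.RG11.PureLoc
import Groth.Agent.RG11.UIBasic
import Groth.Agent.CAlgUI.FlatML
import Mathlib

/-!
# Linear maps injective modulo `𝔪` are universally injective
-/

universe u

set_option linter.style.haveILetI false

namespace Groth.Agent.RG11

open TensorProduct IsLocalRing

/-- `IS • M` is `I • M`. -/
theorem mem_smul_top_of_map {R S M : Type u} [CommRing R] [CommRing S] [Algebra R S] [AddCommGroup M] [Module R M]
    [Module S M] [IsScalarTower R S M] (I : Ideal R) {m : M} (h : m ∈ (I.map (algebraMap R S) • ⊤ : Submodule S M)) :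
    m ∈ I • (⊤ : Submodule R M) := by
  induction h using Submodule.smul_induction_on' with
  | smul s hs z _ =>
    revert z
    have hs' : s ∈ Submodule.span S (algebraMap R S '' (I : Set R)) := hs
    induction hs' using Submodule.span_induction with
    | mem t ht =>
      obtain ⟨r, hr, rfl⟩ := ht
      intro z _
      rw [algebraMap_smul]
      exact Submodule.smul_mem_smul hr Submodule.mem_top
    | zero => intro z _; rw [zero_smul]; exact zero_mem _
    | add a b _ _ ha hb => intro z _; rw [add_smul]; exact add_mem (ha (by assumption) z Submodule.mem_top) (hb (by assumption) z Submodule.mem_top)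
    | smul t a hamem ha =>
      intro z _
      rw [smul_eq_mul, mul_comm, mul_smul]
      exact ha hamem (t • z) Submodule.mem_top
  | add a _ b _ ha hb => exact add_mem ha hb

/-- In a sequence with flat cokernel, `J`-divisibility descends to the kernel. -/
theorem mem_smul_ker_of_flat_quotient {R M C : Type u} [CommRing R] [AddCommGroup M] [Module R M] [AddCommGroup C]
    [Module R C] [Module.Flat R C] (π : M →ₗ[R] C) (hπ : Function.Surjective π) (J : Ideal R) (x : M)
    (hx : x ∈ J • (⊤ : Submodule R M)) (h0 : π x = 0) : x ∈ J • LinearMap.ker π := by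
  classical
  rw [show (⊤ : Submodule R M) = Submodule.span R (Set.range (id : M → M)) by simp,
    Submodule.mem_ideal_smul_span_iff_exists_sum] at hx
  obtain ⟨a, ha, rfl⟩ := hx
  have h1 : ∑ i : a.support, a i • π i = 0 := by
    rw [← h0, Finsupp.sum, map_sum, Finset.sum_coe_sort a.support (fun i => a i • π i)]
    simp
  obtain ⟨k, b, z, hz, hb⟩ := Module.Flat.isTrivialRelation_of_sum_smul_eq_zero h1
  choose w hw using hπ
  have hk : ∀ i : a.support, (i : M) - ∑ l, b i l • w (z l) ∈ LinearMap.ker π := fun i => by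
    have := hz i
    simp only [] at this
    rw [LinearMap.mem_ker, map_sub, map_sum, this]
    simp [hw]
  have he : (a.sum fun i c => c • id i) = ∑ i : a.support, a i • ((i : M) - ∑ l, b i l • w (z l)) := by
    simp only [smul_sub, Finset.sum_sub_distrib, Finset.smul_sum]
    rw [Finset.sum_comm (s := Finset.univ) (t := Finset.univ)]
    simp only [smul_smul, ← Finset.sum_smul, hb, zero_smul, Finset.sum_const_zero, sub_zero]
    rw [Finset.sum_coe_sort a.support (fun i => a i • i)]
    rfl
  rw [he]
  exact Submodule.sum_mem _ fun i _ => Submodule.smul_mem_smul (ha i) (hk i)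

/-- A linear map into a flat module, injective modulo `𝔪` at a point of the closed fibre, is injective. -/
theorem injective_of_linear_map_aux {R S : Type u} [CommRing R] [IsLocalRing R] [CommRing S] [Algebra R S]
    [Algebra.FiniteType R S] (N : Type u) [AddCommGroup N] [Module S N] [Module R N] [IsScalarTower R S N]
    [Module.Finite S N] (q : Ideal S) [q.IsPrime] [q.LiesOver (maximalIdeal R)]
    {X L : Type u} [AddCommGroup X] [Module S X] [Module R X] [IsScalarTower R S X] [AddCommGroup L] [Module S L]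
    [Module R L] [IsScalarTower R S L] [Module.Flat R L] (g : N →ₗ[S] X) [IsLocalizedModule q.primeCompl g]
    (u : X →ₗ[S] L) (hu : ∀ x, u x ∈ maximalIdeal R • (⊤ : Submodule R L) → x ∈ maximalIdeal R • (⊤ : Submodule R X))
    (hinv : ∀ σ ∉ q, ∀ l : L, σ • l = 0 → l = 0) :
    Function.Injective u := by
  rw [injective_iff_map_eq_zero]
  intro x hx
  obtain ⟨⟨n, s⟩, hs⟩ := IsLocalizedModule.surj q.primeCompl g x
  have hun : u (g n) = 0 := by
    rw [← hs, Submonoid.smul_def, map_smul, hx, smul_zero]
  suffices hgn : g n = 0 by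
    obtain ⟨d, hd⟩ := (IsLocalizedModule.map_units g s).exists_left_inv
    have h1 : d ((s : S) • x) = x := LinearMap.congr_fun hd x
    rw [← h1, show (s : S) • x = g n from hs, hgn, map_zero]
  -- the quotient
  let N' := N ⧸ Submodule.span S {n}
  let π : N →ₗ[S] N' := (Submodule.span S {n}).mkQ
  let X' := LocalizedModule q.primeCompl N'
  let g' : N' →ₗ[S] X' := LocalizedModule.mkLinearMap q.primeCompl N'
  let P := IsLocalizedModule.map q.primeCompl g g' π
  have hP : Function.Surjective P := IsLocalizedModule.map_surjective q.primeCompl g g' π (Submodule.mkQ_surjective _)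
  have hker : ∀ y : X, P y = 0 → ∃ σ : q.primeCompl, ∃ t : S, (σ : S) • y = t • g n := by
    intro y hy
    obtain ⟨⟨m, σ⟩, hm⟩ := IsLocalizedModule.surj q.primeCompl g y
    have h1 : g' (π m) = 0 := by
      rw [← IsLocalizedModule.map_apply q.primeCompl g g' π, ← hm, Submonoid.smul_def, map_smul]
      show (σ : S) • P y = 0
      rw [hy, smul_zero]
    obtain ⟨c, hc⟩ := (IsLocalizedModule.eq_zero_iff q.primeCompl g').1 h1
    rw [Submonoid.smul_def, ← map_smul, Submodule.mkQ_apply, Submodule.Quotient.mk_eq_zero,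
      Submodule.mem_span_singleton] at hc
    obtain ⟨t, ht⟩ := hc
    refine ⟨c * σ, t, ?_⟩
    rw [Submonoid.coe_mul, mul_smul, show (σ : S) • y = g m from hm, ← map_smul, ← ht, map_smul]
  have huP : LinearMap.ker P ≤ LinearMap.ker u := fun y hy => by
    obtain ⟨σ, t, h⟩ := hker y hy
    exact hinv σ σ.2 _ (by rw [← map_smul, h, map_smul, hun, smul_zero])
  let u' : X' →ₗ[S] L := (LinearMap.ker P).liftQ u huP ∘ₗ (P.quotKerEquivOfSurjective hP).symm.toLinearMap
  have hu'P : ∀ y, u' (P y) = u y := fun y => by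
    show (LinearMap.ker P).liftQ u huP ((P.quotKerEquivOfSurjective hP).symm (P y)) = _
    rw [LinearMap.quotKerEquivOfSurjective_symm_apply]
    rfl
  have hfl : FlatCA.FlatAt R q N' := by
    refine flatAt_of_map N' q (u'.restrictScalars R) fun y hy => ?_
    obtain ⟨y, rfl⟩ := hP y
    rw [LinearMap.restrictScalars_apply, hu'P] at hy
    exact map_mem_smul_top (P.restrictScalars R) (hu y hy)
  haveI : Module.Flat R X' := hfl
  have h0 : P (g n) = 0 := by
    rw [IsLocalizedModule.map_apply, show π n = 0 from (Submodule.Quotient.mk_eq_zero _).2 (Submodule.mem_span_singleton_self n),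
      map_zero]
  have h1 := mem_smul_ker_of_flat_quotient (P.restrictScalars R) hP (maximalIdeal R) (g n)
    (hu _ (by rw [hun]; exact zero_mem _)) h0
  have key : ∀ y ∈ maximalIdeal R • LinearMap.ker (P.restrictScalars R),
      ∃ σ : q.primeCompl, ∃ c ∈ q, (σ : S) • y = c • g n := by
    intro y hy
    refine Submodule.smul_induction_on hy (fun a ha z hz => ?_) ?_
    · obtain ⟨σ, t, h⟩ := hker z hz
      exact ⟨σ, algebraMap R S a * t, Ideal.mul_mem_right _ _ ((q.over_def (maximalIdeal R)).le ha), by
        rw [smul_comm, h, mul_smul, algebraMap_smul]⟩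
    · rintro a b ⟨σ, c, hc, e⟩ ⟨τ, d, hd, e'⟩
      refine ⟨σ * τ, (τ : S) * c + (σ : S) * d, add_mem (Ideal.mul_mem_left _ _ hc) (Ideal.mul_mem_left _ _ hd), ?_⟩
      rw [Submonoid.coe_mul, smul_add, add_smul, mul_smul, mul_smul, mul_smul, mul_smul, ← e, ← e', smul_comm (σ : S) (τ : S) a]
  obtain ⟨σ, c, hc, e⟩ := key _ h1
  have hσc : (σ : S) - c ∉ q := fun h => σ.2 (by simpa using add_mem h hc)
  obtain ⟨d, hd⟩ := (IsLocalizedModule.map_units g (⟨_, hσc⟩ : q.primeCompl)).exists_left_inv
  have h2 : d (((σ : S) - c) • g n) = g n := LinearMap.congr_fun hd (g n)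
  rw [← h2, sub_smul, e, sub_self, map_zero]

/-- A linear map into a flat module, injective modulo `𝔪` at a point of the closed fibre, is injective. -/
theorem injective_of_linear_map {R S : Type u} [CommRing R] [IsLocalRing R] [CommRing S] [Algebra R S]
    [Algebra.FiniteType R S] (N : Type u) [AddCommGroup N] [Module S N] [Module R N] [IsScalarTower R S N]
    [Module.Finite S N] (q : Ideal S) [q.IsPrime] [q.LiesOver (maximalIdeal R)]
    {X L : Type u} [AddCommGroup X] [Module S X] [Module R X] [IsScalarTower R S X] [AddCommGroup L] [Module S L]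
    [Module R L] [IsScalarTower R S L] [Module.Flat R L] (g : N →ₗ[S] X) [IsLocalizedModule q.primeCompl g]
    (u : X →ₗ[S] L) (hu : ∀ x, u x ∈ maximalIdeal R • (⊤ : Submodule R L) → x ∈ maximalIdeal R • (⊤ : Submodule R X)) :
    Function.Injective u := by
  let Lq := LocalizedModule q.primeCompl L
  let κ : L →ₗ[S] Lq := LocalizedModule.mkLinearMap q.primeCompl L
  haveI : Module.Flat R Lq := by
    show FlatCA.FlatAt R q L
    rw [FlatFibres.flatAt_iff_forall]
    intro I z hz
    refine ⟨1, fun h => ‹q.IsPrime›.ne_top ((Ideal.eq_top_iff_one q).2 h), ?_⟩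
    rw [one_smul]
    exact Module.Flat.lTensor_preserves_injective_linearMap I.subtype Subtype.val_injective (hz.trans (map_zero _).symm)
  refine Function.Injective.of_comp (f := κ) ?_
  refine injective_of_linear_map_aux (R := R) N q g (κ ∘ₗ u) (fun x hx => ?_) fun σ hσ l hl => ?_
  · obtain ⟨s, hs, h⟩ := exists_smul_mem_of_localized_mem (maximalIdeal R) q.primeCompl κ (u x) hx
    rw [← map_smul] at h
    have h1 := hu _ h
    obtain ⟨d, hd⟩ := (IsLocalizedModule.map_units g ⟨s, hs⟩).exists_left_inv
    have h2 : d (s • x) = x := LinearMap.congr_fun hd x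
    rw [← h2]
    exact map_mem_smul_top ((d : X →ₗ[S] X).restrictScalars R) h1
  · obtain ⟨d, hd⟩ := (IsLocalizedModule.map_units κ (⟨σ, hσ⟩ : q.primeCompl)).exists_left_inv
    have h2 : d (σ • l) = l := LinearMap.congr_fun hd l
    rw [← h2, hl, map_zero]

set_option maxHeartbeats 1600000 in
/-- A linear map into a flat module, injective modulo `𝔪` at a point of the closed fibre, is universally injective. -/
theorem ui_of_linear_map {R S : Type u} [CommRing R] [IsLocalRing R] [CommRing S] [Algebra R S]
    [Algebra.FiniteType R S] (N : Type u) [AddCommGroup N] [Module S N] [Module R N] [IsScalarTower R S N]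
    [Module.Finite S N] (q : Ideal S) [q.IsPrime] [q.LiesOver (maximalIdeal R)]
    {X L : Type u} [AddCommGroup X] [Module S X] [Module R X] [IsScalarTower R S X] [AddCommGroup L] [Module S L]
    [Module R L] [IsScalarTower R S L] [Module.Flat R L] (g : N →ₗ[S] X) [IsLocalizedModule q.primeCompl g]
    (u : X →ₗ[S] L) (hu : ∀ x, u x ∈ maximalIdeal R • (⊤ : Submodule R L) → x ∈ maximalIdeal R • (⊤ : Submodule R X)) :
    FlatCA.UnivInj R (u.restrictScalars R) := by
  -- it suffices to be injective modulo every ideal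
  suffices hI : ∀ (I : Ideal R) (x : X), u x ∈ I • (⊤ : Submodule R L) → x ∈ I • (⊤ : Submodule R X) by
    refine (univInj_iff _).2 ((CAlgUI.ui_iff_quotient_ideals _).2 fun I _ => ?_)
    have key : ∀ (Y : Type u) [AddCommGroup Y] [Module R Y] (y : Y),
        (y ⊗ₜ[R] (1 : R ⧸ I) : Y ⊗[R] (R ⧸ I)) = 0 ↔ y ∈ I • (⊤ : Submodule R Y) := by
      intro Y _ _ y
      rw [← (TensorProduct.tensorQuotEquivQuotSMul Y I).map_eq_zero_iff, ← map_one (Ideal.Quotient.mk I),
        TensorProduct.tensorQuotEquivQuotSMul_tmul_mk, one_smul, Submodule.Quotient.mk_eq_zero]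
    rw [injective_iff_map_eq_zero]
    intro z hz
    obtain ⟨x, rfl⟩ : ∃ x : X, x ⊗ₜ[R] (1 : R ⧸ I) = z := by
      clear hz
      induction z using TensorProduct.induction_on with
      | zero => exact ⟨0, by simp⟩
      | add a b ha hb =>
        obtain ⟨a', rfl⟩ := ha
        obtain ⟨b', rfl⟩ := hb
        exact ⟨a' + b', TensorProduct.add_tmul _ _ _⟩
      | tmul x c =>
        obtain ⟨c, rfl⟩ := Ideal.Quotient.mk_surjective c
        exact ⟨c • x, by rw [TensorProduct.smul_tmul, Algebra.smul_def, mul_one]; rfl⟩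
    rw [LinearMap.rTensor_tmul, key] at hz
    exact (key X x).2 (hI I x hz)
  intro I x hx
  by_cases hItop : I = ⊤
  · subst hItop
    rw [Submodule.top_smul]; exact Submodule.mem_top
  -- base change to `R ⧸ I`
  have hIm : I ≤ maximalIdeal R := le_maximalIdeal hItop
  let J : Ideal S := I.map (algebraMap R S)
  have hJq : J ≤ q := Ideal.map_le_iff_le_comap.2 (hIm.trans (q.over_def (maximalIdeal R)).le)
  haveI : Nontrivial (R ⧸ I) := Ideal.Quotient.nontrivial_iff.2 hItop
  haveI : IsLocalRing (R ⧸ I) := IsLocalRing.of_surjective' (Ideal.Quotient.mk I) Ideal.Quotient.mk_surjective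
  let q' : Ideal (S ⧸ J) := q.map (Ideal.Quotient.mk J)
  haveI : q'.IsPrime := Ideal.map_isPrime_of_surjective Ideal.Quotient.mk_surjective (by rwa [Ideal.mk_ker])
  have hq' : q'.comap (Ideal.Quotient.mk J) = q := by
    rw [Ideal.comap_map_of_surjective _ Ideal.Quotient.mk_surjective, ← RingHom.ker_eq_comap_bot, Ideal.mk_ker,
      sup_eq_left.2 hJq]
  haveI : Algebra.FiniteType (R ⧸ I) (S ⧸ J) :=
    Algebra.FiniteType.of_restrictScalars_finiteType R (R ⧸ I) (S ⧸ J)
  haveI : q'.LiesOver (maximalIdeal (R ⧸ I)) := ⟨(IsLocalRing.eq_maximalIdeal (R := R ⧸ I) (by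
    have hc : (q'.comap (algebraMap (R ⧸ I) (S ⧸ J))).comap (Ideal.Quotient.mk I) = maximalIdeal R := by
      rw [Ideal.comap_comap]
      show q'.comap ((Ideal.Quotient.mk J).comp (algebraMap R S)) = _
      rw [← Ideal.comap_comap, hq']
      exact (q.over_def (maximalIdeal R)).symm
    show (q'.comap (algebraMap (R ⧸ I) (S ⧸ J))).IsMaximal
    rw [← Ideal.map_comap_of_surjective _ Ideal.Quotient.mk_surjective (q'.comap (algebraMap (R ⧸ I) (S ⧸ J))), hc]
    exact (Ideal.map_eq_top_or_isMaximal_of_surjective _ Ideal.Quotient.mk_surjective (maximalIdeal.isMaximal R)).resolve_left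
      (fun h => by
        have := congrArg (Ideal.comap (Ideal.Quotient.mk I)) h
        rw [Ideal.comap_map_of_surjective _ Ideal.Quotient.mk_surjective, ← RingHom.ker_eq_comap_bot, Ideal.mk_ker,
          sup_eq_left.2 hIm, Ideal.comap_top] at this
        exact (maximalIdeal.isMaximal R).ne_top this))).symm⟩
  let N₁ := N ⧸ (J • ⊤ : Submodule S N)
  let X₁ := X ⧸ (J • ⊤ : Submodule S X)
  let L₁ := L ⧸ (J • ⊤ : Submodule S L)
  letI : Module (R ⧸ I) N₁ := Module.compHom N₁ (algebraMap (R ⧸ I) (S ⧸ J))
  letI : Module (R ⧸ I) X₁ := Module.compHom X₁ (algebraMap (R ⧸ I) (S ⧸ J))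
  letI : Module (R ⧸ I) L₁ := Module.compHom L₁ (algebraMap (R ⧸ I) (S ⧸ J))
  haveI : IsScalarTower (R ⧸ I) (S ⧸ J) N₁ := IsScalarTower.of_algebraMap_smul fun _ _ => rfl
  haveI : IsScalarTower (R ⧸ I) (S ⧸ J) X₁ := IsScalarTower.of_algebraMap_smul fun _ _ => rfl
  haveI : IsScalarTower (R ⧸ I) (S ⧸ J) L₁ := IsScalarTower.of_algebraMap_smul fun _ _ => rfl
  have hsm : ∀ (r : R) (l : L), (Ideal.Quotient.mk I r) • (Submodule.Quotient.mk l : L₁) = Submodule.Quotient.mk (r • l) :=
    fun r l => by
      show Ideal.Quotient.mk J (algebraMap R S r) • (Submodule.Quotient.mk l : L₁) = _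
      rw [← algebraMap_smul S r l]; rfl
  haveI : IsScalarTower R (R ⧸ I) L₁ := IsScalarTower.of_algebraMap_smul fun r y => by
    obtain ⟨l, rfl⟩ := Submodule.Quotient.mk_surjective _ y
    exact hsm r l
  haveI : Module.Flat (R ⧸ I) L₁ := by
    have htop : ∀ l : L, l ∈ (J • ⊤ : Submodule S L) ↔ l ∈ I • (⊤ : Submodule R L) := fun l =>
      ⟨fun h => mem_smul_top_of_map I h, fun h => by
        refine Submodule.smul_induction_on h (fun a ha z _ => ?_) fun a b ha hb => add_mem ha hb
        rw [← algebraMap_smul S a]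
        exact Submodule.smul_mem_smul (Ideal.mem_map_of_mem _ ha) Submodule.mem_top⟩
    let b : (R ⧸ I) ⊗[R] L →ₗ[R ⧸ I] L₁ := TensorProduct.AlgebraTensorModule.lift
      { toFun := fun c => c •
          ({ toFun := fun l => (Submodule.Quotient.mk l : L₁), map_add' := fun _ _ => rfl,
             map_smul' := fun r l => by
              show (Submodule.Quotient.mk (r • l) : L₁) = r • (Submodule.Quotient.mk l : L₁)
              rfl } : L →ₗ[R] L₁)
        map_add' := fun c d => add_smul _ _ _
        map_smul' := fun c d => by rw [smul_eq_mul, RingHom.id_apply, mul_smul] }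
    have hb : ∀ z, b z = 0 → z = 0 := by
      intro z hz
      obtain ⟨l, rfl⟩ := TensorProduct.mk_surjective R L (R ⧸ I) Ideal.Quotient.mk_surjective z
      rw [TensorProduct.mk_apply] at hz ⊢
      have hz' : ((1 : R ⧸ I) • (Submodule.Quotient.mk l : L₁)) = 0 := hz
      rw [one_smul, Submodule.Quotient.mk_eq_zero, htop] at hz'
      refine (TensorProduct.quotTensorEquivQuotSMul L I).injective ?_
      rw [map_zero, ← map_one (Ideal.Quotient.mk I), TensorProduct.quotTensorEquivQuotSMul_mk_tmul, one_smul,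
        Submodule.Quotient.mk_eq_zero]
      exact hz'
    refine Module.Flat.of_linearEquiv (LinearEquiv.ofBijective b ⟨(injective_iff_map_eq_zero b).2 hb, fun y => ?_⟩).symm
    obtain ⟨l, rfl⟩ := Submodule.Quotient.mk_surjective _ y
    exact ⟨1 ⊗ₜ l, one_smul (R ⧸ I) (Submodule.Quotient.mk l : L₁)⟩
  let g₁ : N₁ →ₗ[S ⧸ J] X₁ :=
    { toFun := (J • ⊤ : Submodule S N).mapQ _ g (Submodule.map_le_iff_le_comap.1 (by
        rw [Submodule.map_smul'']; exact Submodule.smul_mono le_rfl le_top))
      map_add' := map_add _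
      map_smul' := fun c m => by
        obtain ⟨c, rfl⟩ := Ideal.Quotient.mk_surjective c
        exact LinearMap.map_smul _ c m }
  let u₁ : X₁ →ₗ[S ⧸ J] L₁ :=
    { toFun := (J • ⊤ : Submodule S X).mapQ _ u (Submodule.map_le_iff_le_comap.1 (by
        rw [Submodule.map_smul'']; exact Submodule.smul_mono le_rfl le_top))
      map_add' := map_add _
      map_smul' := fun c m => by
        obtain ⟨c, rfl⟩ := Ideal.Quotient.mk_surjective c
        exact LinearMap.map_smul _ c m }
  haveI : Module.Finite (S ⧸ J) N₁ := Module.Finite.of_restrictScalars_finite S (S ⧸ J) N₁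
  haveI : IsLocalizedModule q'.primeCompl g₁ := by
    refine ⟨fun s => ?_, fun y => ?_, fun {a b} h => ?_⟩
    · obtain ⟨t, ht⟩ := Ideal.Quotient.mk_surjective (s : S ⧸ J)
      have htq : t ∉ q := fun h => s.2 (by rw [← ht]; exact Ideal.mem_map_of_mem _ h)
      obtain ⟨v, hv⟩ := IsLocalizedModule.map_units g (⟨t, htq⟩ : q.primeCompl)
      let d : X₁ →ₗ[S] X₁ := (J • ⊤ : Submodule S X).mapQ _ (↑v⁻¹ : Module.End S X) (Submodule.map_le_iff_le_comap.1 (by
        rw [Submodule.map_smul'']; exact Submodule.smul_mono le_rfl le_top))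
      refine (Module.End.isUnit_iff _).2 (Function.bijective_iff_has_inverse.2 ⟨d, fun y => ?_, fun y => ?_⟩)
      all_goals
        obtain ⟨y, rfl⟩ := Submodule.Quotient.mk_surjective _ y
        simp only [Module.algebraMap_end_apply, ← ht]
      · show d (Submodule.Quotient.mk (t • y)) = _
        refine congrArg Submodule.Quotient.mk ?_
        have h := LinearMap.congr_fun v.inv_mul y
        rw [hv] at h
        exact h
      · show Submodule.Quotient.mk (t • (↑v⁻¹ : Module.End S X) y) = _
        refine congrArg Submodule.Quotient.mk ?_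
        have h := LinearMap.congr_fun v.mul_inv y
        rw [hv] at h
        exact h
    · obtain ⟨y, rfl⟩ := Submodule.Quotient.mk_surjective _ y
      obtain ⟨⟨m, σ⟩, hm⟩ := IsLocalizedModule.surj q.primeCompl g y
      refine ⟨⟨Submodule.Quotient.mk m, ⟨Ideal.Quotient.mk J σ, fun h => σ.2 (hq'.le h)⟩⟩, ?_⟩
      exact congrArg Submodule.Quotient.mk hm
    · obtain ⟨a, rfl⟩ := Submodule.Quotient.mk_surjective _ a
      obtain ⟨b, rfl⟩ := Submodule.Quotient.mk_surjective _ b
      have h1 : g (a - b) ∈ I • (⊤ : Submodule R X) := by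
        rw [map_sub]
        exact mem_smul_top_of_map I ((Submodule.Quotient.eq _).1 h)
      obtain ⟨σ, hσ, hmem⟩ := exists_smul_mem_of_localized_mem I q.primeCompl g _ h1
      refine ⟨⟨Ideal.Quotient.mk J σ, fun h => hσ (hq'.le h)⟩, ?_⟩
      show (Submodule.Quotient.mk (σ • a) : N₁) = Submodule.Quotient.mk (σ • b)
      rw [Submodule.Quotient.eq, ← smul_sub]
      refine Submodule.smul_induction_on hmem (fun r hr z _ => ?_) fun a b ha hb => add_mem ha hb
      rw [← algebraMap_smul S r]
      exact Submodule.smul_mem_smul (Ideal.mem_map_of_mem _ hr) Submodule.mem_top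
  have hinj := injective_of_linear_map (R := R ⧸ I) N₁ q' g₁ u₁ fun y hy => ?_
  · have h0 : u₁ (Submodule.Quotient.mk x) = 0 := by
      show (Submodule.Quotient.mk (u x) : L₁) = 0
      rw [Submodule.Quotient.mk_eq_zero]
      refine Submodule.smul_induction_on hx (fun a ha z _ => ?_) fun a b ha hb => add_mem ha hb
      rw [← algebraMap_smul S a]
      exact Submodule.smul_mem_smul (Ideal.mem_map_of_mem _ ha) Submodule.mem_top
    have h1 : (Submodule.Quotient.mk x : X₁) = 0 := hinj (h0.trans (map_zero u₁).symm)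
    exact mem_smul_top_of_map I ((Submodule.Quotient.mk_eq_zero _).1 h1)
  -- injectivity modulo the maximal ideal of the quotient
  obtain ⟨y, rfl⟩ := Submodule.Quotient.mk_surjective _ y
  have key : ∀ z ∈ maximalIdeal (R ⧸ I) • (⊤ : Submodule (R ⧸ I) L₁),
      ∃ l ∈ maximalIdeal R • (⊤ : Submodule R L), (Submodule.Quotient.mk l : L₁) = z := by
    intro z hz
    refine Submodule.smul_induction_on hz (fun a ha z _ => ?_) ?_
    · obtain ⟨r, rfl⟩ := Ideal.Quotient.mk_surjective a
      obtain ⟨l, rfl⟩ := Submodule.Quotient.mk_surjective _ z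
      have hr : r ∈ maximalIdeal R := fun hru => ha (hru.map _)
      exact ⟨r • l, Submodule.smul_mem_smul hr Submodule.mem_top, (hsm r l).symm⟩
    · rintro a b ⟨l, hl, rfl⟩ ⟨l', hl', rfl⟩
      exact ⟨l + l', add_mem hl hl', rfl⟩
  obtain ⟨l, hl, hle⟩ := key _ hy
  have h1 : u y ∈ maximalIdeal R • (⊤ : Submodule R L) := by
    have h2 : l - u y ∈ (J • ⊤ : Submodule S L) := (Submodule.Quotient.eq _).1 hle
    have h3 := Submodule.smul_mono hIm le_rfl (mem_smul_top_of_map I h2)
    simpa using sub_mem hl h3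
  refine Submodule.smul_induction_on (hu _ h1) (fun a ha z _ => ?_) fun a b ha hb => add_mem ha hb
  rw [← algebraMap_smul S a z]
  show (Ideal.Quotient.mk I a) • (Submodule.Quotient.mk z : X₁) ∈ _
  refine Submodule.smul_mem_smul ?_ Submodule.mem_top
  by_contra hne
  exact (IsLocalRing.notMem_maximalIdeal.1 hne).elim fun v hv => by
    have h3 := Ideal.Quotient.mk_surjective (I := I) (↑v⁻¹ : R ⧸ I)
    obtain ⟨c, hc⟩ := h3
    have h4 : Ideal.Quotient.mk I (a * c) = 1 := by rw [map_mul, hc, ← hv, Units.mul_inv]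
    have h5 : a * c - 1 ∈ maximalIdeal R := hIm ((Ideal.Quotient.mk_eq_one_iff_sub_mem _).1 h4)
    exact (maximalIdeal.isMaximal R).ne_top ((Ideal.eq_top_iff_one _).2 (by simpa using sub_mem (Ideal.mul_mem_right c _ ha) h5))

end Groth.Agent.RG11
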