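import Groth.Agent.RG11.PureCover
import Groth.Agent.RG11.UnivPureCover
import Mathlib

/-!
# Flat and pure along a fibre is universally pure
-/

universe u

set_option linter.style.haveILetI false

namespace Groth.Agent.RG11

open TensorProduct IsLocalRing

attribute [local instance] Algebra.TensorProduct.rightAlgebra

/-- A flat base change covering the associated points of every fibre, into a flat module: universally injective near
each prime. -/
theorem exists_smul_eq_zero_of_cover {R S C : Type u} [CommRing R] [CommRing S] [CommRing C] [Algebra R S]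
    [Algebra.FiniteType R S] [Algebra S C] [Algebra R C] [IsScalarTower R S C] [Module.Flat S C]
    (M : Type u) [AddCommGroup M] [Module S M] [Module R M] [IsScalarTower R S M] [Module.Finite S M]
    [Module.Flat R (C ⊗[S] M)]
    (hcov : ∀ (t : Ideal R) [t.IsPrime] (Q : Ideal S) [Q.IsPrime] [Q.LiesOver t],
      FlatCA.fiberIdeal t Q ∈ associatedPrimes (t.Fiber S) (FlatCA.fiberMod t S M) →
        ∃ Q' : Ideal C, Q'.IsPrime ∧ Q'.comap (algebraMap S C) = Q)
    (q : Ideal S) [q.IsPrime] (Q : Type u) [AddCommGroup Q] [Module R Q] (z : M ⊗[R] Q)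
    (hz : ((TensorProduct.mk S C M 1).restrictScalars R).rTensor Q z = 0) : ∃ s ∉ q, s • z = 0 := by
  haveI : q.LiesOver (q.comap (algebraMap R S)) := ⟨rfl⟩
  exact exists_smul_eq_zero_of_linear_map M (q.comap (algebraMap R S)) q (TensorProduct.mk S C M 1)
    (fun n hn => exists_smul_mem_of_one_tmul_mem M (q.comap (algebraMap R S)) q
      (fun t _ _ ht => hcov (q.comap (algebraMap R S)) t ht) n hn) Q z hz

/-- Universal purity from a covering flat base change, for any model of the local base. -/
theorem isUnivPureAlong_of_cover {A B : Type u} [CommRing A] [CommRing B] [Algebra A B] [Algebra.FiniteType A B]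
    (N : Type u) [AddCommGroup N] [Module B N] [Module.Finite B N] (p : Ideal A) [p.IsPrime]
    (Loc : Type u) [CommRing Loc] [IsLocalRing Loc] [Algebra A Loc] [Module.Flat A Loc]
    (C : Type u) [CommRing C] [Algebra (Loc ⊗[A] B) C] [Algebra Loc C] [IsScalarTower Loc (Loc ⊗[A] B) C]
    [Module.Flat (Loc ⊗[A] B) C] [Module.Free Loc (C ⊗[Loc ⊗[A] B] ((Loc ⊗[A] B) ⊗[B] N))]
    (hp : (maximalIdeal Loc).comap (algebraMap A Loc) = p)
    (hcov : ∀ (t : Ideal Loc) [t.IsPrime] (Q : Ideal (Loc ⊗[A] B)) [Q.IsPrime] [Q.LiesOver t],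
      FlatCA.fiberIdeal t Q ∈ associatedPrimes (t.Fiber (Loc ⊗[A] B))
        (FlatCA.fiberMod t (Loc ⊗[A] B) ((Loc ⊗[A] B) ⊗[B] N)) →
        ∃ Q' : Ideal C, Q'.IsPrime ∧ Q'.comap (algebraMap (Loc ⊗[A] B) C) = Q) :
    FlatCA.IsUnivPureAlong A B N p := by
  let SA := Loc ⊗[A] B
  haveI : IsScalarTower A B SA := IsScalarTower.of_algebraMap_eq fun r =>
    ((Algebra.TensorProduct.includeRight : B →ₐ[A] SA).commutes r).symm
  haveI : Algebra.IsPushout A B Loc SA := Algebra.IsPushout.symm inferInstance
  haveI : Module.Projective Loc (C ⊗[SA] (SA ⊗[B] N)) := Module.Projective.of_free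
  haveI : Module.Flat Loc (C ⊗[SA] (SA ⊗[B] N)) := Module.Flat.of_projective
  exact isUnivPureAlong_of_ui N p Loc SA (maximalIdeal Loc) hp (SA ⊗[B] N) (TensorProduct.mk B SA N 1)
    (TensorProduct.isBaseChange B N SA) (C ⊗[SA] (SA ⊗[B] N)) (TensorProduct.mk SA C (SA ⊗[B] N) 1)
    fun q _ _ Q _ _ z hz => exists_smul_eq_zero_of_cover (SA ⊗[B] N) hcov q Q z hz

set_option maxHeartbeats 400000 in
theorem isUnivPureAlong_of_flat_of_pure {A B : Type u} [CommRing A] [CommRing B] [Algebra A B] [Algebra.FiniteType A B]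
    (N : Type u) [AddCommGroup N] [Module B N] [Module A N] [IsScalarTower A B N] [Module.Finite B N] (p : Ideal A)
    [p.IsPrime] (hflat : ∀ (q : Ideal B) [q.IsPrime], q.LiesOver p → FlatCA.FlatAt A q N)
    (hpure : FlatCA.IsPureAlong A B N p) : FlatCA.IsUnivPureAlong A B N p := by
  obtain ⟨A', _, _, p', _, hn, C, hdata⟩ := exists_free_cover_of_pure N p hflat hpure
  obtain ⟨_, _, _, _, het, hfree, hcov⟩ := hdata
  haveI := het
  haveI := hfree
  haveI : Algebra.Etale A A' := hn.1
  haveI : Module.Flat A (Localization.AtPrime p') := Module.Flat.trans A A' (Localization.AtPrime p')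
  exact isUnivPureAlong_of_cover N p (Localization.AtPrime p') C (by
    rw [IsScalarTower.algebraMap_eq A A' (Localization.AtPrime p'), ← Ideal.comap_comap,
      show (maximalIdeal (Localization.AtPrime p')).comap (algebraMap A' (Localization.AtPrime p')) = p' from
        Localization.AtPrime.under_maximalIdeal]
    exact hn.2.choose.over.symm) hcov

end Groth.Agent.RG11
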