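import Groth.Agent.RG11.ProjNhd
import Groth.Agent.FlatLocus.Basic
import Groth.Agent.MorLib.RingUnivHomeo
import Groth.Agent.MorLib.ElemEtaleFinite
import Mathlib

/-!
# Projective étale neighbourhoods of morphisms of schemes
-/

universe u

set_option linter.style.haveILetI false

namespace Groth.Agent.RG11

open AlgebraicGeometry CategoryTheory TensorProduct

set_option backward.isDefEq.respectTransparency.types false in
theorem residueFieldMap_surjective_of_triv {A B : Type u} [CommRing A] [CommRing B] [Algebra A B] {p : Ideal A}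
    (Q : PrimeSpectrum B) (h : TrivExt p Q.asIdeal) :
    Function.Surjective ((Spec.map (CommRingCat.ofHom (algebraMap A B))).residueFieldMap Q) :=
  (MorLib.RUH.residueFieldMap_surjective_iff _ Q).2 fun b => by
    obtain ⟨u, v, hu, huv⟩ := h.exists_sub_mem b
    exact ⟨v, u, (h.not_mem_iff u).2 hu, huv⟩

/-- Projectivity of the coordinate ring does not change along `ΓSpecIso`. -/
theorem projective_appTop {A B : Type u} [CommRing A] [CommRing B] [Algebra A B] [Module.Projective A B] :
    @Module.Projective Γ(Spec (CommRingCat.of A), ⊤) _ Γ(Spec (CommRingCat.of B), ⊤) _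
      (Spec.map (CommRingCat.ofHom (algebraMap A B))).appTop.hom.toAlgebra.toModule := by
  let f := Spec.map (CommRingCat.ofHom (algebraMap A B))
  letI := f.appTop.hom.toAlgebra
  let eA : A ≃+* Γ(Spec (CommRingCat.of A), ⊤) := (Scheme.ΓSpecIso (CommRingCat.of A)).symm.commRingCatIsoToRingEquiv
  let eB : B ≃+* Γ(Spec (CommRingCat.of B), ⊤) := (Scheme.ΓSpecIso (CommRingCat.of B)).symm.commRingCatIsoToRingEquiv
  haveI := RingHomInvPair.of_ringEquiv eA
  haveI := RingHomInvPair.of_ringEquiv eA.symm
  have hn : ∀ a : A, eB (algebraMap A B a) = f.appTop.hom (eA a) := fun a => by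
    have h1 := congr($(Scheme.ΓSpecIso_inv_naturality (CommRingCat.ofHom (algebraMap A B))) a)
    exact h1
  let e : B ≃ₛₗ[RingHomClass.toRingHom eA] Γ(Spec (CommRingCat.of B), ⊤) :=
    { eB.toAddEquiv with
      map_smul' := fun a b => by
        show eB (a • b) = (eA a) • eB b
        rw [Algebra.smul_def, map_mul, hn, Algebra.smul_def]
        rfl }
  exact Module.Projective.of_equiv e

set_option maxHeartbeats 1000000 in
set_option backward.isDefEq.respectTransparency.types false in
theorem exists_projective_nhd_scheme {X S : Scheme.{u}} (f : X ⟶ S) [LocallyOfFinitePresentation f] (x : X)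
    (hx : (f.stalkMap x).hom.Flat) :
    ∃ (X' S' : Scheme.{u}) (g : X' ⟶ X) (e : S' ⟶ S) (f' : X' ⟶ S') (x' : X'),
      IsAffine X' ∧ IsAffine S' ∧ Etale g ∧ Etale e ∧ g ≫ f = f' ≫ e ∧ g x' = x ∧ e (f' x') = f x ∧
      Function.Surjective (g.residueFieldMap x') ∧ Function.Surjective (e.residueFieldMap (f' x')) ∧
      @Module.Projective Γ(S', ⊤) _ Γ(X', ⊤) _ (f'.appTop).hom.toAlgebra.toModule := by
  obtain ⟨V, hV, hxV, -⟩ := exists_isAffineOpen_mem_and_subset (U := (⊤ : S.Opens)) (x := f x) trivial
  obtain ⟨U, hU, hxU, hUV⟩ := exists_isAffineOpen_mem_and_subset (U := f ⁻¹ᵁ V) (x := x) hxV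
  let φ := f.appLE V U hUV
  let R := Γ(S, V)
  let A := Γ(X, U)
  letI : Algebra R A := φ.hom.toAlgebra
  haveI : Algebra.FinitePresentation R A := f.finitePresentation_appLE hV hU hUV
  have hsq : hU.fromSpec ≫ f = Spec.map φ ≫ hV.fromSpec := (hV.SpecMap_appLE_fromSpec f hU hUV).symm
  obtain ⟨q, hq⟩ : x ∈ Set.range hU.fromSpec := by rw [hU.range_fromSpec]; exact hxU
  subst hq
  have hflat : Module.Flat R (LocalizedModule q.asIdeal.primeCompl A) := by
    refine (FlatLocus.stalkMap_flat_SpecMap φ q).1 ?_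
    have h1 : ((hU.fromSpec ≫ f).stalkMap q).hom.Flat := by
      rw [Scheme.Hom.stalkMap_comp]
      exact (FlatLocus.flat_comp_isIso _ _).2 hx
    rw [hsq, Scheme.Hom.stalkMap_comp] at h1
    have hiso : ∀ z : Spec R, IsIso (hV.fromSpec.stalkMap z) := fun z => inferInstance
    exact (@FlatLocus.flat_isIso_comp _ _ _ _ (hiso _) _).1 h1
  let p := q.asIdeal.comap (algebraMap R A)
  haveI : q.asIdeal.LiesOver p := ⟨rfl⟩
  obtain ⟨R', S', _, _, _, _, _, _, _, _, p', q', _, _, hR', hS', hover, hproj⟩ :=
    exists_projective_nhd (R := R) (S := A) A p q.asIdeal hflat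
  haveI := hR'.1
  haveI := hS'.1
  have htR : TrivExt p p' := TrivExt.of_bijective hR'.2.1 hR'.2.2
  have htS : TrivExt q.asIdeal q' := TrivExt.of_bijective hS'.2.1 hS'.2.2
  haveI : Module.Projective R' S' :=
    Module.Projective.of_equiv (R := R')
      ({ (RestrictScalars.addEquiv R' S' (S' ⊗[A] A)).trans (AlgebraTensorModule.rid A S' S').toAddEquiv with
          map_smul' := fun r z => by
            show AlgebraTensorModule.rid A S' S' (RestrictScalars.addEquiv R' S' (S' ⊗[A] A) (r • z)) = r • _
            rw [RestrictScalars.addEquiv_map_smul, map_smul, algebraMap_smul]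
            rfl } : RestrictScalars R' S' (S' ⊗[A] A) ≃ₗ[R'] S')
  let gA := CommRingCat.ofHom (algebraMap A S')
  let eR := CommRingCat.ofHom (algebraMap R R')
  let f'A := CommRingCat.ofHom (algebraMap R' S')
  haveI : Etale (Spec.map gA) := by
    rw [HasRingHomProperty.Spec_iff (P := @Etale)]
    exact RingHom.etale_algebraMap.2 hS'.1
  haveI : Etale (Spec.map eR) := by
    rw [HasRingHomProperty.Spec_iff (P := @Etale)]
    exact RingHom.etale_algebraMap.2 hR'.1
  let x' : Spec (CommRingCat.of S') := ⟨q', inferInstance⟩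
  have hgx : Spec.map gA x' = q := PrimeSpectrum.ext htS.comap_eq
  have hfx : Spec.map f'A x' = ⟨p', inferInstance⟩ := PrimeSpectrum.ext hover.over.symm
  have hcomm : φ ≫ gA = eR ≫ f'A := by
    refine CommRingCat.hom_ext (RingHom.ext fun r => ?_)
    show algebraMap A S' (algebraMap R A r) = algebraMap R' S' (algebraMap R R' r)
    rw [← IsScalarTower.algebraMap_apply R A S', ← IsScalarTower.algebraMap_apply R R' S']
  have hcomm' : (Spec.map gA ≫ hU.fromSpec) ≫ f = Spec.map f'A ≫ (Spec.map eR ≫ hV.fromSpec) := by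
    rw [Category.assoc, hsq, ← Category.assoc, ← Spec.map_comp, hcomm, Spec.map_comp, Category.assoc]
  have hgx' : (Spec.map gA ≫ hU.fromSpec) x' = hU.fromSpec q := by rw [← hgx]; rfl
  refine ⟨Spec (CommRingCat.of S'), Spec (CommRingCat.of R'), Spec.map gA ≫ hU.fromSpec, Spec.map eR ≫ hV.fromSpec,
    Spec.map f'A, x', inferInstance, inferInstance, inferInstance, inferInstance, hcomm', hgx', ?_, ?_, ?_,
    projective_appTop⟩
  · rw [← hgx']
    exact (congr($(hcomm') x')).symm
  · rw [Scheme.residueFieldMap_comp]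
    exact (residueFieldMap_surjective_of_triv x' htS).comp
      (MorLib.EEF.bijective_rfm_isOpenImmersion hU.fromSpec _).2
  · rw [Scheme.residueFieldMap_comp]
    have h2 := (MorLib.EEF.bijective_rfm_isOpenImmersion hV.fromSpec (Spec.map eR (Spec.map f'A x'))).2
    have h3 : TrivExt p (Spec.map f'A x').asIdeal := by rw [hfx]; exact htR
    exact (residueFieldMap_surjective_of_triv (Spec.map f'A x') h3).comp h2

end Groth.Agent.RG11
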