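import Groth.Agent.RG11.StdShrink

/-!
# Standard models of function fields of geometrically integral algebras
-/

universe u

set_option linter.style.haveILetI false

namespace Groth.Agent.RG11

open TensorProduct IntermediateField

/-- A field extension staying a domain over an algebraic closure is separably generated, with a
primitive element. -/
theorem exists_sep_basis {K L : Type u} [Field K] [Field L] [Algebra K L] [Algebra.EssFiniteType K L]
    (h : IsDomain (AlgebraicClosure K ⊗[K] L)) :
    ∃ (n : ℕ) (u : Fin n → L) (x : L), AlgebraicIndependent K u ∧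
      Algebra.IsSeparable (adjoin K (Set.range u)) L ∧
      (adjoin K (Set.range u))⟮x⟯ = ⊤ ∧ FiniteDimensional (adjoin K (Set.range u)) L := by
  obtain ⟨s, hs, hsep⟩ : ∃ s : Finset L, IsTranscendenceBasis K ((↑) : s → L) ∧
      Algebra.IsSeparable (adjoin K (s : Set L)) L := by
    obtain _ | ⟨p, hp, hpk⟩ := CharP.exists' K
    · exact exists_isTranscendenceBasis_and_isSeparable_of_perfectField K L
    haveI : ExpChar K p := .prime hp.out
    refine exists_isTranscendenceBasis_and_isSeparable_of_linearIndepOn_pow_of_essFiniteType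
      p hp.out fun s hs => ?_
    haveI : ExpChar (AlgebraicClosure K ⊗[K] L) p :=
      expChar_of_injective_algebraMap (algebraMap K (AlgebraicClosure K ⊗[K] L)).injective p
    rw [linearIndepOn_finset_iff] at *
    intro c hc
    choose d hd using fun i => IsAlgClosed.exists_pow_nat_eq (algebraMap K (AlgebraicClosure K) (c i)) hp.out.pos
    have h0 : (∑ i ∈ s, d i ⊗ₜ[K] i : AlgebraicClosure K ⊗[K] L) = 0 := by
      refine eq_zero_of_pow_eq_zero (n := p) ?_
      rw [sum_pow_char p]
      simp_rw [Algebra.TensorProduct.tmul_pow, hd, Algebra.algebraMap_eq_smul_one, TensorProduct.smul_tmul]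
      rw [← TensorProduct.tmul_sum, hc, TensorProduct.tmul_zero]
    intro i hi
    have hl : LinearIndependent (AlgebraicClosure K)
        fun j : (s : Set L) => (1 : AlgebraicClosure K) ⊗ₜ[K] (j : L) := by
      have hl : LinearIndepOn K id (s : Set L) := linearIndepOn_finset_iff.2 hs
      obtain ⟨b, hb, -, hbsub⟩ : ∃ b : Set L, LinearIndepOn K id b ∧ Submodule.span K b = ⊤ ∧ (s : Set L) ⊆ b :=
        ⟨hl.extend (Set.subset_univ _), hl.linearIndepOn_extend _,
          by simpa using (Module.Basis.extend hl).span_eq, hl.subset_extend _⟩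
      have hcomp : LinearIndependent (AlgebraicClosure K) (⇑((Module.Basis.extend hl).baseChange (AlgebraicClosure K)) ∘
          fun j : (s : Set L) => (⟨j.1, hl.subset_extend _ j.2⟩ : hl.extend (Set.subset_univ _))) :=
        ((Module.Basis.extend hl).baseChange (AlgebraicClosure K)).linearIndependent.comp _
          fun a b e => Subtype.ext (congrArg (fun t : hl.extend (Set.subset_univ _) => (t : L)) e)
      convert hcomp using 1
      funext j
      simp
    have h1 : ∑ j : (s : Set L), d j • ((1 : AlgebraicClosure K) ⊗ₜ[K] (j : L)) = 0 := by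
      simp_rw [TensorProduct.smul_tmul', smul_eq_mul, mul_one]
      rw [← h0]
      exact Finset.sum_coe_sort s fun j => d j ⊗ₜ[K] j
    have := Fintype.linearIndependent_iff.1 hl _ h1 ⟨i, hi⟩
    refine (algebraMap K (AlgebraicClosure K)).injective ?_
    rw [map_zero, ← hd i, this, zero_pow hp.out.ne_zero]
  let e : Fin s.card ≃ s := s.equivFin.symm
  let u : Fin s.card → L := fun i => e i
  have hu : Set.range u = (s : Set L) := Set.ext fun z =>
    ⟨fun ⟨i, hi⟩ => hi ▸ (e i).2, fun hz => ⟨e.symm ⟨z, hz⟩, by simp [u]⟩⟩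
  have hub : IsTranscendenceBasis K u := hs.comp_equiv e
  haveI hsep' : Algebra.IsSeparable (adjoin K (Set.range u)) L := by rw [hu]; exact hsep
  haveI : Algebra.IsAlgebraic (adjoin K (Set.range u)) L := hub.isAlgebraic_field
  haveI : Algebra.EssFiniteType (adjoin K (Set.range u)) L := Algebra.EssFiniteType.of_comp K _ L
  haveI : FiniteDimensional (adjoin K (Set.range u)) L := Algebra.finite_of_essFiniteType_of_isAlgebraic
  obtain ⟨x, hx⟩ := Field.exists_primitive_element (adjoin K (Set.range u)) L
  exact ⟨s.card, u, x, hub.1, hsep', hx, inferInstance⟩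

/-- A standard étale model, over the domain `R₀`, of a field extension of its fraction field. -/
theorem exists_std_model {R₀ K L : Type u} [CommRing R₀] [IsDomain R₀] [Field K] [Algebra R₀ K] [IsFractionRing R₀ K]
    [Field L] [Algebra K L] [Algebra R₀ L] [IsScalarTower R₀ K L] [Algebra.EssFiniteType K L]
    (h : IsDomain (AlgebraicClosure K ⊗[K] L)) :
    ∃ (n : ℕ) (u : Fin n → L) (x : L) (Q : StandardEtalePair (MvPolynomial (Fin n) R₀)),
      Function.Injective (MvPolynomial.aeval (R := R₀) u) ∧
      evW (algebraMap R₀ L) u x Q.f = 0 ∧ evW (algebraMap R₀ L) u x Q.g ≠ 0 ∧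
      ∀ z : L, ∃ a b : W n R₀, evW (algebraMap R₀ L) u x b ≠ 0 ∧
        z * evW (algebraMap R₀ L) u x b = evW (algebraMap R₀ L) u x a := by
  classical
  obtain ⟨n, u, x, hu, hsep, hx, hfd⟩ := exists_sep_basis h
  let F := adjoin K (Set.range u)
  let ev : MvPolynomial (Fin n) R₀ →+* L := (MvPolynomial.aeval (R := R₀) u).toRingHom
  have hev : ∀ P : MvPolynomial (Fin n) R₀, ev P = MvPolynomial.aeval u (MvPolynomial.map (algebraMap R₀ K) P) :=
    fun P => (MvPolynomial.aeval_map_algebraMap _ _ _).symm
  have hinj : Function.Injective ev := by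
    intro a b hab
    rw [hev, hev] at hab
    exact MvPolynomial.map_injective _ (IsFractionRing.injective R₀ K) (hu hab)
  -- the map to the field of rational functions
  let evF : MvPolynomial (Fin n) R₀ →+* F := ev.codRestrict F fun P => by
    show ev P ∈ F
    rw [hev]
    exact (mem_adjoin_range_iff K u _).2 ⟨MvPolynomial.map (algebraMap R₀ K) P, 1, by rw [map_one, div_one]⟩
  have hevF : ∀ P, (evF P : L) = ev P := fun P => rfl
  have hclear : ∀ a : MvPolynomial (Fin n) K, ∃ (r : R₀) (α : MvPolynomial (Fin n) R₀), r ≠ 0 ∧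
      MvPolynomial.map (algebraMap R₀ K) α = MvPolynomial.C (algebraMap R₀ K r) * a := fun a => by
    induction a using MvPolynomial.induction_on with
    | C c =>
      obtain ⟨⟨α, r⟩, e⟩ := IsLocalization.surj (nonZeroDivisors R₀) c
      exact ⟨r, MvPolynomial.C α, nonZeroDivisors.ne_zero r.2, by
        rw [MvPolynomial.map_C, ← MvPolynomial.C_mul, mul_comm, e]⟩
    | add a b ha hb =>
      obtain ⟨r, α, hr, e⟩ := ha
      obtain ⟨s, β, hs, e'⟩ := hb
      exact ⟨r * s, MvPolynomial.C s * α + MvPolynomial.C r * β, mul_ne_zero hr hs, by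
        rw [map_add, map_mul, map_mul, MvPolynomial.map_C, MvPolynomial.map_C, e, e', map_mul, MvPolynomial.C_mul]
        ring⟩
    | mul_X a i ha =>
      obtain ⟨r, α, hr, e⟩ := ha
      exact ⟨r, α * MvPolynomial.X i, hr, by rw [map_mul, MvPolynomial.map_X, e, mul_assoc]⟩
  have hfrac : ∀ z : F, ∃ a b : MvPolynomial (Fin n) R₀, b ≠ 0 ∧ z * evF b = evF a := fun z => by
    obtain ⟨a, b, hab⟩ := (mem_adjoin_range_iff K u _).1 z.2
    by_cases hb : MvPolynomial.aeval u b = 0
    · exact ⟨0, 1, one_ne_zero, Subtype.ext (by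
        push_cast
        rw [hab, hb, div_zero, hevF, hevF, map_zero, zero_mul])⟩
    obtain ⟨r, α, hr, e⟩ := hclear a
    obtain ⟨s, β, hs, e'⟩ := hclear b
    refine ⟨MvPolynomial.C s * α, MvPolynomial.C r * β, fun h0 => ?_, Subtype.ext ?_⟩
    · have : MvPolynomial.C (algebraMap R₀ K r) * (MvPolynomial.C (algebraMap R₀ K s) * b) = 0 := by
        rw [← e', ← MvPolynomial.map_C, ← map_mul, h0, map_zero]
      simp only [mul_eq_zero, MvPolynomial.C_eq_zero, map_eq_zero_iff _ (IsFractionRing.injective R₀ K)] at this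
      exact hb (by rw [(this.resolve_left hr).resolve_left hs, map_zero])
    · show (z : L) * ev (MvPolynomial.C r * β) = ev (MvPolynomial.C s * α)
      simp only [hev, map_mul, MvPolynomial.map_C, e, e', hab]
      field_simp
  have hden : ∀ S : Finset F, ∃ c : MvPolynomial (Fin n) R₀, c ≠ 0 ∧ ∀ z ∈ S, evF c * z ∈ evF.range := by
    intro S
    induction S using Finset.induction_on with
    | empty => exact ⟨1, one_ne_zero, fun z hz => absurd hz (Finset.notMem_empty z)⟩
    | insert z S hzS ih =>
      obtain ⟨c, hc, hcS⟩ := ih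
      obtain ⟨a, b, hb, hab⟩ := hfrac z
      refine ⟨b * c, mul_ne_zero hb hc, fun w hw => ?_⟩
      rcases Finset.mem_insert.1 hw with rfl | hw
      · exact ⟨c * a, by rw [map_mul, map_mul, ← hab]; ring⟩
      · obtain ⟨d, hd⟩ := hcS w hw
        exact ⟨b * d, by rw [map_mul, map_mul, hd, mul_assoc]⟩
  have hlift : ∀ S : Polynomial F, ∃ c : MvPolynomial (Fin n) R₀, c ≠ 0 ∧
      Polynomial.C (evF c) * S ∈ Polynomial.lifts evF := fun S => by
    obtain ⟨c, hc, hcS⟩ := hden (S.support.image S.coeff)
    refine ⟨c, hc, (Polynomial.lifts_iff_coeff_lifts _).2 fun k => ?_⟩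
    rw [Polynomial.coeff_C_mul]
    by_cases hk : k ∈ S.support
    · exact hcS _ (Finset.mem_image_of_mem _ hk)
    · rw [Polynomial.notMem_support_iff.1 hk, mul_zero]; exact ⟨0, map_zero _⟩
  -- scale the primitive element
  obtain ⟨c, hc, hcP⟩ := hlift (minpoly F x)
  have hint : IsIntegral F x := IsIntegral.of_finite F x
  let c' : F := evF c
  have hc' : c' ≠ 0 := fun h0 => hc (hinj (by rw [map_zero, ← hevF, show evF c = c' from rfl, h0]; rfl))
  let x' : L := algebraMap F L c' * x
  have hS : ((minpoly F x).scaleRoots c') ∈ Polynomial.lifts evF := by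
    rw [Polynomial.lifts_iff_coeff_lifts]
    intro k
    rw [Polynomial.coeff_scaleRoots]
    rcases Nat.lt_or_ge k (minpoly F x).natDegree with hk | hk
    · obtain ⟨t, ht⟩ := (Polynomial.lifts_iff_coeff_lifts _).1 hcP k
      refine ⟨t * c ^ ((minpoly F x).natDegree - k - 1), ?_⟩
      rw [map_mul, map_pow, ht, Polynomial.coeff_C_mul, mul_comm (evF c), mul_assoc, ← pow_succ']
      congr 2
      omega
    · rw [show (minpoly F x).natDegree - k = 0 by omega, pow_zero, mul_one]
      rcases hk.eq_or_lt with rfl | hk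
      · exact ⟨1, by rw [map_one, (minpoly.monic hint).coeff_natDegree]⟩
      · exact ⟨0, by rw [map_zero, Polynomial.coeff_eq_zero_of_natDegree_lt hk]⟩
  obtain ⟨P, hP, hPd, hPm⟩ := Polynomial.lifts_and_natDegree_eq_and_monic hS
    ((Polynomial.monic_scaleRoots_iff c').2 (minpoly.monic hint))
  have hx' : F⟮x'⟯ = ⊤ := by
    refine eq_top_iff.2 (hx ▸ adjoin_simple_le_iff.2 ?_)
    have : x = (algebraMap F L c')⁻¹ * x' := by
      rw [← mul_assoc, inv_mul_cancel₀ (by rwa [map_ne_zero]), one_mul]
    rw [this]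
    exact mul_mem (inv_mem (IntermediateField.algebraMap_mem _ c')) (mem_adjoin_simple_self F x')
  have hmin : minpoly F x' = (minpoly F x).scaleRoots c' := by
    refine Polynomial.eq_of_monic_of_dvd_of_natDegree_le (minpoly.monic (IsIntegral.of_finite F x'))
      ((Polynomial.monic_scaleRoots_iff c').2 (minpoly.monic hint))
      (minpoly.dvd F x' (Polynomial.scaleRoots_aeval_eq_zero (minpoly.aeval F x))) ?_ |>.symm
    rw [Polynomial.natDegree_scaleRoots, ← adjoin.finrank hint, hx, ← adjoin.finrank (IsIntegral.of_finite F x'), hx']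
  -- separability
  obtain ⟨a, b, hab⟩ := (Polynomial.separable_def _).1 (Algebra.IsSeparable.isSeparable F x')
  obtain ⟨ca, hca, hcA⟩ := hlift a
  obtain ⟨cb, hcb, hcB⟩ := hlift b
  obtain ⟨A, hA⟩ := hcA
  obtain ⟨B, hB⟩ := hcB
  simp only [Polynomial.coe_mapRingHom] at hA hB
  have hevFi : Function.Injective evF := fun a b hab => hinj (congrArg Subtype.val hab)
  let Q : StandardEtalePair (MvPolynomial (Fin n) R₀) :=
    { f := P
      monic_f := hPm
      g := Polynomial.C (ca * cb)
      cond := ⟨Polynomial.C ca * B, Polynomial.C cb * A, 1, Polynomial.map_injective evF hevFi (by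
        rw [pow_one, Polynomial.map_add, Polynomial.map_mul, Polynomial.map_mul, Polynomial.map_mul,
          Polynomial.map_mul, ← Polynomial.derivative_map, hP, hA, hB, Polynomial.map_C, Polynomial.map_C,
          Polynomial.map_C, map_mul, Polynomial.C_mul, ← hmin]
        linear_combination (Polynomial.C (evF ca) * Polynomial.C (evF cb)) * hab)⟩ }
  have hevW : ∀ G : W n R₀, evW (algebraMap R₀ L) u x' G = Polynomial.aeval x' (G.map evF) := fun G => by
    rw [Polynomial.aeval_def, Polynomial.eval₂_map]
    rfl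
  refine ⟨n, u, x', Q, hinj, ?_, ?_, fun z => ?_⟩
  · rw [hevW, show Q.f = P from rfl, hP, ← hmin, minpoly.aeval]
  · rw [hevW, show Q.g = Polynomial.C (ca * cb) from rfl, Polynomial.map_C, Polynomial.aeval_C]
    rw [map_ne_zero]
    exact fun h0 => mul_ne_zero hca hcb (hevFi (h0.trans (map_zero _).symm))
  · have hz : z ∈ F⟮x'⟯.toSubalgebra := by rw [hx']; exact IntermediateField.mem_top
    rw [adjoin_simple_toSubalgebra_of_isAlgebraic (IsAlgebraic.of_finite F x'),
      Algebra.adjoin_singleton_eq_range_aeval] at hz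
    obtain ⟨S, rfl⟩ := hz
    obtain ⟨d, hd, D, hD⟩ := hlift S
    simp only [Polynomial.coe_mapRingHom] at hD
    refine ⟨D, Polynomial.C d, ?_, ?_⟩
    · rw [hevW, Polynomial.map_C, Polynomial.aeval_C, map_ne_zero]
      exact fun h0 => hd (hevFi (h0.trans (map_zero _).symm))
    · rw [hevW, hevW, hD, map_mul, Polynomial.map_C, mul_comm]
      rfl

end Groth.Agent.RG11
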