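import Groth.Agent.RG11.ShrinkLemmas
import Groth.Prelude.Def_FlatCA

/-!
# Shrinking to geometrically irreducible fibres after an étale neighbourhood

Let `P` be monic in one variable over a polynomial ring over `R`, and `(u, x)` a zero of `P` over the
prime `p`, with residue field having no nontrivial constant extensions. After an étale neighbourhood of
`p` one can find `h` nonvanishing at the point so that at most one irreducible factor of `P` in each
nearby fibre meets the locus where `h` is invertible.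
-/

universe u

set_option linter.style.haveILetI false

namespace Groth.Agent.RG11

open Polynomial TensorProduct

/-- Two field-valued maps with the same kernel extend to a common field. -/
theorem exists_common_field {A E L : Type u} [CommRing A] [Field E] [Field L] (f : A →+* E) (g : A →+* L)
    (h : RingHom.ker f = RingHom.ker g) :
    ∃ (M : Type u) (_ : Field M) (σ : E →+* M) (τ : L →+* M), σ.comp f = τ.comp g := by
  haveI : (RingHom.ker f).IsPrime := RingHom.ker_isPrime f
  let F := (RingHom.ker f).ResidueField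
  let f' : F →+* E := Ideal.ResidueField.lift _ f le_rfl fun a ha => isUnit_iff_ne_zero.2 ha
  let g' : F →+* L := Ideal.ResidueField.lift _ g h.le fun a ha => isUnit_iff_ne_zero.2 fun h0 => ha (h ▸ h0)
  letI : Algebra F E := f'.toAlgebra
  letI : Algebra F L := g'.toAlgebra
  obtain ⟨M, _, σ, τ, hστ⟩ := exists_compositum F E L
  refine ⟨M, inferInstance, σ, τ, RingHom.ext fun a => ?_⟩
  have e1 : f' (algebraMap A F a) = f a := Ideal.ResidueField.lift_algebraMap _ _ _ _ a
  have e2 : g' (algebraMap A F a) = g a := Ideal.ResidueField.lift_algebraMap _ _ _ _ a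
  have e3 : σ (f' (algebraMap A F a)) = τ (g' (algebraMap A F a)) := RingHom.congr_fun hστ (algebraMap A F a)
  rw [e1, e2] at e3
  exact e3

/-- A ring hom out of `W` is an evaluation. -/
theorem eq_evW {n : ℕ} {A M : Type u} [CommRing A] [CommRing M] (χ : W n A →+* M) :
    χ = evW (χ.comp ((C : MvPolynomial (Fin n) A →+* W n A).comp MvPolynomial.C))
      (fun i => χ (C (MvPolynomial.X i))) (χ X) := by
  refine Polynomial.ringHom_ext' (MvPolynomial.ringHom_ext (fun a => ?_) fun i => ?_) ?_ <;> simp [evW]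

/-- Vanishing at the point is independent of the common field. -/
theorem evW_eq_zero_indep {n : ℕ} {R R' : Type u} [CommRing R] [CommRing R'] [Algebra R R'] (p : Ideal R)
    [p.IsPrime] (P' : Ideal R') [P'.IsPrime] [P'.LiesOver p]
    (hbij : Function.Bijective (Ideal.ResidueField.mapₐ p P' (Algebra.ofId R R') (P'.over_def p)))
    (L : Type u) [Field L] [Algebra p.ResidueField L]
    (hy : ∀ (K : Type u) [Field K] [Algebra p.ResidueField K] [FiniteDimensional p.ResidueField K],
      IsDomain (L ⊗[p.ResidueField] K))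
    (φ : R' →+* L) (hker : RingHom.ker φ = P')
    (hφ : φ.comp (algebraMap R R') = (algebraMap p.ResidueField L).comp (algebraMap R p.ResidueField))
    {F : Type u} [CommRing F] [Algebra R' F] [Module.Finite R' F] (G : W n F) (u : Fin n → L) (x : L)
    {M M' : Type u} [Field M] [Field M'] (θ : F →+* M) (θ' : F →+* M') (τ : L →+* M) (τ' : L →+* M')
    (h : θ.comp (algebraMap R' F) = τ.comp φ) (h' : θ'.comp (algebraMap R' F) = τ'.comp φ)
    (hQ : RingHom.ker θ = RingHom.ker θ') (h0 : evW θ (fun i => τ (u i)) (τ x) G = 0) :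
    evW θ' (fun i => τ' (u i)) (τ' x) G = 0 := by
  haveI : (RingHom.ker θ).IsPrime := RingHom.ker_isPrime θ
  set Q := RingHom.ker θ with hQdef
  have hcomap : P' = Q.comap (algebraMap R' F) := by
    rw [hQdef, RingHom.comap_ker, h, RingHom.ker_comp_of_injective _ τ.injective, hker]
  -- `κ(Q)` is finite over `κ(P')`, hence over `κ(p)`
  letI : Algebra P'.ResidueField Q.ResidueField := (Ideal.ResidueField.map P' Q _ hcomap).toAlgebra
  haveI : IsScalarTower R' P'.ResidueField Q.ResidueField := .of_algebraMap_eq fun a => by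
    rw [RingHom.algebraMap_toAlgebra, Ideal.ResidueField.map_algebraMap,
      ← IsScalarTower.algebraMap_apply R' F Q.ResidueField]
  haveI : Module.Finite P'.ResidueField Q.ResidueField :=
    Module.Finite.of_surjective
      (Algebra.TensorProduct.lift (R := R') (Algebra.ofId P'.ResidueField Q.ResidueField) (AlgHom.id R' _)
        (fun _ _ => .all _ _)).toLinearMap
      (fun b => ⟨1 ⊗ₜ b, by simp⟩)
  let ι : p.ResidueField →+* P'.ResidueField := (Ideal.ResidueField.mapₐ p P' (Algebra.ofId R R') (P'.over_def p)).toRingHom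
  letI : Algebra p.ResidueField P'.ResidueField := ι.toAlgebra
  letI : Algebra p.ResidueField Q.ResidueField := ((algebraMap P'.ResidueField Q.ResidueField).comp ι).toAlgebra
  haveI : IsScalarTower p.ResidueField P'.ResidueField Q.ResidueField := .of_algebraMap_eq fun _ => rfl
  haveI : Module.Finite p.ResidueField P'.ResidueField :=
    Module.Finite.of_surjective (Algebra.linearMap _ _) hbij.2
  haveI : FiniteDimensional p.ResidueField Q.ResidueField := Module.Finite.trans P'.ResidueField _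
  haveI := hy Q.ResidueField
  -- the field `T`
  have hT : IsField (L ⊗[p.ResidueField] Q.ResidueField) := by
    haveI : Algebra.IsIntegral L (L ⊗[p.ResidueField] Q.ResidueField) := Algebra.IsIntegral.of_finite _ _
    exact isField_of_isIntegral_of_isField' (Field.toIsField L)
  letI := hT.toField
  let T := L ⊗[p.ResidueField] Q.ResidueField
  let fT : F →+* T := (Algebra.TensorProduct.includeRight (R := p.ResidueField) (A := L)).toRingHom.comp
    (algebraMap F Q.ResidueField)
  let gT : L →+* T := Algebra.TensorProduct.includeLeftRingHom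
  have key : ∀ {M : Type u} [Field M] (θ : F →+* M) (τ : L →+* M), θ.comp (algebraMap R' F) = τ.comp φ →
      RingHom.ker θ = Q → ∃ χ : T →+* M, χ.comp fT = θ ∧ χ.comp gT = τ := by
    intro M _ θ τ h hQ'
    let θb : Q.ResidueField →+* M := Ideal.ResidueField.lift _ θ hQ'.ge
      fun a ha => isUnit_iff_ne_zero.2 fun h0 => ha (hQ'.le h0)
    letI : Algebra p.ResidueField M := (τ.comp (algebraMap p.ResidueField L)).toAlgebra
    have hc : θb.comp (algebraMap p.ResidueField Q.ResidueField) = τ.comp (algebraMap p.ResidueField L) := by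
      refine Ideal.ResidueField.ringHom_ext (RingHom.ext fun a => ?_)
      have e1 := RingHom.congr_fun h (algebraMap R R' a)
      have e2 := RingHom.congr_fun hφ a
      simp only [RingHom.comp_apply] at e1 e2 ⊢
      have e3 : algebraMap p.ResidueField Q.ResidueField (algebraMap R p.ResidueField a) =
          algebraMap F Q.ResidueField (algebraMap R' F (algebraMap R R' a)) := by
        show algebraMap P'.ResidueField Q.ResidueField (ι (algebraMap R p.ResidueField a)) = _
        rw [show ι (algebraMap R p.ResidueField a) = algebraMap R' P'.ResidueField (algebraMap R R' a) from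
          ((Ideal.ResidueField.mapₐ p P' (Algebra.ofId R R') (P'.over_def p)).commutes a).trans
            (IsScalarTower.algebraMap_apply R R' P'.ResidueField a), ← IsScalarTower.algebraMap_apply]
        exact IsScalarTower.algebraMap_apply R' F Q.ResidueField _
      rw [e3, show ∀ z, θb (algebraMap F Q.ResidueField z) = θ z from fun z =>
        Ideal.ResidueField.lift_algebraMap _ _ _ _ z, e1, e2]
    let θa : Q.ResidueField →ₐ[p.ResidueField] M := { θb with commutes' := RingHom.congr_fun hc }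
    let τa : L →ₐ[p.ResidueField] M := { τ with commutes' := fun _ => rfl }
    refine ⟨(Algebra.TensorProduct.lift τa θa fun _ _ => .all _ _).toRingHom,
      RingHom.ext fun a => ?_, RingHom.ext fun a => ?_⟩
    · show Algebra.TensorProduct.lift τa θa (fun _ _ => .all _ _) (1 ⊗ₜ[p.ResidueField] algebraMap F Q.ResidueField a) = θ a
      rw [Algebra.TensorProduct.lift_tmul, map_one, one_mul]
      show θb (algebraMap F Q.ResidueField a) = θ a
      exact Ideal.ResidueField.lift_algebraMap _ _ _ _ a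
    · show Algebra.TensorProduct.lift τa θa (fun _ _ => .all _ _) (a ⊗ₜ[p.ResidueField] 1) = τ a
      rw [Algebra.TensorProduct.lift_tmul, map_one, mul_one]
      rfl
  obtain ⟨χ, hχ1, hχ2⟩ := key θ τ h rfl
  obtain ⟨χ', hχ1', hχ2'⟩ := key θ' τ' h' hQ.symm
  have hz : evW fT (fun i => gT (u i)) (gT x) G = 0 := by
    refine χ.injective ?_
    rw [map_zero, map_evW, hχ1, ← h0, ← hχ2]
    rfl
  have := congrArg χ' hz
  rw [map_zero, map_evW, hχ1'] at this
  rw [← this, ← hχ2']
  rfl

variable {n : ℕ} {R : Type u} [CommRing R]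

/-- Base change preserves surjectivity. -/
theorem map_id_surjective {R A B : Type u} [CommRing R] [CommRing A] [CommRing B] [Algebra R A] [Algebra R B]
    (R' : Type u) [CommRing R'] [Algebra R R'] (f : A →ₐ[R] B) (hf : Function.Surjective f) :
    Function.Surjective (Algebra.TensorProduct.map (AlgHom.id R' R') f) := by
  intro z
  induction z using TensorProduct.induction_on with
  | zero => exact ⟨0, map_zero _⟩
  | tmul s b =>
    obtain ⟨a, rfl⟩ := hf b
    exact ⟨s ⊗ₜ a, Algebra.TensorProduct.map_tmul _ _ _ _⟩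
  | add x y hx hy =>
    obtain ⟨a, rfl⟩ := hx
    obtain ⟨b, rfl⟩ := hy
    exact ⟨a + b, map_add _ _ _⟩

/-- A family of complete idempotents splitting the primes over `P'` gives, in a quotient, an idempotent
cutting out any set of primes over `P'`. -/
theorem exists_idempotent_cut {R' : Type u} [CommRing R'] (P' : Ideal R') {T T' : Type u} [CommRing T] [CommRing T']
    [Algebra R' T] [Algebra R' T'] (π : T →ₐ[R'] T') (hπ : Function.Surjective π) {c : ℕ} (e : Fin (c + 1) → T)
    (he : CompleteOrthogonalIdempotents e) (Pi' : Fin c → Ideal T)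
    (huniq : ∀ Q : Ideal T, Q.IsPrime → Q.LiesOver P' →
      e (.last c) ∈ Q ∧ ∀ i, e i.castSucc ∉ Q → Q = Pi' i) (Van : Ideal T' → Prop) :
    ∃ ea : T', IsIdempotentElem ea ∧
      ∀ Q : Ideal T', Q.IsPrime → Q.comap (algebraMap R' T') = P' → (ea ∈ Q ↔ Van Q) := by
  classical
  let S : Finset (Fin c) := Finset.univ.filter fun i =>
    ∃ Q : Ideal T', Q.IsPrime ∧ Q.comap (algebraMap R' T') = P' ∧ π (e i.castSucc) ∉ Q ∧ ¬ Van Q
  refine ⟨π (∑ i ∈ S, e i.castSucc), ?_, fun Q hQ hQP => ?_⟩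
  · refine IsIdempotentElem.map ?_ π
    simpa [Finset.sum_map] using
      he.toOrthogonalIdempotents.isIdempotentElem_sum (s := S.map Fin.castSuccEmb)
  · let Q' := Q.comap π.toRingHom
    haveI : Q'.IsPrime := hQ.comap _
    have hQ'over : Q'.LiesOver P' := ⟨by
      rw [Ideal.under, Ideal.comap_comap, AlgHom.toRingHom_eq_coe, AlgHom.comp_algebraMap]; exact hQP.symm⟩
    obtain ⟨hlast, hone⟩ := huniq Q' inferInstance hQ'over
    obtain ⟨i, hi⟩ : ∃ i : Fin c, e i.castSucc ∉ Q' := by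
      by_contra hall
      push Not at hall
      refine Ideal.IsPrime.one_notMem ‹Q'.IsPrime› ?_
      rw [← he.complete, Fin.sum_univ_castSucc]
      exact Q'.add_mem (Q'.sum_mem fun i _ => hall i) hlast
    have hother : ∀ j, j ≠ i → e j.castSucc ∈ Q' := fun j hj => by
      refine (Ideal.IsPrime.mem_or_mem ‹Q'.IsPrime› (x := e j.castSucc) (y := e i.castSucc) ?_).resolve_right hi
      rw [he.ortho fun h => hj (Fin.castSucc_injective _ h)]
      exact Q'.zero_mem
    constructor
    · intro hmem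
      by_contra hv
      have hiS : i ∈ S := Finset.mem_filter.2 ⟨Finset.mem_univ _, Q, hQ, hQP, hi, hv⟩
      refine hi ?_
      have : ∑ j ∈ S, e j.castSucc ∈ Q' := hmem
      rw [← Finset.add_sum_erase _ _ hiS] at this
      exact (Q'.add_mem_iff_left (Q'.sum_mem fun j hj => hother j (Finset.ne_of_mem_erase hj))).1 this
    · intro hv
      by_contra hmem
      obtain ⟨j, hjS, hj⟩ : ∃ j ∈ S, e j.castSucc ∉ Q' := by
        by_contra hall
        push Not at hall
        exact hmem (Q'.sum_mem hall)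
      obtain ⟨-, Q₁, hQ₁, hQ₁P, hjQ₁, hnv⟩ := Finset.mem_filter.1 hjS
      haveI : (Q₁.comap π.toRingHom).IsPrime := hQ₁.comap _
      have h1 := (huniq (Q₁.comap π.toRingHom) inferInstance ⟨by
        rw [Ideal.under, Ideal.comap_comap, AlgHom.toRingHom_eq_coe, AlgHom.comp_algebraMap]; exact hQ₁P.symm⟩).2 j hjQ₁
      exact hnv (Ideal.comap_injective_of_surjective π.toRingHom hπ ((hone j hj).trans h1.symm) ▸ hv)

/-- The separating idempotent of `G` and the element `h` of the base attached to it. -/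
theorem exists_sep {n : ℕ} {R R' : Type u} [CommRing R] [CommRing R'] [Algebra R R'] (p : Ideal R) [p.IsPrime]
    (P' : Ideal R') [P'.IsPrime] [P'.LiesOver p]
    (hbij : Function.Bijective (Ideal.ResidueField.mapₐ p P' (Algebra.ofId R R') (P'.over_def p)))
    (L : Type u) [Field L] [Algebra p.ResidueField L]
    (hy : ∀ (K : Type u) [Field K] [Algebra p.ResidueField K] [FiniteDimensional p.ResidueField K],
      IsDomain (L ⊗[p.ResidueField] K))
    (φ : R' →+* L) (hker : RingHom.ker φ = P')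
    (hφ : φ.comp (algebraMap R R') = (algebraMap p.ResidueField L).comp (algebraMap R p.ResidueField))
    (u : Fin n → L) (x : L)
    {T T' : Type u} [CommRing T] [CommRing T'] [Algebra R' T] [Algebra R' T'] [Module.Finite R' T']
    (π : T →ₐ[R'] T') (hπ : Function.Surjective π) {c : ℕ} (e : Fin (c + 1) → T)
    (he : CompleteOrthogonalIdempotents e) (Pi' : Fin c → Ideal T)
    (huniq : ∀ Q : Ideal T, Q.IsPrime → Q.LiesOver P' →
      e (.last c) ∈ Q ∧ ∀ i, e i.castSucc ∉ Q → Q = Pi' i) (G : W n T') :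
    ∃ ea : T', IsIdempotentElem ea ∧
      (∀ (M : Type u) [Field M] (θ : T' →+* M) (τ : L →+* M), θ.comp (algebraMap R' T') = τ.comp φ →
        θ ea = 0 → evW θ (fun i => τ (u i)) (τ x) G = 0) ∧
      ∃ h : W n R', evW φ u x h ≠ 0 ∧
        mapW (algebraMap R' T') h ∈ Ideal.span {G, C (MvPolynomial.C (1 - ea))} := by
  let Van : Ideal T' → Prop := fun Q =>
    ∃ (M : Type u) (_ : Field M) (θ : T' →+* M) (τ : L →+* M), RingHom.ker θ = Q ∧
      θ.comp (algebraMap R' T') = τ.comp φ ∧ evW θ (fun i => τ (u i)) (τ x) G = 0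
  obtain ⟨ea, hidem, hea⟩ := exists_idempotent_cut P' π hπ e he Pi' huniq Van
  have hover : ∀ {M : Type u} [Field M] (θ : T' →+* M) (τ : L →+* M), θ.comp (algebraMap R' T') = τ.comp φ →
      (RingHom.ker θ).comap (algebraMap R' T') = P' := fun θ τ h => by
    rw [RingHom.comap_ker, h, RingHom.ker_comp_of_injective _ τ.injective, hker]
  refine ⟨ea, hidem, fun M _ θ τ hθ h0 => ?_, ?_⟩
  · obtain ⟨M', _, θ', τ', hQ, hR', hz⟩ := (hea _ (RingHom.ker_isPrime θ) (hover θ τ hθ)).1 (RingHom.mem_ker.2 h0)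
    exact evW_eq_zero_indep p P' hbij L hy φ hker hφ G u x θ' θ τ' τ hR' hθ hQ hz
  by_contra hall
  push Not at hall
  letI : Algebra (W n R') (W n T') := (mapW (algebraMap R' T')).toAlgebra
  haveI : Algebra.IsIntegral (W n R') (W n T') :=
    ⟨fun z => isIntegral_mapW _ (algebraMap_isIntegral_iff.2 inferInstance) z⟩
  haveI : (RingHom.ker (evW φ u x)).IsPrime := RingHom.ker_isPrime _
  obtain ⟨𝔔, hle, h𝔔, hcomap⟩ := Ideal.exists_ideal_over_prime_of_isIntegral (RingHom.ker (evW φ u x))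
    (Ideal.span {G, C (MvPolynomial.C (1 - ea))}) (fun z hz => by_contra fun hz' => hall z hz' hz)
  obtain ⟨M, _, σ, τ, hστ⟩ := exists_common_field
    ((algebraMap (W n T') 𝔔.ResidueField).comp (mapW (algebraMap R' T')))
    (evW φ u x) (by rw [← RingHom.comap_ker, Ideal.ker_algebraMap_residueField]; exact hcomap)
  let χ := σ.comp (algebraMap (W n T') 𝔔.ResidueField)
  have hχ : ∀ z ∈ 𝔔, χ z = 0 := fun z hz => by simp [χ, Ideal.algebraMap_residueField_eq_zero.2 hz]
  have hχR : ∀ z, χ (mapW (algebraMap R' T') z) = τ (evW φ u x z) := RingHom.congr_fun hστ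
  let θ : T' →+* M := χ.comp ((C : MvPolynomial (Fin n) T' →+* W n T').comp MvPolynomial.C)
  have hθ : θ.comp (algebraMap R' T') = τ.comp φ := RingHom.ext fun s => by
    simpa [θ, mapW, evW] using hχR (C (MvPolynomial.C s))
  have h1 : θ (1 - ea) = 0 := hχ _ (hle (Ideal.subset_span (by simp)))
  have hmem : ea ∈ RingHom.ker θ := by
    refine (hea _ (RingHom.ker_isPrime θ) (hover θ τ hθ)).2 ⟨M, inferInstance, θ, τ, rfl, hθ, ?_⟩
    have h0 : χ G = 0 := hχ _ (hle (Ideal.subset_span (by simp)))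
    rw [eq_evW χ] at h0
    convert h0 using 3
    · funext i
      simpa [mapW, evW] using (hχR (C (MvPolynomial.X i))).symm
    · simpa [mapW, evW] using (hχR X).symm
  rw [map_sub, map_one, RingHom.mem_ker.1 hmem, sub_zero] at h1
  exact one_ne_zero h1

/-- A point at which two of three factors vanish is a singular point. -/
theorem exists_separating {n : ℕ} {R R' : Type u} [CommRing R] [CommRing R'] [Algebra R R']
    (P g p₁ p₂ : W n R) (m : ℕ) (hg : derivative P * p₁ + P * p₂ = g ^ m)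
    (L : Type u) [Field L] [Algebra R L] (φ : R' →+* L) (P' : Ideal R') [P'.IsPrime] (hker : RingHom.ker φ = P')
    (hφ : φ.comp (algebraMap R R') = algebraMap R L)
    (u : Fin n → L) (x : L) (hPx : evW (algebraMap R L) u x P = 0) (hgx : evW (algebraMap R L) u x g ≠ 0)
    {F : Type u} [CommRing F] [Algebra R F] [Module.Finite R F] (H : Fin 3 → W n F)
    (hH : ∏ i, H i = mapW (algebraMap R F) P) (ca cb : R' ⊗[R] F)
    (hca : ∀ (M : Type u) [Field M] (θ : R' ⊗[R] F →+* M) (τ : L →+* M), θ.comp (algebraMap R' _) = τ.comp φ →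
      θ ca = 0 → evW (θ.comp (Algebra.TensorProduct.includeRight : F →ₐ[R] R' ⊗[R] F).toRingHom)
        (fun i => τ (u i)) (τ x) (H 0) = 0)
    (hcb : ∀ (M : Type u) [Field M] (θ : R' ⊗[R] F →+* M) (τ : L →+* M), θ.comp (algebraMap R' _) = τ.comp φ →
      θ cb = 0 → evW (θ.comp (Algebra.TensorProduct.includeRight : F →ₐ[R] R' ⊗[R] F).toRingHom)
        (fun i => τ (u i)) (τ x) (H 1) = 0) :
    ∃ r : R', r ∉ P' ∧ algebraMap R' _ r ∈ Ideal.span {ca, cb} := by
  by_contra hall
  push Not at hall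
  haveI : Algebra.IsIntegral R' (R' ⊗[R] F) := Algebra.IsIntegral.of_finite _ _
  obtain ⟨𝔓, hle, h𝔓, hcomap⟩ := Ideal.exists_ideal_over_prime_of_isIntegral P'
    (Ideal.span {ca, cb}) (fun z hz => by_contra fun hz' => hall z hz' hz)
  obtain ⟨M, _, σ, τ, hστ⟩ := exists_common_field
    ((algebraMap (R' ⊗[R] F) 𝔓.ResidueField).comp (algebraMap R' _)) φ
    (by rw [← RingHom.comap_ker, Ideal.ker_algebraMap_residueField, hker]; exact hcomap)
  let θ : R' ⊗[R] F →+* M := σ.comp (algebraMap _ 𝔓.ResidueField)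
  have hθ0 : ∀ z ∈ 𝔓, θ z = 0 := fun z hz => by simp [θ, Ideal.algebraMap_residueField_eq_zero.2 hz]
  have hθR : θ.comp (algebraMap R' _) = τ.comp φ := hστ
  have hG0 := hca M θ τ hθR (hθ0 _ (hle (Ideal.subset_span (by simp))))
  have hG1 := hcb M θ τ hθR (hθ0 _ (hle (Ideal.subset_span (by simp))))
  set θ3 : F →+* M := θ.comp (Algebra.TensorProduct.includeRight : F →ₐ[R] R' ⊗[R] F).toRingHom
  have hcomp : θ3.comp (algebraMap R F) = τ.comp (algebraMap R L) := by
    refine RingHom.ext fun a' => ?_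
    simp only [θ3, RingHom.comp_apply, AlgHom.toRingHom_eq_coe, RingHom.coe_coe, AlgHom.commutes]
    rw [IsScalarTower.algebraMap_apply R R', ← RingHom.comp_apply θ, hθR, ← hφ]
    rfl
  set ev := evW θ3 (fun j => τ (u j)) (τ x) with hev
  have hP0 : ev (mapW (algebraMap R F) P) = τ (evW (algebraMap R L) u x P) := by
    rw [hev, evW_mapW, hcomp, ← map_evW]
  have hd0 : ev (mapW (algebraMap R F) (derivative P)) = 0 := by
    rw [mapW, coe_mapRingHom, ← Polynomial.derivative_map]
    change ev (derivative (mapW (algebraMap R F) P)) = 0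
    rw [← hH, Fin.prod_univ_three]
    simp [Polynomial.derivative_mul, hG0, hG1]
  have hg0 : ev (mapW (algebraMap R F) (g ^ m)) = 0 := by
    rw [← hg]
    simp [hd0, hP0, hPx]
  refine pow_ne_zero m hgx (τ.injective ?_)
  rw [← map_pow, map_evW, map_zero, ← hcomp]
  rw [hev, evW_mapW] at hg0
  exact hg0

variable {n : ℕ} {R : Type u} [CommRing R]

/-- Two distinct irreducible factors, neither dividing `h`, give a point of the algebra of triples. -/
theorem eq_of_separated {R' K : Type u} [CommRing R'] [Algebra R R'] [Field K] (ψ : R' →+* K)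
    (P : W n R) (hP : P.Monic) (d : ℕ) (hd : P.natDegree = d)
    {Fa : Fin d → Type u} [∀ a, CommRing (Fa a)] [∀ a, Algebra R (Fa a)] (ga : ∀ a, W n (Fa a))
    {F3 : Fin d → Fin d → Type u} [∀ a b, CommRing (F3 a b)] [∀ a b, Algebra R (F3 a b)]
    (h3 : ∀ a b, Fin 3 → W n (F3 a b))
    (hpt : ∀ a b : Fin d, (a : ℕ) + 1 + ((b : ℕ) + 1) ≤ d → ∀ [Algebra R K] (π₁ π₂ H : W n K),
      π₁.Monic → π₂.Monic → H.Monic → π₁.natDegree = a + 1 → π₂.natDegree = b + 1 →
      π₁ * π₂ * H = mapW (algebraMap R K) P →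
      ∃ f : F3 a b →ₐ[R] K, mapW f.toRingHom (h3 a b 0) = π₁ ∧ mapW f.toRingHom (h3 a b 1) = π₂)
    (ea : ∀ a : Fin d, R' ⊗[R] Fa a) (hidem : ∀ a, IsIdempotentElem (ea a))
    (ha : Fin d → W n R')
    (hamem : ∀ a : Fin d, mapW (algebraMap R' (R' ⊗[R] Fa a)) (ha a) ∈ Ideal.span
      {mapW (Algebra.TensorProduct.includeRight : Fa a →ₐ[R] R' ⊗[R] Fa a).toRingHom (ga a),
        C (MvPolynomial.C (1 - ea a))})
    (α : ∀ a b : Fin d, (a : ℕ) + 1 + ((b : ℕ) + 1) ≤ d → (Fa a →ₐ[R] F3 a b))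
    (β : ∀ a b : Fin d, (a : ℕ) + 1 + ((b : ℕ) + 1) ≤ d → (Fa b →ₐ[R] F3 a b))
    (hα : ∀ a b hab, mapW (α a b hab).toRingHom (ga a) = h3 a b 0)
    (hβ : ∀ a b hab, mapW (β a b hab).toRingHom (ga b) = h3 a b 1)
    (r : ∀ a b : Fin d, (a : ℕ) + 1 + ((b : ℕ) + 1) ≤ d → R')
    (hr : ∀ a b hab, algebraMap R' _ (r a b hab) ∈ Ideal.span
      {Algebra.TensorProduct.map (AlgHom.id R' R') (α a b hab) (ea a),
       Algebra.TensorProduct.map (AlgHom.id R' R') (β a b hab) (ea b)})
    (hψr : ∀ a b hab, ψ (r a b hab) ≠ 0)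
    (π₁ π₂ : W n K) (hm₁ : π₁.Monic) (hm₂ : π₂.Monic) (hi₁ : Irreducible π₁) (hi₂ : Irreducible π₂)
    (hd₁ : π₁ ∣ mapW (ψ.comp (algebraMap R R')) P) (hd₂ : π₂ ∣ mapW (ψ.comp (algebraMap R R')) P)
    (hn₁ : ¬ π₁ ∣ mapW ψ (∏ a, ha a)) (hn₂ : ¬ π₂ ∣ mapW ψ (∏ a, ha a)) : π₁ = π₂ := by
  by_contra hne
  letI : Algebra R K := (ψ.comp (algebraMap R R')).toAlgebra
  let ψa : R' →ₐ[R] K := { ψ with commutes' := fun _ => rfl }
  set PK := mapW (algebraMap R K) P with hPK
  have hPKm : PK.Monic := hP.map _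
  have hPKd : PK.natDegree = d := (Polynomial.Monic.natDegree_map hP _).trans hd
  have hzero : ∀ (π' : W n K) (a : Fin d), ¬ π' ∣ mapW ψ (∏ a, ha a) →
      ∀ f : Fa a →ₐ[R] K, mapW f.toRingHom (ga a) = π' → Algebra.TensorProduct.productMap ψa f (ea a) = 0 := by
    intro π' a hn f hf
    set σ := Algebra.TensorProduct.productMap ψa f
    rcases IsIdempotentElem.iff_eq_zero_or_one.1 ((hidem a).map σ) with h0 | h1
    · exact h0
    refine absurd ?_ hn
    refine dvd_trans ?_ (_root_.map_dvd _ (Finset.dvd_prod_of_mem ha (Finset.mem_univ a)))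
    have h2 := Ideal.mem_map_of_mem (mapW σ.toRingHom) (hamem a)
    rw [Ideal.map_span, Set.image_insert_eq, Set.image_singleton, mapW_comp, mapW_comp] at h2
    have hψ : σ.toRingHom.comp (algebraMap R' _) = ψ := RingHom.ext fun s => by simp [σ, ψa]
    have hG : σ.toRingHom.comp (Algebra.TensorProduct.includeRight : Fa a →ₐ[R] R' ⊗[R] Fa a).toRingHom =
        f.toRingHom := RingHom.ext fun s => by simp [σ]
    have hz : mapW (n := n) σ.toRingHom (C (MvPolynomial.C (1 - ea a))) = 0 := by simp [mapW, h1]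
    rw [hψ, hG, hf, hz, Ideal.span_insert, Ideal.span_singleton_zero, sup_bot_eq] at h2
    exact Ideal.mem_span_singleton.1 h2
  have hpos : ∀ {π' : W n K}, π'.Monic → Irreducible π' → 1 ≤ π'.natDegree :=
    fun hm hi => Nat.one_le_iff_ne_zero.2 fun h0 => hi.not_isUnit (by rw [hm.natDegree_eq_zero.1 h0]; exact isUnit_one)
  obtain ⟨H₁, hH₁⟩ := hd₁
  have hd₂' : π₂ ∣ H₁ := by
    refine (hi₂.prime.dvd_or_dvd (hH₁ ▸ hd₂)).resolve_left fun hdv => hne ?_
    exact (Polynomial.eq_of_monic_of_associated hm₂ hm₁ (hi₂.associated_of_dvd hi₁ hdv)).symm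
  obtain ⟨H, rfl⟩ := hd₂'
  have hprod : π₁ * π₂ * H = PK := by rw [mul_assoc]; exact hH₁.symm
  have hmH : H.Monic := (hm₁.mul hm₂).of_mul_monic_left (hprod ▸ hPKm)
  have hdeg : π₁.natDegree + π₂.natDegree + H.natDegree = d := by
    rw [← hPKd, ← hprod, (hm₁.mul hm₂).natDegree_mul hmH, hm₁.natDegree_mul hm₂]
  have hp₁ := hpos hm₁ hi₁
  have hp₂ := hpos hm₂ hi₂
  let a : Fin d := ⟨π₁.natDegree - 1, by omega⟩
  let b : Fin d := ⟨π₂.natDegree - 1, by omega⟩
  have ha1 : (a : ℕ) + 1 = π₁.natDegree := Nat.sub_add_cancel hp₁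
  have hb1 : (b : ℕ) + 1 = π₂.natDegree := Nat.sub_add_cancel hp₂
  have hab : (a : ℕ) + 1 + ((b : ℕ) + 1) ≤ d := by omega
  obtain ⟨f, hf₁, hf₂⟩ := hpt a b hab π₁ π₂ H hm₁ hm₂ hmH ha1.symm hb1.symm hprod
  set σ3 := Algebra.TensorProduct.productMap ψa f
  have hkill : ∀ (i : Fin d) (g' : Fa i →ₐ[R] F3 a b) (π' : W n K), ¬ π' ∣ mapW ψ (∏ a, ha a) →
      mapW (f.comp g').toRingHom (ga i) = π' →
      σ3 (Algebra.TensorProduct.map (AlgHom.id R' R') g' (ea i)) = 0 := by
    intro i g' π' hn hg'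
    refine Eq.trans ?_ (hzero π' i hn (f.comp g') hg')
    exact DFunLike.congr_fun
      (show σ3.comp ((Algebra.TensorProduct.map (AlgHom.id R' R') g').restrictScalars R) =
        Algebra.TensorProduct.productMap ψa (f.comp g') from
        Algebra.TensorProduct.ext' fun s t => by simp [σ3]) _
  have hI : Ideal.span {Algebra.TensorProduct.map (AlgHom.id R' R') (α a b hab) (ea a),
      Algebra.TensorProduct.map (AlgHom.id R' R') (β a b hab) (ea b)} ≤ RingHom.ker σ3.toRingHom := by
    rw [Ideal.span_le, Set.insert_subset_iff, Set.singleton_subset_iff]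
    refine ⟨hkill a _ π₁ hn₁ ?_, hkill b _ π₂ hn₂ ?_⟩
    · rw [show (f.comp (α a b hab)).toRingHom = f.toRingHom.comp (α a b hab).toRingHom from rfl, ← mapW_comp, hα, hf₁]
    · rw [show (f.comp (β a b hab)).toRingHom = f.toRingHom.comp (β a b hab).toRingHom from rfl, ← mapW_comp, hβ, hf₂]
  exact hψr a b hab (by simpa [σ3, ψa] using RingHom.mem_ker.1 (hI (hr a b hab)))

set_option maxHeartbeats 1000000 in
/-- The shrinking theorem, for abstract algebras of factorizations. -/
theorem exists_shrink_aux (P g p₁ p₂ : W n R) (hP : P.Monic) (m : ℕ)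
    (hg : derivative P * p₁ + P * p₂ = g ^ m) (p : Ideal R) [p.IsPrime]
    (L : Type u) [Field L] [Algebra p.ResidueField L] [Algebra R L] [IsScalarTower R p.ResidueField L]
    (hy : ∀ (K : Type u) [Field K] [Algebra p.ResidueField K] [FiniteDimensional p.ResidueField K],
      IsDomain (L ⊗[p.ResidueField] K))
    (u : Fin n → L) (x : L) (hPx : evW (algebraMap R L) u x P = 0) (hgx : evW (algebraMap R L) u x g ≠ 0)
    (d : ℕ) (hd : P.natDegree = d)
    {Fa : Fin d → Type u} [∀ a, CommRing (Fa a)] [∀ a, Algebra R (Fa a)] [∀ a, Module.Finite R (Fa a)]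
    (ga : ∀ a, W n (Fa a))
    {F3 : Fin d → Fin d → Type u} [∀ a b, CommRing (F3 a b)] [∀ a b, Algebra R (F3 a b)]
    [∀ a b, Module.Finite R (F3 a b)]
    (h3 : ∀ a b, Fin 3 → W n (F3 a b))
    (hprod : ∀ a b : Fin d, (a : ℕ) + 1 + ((b : ℕ) + 1) ≤ d → ∏ i, h3 a b i = mapW (algebraMap R (F3 a b)) P)
    (α : ∀ a b : Fin d, (a : ℕ) + 1 + ((b : ℕ) + 1) ≤ d → (Fa a →ₐ[R] F3 a b))
    (β : ∀ a b : Fin d, (a : ℕ) + 1 + ((b : ℕ) + 1) ≤ d → (Fa b →ₐ[R] F3 a b))
    (hα : ∀ a b hab, mapW (α a b hab).toRingHom (ga a) = h3 a b 0)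
    (hβ : ∀ a b hab, mapW (β a b hab).toRingHom (ga b) = h3 a b 1)
    (hpt : ∀ a b : Fin d, (a : ℕ) + 1 + ((b : ℕ) + 1) ≤ d → ∀ (K : Type u) [Field K] [Algebra R K]
      (π₁ π₂ H : W n K),
      π₁.Monic → π₂.Monic → H.Monic → π₁.natDegree = a + 1 → π₂.natDegree = b + 1 →
      π₁ * π₂ * H = mapW (algebraMap R K) P →
      ∃ f : F3 a b →ₐ[R] K, mapW f.toRingHom (h3 a b 0) = π₁ ∧ mapW f.toRingHom (h3 a b 1) = π₂) :
    ∃ (R' : Type u) (_ : CommRing R') (_ : Algebra R R') (P' : Ideal R') (_ : P'.IsPrime),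
      FlatCA.IsEtaleNhd R R' p P' ∧
      ∃ (φ : R' →ₐ[R] L) (h : W n R') (r : R'), RingHom.ker φ = P' ∧ evW φ.toRingHom u x h ≠ 0 ∧ r ∉ P' ∧
        ∀ (K : Type u) [Field K] (ψ : R' →+* K), ψ r ≠ 0 → ∀ π₁ π₂ : W n K,
          π₁.Monic → π₂.Monic → Irreducible π₁ → Irreducible π₂ →
          π₁ ∣ mapW (ψ.comp (algebraMap R R')) P → π₂ ∣ mapW (ψ.comp (algebraMap R R')) P →
          ¬ π₁ ∣ mapW ψ h → ¬ π₂ ∣ mapW ψ h → π₁ = π₂ := by
  classical
  obtain ⟨R', _, _, het, P', _, hover, c, e, he, P'i, -, -, hbij, -, huniq⟩ :=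
    Algebra.exists_etale_completeOrthogonalIdempotents_forall_liesOver_eq (S := ∀ a, Fa a) p
  refine ⟨R', inferInstance, inferInstance, P', inferInstance, ⟨het, hover, hbij⟩, ?_⟩
  let ι := RingEquiv.ofBijective
    (Ideal.ResidueField.mapₐ p P' (Algebra.ofId R R') (P'.over_def p)).toRingHom hbij
  let φ₀ : R' →+* L :=
    (algebraMap p.ResidueField L).comp (ι.symm.toRingHom.comp (algebraMap R' P'.ResidueField))
  have hφ₀R : φ₀.comp (algebraMap R R') =
      (algebraMap p.ResidueField L).comp (algebraMap R p.ResidueField) := by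
    refine RingHom.ext fun a => congrArg (algebraMap p.ResidueField L) ?_
    refine ι.injective ((ι.apply_symm_apply _).trans ?_)
    exact (IsScalarTower.algebraMap_apply R R' P'.ResidueField a).symm.trans
      ((Ideal.ResidueField.mapₐ p P' (Algebra.ofId R R') (P'.over_def p)).commutes a).symm
  have hkerφ : RingHom.ker φ₀ = P' := by
    rw [show φ₀ = ((algebraMap p.ResidueField L).comp ι.symm.toRingHom).comp (algebraMap R' P'.ResidueField) from rfl,
      RingHom.ker_comp_of_injective _ ((algebraMap p.ResidueField L).comp ι.symm.toRingHom).injective,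
      Ideal.ker_algebraMap_residueField]
  have hφR : φ₀.comp (algebraMap R R') = algebraMap R L :=
    hφ₀R.trans (IsScalarTower.algebraMap_eq R p.ResidueField L).symm
  have hsep := fun a : Fin d => exists_sep p P' hbij L hy φ₀ hkerφ hφ₀R u x
    (Algebra.TensorProduct.map (AlgHom.id R' R') (Pi.evalAlgHom R Fa a))
    (map_id_surjective R' (Pi.evalAlgHom R Fa a) (Function.surjective_eval a)) e he P'i huniq
    (mapW (Algebra.TensorProduct.includeRight : Fa a →ₐ[R] R' ⊗[R] Fa a).toRingHom (ga a))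
  choose ea hidem hvan ha ha0 hamem using hsep
  have hrab : ∀ a b hab, ∃ r : R', r ∉ P' ∧ algebraMap R' _ r ∈ Ideal.span
      {Algebra.TensorProduct.map (AlgHom.id R' R') (α a b hab) (ea a),
       Algebra.TensorProduct.map (AlgHom.id R' R') (β a b hab) (ea b)} := by
    intro a b hab
    refine exists_separating P g p₁ p₂ m hg L φ₀ P' hkerφ hφR u x hPx hgx (h3 a b) (hprod a b hab) _ _
      (fun M _ θ τ hθ h0 => ?_) (fun M _ θ τ hθ h0 => ?_)
    · have := hvan a M (θ.comp (Algebra.TensorProduct.map (AlgHom.id R' R') (α a b hab)).toRingHom) τ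
        (by rw [← hθ]; exact RingHom.ext fun s => by simp) h0
      rw [evW_mapW] at this
      rw [← hα a b hab, evW_mapW]
      convert this using 4
      exact RingHom.ext fun s => by simp
    · have := hvan b M (θ.comp (Algebra.TensorProduct.map (AlgHom.id R' R') (β a b hab)).toRingHom) τ
        (by rw [← hθ]; exact RingHom.ext fun s => by simp) h0
      rw [evW_mapW] at this
      rw [← hβ a b hab, evW_mapW]
      convert this using 4
      exact RingHom.ext fun s => by simp
  choose r hr0 hr using hrab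
  refine ⟨{ φ₀ with commutes' := RingHom.congr_fun hφR }, ∏ a, ha a,
    ∏ a : Fin d, ∏ b : Fin d, if hab : (a : ℕ) + 1 + ((b : ℕ) + 1) ≤ d then r a b hab else 1,
    hkerφ, ?_, ?_, ?_⟩
  · show evW φ₀ u x (∏ a, ha a) ≠ 0
    rw [map_prod]
    exact Finset.prod_ne_zero_iff.2 fun a _ => ha0 a
  · rw [Ideal.IsPrime.prod_mem_iff]
    push Not
    intro a _
    rw [Ideal.IsPrime.prod_mem_iff]
    push Not
    intro b _
    split_ifs with hab
    · exact hr0 a b hab
    · exact Ideal.IsPrime.one_notMem ‹_›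
  intro K _ ψ hψr π₁ π₂ hm₁ hm₂ hi₁ hi₂ hd₁ hd₂ hn₁ hn₂
  refine eq_of_separated ψ P hP d hd ga h3 (fun a b hab => hpt a b hab K) ea hidem ha hamem α β hα hβ r hr
    (fun a b hab h0 => hψr ?_) π₁ π₂ hm₁ hm₂ hi₁ hi₂ hd₁ hd₂ hn₁ hn₂
  simp only [map_prod]
  refine Finset.prod_eq_zero (Finset.mem_univ a) (Finset.prod_eq_zero (Finset.mem_univ b) ?_)
  rw [dif_pos hab, h0]

/-- A point of the algebra of triples from a factorization over a domain. -/
theorem exists_point_triple (P : W n R) (hP : P.Monic) (N : ℕ) (hN : degBound P ≤ N) (d : ℕ) (hd : P.natDegree = d)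
    (a b : ℕ) (K : Type u) [CommRing K] [IsDomain K] [Algebra R K] (π₁ π₂ H : W n K)
    (hm₁ : π₁.Monic) (hm₂ : π₂.Monic) (hmH : H.Monic) (ha1 : π₁.natDegree = a + 1) (hb1 : π₂.natDegree = b + 1)
    (hprod : π₁ * π₂ * H = mapW (algebraMap R K) P) :
    ∃ f : FRing ![a + 1, b + 1, d - (a + 1 + (b + 1))] N P →ₐ[R] K,
      mapW f.toRingHom (ufac ![a + 1, b + 1, d - (a + 1 + (b + 1))] N P 0) = π₁ ∧
      mapW f.toRingHom (ufac ![a + 1, b + 1, d - (a + 1 + (b + 1))] N P 1) = π₂ := by
  have hPK : (mapW (algebraMap R K) P).Monic := hP.map _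
  have hdeg : π₁.natDegree + π₂.natDegree + H.natDegree = d := by
    rw [← hd, ← (hm₁.natDegree_mul hm₂), ← (hm₁.mul hm₂).natDegree_mul hmH, hprod]
    exact Polynomial.Monic.natDegree_map hP _
  have hcd : ∀ {G : W n K}, G ∣ mapW (algebraMap R K) P → ∀ j, (G.coeff j).totalDegree ≤ N := fun hG j =>
    (totalDegree_coeff_le_of_dvd _ P hPK.ne_zero hG j).trans hN
  obtain ⟨f, hf⟩ := exists_point ![a + 1, b + 1, d - (a + 1 + (b + 1))] N P ![π₁, π₂, H]
    (fun i => by fin_cases i <;> assumption)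
    (fun i => by fin_cases i <;> simp <;> omega)
    (fun i => by
      fin_cases i
      · simpa [ha1] using hm₁.coeff_natDegree
      · simpa [hb1] using hm₂.coeff_natDegree
      · simpa [show d - (a + 1 + (b + 1)) = H.natDegree by omega] using hmH.coeff_natDegree)
    (fun i j => by
      fin_cases i
      · exact hcd (G := π₁) ⟨π₂ * H, by rw [← hprod]; ring⟩ j
      · exact hcd (G := π₂) ⟨π₁ * H, by rw [← hprod]; ring⟩ j
      · exact hcd (G := H) ⟨π₁ * π₂, by rw [← hprod]; ring⟩ j)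
    (by simpa [Fin.prod_univ_three] using hprod)
  exact ⟨f, hf 0, hf 1⟩

/-- After an étale neighbourhood, at most one irreducible factor in each nearby fibre. -/
theorem exists_shrink (P g p₁ p₂ : W n R) (hP : P.Monic) (m : ℕ)
    (hg : derivative P * p₁ + P * p₂ = g ^ m) (p : Ideal R) [p.IsPrime]
    (L : Type u) [Field L] [Algebra p.ResidueField L] [Algebra R L] [IsScalarTower R p.ResidueField L]
    (hy : ∀ (K : Type u) [Field K] [Algebra p.ResidueField K] [FiniteDimensional p.ResidueField K],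
      IsDomain (L ⊗[p.ResidueField] K))
    (u : Fin n → L) (x : L) (hPx : evW (algebraMap R L) u x P = 0) (hgx : evW (algebraMap R L) u x g ≠ 0) :
    ∃ (R' : Type u) (_ : CommRing R') (_ : Algebra R R') (P' : Ideal R') (_ : P'.IsPrime),
      FlatCA.IsEtaleNhd R R' p P' ∧
      ∃ (φ : R' →ₐ[R] L) (h : W n R') (r : R'), RingHom.ker φ = P' ∧ evW φ.toRingHom u x h ≠ 0 ∧ r ∉ P' ∧
        ∀ (K : Type u) [Field K] (ψ : R' →+* K), ψ r ≠ 0 → ∀ π₁ π₂ : W n K,
          π₁.Monic → π₂.Monic → Irreducible π₁ → Irreducible π₂ →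
          π₁ ∣ mapW (ψ.comp (algebraMap R R')) P → π₂ ∣ mapW (ψ.comp (algebraMap R R')) P →
          ¬ π₁ ∣ mapW ψ h → ¬ π₂ ∣ mapW ψ h → π₁ = π₂ := by
  let d := P.natDegree
  let N := degBound P
  let M₀ := N + (n * N + n * N)
  have hM : n * N + n * N ≤ M₀ := Nat.le_add_left _ _
  haveI : ∀ a : Fin d, Module.Finite R (FRing ![(a : ℕ) + 1, d - ((a : ℕ) + 1)] M₀ P) :=
    fun a => finite_fRing _ _ _ hP
  haveI : ∀ a b : Fin d,
      Module.Finite R (FRing ![(a : ℕ) + 1, (b : ℕ) + 1, d - ((a : ℕ) + 1 + ((b : ℕ) + 1))] N P) :=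
    fun a b => finite_fRing _ _ _ hP
  have hα : ∀ a b : Fin d, (a : ℕ) + 1 + ((b : ℕ) + 1) ≤ d →
      ∃ α : FRing ![(a : ℕ) + 1, d - ((a : ℕ) + 1)] M₀ P →ₐ[R]
          FRing ![(a : ℕ) + 1, (b : ℕ) + 1, d - ((a : ℕ) + 1 + ((b : ℕ) + 1))] N P,
        mapW α.toRingHom (ufac _ M₀ P 0) = ufac _ N P 0 :=
    fun a b hab => exists_pair_map (b := (b : ℕ) + 1) (c := d - ((a : ℕ) + 1 + ((b : ℕ) + 1))) N P
      (by omega) hM 1 _ rfl rfl rfl
  have hβ : ∀ a b : Fin d, (a : ℕ) + 1 + ((b : ℕ) + 1) ≤ d →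
      ∃ β : FRing ![(b : ℕ) + 1, d - ((b : ℕ) + 1)] M₀ P →ₐ[R]
          FRing ![(a : ℕ) + 1, (b : ℕ) + 1, d - ((a : ℕ) + 1 + ((b : ℕ) + 1))] N P,
        mapW β.toRingHom (ufac _ M₀ P 0) = ufac _ N P 1 :=
    fun a b hab => by
      simpa using exists_pair_map (b := (a : ℕ) + 1) (c := d - ((a : ℕ) + 1 + ((b : ℕ) + 1))) N P
        (e := d - ((b : ℕ) + 1)) (by omega) hM (Equiv.swap 0 1)
        ![(a : ℕ) + 1, (b : ℕ) + 1, d - ((a : ℕ) + 1 + ((b : ℕ) + 1))] (a := (b : ℕ) + 1)
        (by simp) (by simp) (by simp [Equiv.swap_apply_def])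
  choose α hα using hα
  choose β hβ using hβ
  exact exists_shrink_aux P g p₁ p₂ hP m hg p L hy u x hPx hgx d rfl
    (fun a => ufac ![(a : ℕ) + 1, d - ((a : ℕ) + 1)] M₀ P 0)
    (fun a b => ufac ![(a : ℕ) + 1, (b : ℕ) + 1, d - ((a : ℕ) + 1 + ((b : ℕ) + 1))] N P)
    (fun a b _ => prod_ufac _ _ _) α β hα hβ
    (fun a b _ K _ _ π₁ π₂ H h1 h2 h3' h4 h5 h6 =>
      exists_point_triple P hP N le_rfl d rfl a b K π₁ π₂ H h1 h2 h3' h4 h5 h6)

end Groth.Agent.RG11
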