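import Groth.Agent.RG11.FactorRing

/-!
# Auxiliary facts for shrinking to geometrically integral fibres
-/

universe u

set_option linter.style.haveILetI false

namespace Groth.Agent.RG11

open Polynomial TensorProduct

variable {n : ℕ} {R : Type u} [CommRing R] {k : ℕ} (d : Fin k → ℕ) (N : ℕ) (P : W n R)

theorem totalDegree_genFactor_coeff_le (i : Fin k) (j : ℕ) :
    ((genFactor R d N i).coeff j : MvPolynomial (Fin n) _).totalDegree ≤ n * N := by
  classical
  simp only [genFactor, Polynomial.coeff_add, Polynomial.coeff_X_pow, Polynomial.finsetSum_coeff,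
    Polynomial.coeff_C_mul]
  refine (MvPolynomial.totalDegree_add _ _).trans (max_le ?_ ?_)
  · split_ifs <;> simp
  refine (MvPolynomial.totalDegree_finsetSum _ _).trans (Finset.sup_le fun b _ => ?_)
  split_ifs
  · rw [mul_one]
    refine (MvPolynomial.totalDegree_finsetSum _ _).trans (Finset.sup_le fun a _ => ?_)
    refine (MvPolynomial.totalDegree_monomial_le _ _).trans ?_
    calc (expo N a).sum (fun _ e => e) = ∑ i, (a i : ℕ) := Finsupp.sum_fintype _ _ (fun _ => rfl)
      _ ≤ ∑ _i : Fin n, N := Finset.sum_le_sum fun i _ => Nat.le_of_lt_succ (a i).2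
      _ = n * N := by simp
  · simp

theorem totalDegree_ufac_coeff_le (i : Fin k) (j : ℕ) :
    ((ufac d N P i).coeff j).totalDegree ≤ n * N := by
  simp only [ufac, mapW, coe_mapRingHom, Polynomial.coeff_map]
  exact (totalDegree_map_le _ _).trans (totalDegree_genFactor_coeff_le d N i j)

theorem natDegree_genFactor_le (i : Fin k) : (genFactor (n := n) R d N i).natDegree ≤ d i := by
  refine (Polynomial.natDegree_add_le _ _).trans (max_le (Polynomial.natDegree_X_pow_le _) ?_)
  refine (Polynomial.natDegree_sum_le _ _).trans ((Finset.fold_max_le _).2 ⟨Nat.zero_le _, fun b _ => ?_⟩)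
  exact (Polynomial.natDegree_C_mul_X_pow_le _ _).trans b.2.le

theorem natDegree_ufac_le (i : Fin k) : (ufac d N P i).natDegree ≤ d i :=
  Polynomial.natDegree_map_le.trans (natDegree_genFactor_le d N i)

theorem coeff_ufac (i : Fin k) : (ufac d N P i).coeff (d i) = 1 := by
  classical
  simp only [ufac, mapW, coe_mapRingHom, Polynomial.coeff_map, genFactor, Polynomial.coeff_add,
    Polynomial.coeff_X_pow, Polynomial.finsetSum_coeff, Polynomial.coeff_C_mul, if_true, mul_ite, mul_one, mul_zero]
  rw [Finset.sum_eq_zero (fun b _ => if_neg (Nat.ne_of_gt b.2))]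
  simp

theorem totalDegree_coeff_mul_le {A : Type u} [CommRing A] {a b : ℕ} (F G : W n A)
    (hF : ∀ j, (F.coeff j).totalDegree ≤ a) (hG : ∀ j, (G.coeff j).totalDegree ≤ b) (j : ℕ) :
    ((F * G).coeff j).totalDegree ≤ a + b := by
  rw [Polynomial.coeff_mul]
  refine (MvPolynomial.totalDegree_finsetSum _ _).trans (Finset.sup_le fun x _ => ?_)
  exact (MvPolynomial.totalDegree_mul _ _).trans (add_le_add (hF _) (hG _))

/-- The pair `(first factor, product of the other two)` of a triple factorization. -/
theorem exists_pair_map {a b c e : ℕ} (hbc : b + c = e) {M : ℕ} (hM : n * N + n * N ≤ M) (σ : Equiv.Perm (Fin 3))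
    (dd : Fin 3 → ℕ) (h0 : dd (σ 0) = a) (h1 : dd (σ 1) = b) (h2 : dd (σ 2) = c) :
    ∃ φ : FRing ![a, e] M P →ₐ[R] FRing dd N P, mapW φ.toRingHom (ufac ![a, e] M P 0) = ufac dd N P (σ 0) := by
  let G : Fin 2 → W n (FRing dd N P) := ![ufac dd N P (σ 0), ufac dd N P (σ 1) * ufac dd N P (σ 2)]
  have hdeg : (ufac dd N P (σ 1) * ufac dd N P (σ 2)).natDegree ≤ e :=
    Polynomial.natDegree_mul_le.trans (hbc ▸ h1 ▸ h2 ▸ add_le_add (natDegree_ufac_le _ _ _ _) (natDegree_ufac_le _ _ _ _))
  obtain ⟨φ, hφ⟩ := exists_point ![a, e] M P G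
    (fun i => by
      fin_cases i
      · exact monic_ufac _ _ _ _
      · exact (monic_ufac _ _ _ _).mul (monic_ufac _ _ _ _))
    (fun i => by
      fin_cases i
      · exact h0 ▸ natDegree_ufac_le _ _ _ _
      · exact hdeg)
    (fun i => by
      fin_cases i
      · exact h0 ▸ coeff_ufac _ _ _ _
      · show (ufac dd N P (σ 1) * ufac dd N P (σ 2)).coeff e = 1
        rw [← hbc, ← h1, ← h2, Polynomial.coeff_mul_add_eq_of_natDegree_le (natDegree_ufac_le _ _ _ _)
          (natDegree_ufac_le _ _ _ _), coeff_ufac, coeff_ufac, one_mul])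
    (fun i j => by
      fin_cases i
      · exact (totalDegree_ufac_coeff_le _ _ _ _ _).trans ((Nat.le_add_right _ _).trans hM)
      · exact (totalDegree_coeff_mul_le _ _ (totalDegree_ufac_coeff_le _ _ _ _)
          (totalDegree_ufac_coeff_le _ _ _ _) _).trans hM)
    (by
      rw [Fin.prod_univ_two]
      show ufac dd N P (σ 0) * (ufac dd N P (σ 1) * ufac dd N P (σ 2)) = _
      rw [← prod_ufac, ← Equiv.prod_comp σ, Fin.prod_univ_three, mul_assoc])
  exact ⟨φ, hφ 0⟩

/-- Integrality passes to polynomial rings. -/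
theorem isIntegral_mapW {A A' : Type u} [CommRing A] [CommRing A'] (φ : A →+* A') (hφ : φ.IsIntegral) :
    (mapW (n := n) φ).IsIntegral := by
  intro z
  induction z using Polynomial.induction_on' with
  | add a b ha hb => exact RingHom.IsIntegralElem.add _ ha hb
  | monomial i q =>
    rw [← C_mul_X_pow_eq_monomial]
    refine RingHom.IsIntegralElem.mul _ ?_ ?_
    · induction q using MvPolynomial.induction_on with
      | C a =>
        obtain ⟨f, hf, hfa⟩ := hφ a
        refine ⟨f.map ((C : MvPolynomial (Fin n) A →+* W n A).comp MvPolynomial.C), hf.map _, ?_⟩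
        rw [Polynomial.eval₂_map]
        have hcomp : (mapW φ).comp ((C : MvPolynomial (Fin n) A →+* W n A).comp MvPolynomial.C) =
            ((C : MvPolynomial (Fin n) A' →+* W n A').comp MvPolynomial.C).comp φ := by
          ext; simp [mapW]
        rw [hcomp, show C (MvPolynomial.C a) = ((C : MvPolynomial (Fin n) A' →+* W n A').comp MvPolynomial.C) a from rfl,
          ← Polynomial.hom_eval₂, hfa, map_zero]
      | add a b ha hb => rw [map_add]; exact RingHom.IsIntegralElem.add _ ha hb
      | mul_X a j ha =>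
        rw [map_mul]
        refine RingHom.IsIntegralElem.mul _ ha ?_
        rw [show C (MvPolynomial.X j : MvPolynomial (Fin n) A') = mapW φ (C (MvPolynomial.X j)) by simp [mapW]]
        exact RingHom.isIntegralElem_map _
    · rw [show (X : W n A') ^ i = mapW φ (X ^ i) by simp [mapW]]
      exact RingHom.isIntegralElem_map _

/-- Two extensions of a field embed into a common field. -/
theorem exists_compositum (F E L : Type u) [Field F] [Field E] [Field L] [Algebra F E] [Algebra F L] :
    ∃ (M : Type u) (_ : Field M) (σ : E →+* M) (τ : L →+* M),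
      σ.comp (algebraMap F E) = τ.comp (algebraMap F L) := by
  haveI : Nontrivial (E ⊗[F] L) := inferInstance
  obtain ⟨m, hm⟩ := Ideal.exists_maximal (E ⊗[F] L)
  refine ⟨(E ⊗[F] L) ⧸ m, Ideal.Quotient.field m,
    (Ideal.Quotient.mk m).comp Algebra.TensorProduct.includeLeftRingHom,
    (Ideal.Quotient.mk m).comp Algebra.TensorProduct.includeRight.toRingHom, RingHom.ext fun a => ?_⟩
  simp only [RingHom.comp_apply, Algebra.TensorProduct.includeLeftRingHom_apply, AlgHom.toRingHom_eq_coe,
    RingHom.coe_coe, Algebra.TensorProduct.includeRight_apply]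
  rw [Algebra.algebraMap_eq_smul_one, Algebra.algebraMap_eq_smul_one, TensorProduct.smul_tmul]

end Groth.Agent.RG11
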