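import Mathlib
import Groth.Prelude.Def_FlatCA

/-!
# Splitting a quasi-finite algebra by a standard étale neighbourhood of the base

If `C₀` is of finite type over `T` and quasi-finite at `q` over `y₀`, there is a standard étale
`T`-algebra with a `κ(y₀)`-point, and a finite algebra over it, standard étale over `C₀`, having exactly
one prime over that point, this prime being given by a `κ(q)`-point.
-/

universe u

set_option linter.style.haveILetI false

namespace Groth.Agent.RG11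

open TensorProduct

attribute [local instance] Algebra.TensorProduct.rightAlgebra

/-- The point with values in the residue field of the base of an elementary étale neighbourhood. -/
theorem exists_residue_point' {R R₁ : Type u} [CommRing R] [CommRing R₁] [Algebra R R₁] (p : Ideal R) [p.IsPrime]
    (P' : Ideal R₁) [P'.IsPrime] [hover : P'.LiesOver p]
    (hbij : Function.Bijective (Ideal.ResidueField.mapₐ p P' (Algebra.ofId R R₁) hover.over)) :
    ∃ θ : R₁ →ₐ[R] p.ResidueField, RingHom.ker θ.toRingHom = P' := by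
  let ι := RingEquiv.ofBijective
    (Ideal.ResidueField.mapₐ p P' (Algebra.ofId R R₁) hover.over).toRingHom hbij
  refine ⟨{ ι.symm.toRingHom.comp (algebraMap R₁ P'.ResidueField) with
      commutes' := fun a => ι.injective ((ι.apply_symm_apply _).trans
        ((IsScalarTower.algebraMap_apply R R₁ P'.ResidueField a).symm.trans
          ((Ideal.ResidueField.mapₐ p P' (Algebra.ofId R R₁) hover.over).commutes a).symm)) }, ?_⟩
  show RingHom.ker (ι.symm.toRingHom.comp (algebraMap R₁ P'.ResidueField)) = P'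
  rw [RingHom.ker_comp_of_injective _ ι.symm.toRingHom.injective, Ideal.ker_algebraMap_residueField]

/-- Localisation maps are injective on primes. -/
theorem eq_of_comap_localization {A B : Type u} [CommRing A] [CommRing B] [Algebra A B] (M : Submonoid A)
    [IsLocalization M B] (P Q : Ideal B) [P.IsPrime] [Q.IsPrime]
    (h : P.comap (algebraMap A B) = Q.comap (algebraMap A B)) : P = Q :=
  congr($(PrimeSpectrum.localization_comap_injective B M (a₁ := ⟨P, ‹_›⟩) (a₂ := ⟨Q, ‹_›⟩)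
    (PrimeSpectrum.ext h)).1)

/-- The quasi-finite splitting, standard étale form. -/
theorem exists_split_quasiFinite {T C₀ : Type u} [CommRing T] [CommRing C₀] [Algebra T C₀]
    [Algebra.FiniteType T C₀] (y₀ : Ideal T) [y₀.IsPrime] (q : Ideal C₀) [q.IsPrime] [hover : q.LiesOver y₀]
    [Algebra.QuasiFiniteAt T q] :
    ∃ (Q : StandardEtalePair T) (C₂ : Type u) (_ : CommRing C₂) (_ : Algebra C₀ C₂) (_ : Algebra Q.Ring C₂)
      (_ : Algebra T C₂) (_ : IsScalarTower T Q.Ring C₂) (_ : IsScalarTower T C₀ C₂)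
      (_ : Module.Finite Q.Ring C₂) (_ : Algebra.IsStandardEtale C₀ C₂)
      (χ : Q.Ring →ₐ[T] y₀.ResidueField) (Φ : C₂ →+* q.ResidueField),
      Φ.comp (algebraMap C₀ C₂) = algebraMap C₀ q.ResidueField ∧
      Φ.comp (algebraMap Q.Ring C₂) = (Ideal.ResidueField.map y₀ q (algebraMap T C₀) hover.over).comp χ.toRingHom ∧
      ∀ z : Ideal C₂, z.IsPrime → z.comap (algebraMap Q.Ring C₂) = RingHom.ker χ.toRingHom → z = RingHom.ker Φ := by
  obtain ⟨D₁, _, _, _, P, _, hPover, e, he, P', hP', hP'P, hP'q, heP', hbij, hfin, huniq⟩ :=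
    Algebra.exists_etale_isIdempotentElem_forall_liesOver_eq (R := T) y₀ q
  obtain ⟨χ₁, hχ₁⟩ := exists_residue_point' y₀ P hbij
  let ιq := Ideal.ResidueField.mapₐ (R := T) y₀ q (Algebra.ofId T C₀) hover.over
  let Φ₀ : D₁ ⊗[T] C₀ →ₐ[T] q.ResidueField :=
    Algebra.TensorProduct.lift (ιq.comp χ₁) (IsScalarTower.toAlgHom T C₀ q.ResidueField) fun _ _ => .all _ _
  have hΦD : Φ₀.toRingHom.comp (algebraMap D₁ (D₁ ⊗[T] C₀)) = ιq.toRingHom.comp χ₁.toRingHom := RingHom.ext fun d => by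
    show Φ₀ (d ⊗ₜ[T] 1) = ιq (χ₁ d)
    simp [Φ₀]
  have hΦC : Φ₀.toRingHom.comp (Algebra.TensorProduct.includeRight : C₀ →ₐ[T] D₁ ⊗[T] C₀).toRingHom =
      algebraMap C₀ q.ResidueField := RingHom.ext fun c => by
    show Φ₀ (1 ⊗ₜ[T] c) = _
    simp [Φ₀]
  haveI : (RingHom.ker Φ₀.toRingHom).IsPrime := RingHom.ker_isPrime Φ₀.toRingHom
  haveI : (RingHom.ker Φ₀.toRingHom).LiesOver P := ⟨by
    rw [Ideal.under, RingHom.comap_ker, hΦD,
      RingHom.ker_comp_of_injective _ (RingHom.injective ιq.toRingHom), hχ₁]⟩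
  have hkerΦ : RingHom.ker Φ₀.toRingHom = P' := Ideal.eq_of_comap_eq_comap_of_bijective_residueFieldMap hbij _ _ (by
    rw [hP'q, RingHom.comap_ker, hΦC, Ideal.ker_algebraMap_residueField])
  have hΦe : IsUnit (Φ₀ e) := isUnit_iff_ne_zero.2 fun h => heP' (hkerΦ.le h)
  -- the finite piece
  let C₁ := Localization.Away e
  haveI : Module.Finite D₁ C₁ := hfin
  haveI : Algebra.Etale C₀ (D₁ ⊗[T] C₀) := .of_equiv (Algebra.TensorProduct.commRight T C₀ D₁)
  haveI : Algebra.Etale C₀ C₁ := inferInstance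
  let Φ₁ : C₁ →+* q.ResidueField := IsLocalization.Away.lift e (g := Φ₀.toRingHom) hΦe
  have hΦ₁ : Φ₁.comp (algebraMap (D₁ ⊗[T] C₀) C₁) = Φ₀.toRingHom := IsLocalization.Away.lift_comp e hΦe
  haveI : (RingHom.ker Φ₁).IsPrime := RingHom.ker_isPrime Φ₁
  have huniq₁ : ∀ z : Ideal C₁, z.IsPrime → z.comap (algebraMap D₁ C₁) = P → z = RingHom.ker Φ₁ := by
    intro z hz hzP
    refine eq_of_comap_localization (Submonoid.powers e) z _ ?_
    rw [RingHom.comap_ker, hΦ₁, hkerΦ]
    haveI : (z.comap (algebraMap (D₁ ⊗[T] C₀) C₁)).IsPrime := hz.comap _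
    haveI : (z.comap (algebraMap (D₁ ⊗[T] C₀) C₁)).LiesOver P := ⟨by
      rw [Ideal.under, Ideal.comap_comap, ← IsScalarTower.algebraMap_eq, hzP]⟩
    exact huniq _ inferInstance inferInstance fun he' =>
      Ideal.notMem_of_isUnit z (IsLocalization.Away.algebraMap_isUnit e) he'
  -- standard étale loci
  obtain ⟨d₀, hd₀, _⟩ := Algebra.IsEtaleAt.exists_isStandardEtale (R := T) P
  obtain ⟨c, hc, _⟩ := Algebra.IsEtaleAt.exists_isStandardEtale (R := C₀) (RingHom.ker Φ₁)
  have hclosed := PrimeSpectrum.isClosedMap_comap_of_isIntegral (algebraMap D₁ C₁)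
    (algebraMap_isIntegral_iff.mpr inferInstance) _ (PrimeSpectrum.isClosed_zeroLocus {c})
  obtain ⟨_, ⟨d, rfl⟩, hdP, hdsub⟩ := PrimeSpectrum.isTopologicalBasis_basic_opens.exists_subset_of_mem_open
    (a := (⟨P, inferInstance⟩ : PrimeSpectrum D₁)) (by
      rintro ⟨⟨z, hz⟩, hzc, hzP⟩
      have := huniq₁ z hz (congrArg PrimeSpectrum.asIdeal hzP)
      subst this
      exact hc (hzc (Set.mem_singleton c))) hclosed.isOpen_compl
  let d' := d₀ * d
  have hd' : d' ∉ P := Ideal.IsPrime.mul_notMem ‹_› hd₀ hdP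
  let D₂ := Localization.Away (algebraMap D₁ (Localization.Away d₀) d)
  haveI : IsLocalization.Away d' D₂ := IsLocalization.Away.mul' (Localization.Away d₀) D₂ d₀ d
  haveI : Algebra.IsStandardEtale T D₂ :=
    .of_isLocalizationAway (S := Localization.Away d₀) (algebraMap D₁ (Localization.Away d₀) d)
  let C₂ := Localization.Away (algebraMap D₁ C₁ d')
  have hcunit : IsUnit (algebraMap C₁ C₂ c) := by
    by_contra hnu
    obtain ⟨m, hm, hcm⟩ := Ideal.exists_le_maximal _ (Ideal.span_singleton_eq_top.not.mpr hnu)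
    let z₁ := m.comap (algebraMap C₁ C₂)
    have hzc : c ∈ z₁ := hcm (Ideal.mem_span_singleton_self _)
    have hnotd : algebraMap D₁ C₁ d ∉ z₁ := fun h =>
      Ideal.notMem_of_isUnit m (IsLocalization.Away.algebraMap_isUnit (S := C₂) (algebraMap D₁ C₁ d')) (by
        show algebraMap D₁ C₁ d' ∈ z₁
        rw [map_mul]; exact z₁.mul_mem_left _ h)
    exact hdsub (show (⟨z₁.comap (algebraMap D₁ C₁), inferInstance⟩ : PrimeSpectrum D₁) ∈
      PrimeSpectrum.basicOpen d from hnotd) ⟨⟨z₁, inferInstance⟩, Set.singleton_subset_iff.2 hzc, rfl⟩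
  have hD₂C₂ : IsUnit (algebraMap D₁ C₂ d') := by
    rw [IsScalarTower.algebraMap_apply D₁ C₁ C₂]
    exact IsLocalization.Away.algebraMap_isUnit _
  letI : Algebra D₂ C₂ := (IsLocalization.Away.lift d' (g := algebraMap D₁ C₂) hD₂C₂).toAlgebra
  haveI : IsScalarTower D₁ D₂ C₂ := IsScalarTower.of_algebraMap_eq (R := D₁) (S := D₂) (A := C₂) fun a =>
    (RingHom.congr_fun (IsLocalization.Away.lift_comp (S := D₂) d' hD₂C₂) a).symm
  haveI : IsLocalization (Algebra.algebraMapSubmonoid C₁ (Submonoid.powers d')) C₂ := by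
    rw [Algebra.algebraMapSubmonoid_powers]; infer_instance
  haveI : Module.Finite D₂ C₂ := Module.Finite.of_isLocalization D₁ C₁ (Submonoid.powers d')
  -- standard étale over `C₀`
  haveI : Algebra.IsStandardEtale C₀ C₂ := by
    let C₁c := Localization.Away c
    let s := algebraMap C₁ C₁c (algebraMap D₁ C₁ d')
    haveI : Algebra.IsStandardEtale C₀ (Localization.Away s) := .of_isLocalizationAway (S := C₁c) s
    let g₁ : C₁c →+* C₂ := IsLocalization.Away.lift c (g := algebraMap C₁ C₂) hcunit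
    have hg₁ : g₁.comp (algebraMap C₁ C₁c) = algebraMap C₁ C₂ := IsLocalization.Away.lift_comp c hcunit
    have hs : IsUnit (g₁ s) := by
      rw [← RingHom.comp_apply, hg₁]; exact IsLocalization.Away.algebraMap_isUnit _
    let g₂ : Localization.Away s →+* C₂ := IsLocalization.Away.lift (S := Localization.Away s) s (g := g₁) hs
    have hg₂ : g₂.comp (algebraMap C₁c (Localization.Away s)) = g₁ := IsLocalization.Away.lift_comp (S := Localization.Away s) s hs
    have hg₃ : ∀ a : C₀, g₂ (algebraMap C₀ (Localization.Away s) a) = algebraMap C₀ C₂ a := fun a => by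
      rw [IsScalarTower.algebraMap_apply C₀ C₁c (Localization.Away s), ← RingHom.comp_apply g₂, hg₂,
        IsScalarTower.algebraMap_apply C₀ C₁ C₁c, ← RingHom.comp_apply g₁, hg₁,
        ← IsScalarTower.algebraMap_apply]
    let g₃ : Localization.Away s →ₐ[C₀] C₂ := { g₂ with commutes' := hg₃ }
    refine Algebra.IsStandardEtale.of_surjective (R := C₀) (S := Localization.Away s) (T := C₂) g₃ fun w => ?_
    obtain ⟨a, ⟨_, n, rfl⟩, rfl⟩ := IsLocalization.exists_mk'_eq (Submonoid.powers (algebraMap D₁ C₁ d')) w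
    let W : Localization.Away s := IsLocalization.mk' (M := Submonoid.powers s) (Localization.Away s)
      (algebraMap C₁ C₁c a) ⟨s ^ n, n, rfl⟩
    refine ⟨W, ?_⟩
    rw [eq_comm, IsLocalization.mk'_eq_iff_eq_mul]
    show algebraMap C₁ C₂ a = g₂ W * algebraMap C₁ C₂ (algebraMap D₁ C₁ d' ^ n)
    have e1 : g₂ W * g₂.comp (algebraMap C₁c (Localization.Away s)) (s ^ n) =
        g₂.comp (algebraMap C₁c (Localization.Away s)) (algebraMap C₁ C₁c a) := by
      rw [RingHom.comp_apply, RingHom.comp_apply, ← map_mul]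
      exact congrArg g₂ (IsLocalization.mk'_spec _ _ _)
    have e2 : ∀ b, g₁ (algebraMap C₁ C₁c b) = algebraMap C₁ C₂ b := RingHom.congr_fun hg₁
    rw [hg₂, map_pow] at e1
    simp only [s, e2] at e1
    rw [map_pow]
    exact e1.symm
  obtain ⟨pres⟩ := (inferInstance : Algebra.IsStandardEtale T D₂).nonempty_standardEtalePresentation
  let Q := pres.P
  let eQ : D₂ ≃ₐ[T] Q.Ring := pres.equivRing
  letI : Algebra Q.Ring C₂ := ((algebraMap D₂ C₂).comp eQ.symm.toRingEquiv.toRingHom).toAlgebra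
  have hQC : ∀ a : D₂, algebraMap Q.Ring C₂ (eQ a) = algebraMap D₂ C₂ a := fun a => by
    show algebraMap D₂ C₂ (eQ.symm (eQ a)) = _
    rw [eQ.symm_apply_apply]
  haveI : IsScalarTower T Q.Ring C₂ := IsScalarTower.of_algebraMap_eq fun t => by
    rw [← eQ.commutes, hQC, IsScalarTower.algebraMap_apply T D₁ D₂, ← IsScalarTower.algebraMap_apply D₁ D₂ C₂,
      ← IsScalarTower.algebraMap_apply T D₁ C₂]
  haveI : Module.Finite Q.Ring C₂ := by
    refine Module.Finite.of_equiv_equiv (A₁ := D₂) (B₁ := C₂) eQ.toRingEquiv (RingEquiv.refl C₂)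
      (RingHom.ext fun a => hQC a)
  have hχd : IsUnit (χ₁ d') := isUnit_iff_ne_zero.2 fun h => hd' (hχ₁.le h)
  let χ₂ : D₂ →+* y₀.ResidueField := IsLocalization.Away.lift d' (g := χ₁.toRingHom) hχd
  have hχ₂ : χ₂.comp (algebraMap D₁ D₂) = χ₁.toRingHom := IsLocalization.Away.lift_comp d' hχd
  have hχ₂T : ∀ t : T, χ₂ (algebraMap T D₂ t) = algebraMap T y₀.ResidueField t := fun t => by
    rw [IsScalarTower.algebraMap_apply T D₁ D₂, ← RingHom.comp_apply χ₂, hχ₂]
    exact χ₁.commutes t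
  let χ₂a : D₂ →ₐ[T] y₀.ResidueField := { χ₂ with commutes' := hχ₂T }
  have hΦd : IsUnit (Φ₁ (algebraMap D₁ C₁ d')) := by
    rw [IsScalarTower.algebraMap_eq D₁ (D₁ ⊗[T] C₀) C₁, RingHom.comp_apply, ← RingHom.comp_apply Φ₁, hΦ₁,
      ← RingHom.comp_apply Φ₀.toRingHom, hΦD]
    exact hχd.map ιq
  let Φ₂ : C₂ →+* q.ResidueField := IsLocalization.Away.lift (algebraMap D₁ C₁ d') (g := Φ₁) hΦd
  have hΦ₂ : Φ₂.comp (algebraMap C₁ C₂) = Φ₁ := IsLocalization.Away.lift_comp _ hΦd
  have hΦ₂D : Φ₂.comp (algebraMap D₂ C₂) = ιq.toRingHom.comp χ₂ := by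
    refine IsLocalization.ringHom_ext (Submonoid.powers d') ?_
    rw [RingHom.comp_assoc, ← IsScalarTower.algebraMap_eq, IsScalarTower.algebraMap_eq D₁ C₁ C₂,
      ← RingHom.comp_assoc, hΦ₂, RingHom.comp_assoc, hχ₂, IsScalarTower.algebraMap_eq D₁ (D₁ ⊗[T] C₀) C₁,
      ← RingHom.comp_assoc, hΦ₁, hΦD]
  refine ⟨Q, C₂, inferInstance, inferInstance, inferInstance, inferInstance, inferInstance, inferInstance,
    inferInstance, inferInstance, χ₂a.comp eQ.symm.toAlgHom, Φ₂, ?_, ?_, ?_⟩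
  · rw [IsScalarTower.algebraMap_eq C₀ C₁ C₂, ← RingHom.comp_assoc, hΦ₂,
      IsScalarTower.algebraMap_eq C₀ (D₁ ⊗[T] C₀) C₁, ← RingHom.comp_assoc, hΦ₁]
    exact hΦC
  · exact RingHom.ext fun a => RingHom.congr_fun hΦ₂D (eQ.symm a)
  · intro z hz hzχ
    haveI : (RingHom.ker Φ₂).IsPrime := RingHom.ker_isPrime Φ₂
    refine eq_of_comap_localization (Submonoid.powers (algebraMap D₁ C₁ d')) z _ ?_
    rw [RingHom.comap_ker, hΦ₂]
    haveI := hz
    refine huniq₁ _ inferInstance ?_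
    rw [Ideal.comap_comap, ← IsScalarTower.algebraMap_eq, IsScalarTower.algebraMap_eq D₁ D₂ C₂]
    ext w
    have := SetLike.ext_iff.1 hzχ (eQ (algebraMap D₁ D₂ w))
    rw [Ideal.mem_comap, hQC] at this
    rw [Ideal.mem_comap, RingHom.comp_apply, this, RingHom.mem_ker, ← hχ₁, RingHom.mem_ker]
    show χ₂ (eQ.symm (eQ (algebraMap D₁ D₂ w))) = 0 ↔ _
    rw [eQ.symm_apply_apply, ← RingHom.comp_apply χ₂, hχ₂]

end Groth.Agent.RG11
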