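import Groth.Agent.RG11.Shrink

/-!
# Standard étale algebras over polynomial rings: base change, points and fibres
-/

universe u

set_option linter.style.haveILetI false

namespace Groth.Agent.RG11

open Polynomial TensorProduct

variable {n : ℕ} {R A : Type u} [CommRing R] [CommRing A]

/-- A standard étale algebra over a polynomial ring, as an algebra over the coefficient ring. -/
noncomputable instance stdAlgebra (Q : StandardEtalePair (MvPolynomial (Fin n) R)) : Algebra R Q.Ring :=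
  ((algebraMap (MvPolynomial (Fin n) R) Q.Ring).comp MvPolynomial.C).toAlgebra

instance stdTower (Q : StandardEtalePair (MvPolynomial (Fin n) R)) :
    IsScalarTower R (MvPolynomial (Fin n) R) Q.Ring :=
  IsScalarTower.of_algebraMap_eq fun _ => rfl

instance std_fp (Q : StandardEtalePair (MvPolynomial (Fin n) R)) : Algebra.FinitePresentation R Q.Ring :=
  Algebra.FinitePresentation.trans R (MvPolynomial (Fin n) R) Q.Ring

instance std_smooth (Q : StandardEtalePair (MvPolynomial (Fin n) R)) : Algebra.Smooth R Q.Ring :=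
  haveI : Algebra.Smooth R (MvPolynomial (Fin n) R) := ⟨inferInstance, inferInstance⟩
  Algebra.Smooth.comp R (MvPolynomial (Fin n) R) Q.Ring

instance std_flat (Q : StandardEtalePair (MvPolynomial (Fin n) R)) : Module.Flat R Q.Ring :=
  Module.Flat.trans R (MvPolynomial (Fin n) R) Q.Ring

/-- Change of coefficients of a standard étale pair over a polynomial ring. -/
noncomputable abbrev mapPair (Q : StandardEtalePair (MvPolynomial (Fin n) R)) (φ : R →+* A) :
    StandardEtalePair (MvPolynomial (Fin n) A) :=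
  Q.map (MvPolynomial.map φ)

/-- Multiply the second polynomial of a standard étale pair. -/
noncomputable def mulPair {T : Type u} [CommRing T] (Q : StandardEtalePair T) (h : T[X]) : StandardEtalePair T where
  f := Q.f
  monic_f := Q.monic_f
  g := Q.g * h
  cond := by
    obtain ⟨p₁, p₂, m, e⟩ := Q.cond
    exact ⟨p₁ * h ^ m, p₂ * h ^ m, m, by rw [mul_pow, ← e]; ring⟩

/-- The coordinates of a point. -/
noncomputable def stdPt {M : Type u} [CommRing M] (Q : StandardEtalePair (MvPolynomial (Fin n) R)) (χ : Q.Ring →+* M) :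
    (Fin n → M) × M :=
  (fun i => χ (algebraMap (MvPolynomial (Fin n) R) Q.Ring (MvPolynomial.X i)), χ Q.X)

theorem comp_aeval_X {M : Type u} [CommRing M] (Q : StandardEtalePair (MvPolynomial (Fin n) R)) (χ : Q.Ring →+* M)
    (F : W n R) : χ (aeval Q.X F) = evW (χ.comp (algebraMap R Q.Ring)) (stdPt Q χ).1 (stdPt Q χ).2 F := by
  suffices h : χ.comp (aeval Q.X).toRingHom =
      evW (χ.comp (algebraMap R Q.Ring)) (stdPt Q χ).1 (stdPt Q χ).2 from RingHom.congr_fun h F
  refine Polynomial.ringHom_ext' (MvPolynomial.ringHom_ext (fun a => ?_) fun i => ?_) ?_ <;>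
    simp [evW, stdPt] <;> rfl

theorem evW_f_eq_zero {M : Type u} [CommRing M] (Q : StandardEtalePair (MvPolynomial (Fin n) R)) (χ : Q.Ring →+* M) :
    evW (χ.comp (algebraMap R Q.Ring)) (stdPt Q χ).1 (stdPt Q χ).2 Q.f = 0 := by
  rw [← comp_aeval_X, StandardEtalePair.hasMap_X.1, map_zero]

theorem isUnit_evW_g {M : Type u} [CommRing M] (Q : StandardEtalePair (MvPolynomial (Fin n) R)) (χ : Q.Ring →+* M) :
    IsUnit (evW (χ.comp (algebraMap R Q.Ring)) (stdPt Q χ).1 (stdPt Q χ).2 Q.g) := by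
  rw [← comp_aeval_X]
  exact StandardEtalePair.hasMap_X.2.map χ

/-- The point of a standard étale algebra given by coordinates. -/
theorem exists_stdHom {M : Type u} [CommRing M] (Q : StandardEtalePair (MvPolynomial (Fin n) R)) (ψ : R →+* M)
    (u : Fin n → M) (x : M) (hf : evW ψ u x Q.f = 0) (hg : IsUnit (evW ψ u x Q.g)) :
    ∃ χ : Q.Ring →+* M, χ.comp (algebraMap R Q.Ring) = ψ ∧ (stdPt Q χ).1 = u ∧ (stdPt Q χ).2 = x := by
  letI : Algebra (MvPolynomial (Fin n) R) M := (MvPolynomial.eval₂Hom ψ u).toAlgebra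
  have he : ∀ F : W n R, aeval x F = evW ψ u x F := fun F => rfl
  have hm : Q.HasMap x := ⟨by rw [he]; exact hf, by rw [he]; exact hg⟩
  refine ⟨(Q.lift x hm).toRingHom, RingHom.ext fun a => ?_, funext fun i => ?_, Q.lift_X x hm⟩
  · show Q.lift x hm (algebraMap (MvPolynomial (Fin n) R) Q.Ring (MvPolynomial.C a)) = ψ a
    rw [AlgHom.commutes, RingHom.algebraMap_toAlgebra, MvPolynomial.eval₂Hom_C]
  · show Q.lift x hm (algebraMap (MvPolynomial (Fin n) R) Q.Ring (MvPolynomial.X i)) = u i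
    rw [AlgHom.commutes, RingHom.algebraMap_toAlgebra, MvPolynomial.eval₂Hom_X']

/-- Ring maps out of a standard étale algebra over a polynomial ring are determined by the point. -/
theorem stdHom_ext {M : Type u} [CommRing M] (Q : StandardEtalePair (MvPolynomial (Fin n) R)) {χ χ' : Q.Ring →+* M}
    (h0 : χ.comp (algebraMap R Q.Ring) = χ'.comp (algebraMap R Q.Ring)) (h1 : stdPt Q χ = stdPt Q χ') : χ = χ' := by
  have hT : χ.comp (algebraMap (MvPolynomial (Fin n) R) Q.Ring) =
      χ'.comp (algebraMap (MvPolynomial (Fin n) R) Q.Ring) :=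
    MvPolynomial.ringHom_ext (fun a => RingHom.congr_fun h0 a) fun i => congrFun (congrArg Prod.fst h1) i
  letI : Algebra (MvPolynomial (Fin n) R) M := (χ.comp (algebraMap (MvPolynomial (Fin n) R) Q.Ring)).toAlgebra
  let a : Q.Ring →ₐ[MvPolynomial (Fin n) R] M := { χ with commutes' := fun _ => rfl }
  let b : Q.Ring →ₐ[MvPolynomial (Fin n) R] M := { χ' with commutes' := fun t => (RingHom.congr_fun hT t).symm }
  exact congrArg AlgHom.toRingHom (StandardEtalePair.hom_ext (f := a) (g := b) (congrArg Prod.snd h1))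

theorem evW_comp_map {M : Type u} [CommRing M] (φ : R →+* A) (ψ : A →+* M) (u : Fin n → M) (x : M) (F : W n R) :
    evW ψ u x (F.map (MvPolynomial.map φ)) = evW (ψ.comp φ) u x F :=
  evW_mapW φ ψ u x F

/-- Base change of a standard étale algebra over a polynomial ring, with its value on the generators. -/
theorem exists_baseEquiv [Algebra R A] (Q : StandardEtalePair (MvPolynomial (Fin n) R)) :
    ∃ e : A ⊗[R] Q.Ring ≃ₐ[A] (mapPair Q (algebraMap R A)).Ring,
      (∀ i, e.symm (algebraMap (MvPolynomial (Fin n) A) _ (MvPolynomial.X i)) =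
        (1 : A) ⊗ₜ[R] algebraMap (MvPolynomial (Fin n) R) Q.Ring (MvPolynomial.X i)) ∧
      e.symm (mapPair Q (algebraMap R A)).X = (1 : A) ⊗ₜ[R] Q.X := by
  let Q' := mapPair Q (algebraMap R A)
  let χ₀ : A ⊗[R] Q.Ring →+* A ⊗[R] Q.Ring := RingHom.id _
  let iR : Q.Ring →+* A ⊗[R] Q.Ring := (Algebra.TensorProduct.includeRight : Q.Ring →ₐ[R] A ⊗[R] Q.Ring).toRingHom
  have hiR : iR.comp (algebraMap R Q.Ring) = (algebraMap A (A ⊗[R] Q.Ring)).comp (algebraMap R A) :=
    RingHom.ext fun r => by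
      simp [iR, Algebra.TensorProduct.algebraMap_apply]
  obtain ⟨b, hb0, hb1, hb2⟩ := exists_stdHom Q' (algebraMap A (A ⊗[R] Q.Ring)) (stdPt Q iR).1 (stdPt Q iR).2
    (by rw [StandardEtalePair.map_f, evW_comp_map, ← hiR]; exact evW_f_eq_zero Q iR)
    (by rw [StandardEtalePair.map_g, evW_comp_map, ← hiR]; exact isUnit_evW_g Q iR)
  have hQ' : ∀ (F : W n R), evW ((algebraMap A Q'.Ring).comp (algebraMap R A))
      (stdPt Q' (RingHom.id _)).1 (stdPt Q' (RingHom.id _)).2 F =
        evW ((RingHom.id Q'.Ring).comp (algebraMap A Q'.Ring))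
          (stdPt Q' (RingHom.id _)).1 (stdPt Q' (RingHom.id _)).2 (F.map (MvPolynomial.map (algebraMap R A))) :=
    fun F => by rw [evW_comp_map]; rfl
  obtain ⟨c, hc0, hc1, hc2⟩ := exists_stdHom Q ((algebraMap A Q'.Ring).comp (algebraMap R A))
    (stdPt Q' (RingHom.id _)).1 (stdPt Q' (RingHom.id _)).2
    (by rw [hQ']; exact evW_f_eq_zero Q' (RingHom.id _))
    (by rw [hQ']; exact isUnit_evW_g Q' (RingHom.id _))
  letI : Algebra R Q'.Ring := ((algebraMap A Q'.Ring).comp (algebraMap R A)).toAlgebra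
  haveI : IsScalarTower R A Q'.Ring := IsScalarTower.of_algebraMap_eq fun _ => rfl
  let ca : Q.Ring →ₐ[R] Q'.Ring := { c with commutes' := RingHom.congr_fun hc0 }
  let f : A ⊗[R] Q.Ring →ₐ[A] Q'.Ring :=
    Algebra.TensorProduct.lift (Algebra.ofId A Q'.Ring) ca fun _ _ => .all _ _
  let g : Q'.Ring →ₐ[A] A ⊗[R] Q.Ring := { b with commutes' := RingHom.congr_fun hb0 }
  have hfg : ∀ q, f (iR q) = c q := fun q => by
    show Algebra.TensorProduct.lift _ ca _ (1 ⊗ₜ[R] q) = c q
    rw [Algebra.TensorProduct.lift_tmul, map_one, one_mul]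
    rfl
  refine ⟨AlgEquiv.ofAlgHom f g ?_ ?_, fun i => congrFun hb1 i, hb2⟩
  · refine AlgHom.coe_ringHom_injective (stdHom_ext Q' ?_ ?_)
    · exact RingHom.ext fun a => (f.comp g).commutes a
    · refine Prod.ext (funext fun i => ?_) ?_
      · show f (b (algebraMap (MvPolynomial (Fin n) A) Q'.Ring (MvPolynomial.X i))) = _
        rw [show b (algebraMap (MvPolynomial (Fin n) A) Q'.Ring (MvPolynomial.X i)) = iR (algebraMap (MvPolynomial (Fin n) R) Q.Ring (MvPolynomial.X i)) from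
          congrFun hb1 i, hfg]
        exact congrFun hc1 i
      · show f (b Q'.X) = _
        rw [show b Q'.X = iR Q.X from hb2, hfg]
        exact hc2
  · refine Algebra.TensorProduct.ext (AlgHom.ext fun a => (g.comp f).commutes a) ?_
    refine AlgHom.coe_ringHom_injective (stdHom_ext Q ?_ ?_)
    · exact RingHom.ext fun r => (((g.comp f).restrictScalars R).comp Algebra.TensorProduct.includeRight).commutes r |>.trans
        (AlgHom.commutes (Algebra.TensorProduct.includeRight : Q.Ring →ₐ[R] A ⊗[R] Q.Ring) r).symm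
    · refine Prod.ext (funext fun i => ?_) ?_
      · show g (f (iR (algebraMap (MvPolynomial (Fin n) R) Q.Ring (MvPolynomial.X i)))) = iR (algebraMap (MvPolynomial (Fin n) R) Q.Ring (MvPolynomial.X i))
        rw [hfg, show c (algebraMap (MvPolynomial (Fin n) R) Q.Ring (MvPolynomial.X i)) = (stdPt Q' (RingHom.id _)).1 i from congrFun hc1 i]
        exact congrFun hb1 i
      · show g (f (iR Q.X)) = iR Q.X
        rw [hfg, show c Q.X = (stdPt Q' (RingHom.id _)).2 from hc2]
        exact hb2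

/-- Base change of a standard étale algebra over a polynomial ring. -/
theorem nonempty_baseEquiv [Algebra R A] (Q : StandardEtalePair (MvPolynomial (Fin n) R)) :
    Nonempty (A ⊗[R] Q.Ring ≃ₐ[A] (mapPair Q (algebraMap R A)).Ring) :=
  (exists_baseEquiv Q).elim fun e _ => ⟨e⟩

theorem prod_dvd_pow_card {M : Type u} [CommMonoid M] {g : M} (s : Multiset M) (h : ∀ x ∈ s, x ∣ g) :
    s.prod ∣ g ^ Multiset.card s := by
  induction s using Multiset.induction with
  | empty => simp
  | cons a s ih =>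
    rw [Multiset.prod_cons, Multiset.card_cons, pow_succ']
    exact mul_dvd_mul (h a (Multiset.mem_cons_self a s)) (ih fun x hx => h x (Multiset.mem_cons_of_mem hx))

/-- Over a polynomial ring over a field, a standard étale algebra with at most one irreducible factor
meeting the open set is a domain as soon as it is nonzero. -/
theorem isDomain_std {T : Type u} [CommRing T] [IsDomain T] [UniqueFactorizationMonoid T]
    (Q : StandardEtalePair T) [Nontrivial Q.Ring]
    (huniq : ∀ π₁ π₂ : T[X], π₁.Monic → π₂.Monic → Irreducible π₁ → Irreducible π₂ → π₁ ∣ Q.f → π₂ ∣ Q.f →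
      ¬ π₁ ∣ Q.g → ¬ π₂ ∣ Q.g → π₁ = π₂) : IsDomain Q.Ring := by
  classical
  obtain ⟨p₁, p₂, m, e⟩ := Q.cond
  let B := Localization.Away (AdjoinRoot.mk Q.f Q.g)
  haveI : Nontrivial B := Q.equivAwayAdjoinRoot.toRingEquiv.toEquiv.symm.nontrivial
  have h0 : ∀ k : ℕ, ¬ Q.f ∣ Q.g ^ k := fun k hk => by
    have hz : algebraMap (AdjoinRoot Q.f) B (AdjoinRoot.mk Q.f Q.g ^ k) = 0 := by
      rw [← map_pow, AdjoinRoot.mk_eq_zero.2 hk, map_zero]
    exact ((IsLocalization.map_units B (⟨_, k, rfl⟩ : Submonoid.powers (AdjoinRoot.mk Q.f Q.g))).ne_zero) hz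
  -- the prime factors of `f`
  obtain ⟨s, hs, hsf⟩ := UniqueFactorizationMonoid.exists_prime_factors Q.f Q.monic_f.ne_zero
  have hmon : ∀ π ∈ s, ∃ π' : T[X], π'.Monic ∧ Associated π π' := fun π hπ => by
    have hd : π ∣ Q.f := (Multiset.dvd_prod hπ).trans hsf.dvd
    obtain ⟨q, hq⟩ := hd
    have hlead : π.leadingCoeff * q.leadingCoeff = 1 := by
      rw [← Polynomial.leadingCoeff_mul, ← hq, Q.monic_f]
    refine ⟨π * C q.leadingCoeff, ?_, associated_mul_unit_right _ _ ?_⟩
    · rw [Polynomial.Monic, Polynomial.leadingCoeff_mul, Polynomial.leadingCoeff_C, hlead]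
    · exact isUnit_C.2 (IsUnit.of_mul_eq_one_right _ hlead)
  -- there is a factor not dividing `g`
  obtain ⟨π₀, hπ₀, hπ₀g⟩ : ∃ π ∈ s, ¬ π ∣ Q.g := by
    by_contra hall
    push Not at hall
    exact h0 (Multiset.card s) (hsf.symm.dvd.trans (prod_dvd_pow_card s hall))
  obtain ⟨π, hπm, hπa⟩ := hmon π₀ hπ₀
  have hπp : Prime π := hπa.prime (hs _ hπ₀)
  have hπf : π ∣ Q.f := hπa.symm.dvd.trans ((Multiset.dvd_prod hπ₀).trans hsf.dvd)
  have hπg : ¬ π ∣ Q.g := fun h => hπ₀g (hπa.dvd.trans h)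
  obtain ⟨F, hF⟩ := hπf
  have hπF : ¬ π ∣ F := by
    rintro ⟨F', rfl⟩
    refine hπg (hπp.dvd_of_dvd_pow (n := m) ?_)
    rw [← e, hF]
    refine dvd_add ?_ (Dvd.dvd.mul_right (dvd_mul_right π _) _)
    refine Dvd.dvd.mul_right ?_ _
    rw [derivative_mul, derivative_mul]
    exact dvd_add (Dvd.dvd.mul_left (dvd_mul_right π F') _) (dvd_mul_right π _)
  -- the other factor divides a power of `g`
  have hFne : F ≠ 0 := fun h => Q.monic_f.ne_zero (by rw [hF, h, mul_zero])
  obtain ⟨t, ht, htF⟩ := UniqueFactorizationMonoid.exists_prime_factors F hFne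
  have hFg : F ∣ Q.g ^ Multiset.card t := by
    refine htF.symm.dvd.trans (prod_dvd_pow_card t fun ρ hρ => ?_)
    by_contra hρg
    have hρF : ρ ∣ F := (Multiset.dvd_prod hρ).trans htF.dvd
    have hρQ : ρ ∣ Q.f := hF ▸ hρF.mul_left π
    obtain ⟨q, hq⟩ := hρQ
    have hlead : ρ.leadingCoeff * q.leadingCoeff = 1 := by
      rw [← Polynomial.leadingCoeff_mul, ← hq, Q.monic_f]
    have hρa : Associated ρ (ρ * C q.leadingCoeff) :=
      associated_mul_unit_right _ _ (isUnit_C.2 (IsUnit.of_mul_eq_one_right _ hlead))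
    have hρm : (ρ * C q.leadingCoeff).Monic := by
      rw [Polynomial.Monic, Polynomial.leadingCoeff_mul, Polynomial.leadingCoeff_C, hlead]
    have heq := huniq (ρ * C q.leadingCoeff) π hρm hπm (hρa.prime (ht _ hρ)).irreducible hπp.irreducible
      (hρa.symm.dvd.trans ⟨q, hq⟩) ⟨F, hF⟩ (fun h => hρg (hρa.dvd.trans h)) hπg
    exact hπF (heq ▸ hρa.symm.dvd.trans hρF)
  haveI : NoZeroDivisors B := ⟨fun {z₁ z₂} hz => by
    obtain ⟨⟨a₁, s₁⟩, h₁⟩ := IsLocalization.surj (Submonoid.powers (AdjoinRoot.mk Q.f Q.g)) z₁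
    obtain ⟨⟨a₂, s₂⟩, h₂⟩ := IsLocalization.surj (Submonoid.powers (AdjoinRoot.mk Q.f Q.g)) z₂
    obtain ⟨A₁, rfl⟩ := AdjoinRoot.mk_surjective a₁
    obtain ⟨A₂, rfl⟩ := AdjoinRoot.mk_surjective a₂
    have h12 : algebraMap (AdjoinRoot Q.f) B (AdjoinRoot.mk Q.f (A₁ * A₂)) = 0 := by
      rw [map_mul, map_mul, ← h₁, ← h₂]
      linear_combination (algebraMap (AdjoinRoot Q.f) B s₁ * algebraMap (AdjoinRoot Q.f) B s₂) * hz
    obtain ⟨⟨_, k, rfl⟩, hk⟩ :=
      (IsLocalization.map_eq_zero_iff (Submonoid.powers (AdjoinRoot.mk Q.f Q.g)) B _).1 h12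
    rw [show ((⟨AdjoinRoot.mk Q.f Q.g ^ k, k, rfl⟩ : Submonoid.powers (AdjoinRoot.mk Q.f Q.g)) : AdjoinRoot Q.f) =
      AdjoinRoot.mk Q.f Q.g ^ k from rfl, ← map_pow, ← map_mul, AdjoinRoot.mk_eq_zero] at hk
    have hπ12 : π ∣ A₁ * A₂ :=
      ((hπp.dvd_or_dvd ((Dvd.intro F hF.symm).trans hk)).resolve_left fun h => hπg (hπp.dvd_of_dvd_pow h))
    have kill : ∀ (Ai : T[X]) (z : B) (si : Submonoid.powers (AdjoinRoot.mk Q.f Q.g)),
        z * algebraMap (AdjoinRoot Q.f) B si = algebraMap (AdjoinRoot Q.f) B (AdjoinRoot.mk Q.f Ai) →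
        π ∣ Ai → z = 0 := fun Ai z si hz hd => by
      refine ((IsLocalization.map_units B si).mul_left_eq_zero).1 (hz.trans ?_)
      refine (IsLocalization.map_eq_zero_iff (Submonoid.powers (AdjoinRoot.mk Q.f Q.g)) B _).2
        ⟨⟨_, Multiset.card t, rfl⟩, ?_⟩
      rw [show ((⟨AdjoinRoot.mk Q.f Q.g ^ Multiset.card t, _, rfl⟩ :
        Submonoid.powers (AdjoinRoot.mk Q.f Q.g)) : AdjoinRoot Q.f) = AdjoinRoot.mk Q.f Q.g ^ Multiset.card t from rfl,
        ← map_pow, ← map_mul, AdjoinRoot.mk_eq_zero, hF, mul_comm π F]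
      exact mul_dvd_mul hFg hd
    exact (hπp.dvd_or_dvd hπ12).imp (kill A₁ z₁ s₁ h₁) (kill A₂ z₂ s₂ h₂)⟩
  haveI : IsDomain B := NoZeroDivisors.to_isDomain B
  exact Q.equivAwayAdjoinRoot.toRingEquiv.injective.isDomain Q.equivAwayAdjoinRoot.toRingEquiv.toRingHom

end Groth.Agent.RG11
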