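import Groth.Agent.RG11.StdBase
import Groth.Agent.RG11.NoethProj

/-!
# Standard étale algebras with geometrically integral fibres and projective underlying module

A standard étale algebra over a polynomial ring over `R`, with a point over `p` whose residue field is
purely transcendental over `κ(p)`, has, after an étale neighbourhood of `p`, a principal localisation
around the point with geometrically integral fibres which is projective over the base.
-/

universe u

set_option linter.style.haveILetI false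

namespace Groth.Agent.RG11

open Polynomial TensorProduct

/-- A point with values in `κ(p)` of an étale algebra gives an elementary étale neighbourhood. -/
theorem isEtaleNhd_of_point {R R' : Type u} [CommRing R] [CommRing R'] [Algebra R R'] [Algebra.Etale R R']
    (p : Ideal R) [p.IsPrime] (θ : R' →ₐ[R] p.ResidueField) :
    ∃ _ : (RingHom.ker θ.toRingHom).IsPrime, FlatCA.IsEtaleNhd R R' p (RingHom.ker θ.toRingHom) := by
  haveI hpr : (RingHom.ker θ.toRingHom).IsPrime := RingHom.ker_isPrime θ.toRingHom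
  have hover : (RingHom.ker θ.toRingHom).LiesOver p := ⟨by
    rw [Ideal.under, RingHom.comap_ker, show θ.toRingHom.comp (algebraMap R R') = algebraMap R p.ResidueField from
      θ.comp_algebraMap, Ideal.ker_algebraMap_residueField]⟩
  refine ⟨hpr, inferInstance, hover, RingHom.injective _, ?_⟩
  let θb : (RingHom.ker θ.toRingHom).ResidueField →+* p.ResidueField :=
    Ideal.ResidueField.lift _ θ.toRingHom le_rfl fun a ha => isUnit_iff_ne_zero.2 ha
  have hcomp : θb.comp (Ideal.ResidueField.mapₐ p (RingHom.ker θ.toRingHom) (Algebra.ofId R R') hover.over).toRingHom =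
      RingHom.id _ := by
    refine Ideal.ResidueField.ringHom_ext (RingHom.ext fun a => ?_)
    show θb ((Ideal.ResidueField.mapₐ p (RingHom.ker θ.toRingHom) (Algebra.ofId R R') hover.over)
      (algebraMap R p.ResidueField a)) = algebraMap R p.ResidueField a
    rw [AlgHom.commutes, IsScalarTower.algebraMap_apply R R' (RingHom.ker θ.toRingHom).ResidueField]
    exact (Ideal.ResidueField.lift_algebraMap _ _ _ _ _).trans (θ.commutes a)
  exact fun z => ⟨θb z, θb.injective (RingHom.congr_fun hcomp (θb z))⟩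

/-- A localisation of a domain tensored with a field stays a domain. -/
theorem isDomain_tensor_fraction (k A L K : Type u) [CommRing k] [CommRing A] [IsDomain A] [Field L] [CommRing K]
    [Algebra k A] [Algebra k L] [Algebra A L] [IsScalarTower k A L] [IsFractionRing A L] [Algebra k K]
    [Nontrivial K] [Module.Flat k K] [IsDomain (A ⊗[k] K)] : IsDomain (L ⊗[k] K) := by
  let ι : A ⊗[k] K →ₐ[k] L ⊗[k] K := Algebra.TensorProduct.map (IsScalarTower.toAlgHom k A L) (AlgHom.id k K)
  have hι : Function.Injective ι :=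
    Module.Flat.rTensor_preserves_injective_linearMap (IsScalarTower.toAlgHom k A L).toLinearMap
      (IsFractionRing.injective A L)
  have hcl : ∀ z : L ⊗[k] K, ∃ b : A, b ≠ 0 ∧ ∃ w, (algebraMap A L b ⊗ₜ[k] (1 : K)) * z = ι w := by
    intro z
    induction z using TensorProduct.induction_on with
    | zero => exact ⟨1, one_ne_zero, 0, by simp⟩
    | tmul l c =>
      obtain ⟨a, b, hb, rfl⟩ := IsFractionRing.div_surjective A l
      refine ⟨b, nonZeroDivisors.ne_zero hb, a ⊗ₜ c, ?_⟩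
      rw [Algebra.TensorProduct.tmul_mul_tmul, one_mul,
        mul_div_cancel₀ _ (IsFractionRing.to_map_ne_zero_of_mem_nonZeroDivisors hb)]
      exact (Algebra.TensorProduct.map_tmul (IsScalarTower.toAlgHom k A L) (AlgHom.id k K) a c).symm
    | add z₁ z₂ h₁ h₂ =>
      obtain ⟨b₁, hb₁, w₁, e₁⟩ := h₁
      obtain ⟨b₂, hb₂, w₂, e₂⟩ := h₂
      refine ⟨b₁ * b₂, mul_ne_zero hb₁ hb₂, (b₂ ⊗ₜ[k] (1 : K)) * w₁ + (b₁ ⊗ₜ[k] (1 : K)) * w₂, ?_⟩
      have eb : ∀ b : A, ι (b ⊗ₜ[k] (1 : K)) = algebraMap A L b ⊗ₜ[k] (1 : K) := fun b => Algebra.TensorProduct.map_tmul (IsScalarTower.toAlgHom k A L) (AlgHom.id k K) b 1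
      rw [map_add, map_mul ι, map_mul ι, eb, eb, ← e₁, ← e₂, map_mul,
        show (algebraMap A L b₁ * algebraMap A L b₂) ⊗ₜ[k] (1 : K) =
          (algebraMap A L b₁ ⊗ₜ[k] (1 : K)) * (algebraMap A L b₂ ⊗ₜ[k] (1 : K)) by
          rw [Algebra.TensorProduct.tmul_mul_tmul, one_mul]]
      ring
  have hunit : ∀ b : A, b ≠ 0 → IsUnit (algebraMap A L b ⊗ₜ[k] (1 : K)) := fun b hb =>
    (isUnit_iff_ne_zero.2 (by rwa [map_ne_zero_iff _ (IsFractionRing.injective A L)])).map
      (Algebra.TensorProduct.includeLeftRingHom : L →+* L ⊗[k] K)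
  haveI : Nontrivial (L ⊗[k] K) := hι.nontrivial
  haveI : NoZeroDivisors (L ⊗[k] K) := ⟨fun {z₁ z₂} hz => by
    obtain ⟨b₁, hb₁, w₁, e₁⟩ := hcl z₁
    obtain ⟨b₂, hb₂, w₂, e₂⟩ := hcl z₂
    have h0 : ι (w₁ * w₂) = ι 0 := by
      rw [map_mul, ← e₁, ← e₂, map_zero, mul_mul_mul_comm, hz, mul_zero]
    rcases mul_eq_zero.1 (hι h0) with h | h
    · exact Or.inl ((hunit b₁ hb₁).mul_right_eq_zero.1 (by rw [e₁, h, map_zero]))
    · exact Or.inr ((hunit b₂ hb₂).mul_right_eq_zero.1 (by rw [e₂, h, map_zero]))⟩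
  exact NoZeroDivisors.to_isDomain _

variable {n : ℕ}

/-- The point of an elementary étale neighbourhood with values in `κ(p)`. -/
theorem exists_residue_point {R R₁ : Type u} [CommRing R] [CommRing R₁] [Algebra R R₁] (p : Ideal R) [p.IsPrime]
    (P' : Ideal R₁) [P'.IsPrime] (h : FlatCA.IsEtaleNhd R R₁ p P')
    (L : Type u) [Field L] [Algebra p.ResidueField L] [Algebra R L] [IsScalarTower R p.ResidueField L]
    (φ : R₁ →ₐ[R] L) (hker : RingHom.ker φ = P') :
    ∃ θ₁ : R₁ →ₐ[R] p.ResidueField, (algebraMap p.ResidueField L).comp θ₁.toRingHom = φ.toRingHom := by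
  obtain ⟨-, hover, hbij⟩ := h
  let ι := RingEquiv.ofBijective
    (Ideal.ResidueField.mapₐ p P' (Algebra.ofId R R₁) hover.over).toRingHom hbij
  have hι : ∀ a : R, ι (algebraMap R p.ResidueField a) = algebraMap R₁ P'.ResidueField (algebraMap R R₁ a) :=
    fun a => ((Ideal.ResidueField.mapₐ p P' (Algebra.ofId R R₁) hover.over).commutes a).trans
      (IsScalarTower.algebraMap_apply R R₁ P'.ResidueField a)
  refine ⟨{ ι.symm.toRingHom.comp (algebraMap R₁ P'.ResidueField) with
      commutes' := fun a => ι.injective ((ι.apply_symm_apply _).trans (hι a).symm) }, ?_⟩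
  let φb : P'.ResidueField →+* L := Ideal.ResidueField.lift _ φ.toRingHom hker.ge
    fun a ha => isUnit_iff_ne_zero.2 fun h0 => ha (hker.le h0)
  have hφb : ∀ a, φb (algebraMap R₁ P'.ResidueField a) = φ a := fun a => Ideal.ResidueField.lift_algebraMap _ _ _ _ a
  have : φb.comp ι.toRingHom = algebraMap p.ResidueField L := by
    refine Ideal.ResidueField.ringHom_ext (RingHom.ext fun a => ?_)
    show φb (ι (algebraMap R p.ResidueField a)) = algebraMap p.ResidueField L (algebraMap R p.ResidueField a)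
    rw [hι, hφb, φ.commutes, ← IsScalarTower.algebraMap_apply]
  refine RingHom.ext fun a => ?_
  rw [← this]
  show φb (ι (ι.symm (algebraMap R₁ P'.ResidueField a))) = φ a
  rw [ι.apply_symm_apply, hφb]

/-- Geometric integrality from the separation property of the factors. -/
theorem geomIntegral_of_separated {R R₁ R' : Type u} [CommRing R] [CommRing R₁] [CommRing R'] [Algebra R R₁]
    [Algebra R R'] [Algebra R₁ R'] [IsScalarTower R R₁ R'] (Q : StandardEtalePair (MvPolynomial (Fin n) R))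
    (h : W n R₁) (r s : R₁) (hrs : IsUnit (algebraMap R₁ R' (r * s)))
    (hsub : (PrimeSpectrum.basicOpen s : Set (PrimeSpectrum R₁)) ⊆
      Set.range (PrimeSpectrum.comap (algebraMap R₁ (mulPair (mapPair Q (algebraMap R R₁)) h).Ring)))
    (huniq : ∀ (K : Type u) [Field K] (ψ : R₁ →+* K), ψ r ≠ 0 → ∀ π₁ π₂ : W n K,
      π₁.Monic → π₂.Monic → Irreducible π₁ → Irreducible π₂ →
      π₁ ∣ mapW (ψ.comp (algebraMap R R₁)) Q.f → π₂ ∣ mapW (ψ.comp (algebraMap R R₁)) Q.f →
      ¬ π₁ ∣ mapW ψ h → ¬ π₂ ∣ mapW ψ h → π₁ = π₂) :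
    FlatCA.GeomIntegralFibres R' (mulPair (mapPair Q (algebraMap R R')) (mapW (algebraMap R₁ R') h)).Ring := by
  rw [geomIntegralFibres_iff]
  intro K _ _
  let ψ : R₁ →+* K := (algebraMap R' K).comp (algebraMap R₁ R')
  have hψu : IsUnit (ψ (r * s)) := hrs.map (algebraMap R' K)
  have hψr : ψ r ≠ 0 := (isUnit_of_mul_isUnit_left (map_mul ψ r s ▸ hψu)).ne_zero
  have hψs : ψ s ≠ 0 := (isUnit_of_mul_isUnit_right (map_mul ψ r s ▸ hψu)).ne_zero
  have hRR' : algebraMap R R' = (algebraMap R₁ R').comp (algebraMap R R₁) := IsScalarTower.algebraMap_eq R R₁ R'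
  set Q₁ := mulPair (mapPair Q (algebraMap R R₁)) h
  set Q' := mulPair (mapPair Q (algebraMap R R')) (mapW (algebraMap R₁ R') h)
  obtain ⟨eK⟩ := nonempty_baseEquiv (A := K) Q'
  let QK := mapPair Q' (algebraMap R' K)
  have hQf : QK.f = mapW (ψ.comp (algebraMap R R₁)) Q.f := by
    show mapW (algebraMap R' K) (mapW (algebraMap R R') Q.f) = _
    rw [mapW_comp, hRR', ← RingHom.comp_assoc]
  have hQg : QK.g = mapW (ψ.comp (algebraMap R R₁)) Q.g * mapW ψ h := by
    show mapW (algebraMap R' K) (mapW (algebraMap R R') Q.g * mapW (algebraMap R₁ R') h) = _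
    rw [map_mul, mapW_comp, mapW_comp, hRR', ← RingHom.comp_assoc]
  haveI : (RingHom.ker ψ).IsPrime := RingHom.ker_isPrime ψ
  obtain ⟨⟨𝔮, h𝔮⟩, hq⟩ := hsub (show (⟨RingHom.ker ψ, inferInstance⟩ : PrimeSpectrum R₁) ∈
    (PrimeSpectrum.basicOpen s : Set (PrimeSpectrum R₁)) from fun hmem' => hψs hmem')
  have hq' : Ideal.comap (algebraMap R₁ Q₁.Ring) 𝔮 = RingHom.ker ψ := congrArg PrimeSpectrum.asIdeal hq
  let χq : Q₁.Ring →+* 𝔮.ResidueField := algebraMap Q₁.Ring 𝔮.ResidueField
  obtain ⟨M, _, σ, τ, hστ⟩ := exists_common_field (χq.comp (algebraMap R₁ Q₁.Ring)) ψ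
    (by rw [← RingHom.comap_ker, Ideal.ker_algebraMap_residueField, hq'])
  have key : ∀ F : W n R₁, evW τ (stdPt Q₁ (σ.comp χq)).1 (stdPt Q₁ (σ.comp χq)).2 (mapW ψ F) =
      evW ((σ.comp χq).comp (algebraMap R₁ Q₁.Ring)) (stdPt Q₁ (σ.comp χq)).1 (stdPt Q₁ (σ.comp χq)).2 F :=
    fun F => by rw [evW_mapW, ← hστ]; rfl
  have hQKf : QK.f = mapW ψ Q₁.f := by
    rw [hQf, ← mapW_comp]; rfl
  have hQKg : QK.g = mapW ψ Q₁.g := by
    rw [hQg, ← mapW_comp, ← map_mul]; rfl
  obtain ⟨χK, -, -, -⟩ := exists_stdHom QK τ (stdPt Q₁ (σ.comp χq)).1 (stdPt Q₁ (σ.comp χq)).2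
    (by rw [hQKf, key]; exact evW_f_eq_zero Q₁ (σ.comp χq))
    (by rw [hQKg, key]; exact isUnit_evW_g Q₁ (σ.comp χq))
  haveI : Nontrivial QK.Ring := χK.domain_nontrivial
  haveI : IsDomain QK.Ring := isDomain_std QK fun π₁ π₂ h₁ h₂ h₃ h₄ h₅ h₆ h₇ h₈ => by
    rw [hQf] at h₅ h₆
    rw [hQg] at h₇ h₈
    exact huniq K ψ hψr π₁ π₂ h₁ h₂ h₃ h₄ h₅ h₆ (fun hd => h₇ (hd.mul_left _)) (fun hd => h₈ (hd.mul_left _))
  exact eK.toRingEquiv.injective.isDomain eK.toRingEquiv.toRingHom

set_option maxHeartbeats 800000 in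
/-- The Noetherian case. -/
theorem exists_std_shrink_noeth {R : Type u} [CommRing R] [IsNoetherianRing R]
    (Q : StandardEtalePair (MvPolynomial (Fin n) R)) (p : Ideal R) [p.IsPrime]
    (L : Type u) [Field L] [Algebra p.ResidueField L] [Algebra R L] [IsScalarTower R p.ResidueField L]
    (hy : ∀ (K : Type u) [Field K] [Algebra p.ResidueField K] [FiniteDimensional p.ResidueField K],
      IsDomain (L ⊗[p.ResidueField] K))
    (u : Fin n → L) (x : L) (hf : evW (algebraMap R L) u x Q.f = 0) (hg : evW (algebraMap R L) u x Q.g ≠ 0) :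
    ∃ (R' : Type u) (_ : CommRing R') (_ : Algebra R R') (θ : R' →ₐ[R] p.ResidueField) (G : W n R'),
      Algebra.Etale R R' ∧
      evW ((algebraMap p.ResidueField L).comp θ.toRingHom) u x G ≠ 0 ∧
      FlatCA.GeomIntegralFibres R' (mulPair (mapPair Q (algebraMap R R')) G).Ring ∧
      Module.Projective R' (mulPair (mapPair Q (algebraMap R R')) G).Ring := by
  obtain ⟨p₁, p₂, m, e⟩ := Q.cond
  obtain ⟨R₁, _, _, P', _, hnhd, φ, h, r, hker, hh, hr, huniq⟩ :=
    exists_shrink Q.f Q.g p₁ p₂ Q.monic_f m e p L hy u x hf hg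
  haveI : Algebra.Etale R R₁ := hnhd.1
  obtain ⟨θ₁, hφθ⟩ := exists_residue_point p P' hnhd L φ hker
  have hφR : φ.toRingHom.comp (algebraMap R R₁) = algebraMap R L := φ.comp_algebraMap
  -- the open image
  let Q₁ := mulPair (mapPair Q (algebraMap R R₁)) h
  have hgh : IsUnit (evW φ.toRingHom u x Q₁.g) := by
    rw [show Q₁.g = Q.g.map (MvPolynomial.map (algebraMap R R₁)) * h from rfl, map_mul, evW_comp_map, hφR]
    exact isUnit_iff_ne_zero.2 (mul_ne_zero hg hh)
  obtain ⟨χ₁, hχ₁, -, -⟩ := exists_stdHom Q₁ φ.toRingHom u x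
    (by rw [show Q₁.f = Q.f.map (MvPolynomial.map (algebraMap R R₁)) from rfl, evW_comp_map, hφR]; exact hf) hgh
  haveI : (RingHom.ker χ₁).IsPrime := RingHom.ker_isPrime χ₁
  have hopen := PrimeSpectrum.isOpenMap_comap_of_hasGoingDown_of_finitePresentation (R := R₁) (S := Q₁.Ring)
  have hmem : (⟨P', inferInstance⟩ : PrimeSpectrum R₁) ∈ Set.range (PrimeSpectrum.comap (algebraMap R₁ Q₁.Ring)) :=
    ⟨⟨RingHom.ker χ₁, inferInstance⟩, PrimeSpectrum.ext (by
      show Ideal.comap (algebraMap R₁ Q₁.Ring) (RingHom.ker χ₁) = P'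
      rw [RingHom.comap_ker, hχ₁]; exact hker)⟩
  obtain ⟨_, ⟨s, rfl⟩, hs, hsub⟩ :=
    PrimeSpectrum.isTopologicalBasis_basic_opens.exists_subset_of_mem_open hmem hopen.isOpen_range
  -- the localised neighbourhood
  let R' := Localization.Away (r * s)
  haveI : Algebra.Etale R R' := inferInstance
  have hrs : IsUnit (θ₁ (r * s)) := by
    refine isUnit_iff_ne_zero.2 fun h0 => ?_
    have h1 : φ (r * s) = 0 := by
      show φ.toRingHom (r * s) = 0
      rw [← hφθ, RingHom.comp_apply]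
      show algebraMap p.ResidueField L (θ₁ (r * s)) = 0
      rw [h0, map_zero]
    have h2 : r * s ∈ P' := hker.le h1
    exact (Ideal.IsPrime.mem_or_mem ‹_› h2).elim hr hs
  let θr : R' →+* p.ResidueField := IsLocalization.Away.lift (r * s) (g := θ₁.toRingHom) hrs
  have hθ : θr.comp (algebraMap R₁ R') = θ₁.toRingHom :=
    IsLocalization.Away.lift_comp (r * s) hrs
  have hθR : ∀ a : R, θr (algebraMap R R' a) = algebraMap R p.ResidueField a := fun a => by
    rw [IsScalarTower.algebraMap_apply R R₁ R' a, ← RingHom.comp_apply, hθ]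
    exact θ₁.commutes a
  let θ : R' →ₐ[R] p.ResidueField := { θr with commutes' := hθR }
  have hRR' : algebraMap R R' = (algebraMap R₁ R').comp (algebraMap R R₁) := IsScalarTower.algebraMap_eq R R₁ R'
  refine ⟨R', inferInstance, inferInstance, θ, mapW (algebraMap R₁ R') h, inferInstance, ?_, ?_⟩
  · rw [evW_mapW, RingHom.comp_assoc, hθ, hφθ]
    exact hh
  set Q' := mulPair (mapPair Q (algebraMap R R')) (mapW (algebraMap R₁ R') h)
  have hgeom : FlatCA.GeomIntegralFibres R' Q'.Ring :=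
    geomIntegral_of_separated Q h r s (IsLocalization.Away.algebraMap_isUnit (r * s)) hsub huniq
  haveI : IsNoetherianRing R' := Algebra.FiniteType.isNoetherianRing R R'
  haveI : Algebra.FiniteType R' Q'.Ring := inferInstance
  exact ⟨hgeom, projective_of_geomIntegralFibres R' Q'.Ring hgeom⟩

end Groth.Agent.RG11
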