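import Groth.Agent.RG11.Content
import Groth.Agent.RG11.GeomFib
import Mathlib

/-!
# Universal purity
-/

universe u

set_option linter.style.haveILetI false

namespace Groth.Agent.RG11

open TensorProduct

attribute [local instance] Algebra.TensorProduct.rightAlgebra

/-- Projective modules are universally pure. -/
theorem isUnivPure_of_projective {A B : Type u} [CommRing A] [CommRing B] [Algebra A B] (N : Type u) [AddCommGroup N]
    [Module B N] [Module A N] [IsScalarTower A B N] [Module.Projective A N] : FlatCA.IsUnivPure A B N := by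
  intro p _ A' B' N' _ _ _ _ _ _ _ _ _ _ _ _ _ _ f t' t _ _ P _ ⟨hpo, hf, hle, _, _, hass, hno⟩
  haveI := hpo
  haveI : Algebra.IsPushout A A' B B' := Algebra.IsPushout.symm inferInstance
  haveI : SMulCommClass B A' B' := ⟨fun a b c => by simp only [Algebra.smul_def]; ring⟩
  let e₁ : B' ⊗[B] N ≃ₗ[A'] A' ⊗[A] N := Algebra.IsPushout.cancelBaseChange A A' B B' N
  let e₂ : B' ⊗[B] N ≃ₗ[A'] N' := hf.equiv.restrictScalars A'
  haveI : Module.Projective A' N' := Module.Projective.of_equiv (e₁.symm.trans e₂)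
  obtain ⟨P', hP', hPP', hPt⟩ := exists_over_of_projective (N := N') t' t hle P hass
  exact @hno P' hP' hPP' hPt

/-- Geometrically integral fibres are universally pure. -/
theorem isUnivPure_of_geomIntegral {A B : Type u} [CommRing A] [CommRing B] [Algebra A B] [Module.Flat A B]
    (h : FlatCA.GeomIntegralFibres A B) : FlatCA.IsUnivPure A B B := by
  intro p _ A' B' N' _ _ _ _ _ _ _ _ _ _ _ _ _ _ f t' t _ _ P _ ⟨hpo, hf, hle, _, hP, hass, hno⟩
  haveI := hpo
  haveI : Algebra.IsPushout A A' B B' := Algebra.IsPushout.symm inferInstance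
  let e := Algebra.IsPushout.equiv A A' B B'
  have hGI : FlatCA.GeomIntegralFibres A' (A' ⊗[A] B) := geomIntegralFibres_baseChange h A'
  haveI : Module.Flat A' B' := Module.Flat.of_linearEquiv e.symm.toLinearEquiv
  -- a point over `t`
  obtain ⟨Q, hQ, hQt⟩ : ∃ Q : Ideal B', Q.IsPrime ∧ Q.LiesOver t := by
    haveI : IsDomain (t.ResidueField ⊗[A'] (A' ⊗[A] B)) := geomIntegralFibres_iff.1 hGI t.ResidueField
    haveI : Nontrivial (t.Fiber (A' ⊗[A] B)) := inferInstanceAs (Nontrivial (t.ResidueField ⊗[A'] (A' ⊗[A] B)))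
    obtain ⟨⟨W, hW⟩⟩ : Nonempty (t.primesOver (A' ⊗[A] B)) :=
      ⟨PrimeSpectrum.primesOverOrderIsoFiber A' (A' ⊗[A] B) t |>.symm (Classical.arbitrary _)⟩
    haveI := hW.1
    haveI := hW.2
    refine ⟨W.comap e.symm.toRingEquiv.toRingHom, Ideal.IsPrime.comap _, ⟨?_⟩⟩
    rw [Ideal.under, Ideal.comap_comap, show e.symm.toRingEquiv.toRingHom.comp (algebraMap A' B') = algebraMap A' _ from
      RingHom.ext fun a => e.symm.commutes a]
    exact W.over_def t
  haveI := hQ
  haveI := hQt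
  -- going down
  haveI : Algebra.HasGoingDown A' B' := inferInstance
  obtain ⟨Q₀, hQ₀Q, hQ₀, hQ₀t⟩ := Ideal.exists_ideal_le_liesOver_of_le (p := t') (q := t) Q hle
  refine @hno Q hQ (le_trans ?_ hQ₀Q) hQt
  -- the fibre over `t'` is a domain
  let ι : N' ≃ₗ[B'] B' := hf.equiv.symm.trans (AlgebraTensorModule.rid B B' B')
  haveI : IsDomain (t'.ResidueField ⊗[A'] B') := by
    haveI := geomIntegralFibres_iff.1 hGI t'.ResidueField
    exact (Algebra.TensorProduct.congr (AlgEquiv.refl : t'.ResidueField ≃ₐ[A'] _) e.symm).toRingEquiv.injective.isDomain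
      (Algebra.TensorProduct.congr (AlgEquiv.refl : t'.ResidueField ≃ₐ[A'] _) e.symm).toRingEquiv.toRingHom
  let E : FlatCA.fiberMod t' B' N' ≃ₗ[t'.Fiber B'] t'.Fiber B' :=
    (AlgebraTensorModule.congr (LinearEquiv.refl (t'.Fiber B') (t'.Fiber B')) ι).trans
      (AlgebraTensorModule.rid B' (t'.Fiber B') (t'.Fiber B'))
  obtain ⟨hpr, x, hx⟩ := hass
  have hx0 : E x ≠ 0 := fun h0 => hpr.ne_top (by
    rw [hx, E.map_eq_zero_iff.1 h0, Submodule.colon_singleton_zero, Ideal.radical_top])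
  intro b hb
  have hb0 : (1 : t'.ResidueField) ⊗ₜ[A'] b = (0 : t'.Fiber B') := by
    obtain ⟨k, hk⟩ := hx.le (Ideal.mem_map_of_mem
      (Algebra.TensorProduct.includeRight (R := A') (A := t'.ResidueField) (B := B')).toRingHom hb)
    rw [Submodule.mem_colon_singleton, Submodule.mem_bot] at hk
    have hk' := congrArg E hk
    rw [map_smul, map_zero, smul_eq_mul] at hk'
    haveI : IsDomain (t'.Fiber B') := ‹IsDomain (t'.ResidueField ⊗[A'] B')›
    exact eq_zero_of_pow_eq_zero ((mul_eq_zero.1 hk').resolve_right hx0)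
  have hb1 : FlatCA.toFiberMod t' (S := B') B' b = 0 := by
    show ((1 : t'.Fiber B') ⊗ₜ[B'] b) = (0 : t'.Fiber B' ⊗[B'] B')
    rw [← mul_one b, ← smul_eq_mul, ← smul_tmul, Algebra.smul_def, mul_one]
    show ((1 : t'.ResidueField) ⊗ₜ[A'] b) ⊗ₜ[B'] (1 : B') = _
    rw [hb0, zero_tmul]
  obtain ⟨r, hr, hrb⟩ := AssFiber.exists_smul_mem_of_toFiberMod_eq_zero t' (S := B') B' hb1
  have h2 : algebraMap A' B' r * b ∈ Q₀ := by
    have hle0 : t'.map (algebraMap A' B') ≤ Q₀ := Ideal.map_le_iff_le_comap.2 hQ₀t.over.le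
    exact Submodule.smul_le.2 (fun s hs m _ => Ideal.mul_mem_right m Q₀ (hle0 hs)) hrb
  exact (hQ₀.mem_or_mem h2).resolve_left fun h => hr (hQ₀t.over.ge h)

end Groth.Agent.RG11
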